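import Cfsg.Agent.Lib.FusionControl.SectionHyp
import Cfsg.Agent.Lib.Transfer.PFrattini

/-! Normal `p`-complement and transfer criteria for functors, by induction over sections. -/

set_option autoImplicit false

universe u

namespace Cfsg.Agent.Lib.FusionControl

open Cfsg.Agent.Lib.Transfer (exists_pPart_decomp pResidual_le_ker mem_pResidual_of_coprime
  isPGroup_quotient_pResidual hasNormalPComplement_iff_coprime)

variable {p : ℕ} [Fact p.Prime] {X : Type u} [Group X] [Finite X]

/-- an element of order prime to `p` in a quotient lifts to such an element -/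
lemma exists_coprime_lift {Y : Type*} [Group Y] (f : X →* Y) (g : X) (hg : (orderOf (f g)).Coprime p) :
    ∃ a : X, (orderOf a).Coprime p ∧ a ∈ Subgroup.zpowers g ∧ f a = f g := by
  obtain ⟨a, b, ha', hb', ha, ⟨k, hk⟩, hab⟩ := exists_pPart_decomp (p := p) g
  refine ⟨a, ha, ha', ?_⟩
  have hcomm : ∀ u ∈ Subgroup.zpowers g, ∀ v ∈ Subgroup.zpowers g, Commute u v := by
    rintro _ ⟨i, rfl⟩ _ ⟨j, rfl⟩
    exact Commute.zpow_zpow_self g i j
  have hb1 : f b = 1 := by
    rw [← orderOf_eq_one_iff]
    refine Nat.eq_one_of_dvd_coprimes (a := p ^ k) ?_ (hk ▸ orderOf_map_dvd f b) dvd_rfl |>.trans rfl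
    have hc : Commute (f a⁻¹) (f g) := ((hcomm _ (inv_mem ha') _ (Subgroup.mem_zpowers g))).map f
    have e : f b = f a⁻¹ * f g := by rw [← map_mul]; congr 1; rw [eq_inv_mul_iff_mul_eq]; exact hab.symm
    have h1 : (orderOf (f b)).Coprime p := by
      rw [e]
      refine Nat.Coprime.coprime_dvd_left hc.orderOf_mul_dvd_lcm ?_
      have h2 : (orderOf (f a⁻¹)).Coprime p := Nat.Coprime.coprime_dvd_left (orderOf_map_dvd f _) (by rwa [orderOf_inv])
      exact Nat.Coprime.coprime_dvd_left (Nat.lcm_dvd_mul _ _) (h2.mul_left hg)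
    exact (Nat.Coprime.pow_right k h1).symm
  conv_rhs => rw [hab]
  rw [map_mul, hb1, mul_one]

lemma pResidual_ne_top_of_surjective {Y : Type*} [Group Y] (f : X →* Y) (hf : Function.Surjective f)
    (h : Cfsg.pResidual p Y ≠ ⊤) : Cfsg.pResidual p X ≠ ⊤ := by
  intro htop
  apply h
  rw [← Cfsg.Agent.Lib.Transfer.pResidual_map_of_surjective f hf, htop, Subgroup.map_top_of_surjective f hf]

lemma not_le_commutator (S : Sylow p X) (h : Cfsg.pResidual p X ≠ ⊤) : ¬ (S : Subgroup X) ≤ commutator X := by
  intro hS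
  set E := X ⧸ Cfsg.pResidual p X
  set f := QuotientGroup.mk' (Cfsg.pResidual p X) with hf
  have hE : IsPGroup p E := isPGroup_quotient_pResidual
  have hne : (⊤ : Subgroup E) ≠ ⊥ := by
    intro e
    apply h
    rw [eq_top_iff]
    intro x _
    have : f x = 1 := Subgroup.mem_bot.1 (e ▸ Subgroup.mem_top _)
    exact (QuotientGroup.eq_one_iff x).1 this
  have h1 := Cfsg.Agent.Lib.Transfer.commutator_lt_self (hE.to_subgroup ⊤) hne
  refine absurd ?_ (not_le_of_gt h1)
  intro e _
  obtain ⟨x, rfl⟩ := QuotientGroup.mk'_surjective _ e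
  have hx : x ∈ (S : Subgroup X) ⊔ Cfsg.pResidual p X :=
    (Cfsg.Agent.Lib.Transfer.sylow_sup_pResidual S) ▸ Subgroup.mem_top x
  obtain ⟨s, hs, m, hm, rfl⟩ := Subgroup.mem_sup_of_normal_right.1 hx
  rw [map_mul, show (QuotientGroup.mk' _) m = 1 from (QuotientGroup.eq_one_iff m).2 hm, mul_one]
  have := hS hs
  rw [commutator_def] at this
  have h2 : f s ∈ Subgroup.map f ⁅(⊤ : Subgroup X), (⊤ : Subgroup X)⁆ := ⟨s, this, rfl⟩
  rw [Subgroup.map_commutator] at h2
  exact Subgroup.commutator_mono le_top le_top h2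

lemma pResidual_ne_top_of_not_le (S : Sylow p X) (h : ¬ (S : Subgroup X) ≤ commutator X) :
    Cfsg.pResidual p X ≠ ⊤ := fun htop => h (by
  have := Cfsg.Agent.Lib.Transfer.inf_pResidual_le_commutator S
  rwa [htop, inf_top_eq] at this)

/-- a sufficient family of hypotheses gives `O^p ≠ 1` -/
theorem pResidual_ne_top_of_transfer {W : ∀ (Q : Type u) [Group Q], Subgroup Q} (hW : Cfsg.IsCharPFunctor.{u} p W)
    {G : Type u} [Group G] (hctl : ∀ (Y : Type u) [Group Y] [Finite Y], Cfsg.Involves Y G →
      Cfsg.FamilyControlsTransferIn p (indSet Y {W}) ⊤) :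
    ∀ (n : ℕ) (Y : Type u) [Group Y] [Finite Y], Nat.card Y = n → Cfsg.Involves Y G → ∀ S : Sylow p Y,
      (S : Subgroup Y) ≠ ⊥ → (∀ g ∈ Subgroup.normalizer ((S : Subgroup Y) : Set Y), (orderOf g).Coprime p →
        g ∈ Subgroup.centralizer ((S : Subgroup Y) : Set Y)) → Cfsg.pResidual p Y ≠ ⊤ := by
  intro n
  induction n using Nat.strong_induction_on with
  | _ n ih =>
    intro Y _ _ hn hY S hS hN
    have h𝓦 : ∀ V ∈ ({W} : Set (∀ (Q : Type u) [Group Q], Subgroup Q)), Cfsg.IsCharPFunctor.{u} p V := by
      rintro _ rfl; exact hW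
    have ht := transfer_of_family (indSet_conjugacy h𝓦 Y) (hctl Y hY) le_top S.2 (sylow_relIndex_top S)
    obtain ⟨Z, hZ⟩ : ∃ Z, Z = Cfsg.inducedFunctor W (S : Subgroup Y) := ⟨_, rfl⟩
    obtain ⟨hle, hne, -⟩ := isConjugacyFunctor_inducedFunctor hW (S : Subgroup Y) S.2
    rw [← hZ] at hle hne
    set H := Subgroup.normalizer (Z : Set Y) with hH
    by_cases htop : H = ⊤
    · have hZn : Z.Normal := Subgroup.normalizer_eq_top_iff.1 htop
      by_cases hZS : Z = (S : Subgroup Y)
      · intro h
        have hN' : Subgroup.normalizer ((S : Subgroup Y) : Set Y) = ⊤ := by rw [← hZS]; exact htop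
        have hC : Cfsg.pResidual p Y ≤ Subgroup.centralizer ((S : Subgroup Y) : Set Y) := by
          rw [Cfsg.pResidual, Subgroup.closure_le]
          exact fun g hg => hN g (hN' ▸ Subgroup.mem_top g) hg
        have hnpc := Cfsg.Agent.Lib.Transfer.hasNormalPComplement_of_normalizer_le_centralizer S (by
          rw [hN', ← h]; exact hC)
        rw [hasNormalPComplement_iff_coprime, h, Subgroup.card_top] at hnpc
        apply hS
        rw [eq_bot_iff]
        intro s hs
        exact Subgroup.mem_bot.2 (Cfsg.Agent.Lib.Transfer.eq_one_of_isPGroup_of_coprime S.2 hs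
          (Nat.Coprime.coprime_dvd_left (orderOf_dvd_natCard s) hnpc))
      · have hlt : Nat.card (Y ⧸ Z) < n := by
          rw [← hn, Subgroup.card_eq_card_quotient_mul_card_subgroup Z]
          exact lt_mul_of_one_lt_right Nat.card_pos (Subgroup.one_lt_card_iff_ne_bot Z |>.2 (hne hS))
        set f := QuotientGroup.mk' Z with hf
        refine pResidual_ne_top_of_surjective f (QuotientGroup.mk'_surjective Z) ?_
        refine ih _ hlt (Y ⧸ Z) rfl (involves_surjective hY f (QuotientGroup.mk'_surjective Z))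
          (S.mapSurjective (QuotientGroup.mk'_surjective Z)) ?_ ?_
        · rw [Sylow.coe_mapSurjective, Ne, Subgroup.map_eq_bot_iff, QuotientGroup.ker_mk']
          exact fun h => hZS (le_antisymm hle h)
        · intro x hx hxo
          rw [Sylow.coe_mapSurjective] at hx ⊢
          obtain ⟨g, rfl⟩ := QuotientGroup.mk'_surjective Z x
          obtain ⟨a, ha, -, hfa⟩ := exists_coprime_lift f g hxo
          have hcomap : ((S : Subgroup Y).map f).comap f = (S : Subgroup Y) := by
            rw [Subgroup.comap_map_eq, QuotientGroup.ker_mk', sup_eq_left.2 hle]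
          have haN : a ∈ Subgroup.normalizer ((S : Subgroup Y) : Set Y) := by
            rw [Subgroup.mem_normalizer_iff]
            intro z
            rw [← hcomap]
            show f z ∈ (S : Subgroup Y).map f ↔ f (a * z * a⁻¹) ∈ (S : Subgroup Y).map f
            rw [map_mul, map_mul, map_inv, hfa]
            exact Subgroup.mem_normalizer_iff.1 hx (f z)
          have hac := hN a haN ha
          rw [← hfa, Subgroup.mem_centralizer_iff]
          rintro _ ⟨s, hs, rfl⟩
          rw [← map_mul, Subgroup.mem_centralizer_iff.1 hac s hs, map_mul]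
    · refine pResidual_ne_top_of_not_le S ?_
      have hSH : (S : Subgroup Y) ≤ H := hH ▸ hZ ▸ le_normalizer_inducedFunctor hW S.2
      have hIH := ih _ (hn ▸ card_lt_of_ne_top htop) H rfl (involves_subgroup hY H) (S.subtype hSH) ?_ ?_
      · intro hle'
        apply not_le_commutator (S.subtype hSH) hIH
        intro s hs
        rw [Sylow.coe_subtype, Subgroup.mem_subgroupOf] at hs
        have h2 : (s : Y) ∈ transferPart (indSet Y {W}) ⊤ (S : Subgroup Y) := by
          rw [← ht, ← commutator_def]; exact ⟨hs, hle' hs⟩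
        have h3 : transferPart (indSet Y {W}) ⊤ (S : Subgroup Y) ≤ ⁅H, H⁆ := by
          refine iSup₂_le fun F hF => ?_
          obtain ⟨V, rfl, rfl⟩ := hF
          refine inf_le_right.trans ?_
          rw [hH, hZ, top_inf_eq]
        have h4 := h3 h2
        rw [← Subgroup.map_subtype_commutator] at h4
        obtain ⟨w, hw, hwe⟩ := h4
        rwa [← Subtype.ext (a1 := w) (a2 := s) hwe]
      · rw [Sylow.coe_subtype]
        intro h
        apply hS
        rw [eq_bot_iff]
        intro s hs
        have : (⟨s, hSH hs⟩ : H) ∈ (⊥ : Subgroup H) := h ▸ Subgroup.mem_subgroupOf.2 hs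
        exact Subgroup.mem_bot.2 (congrArg Subtype.val (Subgroup.mem_bot.1 this))
      · intro g hg hgo
        rw [Sylow.coe_subtype] at hg ⊢
        have hgN : (g : Y) ∈ Subgroup.normalizer ((S : Subgroup Y) : Set Y) := by
          refine mem_normalizer_of_cj_le ?_
          rintro _ ⟨s, hs, rfl⟩
          exact Subgroup.mem_subgroupOf.1 ((Subgroup.mem_normalizer_iff.1 hg ⟨s, hSH hs⟩).1 (Subgroup.mem_subgroupOf.2 hs))
        have := hN g hgN (by rwa [Subgroup.orderOf_coe])
        rw [Subgroup.mem_centralizer_iff]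
        intro s hs
        exact Subtype.ext (Subgroup.mem_centralizer_iff.1 this s (Subgroup.mem_subgroupOf.1 hs))

lemma exists_normal_index (h : Cfsg.pResidual p X ≠ ⊤) : ∃ N : Subgroup X, N.Normal ∧ N.index = p := by
  set E := X ⧸ Cfsg.pResidual p X
  set f := QuotientGroup.mk' (Cfsg.pResidual p X) with hf
  have hE : IsPGroup p E := isPGroup_quotient_pResidual
  have : Nontrivial E := by
    obtain ⟨x, hx⟩ : ∃ x, x ∉ Cfsg.pResidual p X := by
      by_contra hc
      push Not at hc
      exact h (eq_top_iff.2 fun x _ => hc x)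
    exact ⟨⟨f x, 1, fun e => hx ((QuotientGroup.eq_one_iff x).1 e)⟩⟩
  obtain ⟨M, hM, -⟩ := (eq_top_or_exists_le_coatom (⊥ : Subgroup E)).resolve_left bot_ne_top
  have hi := Cfsg.Agent.Lib.Transfer.index_eq_of_isCoatom hE hM
  exact ⟨M.comap f, hi.1.comap f, (Subgroup.index_comap_of_surjective M (QuotientGroup.mk'_surjective _)).trans hi.2⟩

end Cfsg.Agent.Lib.FusionControl

namespace Cfsg.Agent.Lib.FusionControl

open Cfsg.Agent.Lib.Transfer (hasNormalPComplement_iff_coprime hasNormalPComplement_congr
  hasNormalPComplement_of_le hasNormalPComplement_of_surjective)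

variable {p : ℕ} [Fact p.Prime] {X : Type u} [Group X] [Finite X]

/-- what is assumed about a functor in the minimal configuration -/
def ThompsonHyp (p : ℕ) (W : ∀ (Q : Type u) [Group Q], Subgroup Q) (Y : Type u) [Group Y] : Prop :=
  CharPType p Y → Cfsg.HasNormalPComplement p (Y ⧸ Cfsg.pCore p Y) →
    ∀ T : Sylow p Y, IsCoatom (T : Subgroup Y) → (Cfsg.inducedFunctor (G := Y) W (T : Subgroup Y)).Normal

lemma thompsonHyp_equiv {W : ∀ (Q : Type u) [Group Q], Subgroup Q} (hW : Cfsg.IsCharPFunctor.{u} p W)
    {Y : Type u} [Group Y] [Finite Y] (e : X ≃* Y) (h : ThompsonHyp p W X) : ThompsonHyp p W Y := by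
  intro hC hN T hT
  have hsur : Function.Surjective e.symm.toMonoidHom := e.symm.surjective
  have hpc : (Cfsg.pCore p Y).map e.symm.toMonoidHom = Cfsg.pCore p X := Cfsg.Agent.Lib.Cores.map_pCore_equiv e.symm
  have hN' : Cfsg.HasNormalPComplement p (X ⧸ Cfsg.pCore p X) :=
    (hasNormalPComplement_congr (QuotientGroup.congr _ _ e.symm hpc)).1 hN
  have hcoe : ((T.mapSurjective hsur : Sylow p X) : Subgroup X) = (T : Subgroup Y).map e.symm.toMonoidHom :=
    Sylow.coe_mapSurjective hsur T
  have hco : IsCoatom ((T.mapSurjective hsur : Sylow p X) : Subgroup X) := by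
    rw [hcoe]
    exact (OrderIso.isCoatom_iff e.symm.mapSubgroup (T : Subgroup Y)).2 hT
  have := h (charPType_equiv e.symm hC) hN' _ hco
  rw [hcoe, ← inducedFunctor_map hW _ T.2 (fun t _ ht => (MulEquiv.map_eq_one_iff e.symm).1 ht)] at this
  have h2 := this.map e.toMonoidHom e.surjective
  rw [Subgroup.map_map, show e.toMonoidHom.comp e.symm.toMonoidHom = MonoidHom.id Y from
    MonoidHom.ext e.apply_symm_apply, Subgroup.map_id] at h2
  exact h2

/-- the normalizer in a subgroup `H` of the functor value, seen as a group -/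
lemma npc_local {W : ∀ (Q : Type u) [Group Q], Subgroup Q} (hW : Cfsg.IsCharPFunctor.{u} p W)
    {H : Subgroup X} (S : Sylow p X) (hSH : (S : Subgroup X) ≤ H)
    (hN : Cfsg.HasNormalPComplement p ↥(Subgroup.normalizer ((Cfsg.inducedFunctor W (S : Subgroup X) : Subgroup X) : Set X))) :
    Cfsg.HasNormalPComplement p ↥(Subgroup.normalizer ((Cfsg.inducedFunctor W
      ((S.subtype hSH : Sylow p H) : Subgroup H) : Subgroup H) : Set H)) := by
  have hT : ((S.subtype hSH : Sylow p H) : Subgroup H).map H.subtype = (S : Subgroup X) := by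
    rw [Sylow.coe_subtype, Subgroup.subgroupOf_map_subtype, inf_eq_left.2 hSH]
  refine (hasNormalPComplement_congr (Subgroup.equivMapOfInjective _ H.subtype H.subtype_injective)).2 ?_
  refine hasNormalPComplement_of_le ?_ hN
  rintro _ ⟨x, hx, rfl⟩
  rw [← hT]
  exact mem_normalizer_functor_map (𝓦 := {W}) (by rintro _ rfl; exact hW) _ H.subtype_injective (S.subtype hSH).2 rfl hx

lemma not_pCore_top_normalizer {W : ∀ (Q : Type u) [Group Q], Subgroup Q} (hW : Cfsg.IsCharPFunctor.{u} p W)
    (S : Sylow p X) (h : Cfsg.pCore p X = (S : Subgroup X)) :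
    Subgroup.normalizer ((Cfsg.inducedFunctor W (S : Subgroup X) : Subgroup X) : Set X) = ⊤ := by
  rw [eq_top_iff]
  refine le_trans ?_ (normalizer_le_normalizer_functor (isConjugacyFunctor_inducedFunctor hW) S.2)
  rw [← h, Subgroup.normalizer_eq_top]

/-- Thompson's criterion, by induction -/
theorem npc_of_thompsonHyp {W : ∀ (Q : Type u) [Group Q], Subgroup Q} (hW : Cfsg.IsCharPFunctor.{u} p W)
    {G : Type u} [Group G] (hloc : ∀ (Y : Type u) [Group Y] [Finite Y], Cfsg.Involves Y G → ThompsonHyp p W Y) :
    ∀ (n : ℕ) (Y : Type u) [Group Y] [Finite Y], Nat.card Y = n → Cfsg.Involves Y G → ∀ S : Sylow p Y,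
      Cfsg.HasNormalPComplement p ↥(Subgroup.normalizer ((Cfsg.inducedFunctor W (S : Subgroup Y) : Subgroup Y) : Set Y)) →
      Cfsg.HasNormalPComplement p Y := by
  intro n
  induction n using Nat.strong_induction_on with
  | _ n ih =>
    intro Y _ _ hn hY S hN
    have hsub : ∀ H : Subgroup Y, H ≠ ⊤ → (S : Subgroup Y) ≤ H → Cfsg.HasNormalPComplement p H := fun H hne hle =>
      ih _ (hn ▸ card_lt_of_ne_top hne) H rfl (involves_subgroup hY H) _ (npc_local hW S hle hN)
    have hquot : ∀ N : Subgroup Y, [N.Normal] → N ≠ ⊥ →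
        Cfsg.HasNormalPComplement p ↥(Subgroup.normalizer ((Cfsg.inducedFunctor W
          ((S : Subgroup Y).map (QuotientGroup.mk' N)) : Subgroup (Y ⧸ N)) : Set (Y ⧸ N))) →
        Cfsg.HasNormalPComplement p (Y ⧸ N) := by
      intro N _ hne h
      have hlt : Nat.card (Y ⧸ N) < n := by
        rw [← hn, Subgroup.card_eq_card_quotient_mul_card_subgroup N]
        exact lt_mul_of_one_lt_right Nat.card_pos (Subgroup.one_lt_card_iff_ne_bot N |>.2 hne)
      refine ih _ hlt (Y ⧸ N) rfl (involves_surjective hY _ (QuotientGroup.mk'_surjective N))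
        (S.mapSurjective (QuotientGroup.mk'_surjective N)) ?_
      rw [Sylow.coe_mapSurjective]; exact h
    by_cases hS : (S : Subgroup Y) = ⊥
    · refine Cfsg.Agent.Lib.Transfer.hasNormalPComplement_of_normalizer_le_centralizer S ?_
      intro g _
      rw [Subgroup.mem_centralizer_iff]
      intro s hs
      rw [Subgroup.mem_bot.1 (hS ▸ hs : s ∈ (⊥ : Subgroup Y))]; simp
    by_cases hQ : Cfsg.pCore p Y = ⊥
    · -- all local subgroups are proper
      have hprop : ∀ U : Subgroup Y, U ≤ (S : Subgroup Y) → U ≠ ⊥ → Subgroup.normalizer (U : Set Y) ≠ ⊤ := by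
        intro U hU hne h
        apply hne
        rw [eq_bot_iff, ← hQ]
        exact Cfsg.Agent.Lib.Cores.le_pCore (Subgroup.normalizer_eq_top_iff.1 h) (S.2.to_le hU)
      suffices main : ∀ (k : ℕ) (U : Subgroup Y), Nat.card (S : Subgroup Y) - Nat.card (nS (S : Subgroup Y) U) = k →
          U ≤ (S : Subgroup Y) → U ≠ ⊥ → Cfsg.HasNormalPComplement p ↥(Subgroup.normalizer (U : Set Y)) by
        refine Cfsg.Agent.Lib.Transfer.hasNormalPComplement_of_local fun U hU hne => ?_
        obtain ⟨g, -, hg⟩ := exists_cj_le_of_not_dvd le_top S.2 (sylow_relIndex_top S) (le_top : U ≤ ⊤) hU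
        have := main _ (cj g U) rfl hg (fun h => hne (by rw [← cj_inv_cj g U, h, cj, Subgroup.map_bot]))
        rw [← cj_normalizer] at this
        exact (hasNormalPComplement_congr ((Subgroup.normalizer (U : Set Y)).equivMapOfInjective _
          (MulAut.conj g).injective)).2 this
      intro k
      induction k using Nat.strong_induction_on with
      | _ k ih2 =>
        intro U hk hU hne
        obtain ⟨g, hg, hext⟩ := exists_extr_cj S hU
        set U0 := cj g U with hU0
        have hle := Subgroup.card_le_of_le (cj_nS_le hg)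
        rw [card_cj, ← hU0] at hle
        have hne0 : U0 ≠ ⊥ := fun h => hne (by rw [← cj_inv_cj g U, ← hU0, h, cj, Subgroup.map_bot])
        suffices h0 : Cfsg.HasNormalPComplement p ↥(Subgroup.normalizer (U0 : Set Y)) by
          rw [hU0, ← cj_normalizer] at h0
          exact (hasNormalPComplement_congr ((Subgroup.normalizer (U : Set Y)).equivMapOfInjective _
            (MulAut.conj g).injective)).2 h0
        set N := Subgroup.normalizer (U0 : Set Y) with hNdef
        set T := nS (S : Subgroup Y) U0 with hT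
        have hTN : T ≤ N := inf_le_right
        have hTp : IsPGroup p T := S.2.to_le inf_le_left
        let TN : Sylow p N := ((hTp.comap_of_injective N.subtype N.subtype_injective :
          IsPGroup p (T.subgroupOf N))).toSylow hext.2
        refine ih _ (hn ▸ card_lt_of_ne_top (hprop U0 hext.1 hne0)) N rfl (involves_subgroup hY N) TN ?_
        refine (hasNormalPComplement_congr (Subgroup.equivMapOfInjective _ N.subtype N.subtype_injective)).2 ?_
        have hTmap : (TN : Subgroup N).map N.subtype = T := by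
          show (T.subgroupOf N).map N.subtype = T
          rw [Subgroup.subgroupOf_map_subtype, inf_eq_left.2 hTN]
        have hsub' : (Subgroup.normalizer ((Cfsg.inducedFunctor W (TN : Subgroup N) : Subgroup N) : Set N)).map N.subtype ≤
            Subgroup.normalizer ((Cfsg.inducedFunctor W T : Subgroup Y) : Set Y) := by
          rintro _ ⟨x, hx, rfl⟩
          rw [← hTmap]
          exact mem_normalizer_functor_map (𝓦 := {W}) (by rintro _ rfl; exact hW) _ N.subtype_injective TN.2 rfl hx
        by_cases hTS : T = (S : Subgroup Y)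
        · rw [hTS] at hsub'
          exact hasNormalPComplement_of_le hsub' hN
        · obtain ⟨hWle, hWne, -⟩ := isConjugacyFunctor_inducedFunctor hW T hTp
          have hTne : T ≠ ⊥ := fun h => hne0 (le_bot_iff.1 (h ▸ le_nS hext.1))
          have h1 : T < nS (S : Subgroup Y) T := lt_nS S.2 (lt_of_le_of_ne inf_le_left hTS)
          have h2 : nS (S : Subgroup Y) T ≤ nS (S : Subgroup Y) (Cfsg.inducedFunctor W T) :=
            inf_le_inf_left _ (normalizer_le_normalizer_functor (isConjugacyFunctor_inducedFunctor hW) hTp)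
          have h3 := lt_of_lt_of_le (card_lt_of_lt h1) (Subgroup.card_le_of_le h2)
          have h4 : Nat.card (nS (S : Subgroup Y) (Cfsg.inducedFunctor W T)) ≤ Nat.card (S : Subgroup Y) :=
            Subgroup.card_le_of_le inf_le_left
          exact hasNormalPComplement_of_le hsub' (ih2 _ (by omega) _ rfl (hWle.trans inf_le_left) (hWne hTne))
    -- the core is nontrivial
    by_cases hSQ : Cfsg.pCore p Y = (S : Subgroup Y)
    · rw [not_pCore_top_normalizer hW S hSQ] at hN
      exact (hasNormalPComplement_congr Subgroup.topEquiv).1 hN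
    by_cases hO : Cfsg.pPrimeCore p Y = ⊥
    swap
    · set O := Cfsg.pPrimeCore p Y with hOdef
      have hnpc : Cfsg.HasNormalPComplement p (Y ⧸ O) := by
        refine hquot O hO ?_
        set NZ := Subgroup.normalizer ((Cfsg.inducedFunctor W (S : Subgroup Y) : Subgroup Y) : Set Y)
        refine hasNormalPComplement_of_le (K := NZ.map (QuotientGroup.mk' O)) ?_
          (hasNormalPComplement_of_surjective _ ((QuotientGroup.mk' O).subgroupMap_surjective NZ) hN)
        intro x hx
        obtain ⟨m, hm, rfl⟩ := exists_lift_step hW S hx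
        exact ⟨m, hm, rfl⟩
      rw [hasNormalPComplement_iff_coprime] at hnpc ⊢
      rw [← Cfsg.Agent.Lib.Transfer.pResidual_map_of_surjective _ (QuotientGroup.mk'_surjective O)] at hnpc
      have h1 : Cfsg.pResidual p Y ≤ ((Cfsg.pResidual p Y).map (QuotientGroup.mk' O)).comap (QuotientGroup.mk' O) :=
        Subgroup.le_comap_map _ _
      refine Nat.Coprime.coprime_dvd_left (Subgroup.card_dvd_of_le h1) ?_
      rw [Cfsg.Agent.Lib.Cores.card_comap_mk']
      exact Nat.Coprime.mul_left (Cfsg.Agent.Lib.Cores.pPrimeCore_coprime p Y) hnpc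
    set Q := Cfsg.pCore p Y with hQdef
    have hQS : Q ≤ (S : Subgroup Y) := pCore_le_S S
    set f := QuotientGroup.mk' Q with hf
    have hcomapS : ((S : Subgroup Y).map f).comap f = (S : Subgroup Y) := by
      rw [Subgroup.comap_map_eq, QuotientGroup.ker_mk', sup_eq_left.2 hQS]
    have hnpcQ : Cfsg.HasNormalPComplement p (Y ⧸ Q) := by
      refine hquot Q hQ ?_
      have hcj : IsPGroup p ((S : Subgroup Y).map f) := S.2.map f
      obtain ⟨hle, hne, -⟩ := isConjugacyFunctor_inducedFunctor hW ((S : Subgroup Y).map f) hcj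
      set Z := Cfsg.inducedFunctor W ((S : Subgroup Y).map f) with hZ
      set XW := Z.comap f with hXW
      have hXWS : XW ≤ (S : Subgroup Y) := by rw [← hcomapS]; exact Subgroup.comap_mono hle
      have hprop : Subgroup.normalizer (XW : Set Y) ≠ ⊤ := by
        refine normalizer_ne_top_of_pCore (S.2.to_le hXWS) fun hc => hne ?_ ?_
        · intro hb
          rw [Subgroup.map_eq_bot_iff, QuotientGroup.ker_mk'] at hb
          exact hSQ (le_antisymm hQS hb)
        · rw [eq_bot_iff]
          intro z hz
          obtain ⟨w, rfl⟩ := QuotientGroup.mk'_surjective Q z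
          exact Subgroup.mem_bot.2 ((QuotientGroup.eq_one_iff w).2 (hc hz))
      have hnorm : ∀ y : Y, f y ∈ Subgroup.normalizer (Z : Set (Y ⧸ Q)) →
          y ∈ Subgroup.normalizer (XW : Set Y) := by
        intro y hy
        rw [Subgroup.mem_normalizer_iff]
        intro z
        show f z ∈ Z ↔ f (y * z * y⁻¹) ∈ Z
        rw [map_mul, map_mul, map_inv]
        exact Subgroup.mem_normalizer_iff.1 hy (f z)
      have hSN : (S : Subgroup Y) ≤ Subgroup.normalizer (XW : Set Y) := fun s hs =>
        hnorm s (le_normalizer_inducedFunctor hW hcj ⟨s, hs, rfl⟩)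
      refine hasNormalPComplement_of_le (K := (Subgroup.normalizer (XW : Set Y)).map f) ?_
        (hasNormalPComplement_of_surjective _ (f.subgroupMap_surjective _) (hsub _ hprop hSN))
      intro x hx
      obtain ⟨m, rfl⟩ := QuotientGroup.mk'_surjective Q x
      exact ⟨m, hnorm m hx, rfl⟩
    -- the group has a self-centralizing core
    have hC : CharPType p Y := by
      set C := Subgroup.centralizer (Q : Set Y) with hCdef
      set M := (Cfsg.pResidual p (Y ⧸ Q)).comap f with hM
      have hcop := hasNormalPComplement_iff_coprime.1 hnpcQ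
      set CM := C ⊓ M with hCM
      have hQn : Q.Normal := by rw [hQdef]; infer_instance
      have hCn : C.Normal := by rw [hCdef]; infer_instance
      have hMn : M.Normal := by rw [hM]; infer_instance
      have hi : ¬ p ∣ ((S : Subgroup Y) ⊓ CM).relIndex CM :=
        not_dvd_relIndex_inf le_top S.2 (sylow_relIndex_top S) le_top (by rw [Subgroup.normalizer_eq_top])
      let P : Sylow p CM := ((S.2.to_le inf_le_left).comap_of_injective CM.subtype CM.subtype_injective :
        IsPGroup p (((S : Subgroup Y) ⊓ CM).subgroupOf CM)).toSylow hi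
      have hPQ : ∀ z : CM, z ∈ (P : Subgroup CM) → (z : Y) ∈ Q := by
        intro z hz
        have hzS : (z : Y) ∈ (S : Subgroup Y) := (Subgroup.mem_inf.1 (Subgroup.mem_subgroupOf.1 hz)).1
        have : f z = 1 := Cfsg.Agent.Lib.Transfer.eq_one_of_isPGroup_of_coprime (S.2.map f) ⟨_, hzS, rfl⟩
          (Cfsg.Agent.Lib.Transfer.coprime_orderOf_of_mem hcop (Subgroup.mem_inf.1 z.2).2)
        exact (QuotientGroup.eq_one_iff _).1 this
      have hcent : Subgroup.normalizer ((P : Subgroup CM) : Set CM) ≤ Subgroup.centralizer ((P : Subgroup CM) : Set CM) := by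
        intro c _
        rw [Subgroup.mem_centralizer_iff]
        intro z hz
        exact Subtype.ext (Subgroup.mem_centralizer_iff.1 (Subgroup.mem_inf.1 c.2).1 _ (hPQ z hz))
      have hnpc := Cfsg.Agent.Lib.Transfer.hasNormalPComplement_of_normalizer_le_centralizer P hcent
      rw [hasNormalPComplement_iff_coprime] at hnpc
      have hbot : Cfsg.pResidual p CM = ⊥ := by
        rw [← Subgroup.map_eq_bot_iff_of_injective _ CM.subtype_injective, eq_bot_iff, ← hO]
        refine Cfsg.Agent.Lib.Cores.le_pPrimeCore inferInstance ?_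
        rwa [Subgroup.card_map_of_injective CM.subtype_injective]
      have htop := Cfsg.Agent.Lib.Transfer.sylow_sup_pResidual P
      rw [hbot, sup_bot_eq] at htop
      have hCMQ : ∀ c ∈ C, c ∈ M → c ∈ Q := fun c h1 h2 =>
        hPQ ⟨c, Subgroup.mem_inf.2 ⟨h1, h2⟩⟩ (htop ▸ Subgroup.mem_top _)
      intro c hc
      have hCp : IsPGroup p C := by
        intro ⟨c, hc⟩
        obtain ⟨j, hj⟩ := Cfsg.Agent.Lib.Transfer.isPGroup_quotient_pResidual (G := Y ⧸ Q) (p := p) (QuotientGroup.mk (f c))
        rw [← QuotientGroup.mk_pow, QuotientGroup.eq_one_iff, ← map_pow] at hj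
        have hq := hCMQ _ (pow_mem hc (p ^ j)) hj
        obtain ⟨i, hi⟩ := Cfsg.Agent.Lib.Cores.pCore_isPGroup p Y ⟨_, hq⟩
        exact ⟨j + i, Subtype.ext (by have := congrArg Subtype.val hi; simpa [pow_add, pow_mul] using this)⟩
      exact Cfsg.Agent.Lib.Cores.le_pCore hCn hCp hc
    -- `S` is maximal
    have hco : IsCoatom (S : Subgroup Y) := by
      refine ⟨fun h => hSQ ?_, fun H hH => ?_⟩
      · refine le_antisymm hQS (Cfsg.Agent.Lib.Cores.le_pCore ?_ S.2)
        rw [h]; infer_instance
      · by_contra hne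
        have hnpc := hsub H hne hH.le
        have hbot : Cfsg.pResidual p H = ⊥ := by
          have hcop := hasNormalPComplement_iff_coprime.1 hnpc
          rw [eq_bot_iff]
          intro b hb
          have hb1 := Cfsg.Agent.Lib.Transfer.coprime_orderOf_of_mem hcop hb
          have hQH : Q ≤ H := hQS.trans hH.le
          have hc := Cfsg.Agent.Lib.Transfer.commute_of_hasNormalPComplement hnpc
            (Q := Q.subgroupOf H) ((Cfsg.Agent.Lib.Cores.pCore_isPGroup p Y).of_equiv (Subgroup.subgroupOfEquivOfLe hQH).symm) hb1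
          have hbC : (b : Y) ∈ Subgroup.centralizer (Q : Set Y) := by
            rw [Subgroup.mem_centralizer_iff]
            intro q hq
            exact congrArg Subtype.val (Subgroup.mem_centralizer_iff.1 hc ⟨q, hQH hq⟩ hq)
          refine Subgroup.mem_bot.2 (Subtype.ext ?_)
          exact Cfsg.Agent.Lib.Transfer.eq_one_of_isPGroup_of_coprime (Cfsg.Agent.Lib.Cores.pCore_isPGroup p Y) (hC hbC)
            (by rwa [Subgroup.orderOf_coe])
        have htop := Cfsg.Agent.Lib.Transfer.sylow_sup_pResidual (S.subtype hH.le)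
        rw [hbot, sup_bot_eq, Sylow.coe_subtype, Subgroup.subgroupOf_eq_top] at htop
        exact not_le_of_gt hH htop
    have hnorm := hloc Y hY hC hnpcQ S hco
    rw [Subgroup.normalizer_eq_top_iff.2 hnorm] at hN
    exact (hasNormalPComplement_congr Subgroup.topEquiv).1 hN

end Cfsg.Agent.Lib.FusionControl
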