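import Cfsg.Agent.Lib.FusionControl.Family
import Cfsg.Agent.Lib.Transfer.Frobenius
import Cfsg.Agent.Lib.Cores.PCore
import Cfsg.Agent.Lib.Cores.Basic
import Cfsg.Agent.Lib.Coprime.Basic
import Cfsg.Prelude.Def_Local
import Cfsg.Prelude.Def_TwoFusion

/-! The Alperin–Goldschmidt family: centric radical extremal subgroups. -/

set_option autoImplicit false

namespace Cfsg.Agent.Lib.FusionControl

variable {G : Type*} [Group G]

/-- a chain realising the conjugation up to agreement on the set -/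
def CChain (𝓕 : Set (Subgroup G)) (A : Set G) (g : G) : Prop :=
  ∃ g' : G, Chain 𝓕 A g' ∧ ∀ a ∈ A, g' * a * g'⁻¹ = g * a * g⁻¹

lemma CChain.mono {𝓕 : Set (Subgroup G)} {A B : Set G} {g : G} (hAB : A ⊆ B) (h : CChain 𝓕 B g) :
    CChain 𝓕 A g := by
  obtain ⟨g', h1, h2⟩ := h
  exact ⟨g', h1.mono hAB, fun a ha => h2 a (hAB ha)⟩

lemma CChain.comp {𝓕 : Set (Subgroup G)} {A : Set G} {x y : G} (h1 : CChain 𝓕 A x)
    (h2 : CChain 𝓕 (cs x A) y) : CChain 𝓕 A (y * x) := by
  obtain ⟨x', hx', hxe⟩ := h1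
  obtain ⟨y', hy', hye⟩ := h2
  have e : cs x' A = cs x A := Set.image_congr hxe
  refine ⟨y' * x', .comp hx' (e ▸ hy'), fun a ha => ?_⟩
  calc y' * x' * a * (y' * x')⁻¹ = y' * (x' * a * x'⁻¹) * y'⁻¹ := by group
    _ = y' * (x * a * x⁻¹) * y'⁻¹ := by rw [hxe a ha]
    _ = y * (x * a * x⁻¹) * y⁻¹ := hye _ ⟨a, ha, rfl⟩
    _ = _ := by group

lemma CChain.congr {𝓕 : Set (Subgroup G)} {A : Set G} {g g' : G} (h : CChain 𝓕 A g)
    (he : ∀ a ∈ A, g * a * g⁻¹ = g' * a * g'⁻¹) : CChain 𝓕 A g' := by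
  obtain ⟨x, hx, hxe⟩ := h
  exact ⟨x, hx, fun a ha => (hxe a ha).trans (he a ha)⟩

lemma Chain.cchain {𝓕 : Set (Subgroup G)} {A : Set G} {g : G} (h : Chain 𝓕 A g) : CChain 𝓕 A g :=
  ⟨g, h, fun _ _ => rfl⟩

lemma normalizer_le_normalizer_centralizer (U : Subgroup G) :
    Subgroup.normalizer (U : Set G) ≤ Subgroup.normalizer (Subgroup.centralizer (U : Set G) : Set G) := by
  have key : ∀ x ∈ Subgroup.normalizer (U : Set G), ∀ c ∈ Subgroup.centralizer (U : Set G),
      x * c * x⁻¹ ∈ Subgroup.centralizer (U : Set G) := by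
    intro x hx c hc
    rw [Subgroup.mem_centralizer_iff]
    intro u hu
    have h1 : x⁻¹ * u * x ∈ U := by
      have := (Subgroup.mem_normalizer_iff.1 (inv_mem hx) u).1 hu
      simpa using this
    have h2 := Subgroup.mem_centralizer_iff.1 hc _ h1
    calc u * (x * c * x⁻¹) = x * (x⁻¹ * u * x * c) * x⁻¹ := by group
      _ = x * (c * (x⁻¹ * u * x)) * x⁻¹ := by rw [h2]
      _ = _ := by group
  intro x hx
  rw [Subgroup.mem_normalizer_iff]
  refine fun c => ⟨key x hx c, fun h => ?_⟩
  have := key x⁻¹ (inv_mem hx) _ h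
  simpa [mul_assoc] using this

/-- `O_{p'}(N_G(U))` inside `G` -/
abbrev normP' (p : ℕ) (U : Subgroup G) : Subgroup G :=
  (Cfsg.pPrimeCore p ↥(Subgroup.normalizer (U : Set G))).map (Subgroup.normalizer (U : Set G)).subtype

/-- `O_{p',p}(N_G(U))` inside `G` -/
abbrev normP'P (p : ℕ) (U : Subgroup G) : Subgroup G :=
  (Cfsg.pPrimePCore p ↥(Subgroup.normalizer (U : Set G))).map (Subgroup.normalizer (U : Set G)).subtype

lemma le_normalizer_map_subtype {N : Subgroup G} (K : Subgroup N) [hK : K.Normal] :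
    N ≤ Subgroup.normalizer ((K.map N.subtype : Subgroup G) : Set G) := by
  have key : ∀ n ∈ N, ∀ k ∈ K.map N.subtype, n * k * n⁻¹ ∈ K.map N.subtype := by
    rintro n hn _ ⟨k, hk, rfl⟩
    exact ⟨⟨n, hn⟩ * k * ⟨n, hn⟩⁻¹, hK.conj_mem k hk _, rfl⟩
  intro n hn
  rw [Subgroup.mem_normalizer_iff]
  refine fun k => ⟨key n hn k, fun h => ?_⟩
  have := key n⁻¹ (inv_mem hn) _ h
  simpa [mul_assoc] using this

instance fusionControl_pPrimePCore_normal (p : ℕ) (N : Type*) [Group N] : (Cfsg.pPrimePCore p N).Normal :=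
  Subgroup.Normal.comap inferInstance _

variable [Finite G] {p : ℕ} [Fact p.Prime]

/-- a Sylow subgroup meets a normal subgroup in a Sylow subgroup of it -/
lemma not_dvd_relIndex_inf {H T K : Subgroup G} (hTH : T ≤ H) (hT : IsPGroup p T)
    (hTi : ¬ p ∣ T.relIndex H) (hKH : K ≤ H) (hHK : H ≤ Subgroup.normalizer (K : Set G)) :
    ¬ p ∣ (T ⊓ K).relIndex K := by
  obtain ⟨P, hle, hPK, hP, hPi⟩ := exists_sylow_in p K (inf_le_right : T ⊓ K ≤ K) (hT.to_le inf_le_left)
  obtain ⟨h, hh, hPT⟩ := exists_cj_le_of_not_dvd hTH hT hTi (hPK.trans hKH) hP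
  have h1 : cj h P ≤ T ⊓ K := le_inf hPT ((cj_le_cj hPK).trans (mem_normalizer_iff_cj.1 (hHK hh)).le)
  have h2 : P = T ⊓ K := (Subgroup.eq_of_le_of_card_ge hle
    (by rw [← card_cj h P]; exact Subgroup.card_le_of_le h1)).symm
  rwa [← h2]

/-- Frattini: an element normalizing `K` can be corrected inside `K` to normalize a Sylow subgroup of `K` -/
lemma exists_frattini {K R : Subgroup G} (hRK : R ≤ K) (hR : IsPGroup p R) (hRi : ¬ p ∣ R.relIndex K)
    {x : G} (hx : x ∈ Subgroup.normalizer (K : Set G)) :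
    ∃ k ∈ K, k * x ∈ Subgroup.normalizer (R : Set G) := by
  obtain ⟨k, hk, hle⟩ := exists_cj_le_of_not_dvd hRK hR hRi
    ((cj_le_cj hRK).trans (mem_normalizer_iff_cj.1 hx).le : cj x R ≤ K) (isPGroup_cj hR)
  exact ⟨k, hk, mem_normalizer_of_cj_le (by rwa [← cj_cj])⟩

lemma subgroupOf_normalizer_le_pCore {U : Subgroup G} (hU : IsPGroup p U) :
    U.subgroupOf (Subgroup.normalizer (U : Set G)) ≤ Cfsg.pCore p ↥(Subgroup.normalizer (U : Set G)) :=
  Cfsg.Agent.Lib.Cores.le_pCore Subgroup.normal_in_normalizer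
    (hU.comap_of_injective _ (Subgroup.subtype_injective _))

lemma normP'_le_centralizer {U : Subgroup G} (hU : IsPGroup p U) :
    normP' p U ≤ Subgroup.centralizer (U : Set G) := by
  rintro _ ⟨o, ho, rfl⟩
  rw [Subgroup.mem_centralizer_iff]
  intro u hu
  have h := Cfsg.Agent.Lib.Cores.commute_of_mem_pCore_of_mem_pPrimeCore
    (subgroupOf_normalizer_le_pCore hU (show (⟨u, Subgroup.le_normalizer hu⟩ : ↥(Subgroup.normalizer (U : Set G))) ∈ _ from hu)) ho
  exact congrArg Subtype.val h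

omit [Finite G] [Fact p.Prime] in
lemma normP'P_le_normalizer (U : Subgroup G) : normP'P p U ≤ Subgroup.normalizer (U : Set G) :=
  Subgroup.map_subtype_le _

lemma normP'_le_normP'P (U : Subgroup G) : normP' p U ≤ normP'P p U := by
  refine Subgroup.map_mono ?_
  intro x hx
  show QuotientGroup.mk' _ x ∈ Cfsg.pCore p _
  rw [show QuotientGroup.mk' (Cfsg.pPrimeCore p ↥(Subgroup.normalizer (U : Set G))) x = 1 from (QuotientGroup.eq_one_iff x).2 hx]
  exact one_mem _

lemma le_normP'P {U : Subgroup G} (hU : IsPGroup p U) : U ≤ normP'P p U := by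
  intro u hu
  refine ⟨⟨u, Subgroup.le_normalizer hu⟩, ?_, rfl⟩
  show QuotientGroup.mk' _ _ ∈ Cfsg.pCore p _
  exact Cfsg.Agent.Lib.Cores.map_pCore_le _ (QuotientGroup.mk'_surjective _)
    ⟨_, subgroupOf_normalizer_le_pCore hU (show (⟨u, Subgroup.le_normalizer hu⟩ : ↥(Subgroup.normalizer (U : Set G))) ∈ _ from hu), rfl⟩

lemma not_dvd_relIndex_normP'P {S U : Subgroup G} (hS : IsPGroup p S) (hU : Extr p S U) :
    ¬ p ∣ (nS S U ⊓ normP'P p U).relIndex (normP'P p U) :=
  not_dvd_relIndex_inf inf_le_right (hS.to_le inf_le_left) hU.2 (normP'P_le_normalizer U)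
    (le_normalizer_map_subtype _)

lemma normP'P_le_sup {S U : Subgroup G} (hS : IsPGroup p S) (hU : Extr p S U) :
    normP'P p U ≤ normP' p U ⊔ (nS S U ⊓ normP'P p U) := by
  set N := Subgroup.normalizer (U : Set G) with hN
  have hp : p.Prime := Fact.out
  have hc : Nat.card (normP'P p U) = Nat.card (normP' p U) * Nat.card (Cfsg.pCore p (↥N ⧸ Cfsg.pPrimeCore p ↥N)) := by
    rw [normP'P, normP', Subgroup.card_map_of_injective (Subgroup.subtype_injective _),
      Subgroup.card_map_of_injective (Subgroup.subtype_injective _)]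
    exact Cfsg.Agent.Lib.Cores.card_comap_mk' _ _
  obtain ⟨a, ha⟩ := (Cfsg.Agent.Lib.Cores.pCore_isPGroup p (↥N ⧸ Cfsg.pPrimeCore p ↥N)).exists_card_eq
  have h1 : (normP' p U).relIndex (normP'P p U) = p ^ a := by
    have h := Cfsg.Agent.Lib.Coprime.relIndex_mul_card (normP'_le_normP'P (p := p) U)
    rw [hc, ha] at h
    exact Nat.eq_of_mul_eq_mul_left Nat.card_pos h
  set M := normP' p U ⊔ (nS S U ⊓ normP'P p U) with hM
  have h2 : M.relIndex (normP'P p U) ∣ p ^ a := h1 ▸ Subgroup.relIndex_dvd_of_le_left _ le_sup_left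
  obtain ⟨b, _, hb⟩ := (Nat.dvd_prime_pow hp).1 h2
  have h3 : ¬ p ∣ M.relIndex (normP'P p U) := fun h =>
    not_dvd_relIndex_normP'P hS hU (h.trans (Subgroup.relIndex_dvd_of_le_left _ le_sup_right))
  rw [hb] at h3
  have hb0 : b = 0 := by
    by_contra hb0
    exact h3 (dvd_pow_self p hb0)
  rw [hb0, pow_zero] at hb
  exact Subgroup.relIndex_eq_one.1 hb

/-- centric radical extremal -/
def AG (p : ℕ) (S U : Subgroup G) : Prop :=
  Extr p S U ∧ S ⊓ Subgroup.centralizer (U : Set G) ≤ U ∧ nS S U ⊓ normP'P p U ≤ U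

/-- Alperin's criterion up to centralizers -/
theorem cchain_of (S : Sylow p G) (𝓕 : Set (Subgroup G))
    (h : ∀ U : Subgroup G, Extr p (S : Subgroup G) U → U ∈ 𝓕 ∨
      ∀ x ∈ Subgroup.normalizer (U : Set G), ∃ R : Subgroup G, U < R ∧ R ≤ (S : Subgroup G) ∧
        ∃ n ∈ Subgroup.normalizer (R : Set G), ∀ a ∈ U, n * a * n⁻¹ = x * a * x⁻¹) :
    ∀ (T : Subgroup G) (g : G), T ≤ (S : Subgroup G) → cj g T ≤ (S : Subgroup G) →
      CChain 𝓕 (T : Set G) g := by
  suffices H : ∀ (k : ℕ) (T : Subgroup G) (g : G), Nat.card (S : Subgroup G) - Nat.card T = k →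
      T ≤ (S : Subgroup G) → cj g T ≤ (S : Subgroup G) → CChain 𝓕 (T : Set G) g from
    fun T g => H _ T g rfl
  intro k
  induction k using Nat.strong_induction_on with
  | _ k ih =>
    intro T g hk hT hgT
    by_cases hTS : T = (S : Subgroup G)
    · subst hTS
      rcases h _ (extr_self S) with hS | hS
      · exact (Chain.step (S : Subgroup G) hS subset_rfl (mem_normalizer_of_cj_le hgT)).cchain
      · obtain ⟨R, hR1, hR2, -⟩ := hS 1 (one_mem _)
        exact absurd hR2 (not_le_of_gt hR1)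
    · have hlt : T < (S : Subgroup G) := lt_of_le_of_ne hT hTS
      obtain ⟨k0, -, hext⟩ := exists_extr_cj S hT
      obtain ⟨U, hk0⟩ : ∃ U, cj k0 T = U := ⟨_, rfl⟩
      rw [hk0] at hext
      obtain ⟨n, hn, hle, heq⟩ := exists_adjust S.2 hext hk0
      have hk1 : cj (k0 * g⁻¹) (cj g T) = U := by rw [cj_cj, inv_mul_cancel_right, hk0]
      obtain ⟨m, hm, hle', heq'⟩ := exists_adjust S.2 hext hk1
      set a := n * k0 with ha
      set b := m * (k0 * g⁻¹) with hb
      have hlt' : cj g T < (S : Subgroup G) := lt_of_le_of_ne hgT (fun e => by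
        have := card_cj g T
        rw [e] at this
        exact hTS (Subgroup.eq_of_le_of_card_ge hT this.le))
      have hgrow := card_lt_nS S.2 hlt
      have hgrow' := card_lt_nS S.2 hlt'
      rw [card_cj] at hgrow'
      have hTle : Nat.card T ≤ Nat.card (S : Subgroup G) := Subgroup.card_le_of_le hT
      have hx : b * g * a⁻¹ ∈ Subgroup.normalizer (U : Set G) := by
        rw [mem_normalizer_iff_cj]
        conv_lhs => rw [← heq]
        rw [cj_cj, inv_mul_cancel_right, ← cj_cj, heq']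
      have c1 : CChain 𝓕 (T : Set G) a := by
        refine (ih _ ?_ _ a rfl inf_le_left (hle.trans inf_le_left)).mono (le_nS hT)
        have := Subgroup.card_le_of_le (inf_le_left : nS (S : Subgroup G) T ≤ S)
        simp only [nS] at *
        omega
      have c3 : CChain 𝓕 (U : Set G) b⁻¹ := by
        have hR : cj b (nS (S : Subgroup G) (cj g T)) ≤ (S : Subgroup G) := hle'.trans inf_le_left
        refine (ih _ ?_ _ b⁻¹ rfl hR ?_).mono ?_
        · have := Subgroup.card_le_of_le hR
          rw [card_cj] at this ⊢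
          omega
        · rw [cj_inv_cj]; exact inf_le_left
        · have : U ≤ cj b (nS (S : Subgroup G) (cj g T)) := by
            rw [← heq']; exact cj_le_cj (le_nS hgT)
          exact this
      have e1 : cs a (T : Set G) = (U : Set G) := by rw [cs_subgroup, heq]
      have c2 : CChain 𝓕 (U : Set G) (b * g * a⁻¹) := by
        rcases h U hext with hU | hU
        · exact (Chain.step U hU subset_rfl hx).cchain
        · obtain ⟨R, hR1, hR2, y, hy, hye⟩ := hU _ hx
          have hlt2 : Nat.card T < Nat.card R := by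
            have := card_lt_of_lt hR1
            rwa [← hk0, card_cj] at this
          have : Nat.card R ≤ Nat.card (S : Subgroup G) := Subgroup.card_le_of_le hR2
          refine ((ih _ (by omega) R y rfl hR2 ?_).mono (show (U : Set G) ⊆ R from hR1.le)).congr hye
          rw [mem_normalizer_iff_cj.1 hy]; exact hR2
      have e2 : cs (b * g * a⁻¹ * a) (T : Set G) = (U : Set G) := by
        rw [← cs_cs, e1, cs_subgroup, mem_normalizer_iff_cj.1 hx]
      have c12 := CChain.comp c1 (by rw [e1]; exact c2)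
      have : g = b⁻¹ * (b * g * a⁻¹ * a) := by group
      rw [this]
      exact .comp c12 (by rw [e2]; exact c3)

/-- Alperin–Goldschmidt: centric radical extremal subgroups suffice up to centralizers -/
theorem cchain_AG (S : Sylow p G) (T : Subgroup G) (g : G) (hT : T ≤ (S : Subgroup G))
    (hgT : cj g T ≤ (S : Subgroup G)) :
    CChain {U | AG p (S : Subgroup G) U} (T : Set G) g := by
  refine cchain_of S _ (fun U hU => ?_) T g hT hgT
  by_cases hag : AG p (S : Subgroup G) U
  · exact Or.inl hag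
  refine Or.inr fun x hx => ?_
  set C := Subgroup.centralizer (U : Set G) with hC
  have hUp : IsPGroup p U := S.2.to_le hU.1
  by_cases hcent : (S : Subgroup G) ⊓ C ≤ U
  · -- not radical
    have hnr : ¬ nS (S : Subgroup G) U ⊓ normP'P p U ≤ U := fun h => hag ⟨hU, hcent, h⟩
    set R := nS (S : Subgroup G) U ⊓ normP'P p U with hR
    have hUR : U ≤ R := le_inf (le_nS hU.1) (le_normP'P hUp)
    obtain ⟨k, hk, hkx⟩ := exists_frattini (inf_le_right : R ≤ normP'P p U) ((S.2.to_le inf_le_left).to_le inf_le_left)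
      (not_dvd_relIndex_normP'P S.2 hU) (le_normalizer_map_subtype _ hx)
    obtain ⟨o, ho, r, hr, rfl⟩ := Cfsg.Agent.Lib.Coprime.exists_mul_of_mem_sup
      (le_trans (inf_le_right.trans (normP'P_le_normalizer U)) (le_normalizer_map_subtype _) : R ≤ Subgroup.normalizer (normP' p U : Set G))
      (normP'P_le_sup S.2 hU hk)
    have hmem : r⁻¹ * o * r * x ∈ Subgroup.normalizer (R : Set G) := by
      rw [show r⁻¹ * o * r * x = r⁻¹ * (o * r * x) by group]
      exact mul_mem (Subgroup.le_normalizer (inv_mem hr)) hkx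
    have hrO : r⁻¹ * o * r ∈ normP' p U := by
      have hrn := (le_trans (inf_le_right.trans (normP'P_le_normalizer U)) (le_normalizer_map_subtype _) : R ≤ Subgroup.normalizer (normP' p U : Set G)) (inv_mem hr)
      have := (Subgroup.mem_normalizer_iff.1 hrn o).1 ho
      simpa using this
    refine ⟨R, lt_of_le_not_ge hUR hnr, inf_le_left.trans inf_le_left, _, hmem, fun a ha => ?_⟩
    have hc := Subgroup.mem_centralizer_iff.1 (normP'_le_centralizer hUp hrO) _ ((Subgroup.mem_normalizer_iff.1 hx a).1 ha)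
    calc r⁻¹ * o * r * x * a * (r⁻¹ * o * r * x)⁻¹
        = (r⁻¹ * o * r) * (x * a * x⁻¹) * (r⁻¹ * o * r)⁻¹ := by group
      _ = _ := by rw [← hc]; group
  · -- not centric
    have hNC : Subgroup.normalizer (U : Set G) ≤ Subgroup.normalizer (C : Set G) :=
      normalizer_le_normalizer_centralizer U
    have hCN : C ≤ Subgroup.normalizer (U : Set G) := Subgroup.centralizer_le_normalizer _
    set Z := nS (S : Subgroup G) U ⊓ C with hZ
    have hZeq : (S : Subgroup G) ⊓ C ≤ Z := le_inf (le_inf inf_le_left (inf_le_right.trans hCN)) inf_le_right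
    obtain ⟨c, hc, hcx⟩ := exists_frattini (inf_le_right : Z ≤ C) ((S.2.to_le inf_le_left).to_le inf_le_left)
      (not_dvd_relIndex_inf inf_le_right (S.2.to_le inf_le_left) hU.2 hCN hNC) (hNC hx)
    have hlt : U < U ⊔ Z := lt_of_le_not_ge le_sup_left (fun h => hcent (hZeq.trans (le_sup_right.trans h)))
    refine ⟨U ⊔ Z, hlt, sup_le hU.1 (inf_le_left.trans inf_le_left), c * x, ?_, fun a ha => ?_⟩
    · have h1 : Subgroup.normalizer (U : Set G) ⊓ Subgroup.normalizer (Z : Set G) ≤
          Subgroup.normalizer ((U ⊔ Z : Subgroup G) : Set G) :=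
        Cfsg.Agent.Lib.Coprime.le_normalizer_sup inf_le_left inf_le_right
      exact h1 ⟨mul_mem (hCN hc) hx, hcx⟩
    · have hc' := Subgroup.mem_centralizer_iff.1 hc _ ((Subgroup.mem_normalizer_iff.1 hx a).1 ha)
      calc c * x * a * (c * x)⁻¹ = c * (x * a * x⁻¹) * c⁻¹ := by group
        _ = _ := by rw [← hc']; group

lemma AG.centralizer_le {S : Sylow p G} {U : Subgroup G} (h : AG p (S : Subgroup G) U) :
    Subgroup.centralizer (U : Set G) ≤ normP'P p U := by
  set C := Subgroup.centralizer (U : Set G) with hC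
  set N := Subgroup.normalizer (U : Set G) with hN
  have hUp : IsPGroup p U := S.2.to_le h.1.1
  have hCN : C ≤ N := Subgroup.centralizer_le_normalizer _
  have hNC : N ≤ Subgroup.normalizer (C : Set G) := normalizer_le_normalizer_centralizer U
  have hi := not_dvd_relIndex_inf inf_le_right (S.2.to_le inf_le_left) h.1.2 hCN hNC
  have hp : IsPGroup p ↥((nS (S : Subgroup G) U ⊓ C).subgroupOf C) :=
    ((S.2.to_le inf_le_left).to_le inf_le_left).comap_of_injective _ C.subtype_injective
  let P : Sylow p C := hp.toSylow hi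
  have hPU : ∀ z : C, z ∈ (P : Subgroup C) → (z : G) ∈ U := fun z hz => h.2.1 ⟨hz.1.1, z.2⟩
  have hcent : Subgroup.normalizer ((P : Subgroup C) : Set C) ≤ Subgroup.centralizer ((P : Subgroup C) : Set C) := by
    intro c _
    rw [Subgroup.mem_centralizer_iff]
    intro z hz
    exact Subtype.ext (Subgroup.mem_centralizer_iff.1 c.2 _ (hPU z hz))
  have hnpc := Cfsg.Agent.Lib.Transfer.hasNormalPComplement_of_normalizer_le_centralizer P hcent
  rw [Cfsg.Agent.Lib.Transfer.hasNormalPComplement_iff_coprime] at hnpc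
  have hM : (Cfsg.pResidual p C).map C.subtype ≤ normP' p U := by
    set M := (Cfsg.pResidual p C).map C.subtype with hMdef
    have hMn : (M.subgroupOf N).Normal :=
      (Subgroup.normal_subgroupOf_iff_le_normalizer ((Subgroup.map_subtype_le _).trans hCN)).2
        (hNC.trans (Cfsg.Agent.Lib.Cores.normalizer_le_normalizer_map_subtype C _))
    have hle : M.subgroupOf N ≤ Cfsg.pPrimeCore p N := by
      refine Cfsg.Agent.Lib.Cores.le_pPrimeCore hMn (Nat.Coprime.coprime_dvd_left ?_ hnpc)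
      refine (Subgroup.card_comap_dvd_of_injective _ N.subtype N.subtype_injective).trans ?_
      rw [hMdef, Subgroup.card_map_of_injective C.subtype_injective]
    intro m hm
    exact ⟨⟨m, hCN ((Subgroup.map_subtype_le _) hm)⟩, hle hm, rfl⟩
  have htop := Cfsg.Agent.Lib.Transfer.sylow_sup_pResidual P
  intro c hc
  have : (⟨c, hc⟩ : C) ∈ (P : Subgroup C) ⊔ Cfsg.pResidual p C := htop ▸ Subgroup.mem_top _
  obtain ⟨z, hz, m, hm, he⟩ := Subgroup.mem_sup_of_normal_right.1 this
  rw [← show (z : G) * m = c from congrArg Subtype.val he]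
  exact mul_mem (le_normP'P hUp (hPU z hz)) (normP'_le_normP'P U (hM ⟨m, hm, rfl⟩))

lemma AG.directProduct {S : Sylow p G} {U : Subgroup G} (h : AG p (S : Subgroup G) U) :
    Cfsg.IsInternalDirectProduct (normP' p U) U (normP'P p U) := by
  have hUp : IsPGroup p U := S.2.to_le h.1.1
  refine ⟨normP'_le_normP'P U, le_normP'P hUp, fun a ha b hb =>
    (Subgroup.mem_centralizer_iff.1 (normP'_le_centralizer hUp ha) b hb).symm, ?_, ?_⟩
  · obtain ⟨e, he⟩ := hUp.exists_card_eq
    refine Cfsg.Agent.Lib.Coprime.inf_eq_bot_of_coprime_card ?_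
    rw [normP', Subgroup.card_map_of_injective (Subgroup.subtype_injective _), he]
    exact (Cfsg.Agent.Lib.Cores.pPrimeCore_coprime p _).pow_right e
  · exact le_antisymm (sup_le (normP'_le_normP'P U) (le_normP'P hUp))
      ((normP'P_le_sup S.2 h.1).trans (sup_le_sup_left h.2.2 _))

end Cfsg.Agent.Lib.FusionControl
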