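import Cfsg.Agent.Lib.FusionControl.Control

/-! Local to global for control of transfer. -/

set_option autoImplicit false

open scoped commutatorElement

namespace Cfsg.Agent.Lib.FusionControl

variable {G : Type*} [Group G] [Finite G] {p : ℕ} [Fact p.Prime]

omit [Finite G] [Fact p.Prime] in
lemma cj_commutator (g : G) (H K : Subgroup G) : cj g ⁅H, K⁆ = ⁅cj g H, cj g K⁆ :=
  Subgroup.map_commutator _ _ _

/-- the focal subgroup theorem relative to a subgroup -/
lemma inf_commutator_le {H T D : Subgroup G} (hTH : T ≤ H) (hT : IsPGroup p T) (hTi : ¬ p ∣ T.relIndex H)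
    (h : ∀ x ∈ H, ∀ b ∈ T, x * b * x⁻¹ ∈ T → b⁻¹ * (x * b * x⁻¹) ∈ D) : T ⊓ ⁅H, H⁆ ≤ D := by
  let P : Sylow p H := (hT.comap_of_injective H.subtype H.subtype_injective).toSylow hTi
  have hfoc : Subgroup.focalSubgroup (P : Subgroup H) ≤ D.subgroupOf H := by
    rw [Cfsg.Agent.Lib.Transfer.focalSubgroup_le_iff]
    intro y hy g hg
    exact h g g.2 y hy hg
  rintro z ⟨hzT, hzH⟩
  rw [← Subgroup.map_subtype_commutator] at hzH
  obtain ⟨w, hw, rfl⟩ := hzH
  have hmem : w ∈ commutator H ⊓ (P : Subgroup H) := ⟨hw, hzT⟩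
  rw [Subgroup.commutator_inf_eq_focalSubgroup P] at hmem
  exact hfoc hmem

lemma mem_commutator_of_conj {H : Subgroup G} {x b : G} (hx : x ∈ H) (hb : b ∈ H) :
    b⁻¹ * (x * b * x⁻¹) ∈ ⁅H, H⁆ := by
  have := Subgroup.commutator_mem_commutator (inv_mem hb) hx
  have e : b⁻¹ * (x * b * x⁻¹) = ⁅b⁻¹, x⁆ := by rw [commutatorElement_def]; group
  rwa [e]

/-- the subgroup generated by the transfer contributions of a set of functors -/
def transferPart (𝓦 : Set (Subgroup G → Subgroup G)) (H T : Subgroup G) : Subgroup G :=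
  ⨆ W ∈ 𝓦, T ⊓ ⁅H ⊓ Subgroup.normalizer ((W T : Subgroup G) : Set G), H ⊓ Subgroup.normalizer ((W T : Subgroup G) : Set G)⁆

omit [Finite G] [Fact p.Prime] in
lemma transferPart_le {𝓦 : Set (Subgroup G → Subgroup G)} {H T : Subgroup G} :
    transferPart 𝓦 H T ≤ T ⊓ ⁅H, H⁆ :=
  iSup₂_le fun _ _ => inf_le_inf_left _ (Subgroup.commutator_mono inf_le_left inf_le_left)

omit [Finite G] [Fact p.Prime] in
lemma transferPart_map {𝓦 : Set (Subgroup G → Subgroup G)} (h𝓦 : ∀ W ∈ 𝓦, Cfsg.IsConjugacyFunctor p W)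
    {H T : Subgroup G} (hT : IsPGroup p T) (k : G) :
    cj k (transferPart 𝓦 H T) = transferPart 𝓦 (cj k H) (cj k T) := by
  rw [transferPart, transferPart, cj, Subgroup.map_iSup]
  refine iSup_congr fun W => ?_
  rw [Subgroup.map_iSup]
  refine iSup_congr fun hW => ?_
  have e : W (cj k T) = cj k (W T) := (h𝓦 W hW T hT).2.2 k
  show cj k _ = _
  rw [e, cj_inf, cj_commutator, cj_inf, cj_normalizer]

theorem family_transfer_iff {𝓦 : Set (Subgroup G → Subgroup G)} {H : Subgroup G} :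
    Cfsg.FamilyControlsTransferIn p 𝓦 H ↔
      ∃ T : Subgroup G, T ≤ H ∧ IsPGroup p ↥T ∧ ¬ p ∣ T.relIndex H ∧ T ⊓ ⁅H, H⁆ = transferPart 𝓦 H T :=
  Iff.rfl

theorem transfer_of_family {𝓦 : Set (Subgroup G → Subgroup G)} (h𝓦 : ∀ W ∈ 𝓦, Cfsg.IsConjugacyFunctor p W)
    {H : Subgroup G} (h : Cfsg.FamilyControlsTransferIn p 𝓦 H) {T' : Subgroup G} (h1' : T' ≤ H)
    (h2' : IsPGroup p T') (h3' : ¬ p ∣ T'.relIndex H) : T' ⊓ ⁅H, H⁆ = transferPart 𝓦 H T' := by
  obtain ⟨T, h1, h2, h3, h⟩ := family_transfer_iff.1 h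
  obtain ⟨k, hk, hle⟩ := exists_cj_le_of_not_dvd h1' h2' h3' h1 h2
  have he : cj k T = T' := Subgroup.eq_of_le_of_card_ge hle
    (by rw [card_cj, card_eq_of_not_dvd h1 h2 h3 h1' h2' h3'])
  have hH : cj k H = H := mem_normalizer_iff_cj.1 (Subgroup.le_normalizer hk)
  have := congrArg (cj k) h
  rw [transferPart_map h𝓦 h2, cj_inf, cj_commutator, hH, he] at this
  exact this

theorem single_transfer_iff {W : Subgroup G → Subgroup G} {H : Subgroup G} :
    Cfsg.ControlsTransferIn p W H ↔ Cfsg.FamilyControlsTransferIn p {W} H := by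
  simp [Cfsg.ControlsTransferIn, Cfsg.FamilyControlsTransferIn]

/-- control of transfer in normalizers of good subgroups gives control in `G` -/
theorem transfer_local_global (S : Sylow p G) {𝓦 : Set (Subgroup G → Subgroup G)}
    (h𝓦 : ∀ W ∈ 𝓦, Cfsg.IsConjugacyFunctor p W) (Good : Subgroup G → Prop)
    (hext : ∀ U, Good U → Extr p (S : Subgroup G) U)
    (hgood : ∀ U ≤ (S : Subgroup G), ∃ h, cj h (nS (S : Subgroup G) U) ≤ S ∧ Good (cj h U))
    (hloc : ∀ U, Good U → U ≠ ⊥ →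
      Cfsg.FamilyControlsTransferIn p 𝓦 (Subgroup.normalizer (U : Set G))) :
    Cfsg.FamilyControlsTransferIn p 𝓦 ⊤ := by
  rw [family_transfer_iff]
  refine ⟨S, le_top, S.2, sylow_relIndex_top S, le_antisymm ?_ transferPart_le⟩
  set D := transferPart 𝓦 ⊤ (S : Subgroup G) with hD
  let Conn : Set G → G → Prop := fun A g =>
    A ⊆ ((S : Subgroup G) : Set G) ∧ cs g A ⊆ ((S : Subgroup G) : Set G) ∧ ∀ a ∈ A, a⁻¹ * (g * a * g⁻¹) ∈ D
  have hconn1 : ∀ (A : Set G) (g : G), A ⊆ ((⊥ : Subgroup G) : Set G) → Conn A g := by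
    intro A g hA
    have ha : ∀ a ∈ A, a = 1 := fun a ha => Subgroup.mem_bot.1 (hA ha)
    refine ⟨fun a h => by rw [ha a h]; exact one_mem _, ?_, fun a h => by rw [ha a h]; simp⟩
    rintro _ ⟨a, h, rfl⟩
    show _ ∈ (S : Subgroup G)
    rw [ha a h]; simp
  -- contributions with Sylow subgroup `S` itself
  have hDS : ∀ H : Subgroup G, transferPart 𝓦 H (S : Subgroup G) ≤ D := fun H =>
    iSup₂_mono fun W _ => inf_le_inf_left _ (Subgroup.commutator_mono (inf_le_inf_right _ le_top) (inf_le_inf_right _ le_top))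
  have hlocS : ∀ x ∈ Subgroup.normalizer ((S : Subgroup G) : Set G), Conn ((S : Subgroup G) : Set G) x := by
    intro x hx
    by_cases hS1 : (S : Subgroup G) = ⊥
    · exact hconn1 _ x (by rw [hS1])
    · obtain ⟨h, hh, hg⟩ := hgood (S : Subgroup G) le_rfl
      rw [nS_self] at hh
      have hhS : cj h (S : Subgroup G) = S := Subgroup.eq_of_le_of_card_ge hh (card_cj h _).ge
      rw [hhS] at hg
      refine ⟨subset_rfl, by rw [cs_subgroup, mem_normalizer_iff_cj.1 hx], fun a ha => hDS (Subgroup.normalizer ((S : Subgroup G) : Set G)) ?_⟩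
      rw [← transfer_of_family h𝓦 (hloc _ hg hS1) Subgroup.le_normalizer S.2
        (by have := (extr_self S).2; rwa [nS_self] at this)]
      exact Subgroup.mem_inf.2 ⟨(S : Subgroup G).mul_mem ((S : Subgroup G).inv_mem ha) ((Subgroup.mem_normalizer_iff.1 hx a).1 ha),
        mem_commutator_of_conj hx (Subgroup.le_normalizer ha)⟩
  have hmono : ∀ {A B : Set G} {g : G}, A ⊆ B → Conn B g → Conn A g := fun hAB h =>
    ⟨hAB.trans h.1, (cs_subset hAB).trans h.2.1, fun a ha => h.2.2 a (hAB ha)⟩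
  have hcomp : ∀ {A : Set G} {x y : G}, Conn A x → Conn (cs x A) y → Conn A (y * x) := by
    intro A x y h1 h2
    refine ⟨h1.1, by rw [← cs_cs]; exact h2.2.1, fun a ha => ?_⟩
    have := mul_mem (h1.2.2 a ha) (h2.2.2 _ ⟨a, ha, rfl⟩)
    convert this using 1
    group
  have main := engine S Conn (fun U => U ≠ ⊥) (fun U => Good U ∧ U ≠ ⊥) hmono hcomp hlocS ?_ ?_ ?_
  · refine inf_commutator_le le_top S.2 (sylow_relIndex_top S) fun x _ b hb hxb => ?_
    exact (main {b} x (Set.singleton_subset_iff.2 hb) (by rintro _ ⟨a, rfl, rfl⟩; exact hxb)).2.2 b rfl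
  · intro R g hR hgR hE
    have hch := chain_of_extr S {E | E ≤ (S : Subgroup G)} (fun T hT => by
      obtain ⟨k, _, hk⟩ := exists_extr_cj S hT
      exact ⟨_, hk.1, k, rfl, hk⟩) R g hR hgR
    suffices key : ∀ (A : Set G) (g : G), Chain {E | E ≤ (S : Subgroup G)} A g →
        ∀ R' : Subgroup G, (R' : Set G) = A → Nat.card R' = Nat.card R → Conn A g from
      key _ g hch R rfl rfl
    intro A g h
    induction h with
    | @step A x T hT hA hx =>
      intro R' hR' hc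
      by_cases hTb : T = ⊥
      · subst hTb; exact hconn1 A x hA
      · refine hmono hA (hE T hT hTb ?_ x hx)
        rw [← hc]
        exact Subgroup.card_le_of_le (fun r hr => hA (hR' ▸ hr))
    | @comp A x y _ _ ih1 ih2 =>
      intro R' hR' hc
      exact hcomp (ih1 R' hR' hc) (ih2 (cj x R') (by rw [← hR']; rfl) (by rw [card_cj]; exact hc))
  · intro U hU hne
    obtain ⟨h, hh, hg⟩ := hgood U hU
    refine ⟨h, hh, hg, fun hb => hne ?_⟩
    rw [← cj_inv_cj h U, hb, cj, Subgroup.map_bot]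
  · rintro U hUS ⟨hg, hne⟩ IH IH2 x hx
    refine ⟨fun b hb => hb.1.1, by rintro _ ⟨b, hb, rfl⟩; exact hb.2.1, ?_⟩
    rintro b ⟨hb, hxb⟩
    obtain ⟨T, hT⟩ : ∃ T, T = nS (S : Subgroup G) U := ⟨_, rfl⟩
    rw [← hT] at IH IH2 hb hxb
    have hTS' : T ≤ (S : Subgroup G) := hT ▸ inf_le_left
    have hTp : IsPGroup p T := S.2.to_le hTS'
    have hTN : T ≤ Subgroup.normalizer (U : Set G) := hT ▸ inf_le_right
    have hTne : T ≠ ⊥ := fun h => hne (le_bot_iff.1 (h ▸ hT ▸ le_nS hUS))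
    suffices transferPart 𝓦 (Subgroup.normalizer (U : Set G)) T ≤ D by
      apply this
      rw [← transfer_of_family h𝓦 (hloc U hg hne) hTN hTp (hT ▸ (hext U hg).2)]
      exact Subgroup.mem_inf.2 ⟨T.mul_mem (T.inv_mem hb) hxb, mem_commutator_of_conj hx (hTN hb)⟩
    by_cases hTS : T = (S : Subgroup G)
    · rw [hTS]; exact hDS _
    refine iSup₂_le fun W hW => ?_
    refine le_trans (inf_le_inf_left T (Subgroup.commutator_mono inf_le_right inf_le_right)) ?_
    obtain ⟨hle, hne', -⟩ := h𝓦 W hW T hTp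
    have h1 : T < nS (S : Subgroup G) T := lt_nS S.2 (lt_of_le_of_ne hTS' hTS)
    have h2 : nS (S : Subgroup G) T ≤ nS (S : Subgroup G) (W T) :=
      inf_le_inf_left _ (normalizer_le_normalizer_functor (h𝓦 W hW) hTp)
    have h3 : Nat.card T < Nat.card (nS (S : Subgroup G) (W T)) :=
      lt_of_lt_of_le (card_lt_of_lt h1) (Subgroup.card_le_of_le h2)
    obtain ⟨k, hk, hgk⟩ := hgood (W T) (hle.trans hTS')
    have hc := IH2 (nS (S : Subgroup G) (W T)) k inf_le_left hk h3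
    have hkU := cj_nS_le hk
    have hT''le : Nat.card (nS (S : Subgroup G) (W T)) ≤ Nat.card (nS (S : Subgroup G) (cj k (W T))) := by
      have := Subgroup.card_le_of_le hkU
      rwa [card_cj] at this
    have hkne : cj k (W T) ≠ ⊥ := fun hb => hne' hTne (by rw [← cj_inv_cj k (W T), hb, cj, Subgroup.map_bot])
    have hfoc : nS (S : Subgroup G) (cj k (W T)) ⊓
        ⁅Subgroup.normalizer (cj k (W T) : Set G), Subgroup.normalizer (cj k (W T) : Set G)⁆ ≤ D :=
      inf_commutator_le inf_le_right (S.2.to_le inf_le_left) (hext _ hgk).2 fun y hy b hb hyb =>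
        (IH (cj k (W T)) (hext _ hgk).1 (Or.inr ⟨hgk, hkne⟩) (lt_of_lt_of_le h3 hT''le) y hy).2.2 b ⟨hb, hyb⟩
    rintro z ⟨hzT, hz⟩
    have hzn : z ∈ nS (S : Subgroup G) (W T) := (h1.le.trans h2) hzT
    have hz' : k * z * k⁻¹ ∈ D := by
      refine hfoc ⟨hkU (conj_mem_cj hzn), ?_⟩
      have := conj_mem_cj (g := k) hz
      rwa [cj_commutator, cj_normalizer] at this
    have := mul_mem hz' (inv_mem (hc.2.2 z hzn))
    convert this using 1
    group

end Cfsg.Agent.Lib.FusionControl
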