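import Cfsg.Agent.Lib.FusionControl.Control
import Cfsg.Agent.Lib.FusionControl.TransferControl
import Cfsg.Agent.Lib.FusionControl.Centric
import Cfsg.Prelude.Def_LocalEven

/-! Isomorphism-invariant functors in subgroups, quotients and sections. -/

set_option autoImplicit false

universe u

open scoped commutatorElement

namespace Cfsg.Agent.Lib.FusionControl

section Involves

variable {G X : Type u} [Group G] [Group X]

lemma involves_of_hom {K : Subgroup G} (f : K →* X) (hf : Function.Surjective f) : Cfsg.Involves X G := by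
  refine ⟨K, f.ker.map K.subtype, ?_⟩
  have e : (f.ker.map K.subtype).subgroupOf K = f.ker :=
    Subgroup.comap_map_eq_self_of_injective K.subtype_injective _
  have hn : ((f.ker.map K.subtype).subgroupOf K).Normal := by rw [e]; infer_instance
  exact ⟨hn, ⟨(QuotientGroup.quotientMulEquivOfEq e).trans (QuotientGroup.quotientKerEquivOfSurjective f hf)⟩⟩

lemma exists_hom_of_involves (h : Cfsg.Involves X G) : ∃ (K : Subgroup G) (f : K →* X), Function.Surjective f := by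
  obtain ⟨K, R, hn, ⟨e⟩⟩ := h
  exact ⟨K, e.toMonoidHom.comp (QuotientGroup.mk' (R.subgroupOf K)),
    e.surjective.comp (QuotientGroup.mk'_surjective _)⟩

lemma involves_self : Cfsg.Involves G G :=
  involves_of_hom (K := (⊤ : Subgroup G)) (Subgroup.topEquiv (G := G)).toMonoidHom
    (Subgroup.topEquiv (G := G)).surjective

lemma involves_section {K R : Subgroup G} [hR : (R.subgroupOf K).Normal] :
    Cfsg.Involves (↥K ⧸ R.subgroupOf K) G :=
  ⟨K, R, hR, ⟨MulEquiv.refl _⟩⟩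

lemma involves_surjective (h : Cfsg.Involves X G) {Y : Type u} [Group Y] (g : X →* Y)
    (hg : Function.Surjective g) : Cfsg.Involves Y G := by
  obtain ⟨K, f, hf⟩ := exists_hom_of_involves h
  exact involves_of_hom (g.comp f) (hg.comp hf)

lemma involves_subgroup (h : Cfsg.Involves X G) (H : Subgroup X) : Cfsg.Involves H G := by
  obtain ⟨K, f, hf⟩ := exists_hom_of_involves h
  let e := (H.comap f).equivMapOfInjective K.subtype K.subtype_injective
  refine involves_of_hom ((f.subgroupComap H).comp e.symm.toMonoidHom) ?_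
  have h1 : Function.Surjective (f.subgroupComap H) := by
    rintro ⟨y, hy⟩
    obtain ⟨x, rfl⟩ := hf y
    exact ⟨⟨x, hy⟩, rfl⟩
  exact h1.comp e.symm.surjective

end Involves

section Functor

variable {p : ℕ} {W : ∀ (Q : Type u) [Group Q], Subgroup Q}

/-- the induced functor commutes with homomorphisms injective on the subgroup -/
lemma inducedFunctor_map (hW : Cfsg.IsCharPFunctor.{u} p W) {X Y : Type u} [Group X] [Group Y] [Finite X]
    (f : X →* Y) {T : Subgroup X} (hT : IsPGroup p T) (hinj : ∀ t ∈ T, f t = 1 → t = 1) :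
    (Cfsg.inducedFunctor W T).map f = Cfsg.inducedFunctor W (T.map f) := by
  have hbij : Function.Bijective (f.subgroupMap T) := by
    refine ⟨?_, f.subgroupMap_surjective T⟩
    rw [injective_iff_map_eq_one]
    intro t ht
    exact Subtype.ext (hinj t t.2 (congrArg Subtype.val ht))
  have := hW.2 T (T.map f) hT (MulEquiv.ofBijective _ hbij)
  rw [Cfsg.inducedFunctor, Cfsg.inducedFunctor, ← this, Subgroup.map_map, Subgroup.map_map]
  rfl

theorem isConjugacyFunctor_inducedFunctor (hW : Cfsg.IsCharPFunctor.{u} p W) {X : Type u} [Group X] [Finite X] :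
    Cfsg.IsConjugacyFunctor p (Cfsg.inducedFunctor (G := X) W) := by
  intro P hP
  refine ⟨Subgroup.map_subtype_le _, fun hne h => ?_, fun g => ?_⟩
  · have := hW.1 P hP ((Subgroup.nontrivial_iff_ne_bot _).2 hne)
    rw [Cfsg.inducedFunctor, Subgroup.map_eq_bot_iff_of_injective _ P.subtype_injective] at h
    exact this h
  · exact (inducedFunctor_map hW (MulAut.conj g).toMonoidHom hP
      (fun t _ ht => (MulEquiv.map_eq_one_iff (MulAut.conj g)).1 ht)).symm

end Functor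

variable {p : ℕ}

/-- the induced functors of a set of functors -/
abbrev indSet (X : Type u) [Group X] (𝓦 : Set (∀ (Q : Type u) [Group Q], Subgroup Q)) :
    Set (Subgroup X → Subgroup X) :=
  (fun W => Cfsg.inducedFunctor (G := X) W) '' 𝓦

variable {𝓦 : Set (∀ (Q : Type u) [Group Q], Subgroup Q)}

lemma indSet_conjugacy (h𝓦 : ∀ W ∈ 𝓦, Cfsg.IsCharPFunctor.{u} p W) (X : Type u) [Group X] [Finite X] :
    ∀ F ∈ indSet X 𝓦, Cfsg.IsConjugacyFunctor p F := by
  rintro _ ⟨W, hW, rfl⟩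
  exact isConjugacyFunctor_inducedFunctor (h𝓦 W hW)

lemma Reach.hom_map {X Y : Type*} [Group X] [Group Y] (f : X →* Y) {T : Subgroup X} {M : Set X} {A : Set X} {g : X}
    (h : Reach T M A g) : Reach (T.map f) (f '' M) (f '' A) (f g) := by
  induction h with
  | @step A g x hx hA hxA he =>
    refine .step (x := f x) ⟨x, hx, rfl⟩ (Set.image_mono hA) ?_ ?_
    · rintro _ ⟨_, ⟨a, ha, rfl⟩, rfl⟩
      exact ⟨x * a * x⁻¹, hxA ⟨a, ha, rfl⟩, by simp⟩
    · rintro _ ⟨a, ha, rfl⟩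
      have := congrArg f (he a ha)
      simpa using this
  | @comp A x y _ _ ih1 ih2 =>
    rw [map_mul]
    refine .comp ih1 ?_
    have e : cs (f x) (f '' A) = f '' cs x A := by
      simp only [cs, Set.image_image, map_mul, map_inv]
    rw [e]; exact ih2

variable {X : Type u} [Group X]

lemma mem_normalizer_functor_map (h𝓦 : ∀ W ∈ 𝓦, Cfsg.IsCharPFunctor.{u} p W) {Y : Type u} [Group Y] [Finite X]
    (f : X →* Y) (hf : Function.Injective f) {T : Subgroup X} (hT : IsPGroup p T) {W : ∀ (Q : Type u) [Group Q], Subgroup Q}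
    (hW : W ∈ 𝓦) {x : X} (hx : x ∈ Subgroup.normalizer ((Cfsg.inducedFunctor W T : Subgroup X) : Set X)) :
    f x ∈ Subgroup.normalizer ((Cfsg.inducedFunctor W (T.map f) : Subgroup Y) : Set Y) := by
  rw [← inducedFunctor_map (h𝓦 W hW) f hT (fun t _ ht => hf (ht.trans (map_one f).symm))]
  exact Subgroup.le_normalizer_map f ⟨x, hx, rfl⟩

lemma stepSet_hom_le (h𝓦 : ∀ W ∈ 𝓦, Cfsg.IsCharPFunctor.{u} p W) [Finite X] {H : Subgroup X}
    {T : Subgroup H} (hT : IsPGroup p T) :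
    H.subtype '' stepSet (indSet H 𝓦) ⊤ T ⊆ stepSet (indSet X 𝓦) H (T.map H.subtype) := by
  rintro _ ⟨x, hx, rfl⟩
  rcases hx with rfl | ⟨_, ⟨W, hW, rfl⟩, hx⟩
  · exact Or.inl rfl
  · exact Or.inr ⟨_, ⟨W, hW, rfl⟩, x.2, mem_normalizer_functor_map h𝓦 _ H.subtype_injective hT hW hx.2⟩

/-- control in a subgroup viewed as a group gives control in the subgroup -/
theorem family_of_subgroup (h𝓦 : ∀ W ∈ 𝓦, Cfsg.IsCharPFunctor.{u} p W) [Finite X] {H : Subgroup X}
    (h : Cfsg.FamilyControlsStrongFusionIn p (indSet H 𝓦) ⊤) :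
    Cfsg.FamilyControlsStrongFusionIn p (indSet X 𝓦) H := by
  rw [family_iff] at h ⊢
  obtain ⟨T, -, hT, hTi, hl⟩ := h
  refine ⟨T.map H.subtype, Subgroup.map_subtype_le _, hT.map _, ?_, ?_⟩
  · have e := Subgroup.relIndex_map_map_of_injective T ⊤ H.subtype_injective
    rw [← MonoidHom.range_eq_map, Subgroup.range_subtype] at e
    rwa [e]
  · intro A g hg hA hgA
    have hsub : H.subtype '' (H.subtype ⁻¹' A) = A := by
      rw [Set.image_preimage_eq_of_subset]
      intro a ha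
      obtain ⟨t, -, rfl⟩ := hA ha
      exact ⟨t, rfl⟩
    have h1 : Reach T (stepSet (indSet H 𝓦) ⊤ T) (H.subtype ⁻¹' A) ⟨g, hg⟩ := by
      refine hl _ _ (Subgroup.mem_top _) ?_ ?_
      · intro a ha
        obtain ⟨t, ht, e⟩ := hA ha
        rwa [← Subtype.ext (a1 := t) (a2 := a) e]
      · rintro _ ⟨a, ha, rfl⟩
        obtain ⟨t, ht, e⟩ := hgA ⟨_, ha, rfl⟩
        rw [show t = ⟨g, hg⟩ * a * (⟨g, hg⟩ : H)⁻¹ from Subtype.ext e] at ht
        exact ht
    have h2 := h1.hom_map H.subtype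
    rw [hsub] at h2
    exact h2.mono_steps (stepSet_hom_le h𝓦 hT)

/-- the same for transfer -/
theorem family_transfer_of_subgroup [Fact p.Prime] (h𝓦 : ∀ W ∈ 𝓦, Cfsg.IsCharPFunctor.{u} p W) [Finite X] {H : Subgroup X}
    (h : Cfsg.FamilyControlsTransferIn p (indSet H 𝓦) ⊤) :
    Cfsg.FamilyControlsTransferIn p (indSet X 𝓦) H := by
  rw [family_transfer_iff] at h ⊢
  obtain ⟨T, -, hT, hTi, hl⟩ := h
  refine ⟨T.map H.subtype, Subgroup.map_subtype_le _, hT.map _, ?_, le_antisymm ?_ transferPart_le⟩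
  · have e := Subgroup.relIndex_map_map_of_injective T ⊤ H.subtype_injective
    rw [← MonoidHom.range_eq_map, Subgroup.range_subtype] at e
    rwa [e]
  · rw [← Subgroup.map_subtype_commutator, ← Subgroup.map_inf _ _ _ H.subtype_injective,
      commutator_def, hl, transferPart, Subgroup.map_iSup]
    refine iSup_le fun F => ?_
    rw [Subgroup.map_iSup]
    refine iSup_le fun hF => ?_
    obtain ⟨W, hW, rfl⟩ := hF
    refine le_trans ?_ (le_iSup₂ (f := fun (F : Subgroup X → Subgroup X) (_ : F ∈ indSet X 𝓦) => T.map H.subtype ⊓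
      ⁅H ⊓ Subgroup.normalizer ((F (T.map H.subtype) : Subgroup X) : Set X),
        H ⊓ Subgroup.normalizer ((F (T.map H.subtype) : Subgroup X) : Set X)⁆) _ ⟨W, hW, rfl⟩)
    rw [Subgroup.map_inf _ _ _ H.subtype_injective, Subgroup.map_commutator]
    refine inf_le_inf_left _ ?_
    have key : ((⊤ : Subgroup H) ⊓ Subgroup.normalizer ((Cfsg.inducedFunctor W T : Subgroup H) : Set H)).map H.subtype ≤
        H ⊓ Subgroup.normalizer ((Cfsg.inducedFunctor W (T.map H.subtype) : Subgroup X) : Set X) := by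
      rintro _ ⟨x, hx, rfl⟩
      exact ⟨x.2, mem_normalizer_functor_map h𝓦 _ H.subtype_injective hT hW hx.2⟩
    exact Subgroup.commutator_mono key key

/-- `X` has a self-centralizing `p`-core -/
def CharPType (p : ℕ) (X : Type*) [Group X] : Prop :=
  Subgroup.centralizer ((Cfsg.pCore p X : Subgroup X) : Set X) ≤ Cfsg.pCore p X

lemma charPType_equiv {Y : Type u} [Group Y] (e : X ≃* Y) (h : CharPType p X) : CharPType p Y := by
  intro y hy
  rw [← Cfsg.Agent.Lib.Cores.map_pCore_equiv e] at hy ⊢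
  refine ⟨e.symm y, h ?_, e.apply_symm_apply y⟩
  rw [Subgroup.mem_centralizer_iff] at hy ⊢
  intro q hq
  have h2 := hy (e q) ⟨q, hq, rfl⟩
  apply e.injective
  simpa using h2

lemma le_normalizer_inducedFunctor {W : ∀ (Q : Type u) [Group Q], Subgroup Q} [Finite X]
    (hW : Cfsg.IsCharPFunctor.{u} p W) {T : Subgroup X} (hT : IsPGroup p T) :
    T ≤ Subgroup.normalizer ((Cfsg.inducedFunctor W T : Subgroup X) : Set X) :=
  Subgroup.le_normalizer.trans (normalizer_le_normalizer_functor (isConjugacyFunctor_inducedFunctor hW) hT)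

variable [Finite X] [Fact p.Prime]

lemma pCore_le_S (S : Sylow p X) : Cfsg.pCore p X ≤ (S : Subgroup X) :=
  Cfsg.Agent.Lib.Cores.pCore_le_sylow S

lemma normalizer_ne_top_of_pCore {U : Subgroup X} (hU : IsPGroup p U) (hne : ¬ U ≤ Cfsg.pCore p X) :
    Subgroup.normalizer (U : Set X) ≠ ⊤ := fun h =>
  hne (Cfsg.Agent.Lib.Cores.le_pCore (Subgroup.normalizer_eq_top_iff.1 h) hU)

omit [Fact p.Prime] in
lemma card_lt_of_ne_top {H : Subgroup X} (h : H ≠ ⊤) : Nat.card H < Nat.card X := by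
  have := card_lt_of_lt (lt_top_iff_ne_top.2 h)
  rwa [Subgroup.card_top] at this

lemma not_dvd_relIndex_of_le (S : Sylow p X) {H : Subgroup X} (h : (S : Subgroup X) ≤ H) :
    ¬ p ∣ (S : Subgroup X).relIndex H :=
  fun hd => S.not_dvd_index (hd.trans (Subgroup.relIndex_dvd_index_of_le h))

lemma eq_one_of_mem_pPrimeCore {S : Subgroup X} (hS : IsPGroup p S) {x : X} (hx : x ∈ S)
    (hx' : x ∈ Cfsg.pPrimeCore p X) : x = 1 :=
  Cfsg.Agent.Lib.Transfer.eq_one_of_isPGroup_of_coprime hS hx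
    (Cfsg.Agent.Lib.Transfer.coprime_orderOf_of_mem (Cfsg.Agent.Lib.Cores.pPrimeCore_coprime p X) hx')

omit [Finite X] [Fact p.Prime] in
lemma commutator_self_le (H : Subgroup X) : ⁅H, H⁆ ≤ H := by
  rw [Subgroup.commutator_le]
  intro a ha b hb
  rw [commutatorElement_def]
  exact mul_mem (mul_mem (mul_mem ha hb) (inv_mem ha)) (inv_mem hb)

/-- lifting of a step modulo `O_{p'}` -/
lemma exists_lift_step {W : ∀ (Q : Type u) [Group Q], Subgroup Q} (hW : Cfsg.IsCharPFunctor.{u} p W)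
    (S : Sylow p X) {x : X ⧸ Cfsg.pPrimeCore p X}
    (hx : x ∈ Subgroup.normalizer ((Cfsg.inducedFunctor W
      ((S : Subgroup X).map (QuotientGroup.mk' (Cfsg.pPrimeCore p X))) : Subgroup (X ⧸ Cfsg.pPrimeCore p X)) : Set (X ⧸ Cfsg.pPrimeCore p X))) :
    ∃ n ∈ Subgroup.normalizer ((Cfsg.inducedFunctor W (S : Subgroup X) : Subgroup X) : Set X),
      QuotientGroup.mk' (Cfsg.pPrimeCore p X) n = x := by
  obtain ⟨n, rfl⟩ := QuotientGroup.mk'_surjective (Cfsg.pPrimeCore p X) x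
  set O := Cfsg.pPrimeCore p X with hO
  set f := QuotientGroup.mk' O with hf
  obtain ⟨Z, hZ⟩ : ∃ Z, Z = Cfsg.inducedFunctor W (S : Subgroup X) := ⟨_, rfl⟩
  rw [← hZ]
  have hZS : Z ≤ (S : Subgroup X) := hZ ▸ Subgroup.map_subtype_le _
  rw [← inducedFunctor_map hW f S.2
    (fun t ht h => eq_one_of_mem_pPrimeCore S.2 ht ((QuotientGroup.eq_one_iff t).1 h)), ← hZ] at hx
  set K := (Z.map f).comap f with hK
  have hKe : K = Z ⊔ O := by rw [hK, Subgroup.comap_map_eq, QuotientGroup.ker_mk']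
  have hn : n ∈ Subgroup.normalizer (K : Set X) := by
    rw [Subgroup.mem_normalizer_iff]
    intro y
    have := Subgroup.mem_normalizer_iff.1 hx (f y)
    show f y ∈ Z.map f ↔ f (n * y * n⁻¹) ∈ Z.map f
    rw [map_mul, map_mul, map_inv]
    exact this
  have hZN : Z ≤ Subgroup.normalizer (O : Set X) := by
    rw [Subgroup.normalizer_eq_top]; exact le_top
  have hZi : ¬ p ∣ Z.relIndex K := by
    have hp : p.Prime := Fact.out
    have hdis : O ⊓ Z = ⊥ := by
      rw [eq_bot_iff]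
      intro z hz
      exact Subgroup.mem_bot.2 (eq_one_of_mem_pPrimeCore S.2 (hZS hz.2) hz.1)
    have hc := Cfsg.Agent.Lib.Coprime.card_sup_mul_card_inf hZN
    have h2 := Cfsg.Agent.Lib.Coprime.relIndex_mul_card (show Z ≤ K by rw [hKe]; exact le_sup_left)
    rw [hdis, Subgroup.card_bot, mul_one, sup_comm, ← hKe] at hc
    rw [hc, mul_comm] at h2
    intro hd
    have : Z.relIndex K = Nat.card O :=
      Nat.eq_of_mul_eq_mul_left (Nat.card_pos (α := Z)) ((mul_comm _ _).trans (h2.trans (mul_comm _ _)))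
    rw [this] at hd
    exact hp.coprime_iff_not_dvd.1 (Cfsg.Agent.Lib.Cores.pPrimeCore_coprime p X).symm hd
  obtain ⟨k, hk, hkn⟩ := exists_frattini (R := Z) (by rw [hKe]; exact le_sup_left) (S.2.to_le hZS) hZi hn
  rw [hKe, sup_comm] at hk
  obtain ⟨o, ho, w, hw, rfl⟩ := Cfsg.Agent.Lib.Coprime.exists_mul_of_mem_sup hZN hk
  refine ⟨w⁻¹ * o * w * n, ?_, ?_⟩
  · rw [show w⁻¹ * o * w * n = w⁻¹ * (o * w * n) by group]
    exact mul_mem (Subgroup.le_normalizer (inv_mem hw)) hkn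
  · have : f o = 1 := (QuotientGroup.eq_one_iff o).2 ho
    simp [this]

/-- fusion control passes from `X / O_{p'}(X)` to `X` -/
theorem localCtrl_lift (h𝓦 : ∀ W ∈ 𝓦, Cfsg.IsCharPFunctor.{u} p W) (S : Sylow p X)
    (h : LocalCtrl ⊤ ((S : Subgroup X).map (QuotientGroup.mk' (Cfsg.pPrimeCore p X)))
      (stepSet (indSet (X ⧸ Cfsg.pPrimeCore p X) 𝓦) ⊤ ((S : Subgroup X).map (QuotientGroup.mk' (Cfsg.pPrimeCore p X))))) :
    LocalCtrl ⊤ (S : Subgroup X) (stepSet (indSet X 𝓦) ⊤ (S : Subgroup X)) := by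
  set O := Cfsg.pPrimeCore p X with hO
  set f := QuotientGroup.mk' O with hf
  set M := stepSet (indSet X 𝓦) ⊤ (S : Subgroup X) with hM
  have hM1 : (1 : X) ∈ M := Or.inl rfl
  have hinj : ∀ a ∈ (S : Subgroup X), ∀ b ∈ (S : Subgroup X), f a = f b → a = b := by
    intro a ha b hb he
    have : a⁻¹ * b ∈ O := (QuotientGroup.eq).1 he
    exact inv_mul_eq_one.1 (eq_one_of_mem_pPrimeCore S.2 (mul_mem (inv_mem ha) hb) this)
  intro A g _ hA hgA
  have hA' : f '' A ⊆ (((S : Subgroup X).map f : Subgroup _) : Set (X ⧸ O)) := Set.image_mono hA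
  have hgA' : cs (f g) (f '' A) ⊆ (((S : Subgroup X).map f : Subgroup _) : Set (X ⧸ O)) := by
    rintro _ ⟨_, ⟨a, ha, rfl⟩, rfl⟩
    exact ⟨g * a * g⁻¹, hgA ⟨a, ha, rfl⟩, by simp⟩
  have h0 := h (f '' A) (f g) (Subgroup.mem_top _) hA' hgA'
  suffices key : ∃ y, Reach (S : Subgroup X) M A y ∧ ∀ a ∈ A, f (y * a * y⁻¹) = f g * f a * (f g)⁻¹ by
    obtain ⟨y, hy, hye⟩ := key
    refine hy.congr hM1 fun a ha => hinj _ (hgA ⟨a, ha, rfl⟩) _ (hy.subset.2 ⟨a, ha, rfl⟩) ?_
    rw [hye a ha]; simp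
  clear hA' hgA' hgA
  revert h0
  generalize f g = g'
  intro h0
  generalize hB : f '' A = B at h0
  induction h0 generalizing A with
  | @step B g' x hx hB' hxB he =>
    subst hB
    rcases hx with rfl | ⟨_, ⟨W, hW, rfl⟩, hx⟩
    · exact ⟨1, .step hM1 hA (by rw [cs_one]; exact hA) (fun a _ => rfl), fun a ha => by
        rw [he _ ⟨a, ha, rfl⟩]; simp⟩
    · obtain ⟨n, hn, rfl⟩ := exists_lift_step (h𝓦 W hW) S hx.2
      set Nz := Subgroup.normalizer ((Cfsg.inducedFunctor W (S : Subgroup X) : Subgroup X) : Set X) with hNz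
      have hSN : (S : Subgroup X) ≤ Nz := le_normalizer_inducedFunctor (h𝓦 W hW) S.2
      set L := ((O ⊔ (S : Subgroup X)) ⊓ Nz) with hL
      have hSL : (S : Subgroup X) ≤ L := le_inf le_sup_right hSN
      have hR : cj n (Subgroup.closure A) ≤ L := by
        rw [cj, MonoidHom.map_closure, Subgroup.closure_le]
        rintro _ ⟨a, ha, rfl⟩
        refine Subgroup.mem_inf.2 ⟨?_, mul_mem (mul_mem hn (hSN (hA ha))) (inv_mem hn)⟩
        obtain ⟨s, hs, hse⟩ := hxB ⟨f a, ⟨a, ha, rfl⟩, rfl⟩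
        have h1 : f (n * a * n⁻¹) = f s := by rw [hse, map_mul, map_mul, map_inv]
        have h2 : (n * a * n⁻¹) ∈ ((S : Subgroup X).map f).comap f := ⟨s, hs, h1.symm⟩
        rw [Subgroup.comap_map_eq, QuotientGroup.ker_mk', sup_comm] at h2
        exact h2
      obtain ⟨l, hl, hlS⟩ := exists_cj_le_of_not_dvd hSL S.2 (not_dvd_relIndex_of_le S hSL) hR
        (isPGroup_cj (S.2.to_le ((Subgroup.closure_le _).2 hA)))
      have hSO : (S : Subgroup X) ≤ Subgroup.normalizer (O : Set X) := by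
        rw [Subgroup.normalizer_eq_top]; exact le_top
      obtain ⟨o, ho, s, hs, hos⟩ := Cfsg.Agent.Lib.Coprime.exists_mul_of_mem_sup hSO (Subgroup.mem_inf.1 hl).1
      set o' := s⁻¹ * l with ho'
      have ho'O : o' ∈ O := by
        rw [ho', hos, ← mul_assoc]
        have hOn : O.Normal := by rw [hO]; infer_instance
        exact hOn.conj_mem' o ho s
      have hy : o' * n ∈ Nz := mul_mem (mul_mem (inv_mem (hSN hs)) (Subgroup.mem_inf.1 hl).2) hn
      have hyA : cs (o' * n) A ⊆ ((S : Subgroup X) : Set X) := by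
        rintro _ ⟨a, ha, rfl⟩
        have h1 : l * (n * a * n⁻¹) * l⁻¹ ∈ (S : Subgroup X) :=
          hlS (conj_mem_cj (conj_mem_cj (Subgroup.subset_closure ha)))
        have : o' * n * a * (o' * n)⁻¹ = s⁻¹ * (l * (n * a * n⁻¹) * l⁻¹) * s := by rw [ho']; group
        show o' * n * a * (o' * n)⁻¹ ∈ (S : Subgroup X)
        rw [this]
        exact mul_mem (mul_mem (inv_mem hs) h1) hs
      refine ⟨o' * n, .step (Or.inr ⟨_, ⟨W, hW, rfl⟩, Subgroup.mem_top _, hy⟩) hA hyA (fun a _ => rfl), fun a ha => ?_⟩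
      have : f o' = 1 := (QuotientGroup.eq_one_iff o').2 ho'O
      rw [he _ ⟨a, ha, rfl⟩, map_mul, map_mul, map_inv, map_mul, this, one_mul]
  | @comp B x y h1 h2 ih1 ih2 =>
    subst hB
    obtain ⟨u, hu, hue⟩ := ih1 A hA rfl
    obtain ⟨v, hv, hve⟩ := ih2 (cs u A) hu.subset.2 (by
      simp only [cs, Set.image_image]
      exact Set.image_congr hue)
    refine ⟨v * u, .comp hu hv, fun a ha => ?_⟩
    have := hve _ ⟨a, ha, rfl⟩
    rw [hue a ha] at this
    rw [show v * u * a * (v * u)⁻¹ = v * (u * a * u⁻¹) * v⁻¹ by group, this]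
    group

/-- transfer control passes from `X / O_{p'}(X)` to `X` -/
theorem transfer_lift (h𝓦 : ∀ W ∈ 𝓦, Cfsg.IsCharPFunctor.{u} p W) (S : Sylow p X)
    (h : ((S : Subgroup X).map (QuotientGroup.mk' (Cfsg.pPrimeCore p X))) ⊓ ⁅(⊤ : Subgroup (X ⧸ Cfsg.pPrimeCore p X)), ⊤⁆ =
      transferPart (indSet (X ⧸ Cfsg.pPrimeCore p X) 𝓦) ⊤ ((S : Subgroup X).map (QuotientGroup.mk' (Cfsg.pPrimeCore p X)))) :
    (S : Subgroup X) ⊓ ⁅(⊤ : Subgroup X), ⊤⁆ = transferPart (indSet X 𝓦) ⊤ (S : Subgroup X) := by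
  set O := Cfsg.pPrimeCore p X with hO
  set f := QuotientGroup.mk' O with hf
  refine le_antisymm ?_ transferPart_le
  set D := transferPart (indSet X 𝓦) ⊤ (S : Subgroup X) with hD
  have hinj : ∀ a ∈ (S : Subgroup X), ∀ b ∈ (S : Subgroup X), f a = f b → a = b := by
    intro a ha b hb he
    have : a⁻¹ * b ∈ O := (QuotientGroup.eq).1 he
    exact inv_mul_eq_one.1 (eq_one_of_mem_pPrimeCore S.2 (mul_mem (inv_mem ha) hb) this)
  have hle : transferPart (indSet (X ⧸ O) 𝓦) ⊤ ((S : Subgroup X).map f) ≤ D.map f := by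
    refine iSup₂_le fun F hF => ?_
    obtain ⟨W, hW, rfl⟩ := hF
    set Nz := Subgroup.normalizer ((Cfsg.inducedFunctor W (S : Subgroup X) : Subgroup X) : Set X) with hNz
    rintro z ⟨⟨s, hs, rfl⟩, hz⟩
    have hle' : (⊤ : Subgroup (X ⧸ O)) ⊓ Subgroup.normalizer
        ((Cfsg.inducedFunctor W ((S : Subgroup X).map f) : Subgroup (X ⧸ O)) : Set (X ⧸ O)) ≤ (⊤ ⊓ Nz).map f := by
      rintro y ⟨-, hy⟩
      obtain ⟨n, hn, rfl⟩ := exists_lift_step (h𝓦 W hW) S hy
      exact ⟨n, ⟨Subgroup.mem_top n, hn⟩, rfl⟩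
    have hz' := Subgroup.commutator_mono hle' hle' hz
    rw [← Subgroup.map_commutator] at hz'
    obtain ⟨c, hc, hce⟩ := hz'
    set C := ⁅(⊤ : Subgroup X) ⊓ Nz, ⊤ ⊓ Nz⁆ with hC
    refine ⟨s, ?_, rfl⟩
    have hsO : c⁻¹ * s ∈ O := (QuotientGroup.eq).1 hce
    have hsN : s ∈ Nz := le_normalizer_inducedFunctor (h𝓦 W hW) S.2 hs
    have hcN : c ∈ Nz := ((commutator_self_le ((⊤ : Subgroup X) ⊓ Nz)).trans inf_le_right) hc
    suffices hsC : s ∈ C from (le_iSup₂ (f := fun (F : Subgroup X → Subgroup X) (_ : F ∈ indSet X 𝓦) => (S : Subgroup X) ⊓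
      ⁅(⊤ : Subgroup X) ⊓ Subgroup.normalizer ((F (S : Subgroup X) : Subgroup X) : Set X),
        ⊤ ⊓ Subgroup.normalizer ((F (S : Subgroup X) : Subgroup X) : Set X)⁆) _ ⟨W, hW, rfl⟩) ⟨hs, hsC⟩
    -- a `p`-element of `C (O ⊓ Nz)` lies in `C`
    obtain ⟨k, hk⟩ := S.2 ⟨s, hs⟩
    have hk' : s ^ p ^ k = 1 := congrArg Subtype.val hk
    have hpow : ∀ i : ℕ, (s ^ i)⁻¹ * c ^ i ∈ O := fun i => by
      refine (QuotientGroup.eq).1 ?_
      show f (s ^ i) = f (c ^ i)
      rw [map_pow, map_pow, hce]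
    have hcO : c ^ p ^ k ∈ O := by simpa [hk'] using hpow (p ^ k)
    obtain ⟨u, v, huv⟩ : ∃ u v : ℤ, u * (p ^ k : ℕ) + v * (Nat.card O : ℤ) = 1 :=
      (Int.isCoprime_iff_nat_coprime.2 ((Cfsg.Agent.Lib.Cores.pPrimeCore_coprime p X).pow_right k).symm)
    -- work in the quotient of `Nz` by `C`
    have hCn : (C.subgroupOf Nz).Normal := by
      rw [hC, top_inf_eq]
      exact (Subgroup.normal_subgroupOf_iff_le_normalizer (commutator_self_le Nz)).2 (by
        intro y hy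
        rw [mem_normalizer_iff_cj, cj_commutator, mem_normalizer_iff_cj.1 (Subgroup.le_normalizer hy)])
    set q := QuotientGroup.mk' (C.subgroupOf Nz) with hq
    have h1 : q ⟨s, hsN⟩ = q ⟨c⁻¹ * s, mul_mem (inv_mem hcN) hsN⟩ := by
      refine (QuotientGroup.eq).2 ?_
      show s⁻¹ * (c⁻¹ * s) ∈ C
      have := hCn.conj_mem' ⟨c⁻¹, inv_mem hcN⟩ (inv_mem hc : c⁻¹ ∈ C) ⟨s, hsN⟩
      show ((⟨s, hsN⟩⁻¹ * (⟨c, hcN⟩⁻¹ * ⟨s, hsN⟩) : Nz) : X) ∈ C
      rw [← mul_assoc]
      exact this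
    have hA1 : (q ⟨s, hsN⟩) ^ ((p ^ k : ℕ) : ℤ) = 1 := by
      rw [zpow_natCast, ← map_pow]
      have : (⟨s, hsN⟩ : Nz) ^ p ^ k = 1 := Subtype.ext hk'
      rw [this, map_one]
    have hA2 : (q ⟨s, hsN⟩) ^ (Nat.card O : ℤ) = 1 := by
      rw [zpow_natCast, h1, ← map_pow]
      have : (⟨c⁻¹ * s, mul_mem (inv_mem hcN) hsN⟩ : Nz) ^ Nat.card O = 1 :=
        Subtype.ext (congrArg Subtype.val (pow_card_eq_one' (x := (⟨c⁻¹ * s, hsO⟩ : O))) :)
      rw [this, map_one]
    have : q ⟨s, hsN⟩ = 1 := by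
      have h3 : (q ⟨s, hsN⟩) ^ (u * (p ^ k : ℕ) + v * (Nat.card O : ℤ)) = 1 := by
        rw [zpow_add, mul_comm u, mul_comm v, zpow_mul, zpow_mul, hA1, hA2, one_zpow, one_zpow, mul_one]
      rwa [huv, zpow_one] at h3
    exact (QuotientGroup.eq_one_iff (N := C.subgroupOf Nz) (⟨s, hsN⟩ : Nz)).1 this
  rintro s ⟨hs, hs'⟩
  have : f s ∈ D.map f := by
    refine hle ?_
    rw [← h]
    refine Subgroup.mem_inf.2 ⟨⟨s, hs, rfl⟩, ?_⟩
    have := Subgroup.commutator_mono (le_top : (⊤ : Subgroup X).map f ≤ ⊤) (le_top : (⊤ : Subgroup X).map f ≤ ⊤)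
    exact this (by rw [← Subgroup.map_commutator]; exact ⟨s, hs', rfl⟩)
  obtain ⟨d, hd, hde⟩ := this
  rwa [← hinj d ((transferPart_le hd).1) s hs hde]

end Cfsg.Agent.Lib.FusionControl
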