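import Mathlib
import Cfsg.Agent.Lib.Coprime.Action

/-!
Groups whose `π`-elements form a subgroup, and the Frobenius type condition
"`N(R)/C(R)` is a `π'`-group for all `π'`-subgroups `R`".
-/

set_option autoImplicit false

namespace Cfsg.Agent.Lib.FusionControl.PiClosed

universe u

variable {G : Type u} [Group G] {π : Set ℕ}

/-- all prime divisors of the order lie in `π` -/
def PiElt (π : Set ℕ) (x : G) : Prop := ∀ p : ℕ, p.Prime → p ∣ orderOf x → p ∈ π

/-- the `π`-elements form a subgroup -/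
def Closed (π : Set ℕ) (G : Type u) [Group G] : Prop :=
  ∃ K : Subgroup G, ∀ x : G, x ∈ K ↔ PiElt π x

/-- elements of primary `π`-order normalising a `π'`-subgroup centralise it -/
def Hom (π : Set ℕ) (G : Type u) [Group G] : Prop :=
  ∀ R : Subgroup G, (∀ p : ℕ, p.Prime → p ∣ Nat.card R → p ∉ π) →
    ∀ q : ℕ, q.Prime → q ∈ π → ∀ g ∈ Subgroup.normalizer (R : Set G),
      (∃ k, orderOf g = q ^ k) → g ∈ Subgroup.centralizer (R : Set G)

theorem piElt_iff_of_injective {H : Type*} [Group H] (f : H →* G) (hf : Function.Injective f)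
    (x : H) : PiElt π (f x) ↔ PiElt π x := by
  simp only [PiElt, orderOf_injective f hf x]

theorem piElt_of_card [Finite G] (h : ∀ p : ℕ, p.Prime → p ∣ Nat.card G → p ∈ π) (x : G) :
    PiElt π x :=
  fun p hp hd => h p hp (hd.trans (orderOf_dvd_natCard x))

theorem mem_of_primary [Finite G] (H : Subgroup G) {x : G} (hx : PiElt π x)
    (h : ∀ q : ℕ, q.Prime → q ∈ π → ∀ y : G, (∃ k, orderOf y = q ^ k) → y ∈ H) : x ∈ H := by
  set D : Subgroup ↥(Subgroup.zpowers x) := H.subgroupOf (Subgroup.zpowers x) with hD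
  have hi : D.index = 1 := by
    by_contra hne
    obtain ⟨r, hr, hrd⟩ := Nat.exists_prime_and_dvd hne
    have : Fact r.Prime := ⟨hr⟩
    obtain ⟨S⟩ : Nonempty (Sylow r ↥(Subgroup.zpowers x)) := inferInstance
    have hr' : r ∈ π := hx r hr (by
      rw [← Nat.card_zpowers]
      exact hrd.trans D.index_dvd_card)
    have hSD : (S : Subgroup ↥(Subgroup.zpowers x)) ≤ D := by
      intro y hy
      rw [hD, Subgroup.mem_subgroupOf]
      obtain ⟨k, hk⟩ := IsPGroup.iff_orderOf.mp S.2 ⟨y, hy⟩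
      exact h r hr hr' _ ⟨k, by rw [← hk]; simp⟩
    exact S.not_dvd_index (hrd.trans (Subgroup.index_dvd_of_le hSD))
  rw [Subgroup.index_eq_one] at hi
  have : (⟨x, Subgroup.mem_zpowers x⟩ : ↥(Subgroup.zpowers x)) ∈ D := by
    rw [hi]; exact Subgroup.mem_top _
  rwa [hD, Subgroup.mem_subgroupOf] at this

theorem exists_primary [Finite G] {q : ℕ} [Fact q.Prime] {C N : Subgroup G}
    (h : q ∣ C.relIndex N) : ∃ g ∈ N, (∃ k, orderOf g = q ^ k) ∧ g ∉ C := by
  by_contra hno
  push_neg at hno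
  obtain ⟨S⟩ : Nonempty (Sylow q ↥N) := inferInstance
  have hSC : (S : Subgroup ↥N) ≤ C.subgroupOf N := by
    intro y hy
    rw [Subgroup.mem_subgroupOf]
    obtain ⟨k, hk⟩ := IsPGroup.iff_orderOf.mp S.2 ⟨y, hy⟩
    exact hno _ y.2 ⟨k, by rw [← hk]; simp⟩
  exact S.not_dvd_index (h.trans (Subgroup.index_dvd_of_le hSC))

theorem hom_of_index [Finite G]
    (h : ∀ H : Subgroup G, H ≠ ⊥ → (∀ p : ℕ, p.Prime → p ∣ Nat.card ↥H → p ∉ π) →
        ∀ p : ℕ, p.Prime → p ∣ (Subgroup.centralizer (H : Set G)).relIndex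
          (Subgroup.normalizer (H : Set G)) → p ∉ π) : Hom π G := by
  intro R hR q hq hqπ g hg hgo
  obtain ⟨k, hk⟩ := hgo
  by_cases hbot : R = ⊥
  · subst hbot
    rw [Subgroup.mem_centralizer_iff]
    intro y hy
    rw [Subgroup.mem_bot.mp hy]
    simp
  set C : Subgroup ↥(Subgroup.normalizer (R : Set G)) :=
    (Subgroup.centralizer (R : Set G)).subgroupOf (Subgroup.normalizer (R : Set G)) with hC
  have : C.Normal := by
    refine ⟨fun c hc n => ?_⟩
    rw [hC, Subgroup.mem_subgroupOf, Subgroup.mem_centralizer_iff] at hc ⊢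
    intro y hy
    have hy' : (n : G)⁻¹ * y * ((n : G)⁻¹)⁻¹ ∈ R :=
      (Subgroup.mem_normalizer_iff.mp (inv_mem n.2) y).mp hy
    have := hc _ hy'
    simp only [inv_inv] at this
    push_cast
    calc y * ((n : G) * c * (n : G)⁻¹)
        = n * ((n : G)⁻¹ * y * n * c) * (n : G)⁻¹ := by group
      _ = n * (c * ((n : G)⁻¹ * y * n)) * (n : G)⁻¹ := by rw [this]
      _ = (n : G) * c * (n : G)⁻¹ * y := by group
  have hcop : (orderOf (⟨g, hg⟩ : ↥(Subgroup.normalizer (R : Set G)))).Coprime C.index := by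
    rw [Subgroup.orderOf_mk, hk]
    exact Nat.Coprime.pow_left _ (hq.coprime_iff_not_dvd.mpr fun hd => h R hbot hR q hq hd hqπ)
  have hmem : (⟨g, hg⟩ : ↥(Subgroup.normalizer (R : Set G))) ∈ C := by
    rw [← QuotientGroup.eq_one_iff, ← orderOf_eq_one_iff]
    exact Nat.eq_one_of_dvd_coprimes hcop
      (orderOf_map_dvd (QuotientGroup.mk' C) _)
      (by rw [Subgroup.index]; exact orderOf_dvd_natCard _)
  rwa [hC, Subgroup.mem_subgroupOf] at hmem

theorem Hom.subgroup (h : Hom π G) (A : Subgroup G) : Hom π ↥A := by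
  intro R hR q hq hqπ g hg ⟨k, hk⟩
  have h1 := h (R.map A.subtype)
    (fun p hp hd => hR p hp (hd.trans (Subgroup.card_map_dvd _ _))) q hq hqπ (g : G)
    (Subgroup.le_normalizer_map A.subtype ⟨g, hg, rfl⟩)
    ⟨k, by rw [Subgroup.orderOf_coe, hk]⟩
  rw [Subgroup.mem_centralizer_iff] at h1 ⊢
  intro y hy
  exact Subtype.ext (h1 _ ⟨y, hy, rfl⟩)

/-- Extension lemma: if the `π`-elements of `K ◁ G` and of `G ⧸ K` form subgroups, so do those
of `G`, provided that `Hom π G`. -/
theorem closed_extension [Finite G] (hhom : Hom π G) (K : Subgroup G) [K.Normal]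
    (hK : Closed π ↥K) (hQ : Closed π (G ⧸ K)) : Closed π G := by
  classical
  obtain ⟨L0, hL0⟩ := hK
  obtain ⟨M, hM⟩ := hQ
  set L : Subgroup G := L0.map K.subtype with hLdef
  have hLmem : ∀ x : G, x ∈ L ↔ x ∈ K ∧ PiElt π x := by
    intro x
    constructor
    · rintro ⟨y, hy, rfl⟩
      exact ⟨y.2, (piElt_iff_of_injective K.subtype K.subtype_injective y).mpr ((hL0 y).mp hy)⟩
    · rintro ⟨hxK, hx⟩
      exact ⟨⟨x, hxK⟩,
        (hL0 _).mpr ((piElt_iff_of_injective K.subtype K.subtype_injective _).mp hx), rfl⟩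
  have hLn : L.Normal := by
    refine ⟨fun x hx g => ?_⟩
    rw [hLmem] at hx ⊢
    refine ⟨Subgroup.Normal.conj_mem inferInstance x hx.1 g, ?_⟩
    exact (piElt_iff_of_injective (MulAut.conj g).toMonoidHom (MulAut.conj g).injective x).mpr hx.2
  have hLpi : ∀ p : ℕ, p.Prime → p ∣ Nat.card L → p ∈ π := by
    intro p hp hd
    have : Fact p.Prime := ⟨hp⟩
    obtain ⟨z, hz⟩ := exists_prime_orderOf_dvd_card' p hd
    exact ((hLmem z).mp z.2).2 p hp (by rw [Subgroup.orderOf_coe, hz])
  set f := QuotientGroup.mk' L with hf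
  have hLK : L ≤ K := fun x hx => ((hLmem x).mp hx).1
  set Kb : Subgroup (G ⧸ L) := K.map f with hKb
  have : Kb.Normal := (inferInstance : K.Normal).map f (QuotientGroup.mk'_surjective L)
  -- `Kb` is a `π'`-group
  have hKbπ : ∀ r : ℕ, r.Prime → r ∣ Nat.card Kb → r ∉ π := by
    intro r hr hd hrπ
    have : Fact r.Prime := ⟨hr⟩
    obtain ⟨S⟩ : Nonempty (Sylow r ↥K) := inferInstance
    have hS : (S : Subgroup ↥K) ≤ L.subgroupOf K := by
      intro y hy
      rw [Subgroup.mem_subgroupOf, hLmem]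
      refine ⟨y.2, fun p hp hpd => ?_⟩
      obtain ⟨k, hk⟩ := IsPGroup.iff_orderOf.mp S.2 ⟨y, hy⟩
      rw [Subgroup.orderOf_coe] at hpd
      rw [← Subgroup.orderOf_coe, Subtype.coe_mk] at hk
      rw [hk] at hpd
      rwa [(Nat.prime_dvd_prime_iff_eq hp hr).mp (hp.dvd_of_dvd_pow hpd)]
    have hcard : Nat.card Kb = L.relIndex K := by
      rw [hKb]
      have h1 : Nat.card ↥(K.map f) = (L.subgroupOf K).index := by
        have e := Subgroup.index_ker (f.comp K.subtype)
        have hk : (f.comp K.subtype).ker = L.subgroupOf K := by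
          rw [← MonoidHom.comap_ker, hf, QuotientGroup.ker_mk']
          rfl
        rw [← hk, e]
        have hr : (f.comp K.subtype).range = K.map f := by
          rw [MonoidHom.range_comp, Subgroup.range_subtype]
        rw [hr]
      exact h1
    rw [hcard] at hd
    exact S.not_dvd_index (hd.trans (Subgroup.index_dvd_of_le hS))
  -- primary `π`-elements centralise `Kb`
  have hcent : ∀ q : ℕ, q.Prime → q ∈ π → ∀ x : G, (∃ k, orderOf x = q ^ k) →
      Kb ≤ Subgroup.centralizer ({f x} : Set (G ⧸ L)) := by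
    intro q hq hqπ x ⟨a, ha⟩
    have hfq : Fact q.Prime := ⟨hq⟩
    have hxo : orderOf (f x) ∣ q ^ a := ha ▸ orderOf_map_dvd f x
    set A : Subgroup (G ⧸ L) := Subgroup.zpowers (f x) with hA
    have hcop : (Nat.card A).Coprime (Nat.card Kb) := by
      refine Nat.Coprime.coprime_dvd_left (k := q ^ a) (by rwa [hA, Nat.card_zpowers]) ?_
      exact Nat.Coprime.pow_left _ (hq.coprime_iff_not_dvd.mpr fun h => hKbπ q hq h hqπ)
    have hAK : A ≤ Subgroup.normalizer (Kb : Set (G ⧸ L)) := by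
      rw [Subgroup.normalizer_eq_top]
      exact le_top
    set C : Subgroup (G ⧸ L) := Kb ⊓ Subgroup.centralizer ({f x} : Set (G ⧸ L)) with hC
    suffices hidx : C.relIndex Kb = 1 from (Subgroup.relIndex_eq_one.mp hidx).trans inf_le_right
    by_contra hne
    obtain ⟨r, hr, hrd⟩ := Nat.exists_prime_and_dvd hne
    have hfr : Fact r.Prime := ⟨hr⟩
    have hrπ : r ∉ π := hKbπ r hr (hrd.trans (Subgroup.relIndex_dvd_card _ _))
    obtain ⟨R, hR⟩ := Cfsg.Agent.Lib.Coprime.exists_invariant_sylow hAK hcop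
      (Or.inl inferInstance) r
    set Rb : Subgroup (G ⧸ L) := (R : Subgroup ↥Kb).map Kb.subtype with hRb
    have hRp : IsPGroup r Rb := R.2.map _
    suffices hRC : (R : Subgroup ↥Kb) ≤ C.subgroupOf Kb from
      R.not_dvd_index (hrd.trans (Subgroup.index_dvd_of_le hRC))
    -- Frattini argument in the preimage of `Rb`
    set J : Subgroup G := Rb.comap f with hJ
    obtain ⟨R0⟩ : Nonempty (Sylow r ↥J) := inferInstance
    have hxJ : ∀ y : G, y ∈ J ↔ x * y * x⁻¹ ∈ J := by
      intro y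
      simp only [hJ, Subgroup.mem_comap, map_mul, map_inv]
      exact Subgroup.mem_normalizer_iff.mp (hR (Subgroup.mem_zpowers _)) _
    have hconj : ∀ y ∈ (R0 : Subgroup ↥J).map J.subtype, x * y * x⁻¹ ∈ J := by
      rintro y ⟨z, hz, rfl⟩
      exact (hxJ _).mp z.2
    set T : Subgroup G := (R0 : Subgroup ↥J).map J.subtype with hT
    set T' : Subgroup G := T.map (MulAut.conj x).toMonoidHom with hT'
    have hT'J : T' ≤ J := by
      rintro y ⟨z, hz, rfl⟩
      exact hconj z hz
    have hT'p : IsPGroup r ↥(T'.subgroupOf J) :=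
      ((R0.2.map _).map _).of_equiv (Subgroup.subgroupOfEquivOfLe hT'J).symm
    obtain ⟨R1, hR1⟩ := hT'p.exists_le_sylow
    have hcT : Nat.card ↥T' = Nat.card (R0 : Subgroup ↥J) := by
      rw [hT', Subgroup.card_map_of_injective (MulAut.conj x).injective, hT,
        Subgroup.card_map_of_injective J.subtype_injective]
    have hR1eq : T'.subgroupOf J = (R1 : Subgroup ↥J) := by
      refine Subgroup.eq_of_le_of_card_ge hR1 ?_
      rw [Nat.card_congr (Subgroup.subgroupOfEquivOfLe hT'J).toEquiv, hcT,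
        R0.card_eq_multiplicity, R1.card_eq_multiplicity]
    obtain ⟨j, hj⟩ := MulAction.exists_smul_eq ↥J R1 R0
    set n : G := (j : G) * x with hn
    have hnN : n ∈ Subgroup.normalizer (T : Set G) := by
      refine Subgroup.mem_normalizer_iff_map_conj_eq.mpr ?_
      refine Subgroup.eq_of_le_of_card_ge ?_ (le_of_eq ?_)
      · rintro y ⟨z, hz, rfl⟩
        have h1 : (⟨x * z * x⁻¹, hconj z hz⟩ : ↥J) ∈ (R1 : Subgroup ↥J) := by
          rw [← hR1eq, Subgroup.mem_subgroupOf]
          exact ⟨z, hz, rfl⟩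
        have h2 : j * ⟨x * z * x⁻¹, hconj z hz⟩ * j⁻¹ ∈ (R0 : Subgroup ↥J) := by
          rw [← hj]
          exact Subgroup.smul_mem_pointwise_smul _ (MulAut.conj j) _ h1
        refine ⟨_, h2, ?_⟩
        simp [hn, mul_assoc]
      · exact (Nat.card_congr (T.equivMapOfInjective (MulAut.conj n).toMonoidHom (MulAut.conj n).injective).toEquiv)
    -- the `q`-part of `n`
    obtain ⟨b, m, hqm, hbm⟩ :=
      Nat.exists_eq_pow_mul_and_not_dvd (orderOf_pos n).ne' q hq.ne_one
    obtain ⟨c, hc⟩ : ∃ c, m * c ≡ 1 [MOD q ^ a] := by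
      have hmc : m.Coprime (q ^ a) := Nat.Coprime.pow_right _
        (Nat.coprime_comm.mp (hq.coprime_iff_not_dvd.mpr hqm))
      rcases Nat.eq_zero_or_pos a with ha0 | ha0
      · exact ⟨0, by simp [ha0, Nat.modEq_one]⟩
      · obtain ⟨c, -, hc⟩ := Nat.exists_mul_mod_eq_one_of_coprime hmc
          (Nat.one_lt_pow ha0.ne' hq.one_lt)
        exact ⟨c, by rw [Nat.ModEq, hc, Nat.one_mod_eq_one.mpr]; exact
          (Nat.one_lt_pow ha0.ne' hq.one_lt).ne'⟩
    set n' : G := n ^ (m * c) with hn'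
    have hn'o : ∃ k, orderOf n' = q ^ k := by
      have : n' ^ q ^ b = 1 := by
        rw [hn', ← pow_mul, show m * c * q ^ b = q ^ b * m * c by ring, pow_mul, ← hbm,
          pow_orderOf_eq_one, one_pow]
      obtain ⟨k, -, hk⟩ := (Nat.dvd_prime_pow hq).mp (orderOf_dvd_of_pow_eq_one this)
      exact ⟨k, hk⟩
    have hn'C : n' ∈ Subgroup.centralizer (T : Set G) := by
      refine hhom T ?_ q hq hqπ n' ?_ hn'o
      · intro p hp hd
        have : p = r := by
          obtain ⟨k, hk⟩ := IsPGroup.iff_card.mp (R0.2.map J.subtype)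
          rw [hT, hk] at hd
          exact (Nat.prime_dvd_prime_iff_eq hp hr).mp (hp.dvd_of_dvd_pow hd)
        rwa [this]
      · exact pow_mem hnN _
    -- the image of `T` is all of `Rb`
    have hTR : ∀ y ∈ Rb, ∃ t ∈ T, f t = y := by
      have hle : T.map f ≤ Rb := by
        rintro y ⟨t, ⟨z, hz, rfl⟩, rfl⟩
        exact z.2
      suffices hge : Rb ≤ T.map f by
        intro y hy
        obtain ⟨t, ht, rfl⟩ := hge hy
        exact ⟨t, ht, rfl⟩
      have h1 : (T.map f).relIndex Rb = 1 := by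
        by_contra h1
        have hdvd : (T.map f).relIndex Rb ∣ (R0 : Subgroup ↥J).index := by
          have e1 : ((R0 : Subgroup ↥J).map (f.comp J.subtype)) = T.map f := by
            rw [hT, Subgroup.map_map]
          have e2 : (f.comp J.subtype).range = Rb := by
            rw [MonoidHom.range_comp, Subgroup.range_subtype, hJ,
              Subgroup.map_comap_eq_self_of_surjective (QuotientGroup.mk'_surjective L)]
          rw [← e1, ← e2]
          have := Subgroup.index_map_dvd (R0 : Subgroup ↥J)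
            (f := (f.comp J.subtype).rangeRestrict) (MonoidHom.rangeRestrict_surjective _)
          refine dvd_trans (dvd_of_eq ?_) this
          rw [Subgroup.relIndex, Subgroup.subgroupOf]
          congr 1
          ext ⟨y, hy⟩
          constructor
          · rintro ⟨t, ht, e⟩
            exact ⟨t, ht, Subtype.ext e⟩
          · rintro ⟨t, ht, e⟩
            exact ⟨t, ht, congrArg Subtype.val e⟩
        obtain ⟨k, hk⟩ := (hRp.index ((T.map f).subgroupOf Rb))
        rw [Subgroup.relIndex, hk] at h1 hdvd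
        have hk0 : k ≠ 0 := fun h => h1 (by rw [h, pow_zero])
        exact R0.not_dvd_index ((dvd_pow_self r hk0).trans hdvd)
      exact Subgroup.relIndex_eq_one.mp h1
    intro z hz
    rw [Subgroup.mem_subgroupOf, hC, Subgroup.mem_inf]
    refine ⟨z.2, ?_⟩
    rw [Subgroup.mem_centralizer_singleton_iff]
    obtain ⟨t, ht, hft⟩ := hTR (z : G ⧸ L) ⟨z, hz, rfl⟩
    rw [← hft]
    have hnt : n' * t = t * n' := ((Subgroup.mem_centralizer_iff.mp hn'C) t ht).symm
    -- `f n' = f x` modulo `Rb`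
    have hjR : f (j : G) ∈ Rb := j.2
    have hpowR : ∀ k : ℕ, f (n ^ k) * (f x ^ k)⁻¹ ∈ Rb := by
      intro k
      induction k with
      | zero => simpa using Rb.one_mem
      | succ k ih =>
        have e : f (n ^ (k + 1)) * (f x ^ (k + 1))⁻¹ =
            f (j : G) * (f x * (f (n ^ k) * (f x ^ k)⁻¹) * (f x)⁻¹) := by
          rw [pow_succ', map_mul, hn, map_mul, pow_succ' (f x) k, mul_inv_rev]
          group
        rw [e]
        exact mul_mem hjR
          ((Subgroup.mem_normalizer_iff.mp (hR (Subgroup.mem_zpowers _)) _).mp ih)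
    have hxmc : f x ^ (m * c) = f x := by
      conv_rhs => rw [← pow_one (f x)]
      rw [pow_eq_pow_iff_modEq]
      exact hc.of_dvd hxo
    obtain ⟨s, hs, hns⟩ : ∃ s ∈ Rb, f n' = s * f x :=
      ⟨_, hpowR (m * c), by rw [hxmc, inv_mul_cancel_right, hn']⟩
    -- conjugation by `f x` is conjugation by `s⁻¹` on `Rb`
    have key : ∀ y ∈ Rb, f x * y * (f x)⁻¹ = s⁻¹ * y * s := by
      intro y hy
      obtain ⟨t', ht', rfl⟩ := hTR y hy
      have h' : f n' * f t' = f t' * f n' := by
        rw [← map_mul, ← map_mul, (Subgroup.mem_centralizer_iff.mp hn'C) t' ht']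
      rw [hns] at h'
      calc f x * f t' * (f x)⁻¹ = s⁻¹ * (s * f x * f t') * (f x)⁻¹ := by group
        _ = s⁻¹ * (f t' * (s * f x)) * (f x)⁻¹ := by rw [h']
        _ = s⁻¹ * f t' * s := by group
    obtain ⟨e, he⟩ := hRp ⟨s, hs⟩
    have he' : s ^ r ^ e = 1 := congrArg Subtype.val he
    have hiter : ∀ k : ℕ, ∀ y ∈ Rb, f x ^ k * y * (f x ^ k)⁻¹ = (s ^ k)⁻¹ * y * s ^ k := by
      intro k
      induction k with
      | zero => intro y _; simp
      | succ k ih =>
        intro y hy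
        have hy' : (s ^ k)⁻¹ * y * s ^ k ∈ Rb :=
          mul_mem (mul_mem (inv_mem (pow_mem hs k)) hy) (pow_mem hs k)
        calc f x ^ (k + 1) * y * (f x ^ (k + 1))⁻¹
            = f x * (f x ^ k * y * (f x ^ k)⁻¹) * (f x)⁻¹ := by
              rw [pow_succ' (f x) k]; group
          _ = s⁻¹ * ((s ^ k)⁻¹ * y * s ^ k) * s := by rw [ih y hy, key _ hy']
          _ = (s ^ (k + 1))⁻¹ * y * s ^ (k + 1) := by rw [pow_succ s k]; group
    have hqr : (q ^ a).Coprime (r ^ e) := Nat.Coprime.pow _ _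
      ((Nat.coprime_primes hq hr).mpr fun h => hrπ (h ▸ hqπ))
    -- `f x ^ (r ^ e)` centralises `Rb`, hence so does `f x`
    have hft' : f t ∈ Rb := by rw [hft]; exact ⟨z, hz, rfl⟩
    have hcomm : Commute (f x ^ r ^ e) (f t) := by
      have := hiter (r ^ e) (f t) hft'
      rw [he'] at this
      simp only [inv_one, one_mul, mul_one] at this
      exact mul_inv_eq_iff_eq_mul.mp this
    have hgen : f x ∈ Subgroup.zpowers (f x ^ r ^ e) := by
      obtain ⟨c', hc'⟩ := exists_pow_eq_self_of_coprime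
        (x := f x) (n := r ^ e) (hqr.symm.coprime_dvd_right hxo)
      exact ⟨(c' : ℤ), by simp only; rw [zpow_natCast, hc']⟩
    obtain ⟨i, hi⟩ := hgen
    have := (hcomm.zpow_left i).eq
    rw [show (f x ^ r ^ e) ^ i = f x from hi] at this
    exact this.symm
  -- the subgroup generated by primary `π`-elements
  set E : Subgroup G := Subgroup.closure
    {x | ∃ q : ℕ, q.Prime ∧ q ∈ π ∧ ∃ k, orderOf x = q ^ k} with hE
  refine ⟨E, fun x => ⟨fun hx => ?_, fun hx => mem_of_primary E hx fun q hq hqπ y hy =>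
    Subgroup.subset_closure ⟨q, hq, hqπ, hy⟩⟩⟩
  set Eb : Subgroup (G ⧸ L) := E.map f with hEb
  have hEC : Eb ≤ Subgroup.centralizer (Kb : Set (G ⧸ L)) := by
    rw [hEb, hE, MonoidHom.map_closure, Subgroup.closure_le]
    rintro _ ⟨y, ⟨q, hq, hqπ, hy⟩, rfl⟩
    rw [SetLike.mem_coe, Subgroup.mem_centralizer_iff]
    intro k hk
    exact Subgroup.mem_centralizer_singleton_iff.mp (hcent q hq hqπ y hy hk)
  -- the index of `Kb ⊓ Eb` in `Eb` is a `π`-number
  have hEidx : ∀ p : ℕ, p.Prime → p ∣ (Kb.subgroupOf Eb).index → p ∈ π := by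
    intro p hp hd
    have : Fact p.Prime := ⟨hp⟩
    have hEM : E.map (QuotientGroup.mk' K) ≤ M := by
      rw [hE, MonoidHom.map_closure, Subgroup.closure_le]
      rintro _ ⟨y, ⟨q, hq, hqπ, k, hy⟩, rfl⟩
      rw [SetLike.mem_coe, hM]
      intro p' hp' hd'
      have := hd'.trans (orderOf_map_dvd (QuotientGroup.mk' K) y)
      rw [hy] at this
      rwa [(Nat.prime_dvd_prime_iff_eq hp' hq).mp (hp'.dvd_of_dvd_pow this)]
    have hd1 : (Kb.subgroupOf Eb).index ∣ (K.subgroupOf E).index := by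
      have h1 := Subgroup.relIndex_comap Kb f E
      rw [hKb, Subgroup.comap_map_eq_self (by rw [hf, QuotientGroup.ker_mk']; exact hLK)] at h1
      rw [hEb, hKb]
      exact dvd_of_eq h1.symm
    have hd2 : (K.subgroupOf E).index = Nat.card ↥(E.map (QuotientGroup.mk' K)) := by
      have h1 := Subgroup.index_ker ((QuotientGroup.mk' K).comp E.subtype)
      rw [← MonoidHom.comap_ker, QuotientGroup.ker_mk', MonoidHom.range_comp,
        Subgroup.range_subtype] at h1
      exact h1
    obtain ⟨w, hw⟩ := exists_prime_orderOf_dvd_card' p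
      (hd2 ▸ hd.trans hd1)
    exact (hM _).mp (hEM w.2) p hp (by rw [Subgroup.orderOf_coe, hw])
  have hZ : Kb ⊓ Eb = ⊥ := by
    set Z : Subgroup ↥Eb := Kb.subgroupOf Eb with hZdef
    have : Z.Normal := by rw [hZdef]; infer_instance
    have hZcard : Nat.card Z ∣ Nat.card Kb := by
      rw [hZdef]
      exact Subgroup.card_comap_dvd_of_injective _ _ Eb.subtype_injective
    have hcop : (Nat.card Z).Coprime Z.index := Nat.coprime_of_dvd fun p hp h1 h2 =>
      hKbπ p hp (h1.trans hZcard) (hEidx p hp h2)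
    obtain ⟨W, hW⟩ := Subgroup.exists_right_complement'_of_coprime hcop
    have hZc : ∀ z ∈ Z, ∀ y : ↥Eb, y * z = z * y := fun z hz y => Subtype.ext
      ((Subgroup.mem_centralizer_iff.mp (hEC y.2)) z hz).symm
    have hWn : W.Normal := by
      rw [← Subgroup.normalizer_eq_top_iff, eq_top_iff, ← hW.sup_eq_top]
      refine sup_le ?_ Subgroup.le_normalizer
      intro z hz
      rw [Subgroup.mem_normalizer_iff]
      intro w
      rw [show z * w * z⁻¹ = w by rw [← hZc z hz w, mul_inv_cancel_right]]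
    have hWi : W.index = Nat.card Z := hW.index_eq_card
    have hWtop : W = ⊤ := by
      rw [eq_top_iff]
      rintro ⟨y, hy⟩ -
      obtain ⟨y0, hy0, rfl⟩ := Subgroup.mem_map.mp hy
      induction hy0 using Subgroup.closure_induction with
      | mem y1 hy1 =>
        obtain ⟨q, hq, hqπ, k, hk⟩ := hy1
        rw [← QuotientGroup.eq_one_iff, ← orderOf_eq_one_iff]
        refine Nat.eq_one_of_dvd_coprimes (a := q ^ k) (b := Nat.card Z) ?_ ?_ ?_
        · exact Nat.Coprime.pow_left _ (hq.coprime_iff_not_dvd.mpr fun h =>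
            hKbπ q hq (h.trans hZcard) hqπ)
        · refine (orderOf_map_dvd (QuotientGroup.mk' W) _).trans ?_
          rw [Subgroup.orderOf_mk, ← hk]
          exact orderOf_map_dvd f y1
        · rw [← hWi]
          exact orderOf_dvd_natCard _
      | one =>
        convert W.one_mem using 1
        exact Subtype.ext (map_one f)
      | mul a b ha hb iha ihb =>
        have := W.mul_mem (iha ⟨a, ha, rfl⟩) (ihb ⟨b, hb, rfl⟩)
        convert this using 1
        exact Subtype.ext (map_mul f a b)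
      | inv a ha iha =>
        have := W.inv_mem (iha ⟨a, ha, rfl⟩)
        convert this using 1
        exact Subtype.ext (map_inv f a)
    have hZbot : Z = ⊥ := by
      have := hW.disjoint
      rw [hWtop] at this
      exact disjoint_top.mp this
    rw [hZdef, Subgroup.subgroupOf_eq_bot] at hZbot
    exact hZbot.eq_bot
  have hEL : E ⊓ K ≤ L := by
    intro y hy
    have : f y ∈ (Kb ⊓ Eb : Subgroup (G ⧸ L)) := ⟨⟨y, hy.2, rfl⟩, ⟨y, hy.1, rfl⟩⟩
    rw [hZ, Subgroup.mem_bot] at this
    exact (QuotientGroup.eq_one_iff y).mp this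
  intro p hp hd
  have : Fact p.Prime := ⟨hp⟩
  by_contra hpπ
  obtain ⟨i, hi⟩ : ∃ i, orderOf (x ^ i) = p := by
    obtain ⟨z, hz⟩ := exists_prime_orderOf_dvd_card' p
      (Nat.card_zpowers x ▸ hd : p ∣ Nat.card ↥(Subgroup.zpowers x))
    obtain ⟨i, hi⟩ := (mem_zpowers_iff_mem_range_orderOf).mp z.2 |> fun h => by
      simp only [Finset.mem_image, Finset.mem_range] at h
      exact (⟨h.choose, h.choose_spec.2⟩ : ∃ i, x ^ i = (z : G))
    exact ⟨i, by rw [hi, Subgroup.orderOf_coe, hz]⟩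
  have hxi : x ^ i ∈ E := pow_mem hx i
  have hxK : x ^ i ∈ K := by
    have hMx : (QuotientGroup.mk' K (x ^ i)) ∈ M := by
      have : E.map (QuotientGroup.mk' K) ≤ M := by
        rw [hE, MonoidHom.map_closure, Subgroup.closure_le]
        rintro _ ⟨y, ⟨q, hq, hqπ, k, hy⟩, rfl⟩
        rw [SetLike.mem_coe, hM]
        intro p' hp' hd'
        have := hd'.trans (orderOf_map_dvd (QuotientGroup.mk' K) y)
        rw [hy] at this
        rwa [(Nat.prime_dvd_prime_iff_eq hp' hq).mp (hp'.dvd_of_dvd_pow this)]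
      exact this ⟨_, hxi, rfl⟩
    by_contra hxK
    have hne : orderOf (QuotientGroup.mk' K (x ^ i)) ≠ 1 := fun h =>
      hxK ((QuotientGroup.eq_one_iff _).mp (orderOf_eq_one_iff.mp h))
    have h1 := orderOf_map_dvd (QuotientGroup.mk' K) (x ^ i)
    rw [hi] at h1
    exact hpπ ((hM _).mp hMx p hp (((Nat.dvd_prime hp).mp h1).resolve_left hne ▸ dvd_rfl))
  exact hpπ (((hLmem _).mp (hEL ⟨hxi, hxK⟩)).2 p hp (hi ▸ dvd_rfl))

theorem closed_of_card_trivial [Finite G] (h : ∀ p : ℕ, p.Prime → p ∣ Nat.card G → p ∈ π) :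
    Closed π G :=
  ⟨⊤, fun x => ⟨fun _ => piElt_of_card h x, fun _ => Subgroup.mem_top _⟩⟩

theorem closed_of_card_prime' [Finite G] (h : ∀ p : ℕ, p.Prime → p ∣ Nat.card G → p ∉ π) :
    Closed π G := by
  refine ⟨⊥, fun x => ⟨fun hx p hp hd => ?_, fun hx => ?_⟩⟩
  · rw [Subgroup.mem_bot.mp hx, orderOf_one] at hd
    exact absurd (Nat.dvd_one.mp hd) hp.ne_one
  · rw [Subgroup.mem_bot]
    by_contra hne
    obtain ⟨p, hp, hd⟩ := Nat.exists_prime_and_dvd
      (fun hh => hne (orderOf_eq_one_iff.mp hh) : orderOf x ≠ 1)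
    exact h p hp (hd.trans (orderOf_dvd_natCard x)) (hx p hp hd)

theorem Closed.of_mulEquiv {H : Type u} [Group H] (e : H ≃* G) (h : Closed π G) : Closed π H := by
  obtain ⟨K, hK⟩ := h
  exact ⟨K.comap e.toMonoidHom, fun x =>
    (hK (e x)).trans (piElt_iff_of_injective e.toMonoidHom e.injective x)⟩

end Cfsg.Agent.Lib.FusionControl.PiClosed
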