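import Cfsg.Agent.Lib.FusionControl.ChiefAction

/-! Groups with an abelian-by-`p` top: quadratic elements are harmless for odd `p`. -/

set_option autoImplicit false

universe u

open scoped commutatorElement

namespace Cfsg.Agent.Lib.FusionControl

variable {p : ℕ} [Fact p.Prime]

/-- `M` is a normal subgroup with `p`-quotient and derived group a `p`-group -/
structure AbTop (p : ℕ) {N : Type u} [Group N] (M : Subgroup N) : Prop where
  normal : M.Normal
  pow_mem : ∀ x : N, ∃ k, x ^ p ^ k ∈ M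
  comm : IsPGroup p ↥⁅M, M⁆

/-- some subgroup is an abelian-by-`p` top -/
def HasAbTop (p : ℕ) (N : Type u) [Group N] : Prop := ∃ M : Subgroup N, AbTop p M

omit [Fact p.Prime] in
lemma AbTop.map {N Z : Type u} [Group N] [Group Z] {M : Subgroup N} (h : AbTop p M) (f : N →* Z)
    (hf : Function.Surjective f) : AbTop p (M.map f) := by
  refine ⟨h.normal.map f hf, fun z => ?_, ?_⟩
  · obtain ⟨x, rfl⟩ := hf z
    obtain ⟨k, hk⟩ := h.pow_mem x
    exact ⟨k, x ^ p ^ k, hk, map_pow f x _⟩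
  · rw [← Subgroup.map_commutator]; exact h.comm.map f

omit [Fact p.Prime] in
lemma AbTop.subgroupOf {N : Type u} [Group N] {M : Subgroup N} (h : AbTop p M) (H : Subgroup N) :
    AbTop p (M.subgroupOf H) := by
  have := h.normal
  refine ⟨inferInstance, fun x => ?_, ?_⟩
  · obtain ⟨k, hk⟩ := h.pow_mem x
    exact ⟨k, hk⟩
  · have hle : (⁅M.subgroupOf H, M.subgroupOf H⁆).map H.subtype ≤ ⁅M, M⁆ := by
      rw [Subgroup.map_commutator]
      exact Subgroup.commutator_mono (Subgroup.map_comap_le _ _) (Subgroup.map_comap_le _ _)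
    exact (h.comm.to_le hle).of_equiv (Subgroup.equivMapOfInjective _ H.subtype H.subtype_injective).symm

omit [Fact p.Prime] in
lemma hasAbTop_surjective {N Z : Type u} [Group N] [Group Z] (h : HasAbTop p N) (f : N →* Z)
    (hf : Function.Surjective f) : HasAbTop p Z :=
  let ⟨M, hM⟩ := h; ⟨_, hM.map f hf⟩

omit [Fact p.Prime] in
lemma hasAbTop_subgroup {N : Type u} [Group N] (h : HasAbTop p N) (H : Subgroup N) : HasAbTop p H :=
  let ⟨M, hM⟩ := h; ⟨_, hM.subgroupOf H⟩

/-- modulo `O_p` the top is abelian of order prime to `p` -/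
lemma AbTop.quotient_pCore {N : Type u} [Group N] [Finite N] {M : Subgroup N} (h : AbTop p M) :
    (∀ a ∈ M.map (QuotientGroup.mk' (Cfsg.pCore p N)), ∀ b ∈ M.map (QuotientGroup.mk' (Cfsg.pCore p N)), a * b = b * a) ∧
      (Nat.card (M.map (QuotientGroup.mk' (Cfsg.pCore p N)))).Coprime p := by
  set f := QuotientGroup.mk' (Cfsg.pCore p N) with hf
  have hMn := h.normal
  have hle : ⁅M, M⁆ ≤ Cfsg.pCore p N := Cfsg.Agent.Lib.Cores.le_pCore inferInstance h.comm
  have hcomm : ∀ a ∈ M.map f, ∀ b ∈ M.map f, a * b = b * a := by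
    rintro _ ⟨a, ha, rfl⟩ _ ⟨b, hb, rfl⟩
    have : f ⁅a, b⁆ = 1 := (QuotientGroup.eq_one_iff _).2 (hle (Subgroup.commutator_mem_commutator ha hb))
    rw [map_commutatorElement, commutatorElement_eq_one_iff_mul_comm] at this
    exact this
  refine ⟨hcomm, ?_⟩
  have hp : p.Prime := Fact.out
  rw [Nat.coprime_comm, hp.coprime_iff_not_dvd]
  intro hdvd
  let W : Subgroup (N ⧸ Cfsg.pCore p N) :=
    { carrier := {u | u ∈ M.map f ∧ u ^ p = 1}
      one_mem' := ⟨one_mem _, one_pow _⟩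
      mul_mem' := fun {a b} ha hb => ⟨mul_mem ha.1 hb.1, by
        rw [(show Commute a b from hcomm a ha.1 b hb.1).mul_pow, ha.2, hb.2, one_mul]⟩
      inv_mem' := fun {a} ha => ⟨inv_mem ha.1, by rw [inv_pow, ha.2, inv_one]⟩ }
  have hWn : W.Normal := ⟨fun u hu y => ⟨(h.normal.map f (QuotientGroup.mk'_surjective _)).conj_mem u hu.1 y, by
    rw [conj_pow, hu.2, mul_one, mul_inv_cancel]⟩⟩
  have hWp : IsPGroup p W := fun u => ⟨1, Subtype.ext (by rw [pow_one]; exact u.2.2)⟩
  have hW := Cfsg.Agent.Lib.Cores.le_pCore hWn hWp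
  rw [Cfsg.Agent.Lib.Cores.pCore_quotient_pCore p N] at hW
  obtain ⟨x, hx⟩ := exists_prime_orderOf_dvd_card' p hdvd
  have hxp : x ^ p = 1 := orderOf_dvd_iff_pow_eq_one.1 (dvd_of_eq hx)
  have hxW : (x : N ⧸ Cfsg.pCore p N) ∈ W := ⟨x.2, congrArg Subtype.val hxp⟩
  have h1 : x = 1 := Subtype.ext (Subgroup.mem_bot.1 (hW hxW))
  rw [h1, orderOf_one] at hx
  exact hp.ne_one hx.symm

/-- a quadratic element centralises the commutators with the top, on a minimal normal `p`-subgroup -/
lemma twist_minimal (hp2 : p ≠ 2) {N : Type u} [Group N] [Finite N] {M : Subgroup N} (hM : AbTop p M)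
    {A : Subgroup N} (hAn : A.Normal) (hAp : IsPGroup p A) (hAne : A ≠ ⊥)
    (hAmin : ∀ B : Subgroup N, B.Normal → B ≤ A → B ≠ ⊥ → B = A) {g : N}
    (hquad : ⁅⁅A, Subgroup.zpowers g⁆, Subgroup.zpowers g⁆ = ⊥) :
    ∀ m ∈ M, ⁅m, g⁆ ∈ Subgroup.centralizer (A : Set N) := by
  set Q := Cfsg.pCore p N with hQdef
  have hQn : Q.Normal := by rw [hQdef]; infer_instance
  have hQp : IsPGroup p Q := Cfsg.Agent.Lib.Cores.pCore_isPGroup p N
  have hAQ : A ≤ Q := Cfsg.Agent.Lib.Cores.le_pCore hAn hAp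
  have hcentQ : A ≤ Subgroup.centralizer (Q : Set N) := by
    suffices A ⊓ Subgroup.centralizer (Q : Set N) = A from this ▸ inf_le_right
    refine hAmin _ inferInstance inf_le_left ?_
    have : Group.IsNilpotent Q := hQp.isNilpotent
    have hne : A.subgroupOf Q ≠ ⊥ := by
      intro h
      rw [Subgroup.subgroupOf_eq_bot] at h
      exact hAne (disjoint_self.1 (h.mono_right hAQ))
    have h := Cfsg.Agent.Lib.Solvable.inf_center_ne_bot (N := A.subgroupOf Q) hne
    intro hbot
    apply h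
    rw [eq_bot_iff]
    rintro z ⟨hz1, hz2⟩
    refine Subgroup.mem_bot.2 (Subtype.ext (Subgroup.mem_bot.1 (hbot ▸ ?_)))
    refine Subgroup.mem_inf.2 ⟨hz1, ?_⟩
    rw [Subgroup.mem_centralizer_iff]
    intro q hq
    exact congrArg Subtype.val (Subgroup.mem_center_iff.1 hz2 ⟨q, hq⟩)
  have hcommA : ∀ a ∈ A, ∀ b ∈ A, a * b = b * a := fun a ha b hb =>
    Subgroup.mem_centralizer_iff.1 (hcentQ hb) a (hAQ ha)
  letI : CommGroup A := { (inferInstance : Group A) with mul_comm := fun a b => Subtype.ext (hcommA a a.2 b b.2) }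
  have hexp : ∀ u ∈ A, u ^ p = 1 := by
    let W : Subgroup N :=
      { carrier := {u | u ∈ A ∧ u ^ p = 1}
        one_mem' := ⟨one_mem _, one_pow _⟩
        mul_mem' := fun {a b} ha hb => ⟨mul_mem ha.1 hb.1, by
          rw [(show Commute a b from hcommA a ha.1 b hb.1).mul_pow, ha.2, hb.2, one_mul]⟩
        inv_mem' := fun {a} ha => ⟨inv_mem ha.1, by rw [inv_pow, ha.2, inv_one]⟩ }
    have hWn : W.Normal := ⟨fun u hu y => ⟨hAn.conj_mem u hu.1 y, by
      rw [conj_pow, hu.2, mul_one, mul_inv_cancel]⟩⟩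
    suffices W = A from fun u hu => ((this.ge hu : u ∈ W)).2
    refine hAmin W hWn (fun u hu => hu.1) ?_
    have hpd : p ∣ Nat.card A := by
      obtain ⟨e, he⟩ := hAp.exists_card_eq
      rw [he]
      refine dvd_pow_self p fun h0 => hAne (Subgroup.card_eq_one.1 ?_)
      rw [he, h0, pow_zero]
    obtain ⟨x, hx⟩ := exists_prime_orderOf_dvd_card' p hpd
    intro hb
    have hxW : (x : N) ∈ W := ⟨x.2, by
      rw [← SubgroupClass.coe_pow, ← hx, pow_orderOf_eq_one]; rfl⟩
    rw [hb, Subgroup.mem_bot] at hxW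
    have h1 : x = 1 := Subtype.ext hxW
    rw [h1, orderOf_one] at hx
    exact (Fact.out : p.Prime).ne_one hx.symm
  let Φ : N →* AddMonoid.End (Additive A) := (autToEnd A).comp (MulAut.conjNormal (H := A))
  let val : Additive A → N := fun u => ((Additive.toMul u : A) : N)
  have val_inj : Function.Injective val := fun a b h => Additive.toMul.injective (Subtype.ext h)
  have hval : ∀ (y : N) (u : Additive A), val (Φ y u) = y * val u * y⁻¹ :=
    fun y u => MulAut.conjNormal_apply y (Additive.toMul u)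
  have hvmem : ∀ u : Additive A, val u ∈ A := fun u => (Additive.toMul u).2
  have hvsub : ∀ a b : Additive A, val (a - b) = val a * (val b)⁻¹ := fun a b => by
    show (((Additive.toMul (a - b)) : A) : N) = _
    rw [toMul_sub, div_eq_mul_inv]; rfl
  have hΦext : ∀ (y z : N), (∀ u ∈ A, y * u * y⁻¹ = z * u * z⁻¹) → Φ y = Φ z := fun y z h =>
    AddMonoidHom.ext fun u => val_inj ((hval y u).trans ((h _ (hvmem u)).trans (hval z u).symm))
  have hker : ∀ q ∈ Q, Φ q = 1 := fun q hq => by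
    rw [← map_one Φ]
    refine hΦext q 1 fun u hu => ?_
    have := Subgroup.mem_centralizer_iff.1 (hcentQ hu) q hq
    rw [this, mul_inv_cancel_right, inv_one, one_mul, mul_one]
  let Ψ : N ⧸ Q →* AddMonoid.End (Additive A) := QuotientGroup.lift Q Φ hker
  set π := QuotientGroup.mk' Q with hπ
  have hΨ : ∀ y, Ψ (π y) = Φ y := fun y => rfl
  have hpE : ((p : ℕ) : AddMonoid.End (Additive A)) = 0 := by
    refine AddMonoidHom.ext fun u => ?_
    refine (AddMonoid.End.natCast_apply p u).trans ?_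
    refine val_inj ?_
    show (((Additive.toMul (p • u)) : A) : N) = _
    rw [toMul_nsmul, Subgroup.coe_pow]
    exact hexp _ (hvmem u)
  have hstep : ∀ u : Additive A, val ((Φ g - 1) u) = ⁅g, val u⁆ := by
    intro u
    refine (hvsub (Φ g u) u).trans ?_
    rw [hval, commutatorElement_def]
  have hg2 : (Φ g - 1) ^ 2 = 0 := by
    refine AddMonoidHom.ext fun u => val_inj ?_
    rw [sq]
    refine (hstep ((Φ g - 1) u)).trans ?_
    rw [hstep]
    have h1 : ⁅g, val u⁆ ∈ ⁅A, Subgroup.zpowers g⁆ := by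
      rw [Subgroup.commutator_comm]
      exact Subgroup.commutator_mem_commutator (Subgroup.mem_zpowers g) (hvmem u)
    have h2 : ⁅g, ⁅g, val u⁆⁆ ∈ ⁅⁅A, Subgroup.zpowers g⁆, Subgroup.zpowers g⁆ := by
      rw [Subgroup.commutator_comm ⁅A, Subgroup.zpowers g⁆]
      exact Subgroup.commutator_mem_commutator (Subgroup.mem_zpowers g) h1
    rw [hquad, Subgroup.mem_bot] at h2
    rw [h2]
    rfl
  have hg0 : (Φ g - 1) ^ (p - 1) = 0 :=
    pow_eq_zero_of_le (by have := (Fact.out : p.Prime).two_le; omega) hg2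
  obtain ⟨hKcomm, hKcop⟩ := hM.quotient_pCore
  set K := M.map π with hK
  have hKn : K.Normal := hM.normal.map π (QuotientGroup.mk'_surjective Q)
  letI : CommGroup K := { (inferInstance : Group K) with mul_comm := fun a b => Subtype.ext (hKcomm a a.2 b b.2) }
  have htw : ∀ l : K, Ψ (π g * l * (π g)⁻¹) = Ψ l := fun l =>
    twist_eq_of_sub_one_pow hpE (by rw [← hΨ] at hg0; exact hg0) (Ψ.comp K.subtype) (MulAut.conjNormal (H := K) (π g))
      (fun m => by
        show Ψ (π g) * Ψ m = Ψ ((MulAut.conjNormal (π g) m : K) : N ⧸ Q) * Ψ (π g)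
        rw [MulAut.conjNormal_apply, ← map_mul, ← map_mul, inv_mul_cancel_right])
      hKcop (fun m => pow_card_eq_one') l
  intro m hm
  have h1 : Φ ⁅m, g⁆ = 1 := by
    have := htw ⟨π m, m, hm, rfl⟩
    rw [← hΨ, map_commutatorElement, commutatorElement_def]
    rw [show π m * π g * (π m)⁻¹ * (π g)⁻¹ = π m * (π g * π m * (π g)⁻¹)⁻¹ by group, map_mul]
    calc Ψ (π m) * Ψ (π g * π m * (π g)⁻¹)⁻¹ = Ψ (π g * π m * (π g)⁻¹) * Ψ (π g * π m * (π g)⁻¹)⁻¹ := by rw [this]
      _ = 1 := by rw [← map_mul, mul_inv_cancel, map_one]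
  rw [Subgroup.mem_centralizer_iff]
  intro a ha
  have h2 := hval ⁅m, g⁆ (Additive.ofMul (⟨a, ha⟩ : A))
  rw [h1] at h2
  have h3 : a = ⁅m, g⁆ * a * ⁅m, g⁆⁻¹ := h2
  exact mul_inv_eq_iff_eq_mul.1 h3.symm |>.symm

/-- elements of order prime to `p` in `[M, g]` centralise a normal `p`-subgroup on which `g` is quadratic -/
theorem centralizes_of_quadratic (hp2 : p ≠ 2) : ∀ (n : ℕ) (N : Type u) [Group N] [Finite N], Nat.card N = n →
    ∀ (M : Subgroup N), AbTop p M → ∀ (P : Subgroup N), P.Normal → IsPGroup p P → ∀ (g : N),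
    ⁅⁅P, Subgroup.zpowers g⁆, Subgroup.zpowers g⁆ = ⊥ → ∀ d ∈ ⁅M, Subgroup.zpowers g⁆, (orderOf d).Coprime p →
    d ∈ Subgroup.centralizer (P : Set N) := by
  intro n
  induction n using Nat.strong_induction_on with
  | _ n ih =>
    intro N _ _ hn M hM P hPn hP g hquad d hd hdo
    by_cases hPb : P = ⊥
    · rw [Subgroup.mem_centralizer_iff]
      intro x hx
      rw [Subgroup.mem_bot.1 (hPb ▸ hx : x ∈ (⊥ : Subgroup N))]; simp
    obtain ⟨A, ⟨hAn, hAP, hAne⟩, hAmin⟩ :=
      exists_minimal_of_wellFoundedLT (fun A : Subgroup N => A.Normal ∧ A ≤ P ∧ A ≠ ⊥) ⟨P, hPn, le_rfl, hPb⟩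
    have hAmin' : ∀ B : Subgroup N, B.Normal → B ≤ A → B ≠ ⊥ → B = A := fun B hB hBA hne =>
      le_antisymm hBA (hAmin ⟨hB, hBA.trans hAP, hne⟩ hBA)
    have hLA : ⁅M, Subgroup.zpowers g⁆ ≤ Subgroup.centralizer (A : Set N) := by
      rw [Subgroup.commutator_le]
      intro m hm g' hg'
      refine twist_minimal hp2 hM hAn (hP.to_le hAP) hAne hAmin' ?_ m hm
      rw [eq_bot_iff, ← hquad]
      exact Subgroup.commutator_mono (Subgroup.commutator_mono hAP (Subgroup.zpowers_le.2 hg'))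
        (Subgroup.zpowers_le.2 hg')
    set f := QuotientGroup.mk' A with hf
    have hfs : Function.Surjective f := QuotientGroup.mk'_surjective A
    have hlt : Nat.card (N ⧸ A) < n := by
      rw [← hn, Subgroup.card_eq_card_quotient_mul_card_subgroup A]
      exact lt_mul_of_one_lt_right Nat.card_pos (Subgroup.one_lt_card_iff_ne_bot A |>.2 hAne)
    have hfd : f d ∈ Subgroup.centralizer (P.map f : Set (N ⧸ A)) := by
      refine ih _ hlt (N ⧸ A) rfl (M.map f) (hM.map f hfs) (P.map f) (hPn.map f hfs) (hP.map f) (f g) ?_ (f d) ?_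
        (Nat.Coprime.coprime_dvd_left (orderOf_map_dvd f d) hdo)
      · rw [← MonoidHom.map_zpowers, ← Subgroup.map_commutator, ← Subgroup.map_commutator, hquad, Subgroup.map_bot]
      · rw [← MonoidHom.map_zpowers, ← Subgroup.map_commutator]
        exact ⟨d, hd, rfl⟩
    rw [Subgroup.mem_centralizer_iff]
    intro r hr
    set q := r⁻¹ * (d * r * d⁻¹) with hq
    have hqA : q ∈ A := by
      have := Subgroup.mem_centralizer_iff.1 hfd (f r) ⟨r, hr, rfl⟩
      rw [hq, ← mk'_eq_iff, ← hf, map_mul, map_mul, map_inv, ← this, mul_inv_cancel_right]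
    have hqd : Commute q d := Subgroup.mem_centralizer_iff.1 (hLA hd) q hqA
    have key : ∀ i : ℕ, d ^ i * r * (d ^ i)⁻¹ = r * q ^ i := by
      intro i
      induction i with
      | zero => simp
      | succ i ihh =>
        calc d ^ (i + 1) * r * (d ^ (i + 1))⁻¹ = d ^ i * (d * r * d⁻¹) * (d ^ i)⁻¹ := by rw [pow_succ]; group
          _ = d ^ i * (r * q) * (d ^ i)⁻¹ := by rw [hq]; group
          _ = (d ^ i * r * (d ^ i)⁻¹) * (d ^ i * q * (d ^ i)⁻¹) := by group
          _ = r * q ^ i * q := by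
            rw [ihh]
            congr 1
            rw [← (hqd.pow_right i).eq, mul_inv_cancel_right]
          _ = _ := by rw [pow_succ, mul_assoc]
    have h3 := key (orderOf d)
    rw [pow_orderOf_eq_one, one_mul, inv_one, mul_one] at h3
    have h4 : q ^ orderOf d = 1 := by
      have : r * q ^ orderOf d = r * 1 := by rw [← h3, mul_one]
      exact mul_left_cancel this
    have h5 : q = 1 := Cfsg.Agent.Lib.Transfer.eq_one_of_isPGroup_of_coprime (hP.to_le hAP) hqA
      (Nat.Coprime.coprime_dvd_left (orderOf_dvd_of_pow_eq_one h4) hdo)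
    rw [hq, inv_mul_eq_one] at h5
    exact mul_inv_eq_iff_eq_mul.1 h5.symm |>.symm

/-- abelian-by-`p` tops make a group stable in the normalizer form -/
theorem isNormalizerPStable_of_hasAbTop (hp2 : p ≠ 2) {X : Type u} [Group X] [Finite X] (h : HasAbTop p X) :
    Cfsg.IsNormalizerPStable p X := by
  intro P hP g hg hquad
  set N := Subgroup.normalizer (P : Set X) with hN
  obtain ⟨M, hM⟩ := hasAbTop_subgroup h N
  set C := (Subgroup.centralizer (P : Set X)).subgroupOf N with hC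
  set φ := QuotientGroup.mk' C with hφ
  have hφs : Function.Surjective φ := QuotientGroup.mk'_surjective C
  set gN : N := ⟨g, hg⟩ with hgN
  show φ gN ∈ Cfsg.pCore p (↥N ⧸ C)
  set P' := P.subgroupOf N with hP'
  have hP'n : P'.Normal := Subgroup.normal_in_normalizer
  have hPN : P ≤ N := Subgroup.le_normalizer
  have hP'p : IsPGroup p P' := hP.of_equiv (Subgroup.subgroupOfEquivOfLe hPN).symm
  have hquad' : ⁅⁅P', Subgroup.zpowers gN⁆, Subgroup.zpowers gN⁆ = ⊥ := by
    refine Subgroup.map_injective N.subtype_injective ?_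
    rw [Subgroup.map_commutator, Subgroup.map_commutator, MonoidHom.map_zpowers, hP', Subgroup.subgroupOf_map_subtype,
      inf_eq_left.2 hPN, Subgroup.map_bot]
    exact hquad
  have hcent : ∀ d ∈ ⁅M, Subgroup.zpowers gN⁆, (orderOf d).Coprime p → d ∈ C := by
    intro d hd hdo
    have := centralizes_of_quadratic hp2 _ N rfl M hM P' hP'n hP'p gN hquad' d hd hdo
    show (d : X) ∈ Subgroup.centralizer (P : Set X)
    rw [Subgroup.mem_centralizer_iff]
    intro x hx
    exact congrArg Subtype.val (Subgroup.mem_centralizer_iff.1 this ⟨x, hPN hx⟩ hx)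
  set Γ := ↥N ⧸ C
  set L := (⁅M, Subgroup.zpowers gN⁆).map φ with hL
  have hLp : IsPGroup p L := by
    rintro ⟨_, x, hx, rfl⟩
    obtain ⟨a, b, ha', hb', ha, ⟨k, hk⟩, hab⟩ := Cfsg.Agent.Lib.Transfer.exists_pPart_decomp (p := p) x
    refine ⟨k, Subtype.ext ?_⟩
    show φ x ^ p ^ k = 1
    have haC : φ a = 1 := (QuotientGroup.eq_one_iff a).2 (hcent a ((Subgroup.zpowers_le.2 hx) ha') ha)
    rw [hab, map_mul, haC, one_mul, ← map_pow, ← hk, pow_orderOf_eq_one, map_one]
  -- `g` acts as a `p`-element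
  obtain ⟨e, he⟩ := hP.exists_card_eq
  have hge : (φ gN) ^ p ^ e = 1 := by
    rw [← map_pow]
    refine (QuotientGroup.eq_one_iff _).2 ?_
    show ((gN ^ p ^ e : N) : X) ∈ Subgroup.centralizer (P : Set X)
    rw [Subgroup.coe_pow, Subgroup.mem_centralizer_iff]
    intro x hx
    set c := x⁻¹ * (g * x * g⁻¹) with hc
    have hcP : c ∈ P := mul_mem (inv_mem hx) ((Subgroup.mem_normalizer_iff.1 hg x).1 hx)
    have hc1 : c ∈ ⁅P, Subgroup.zpowers g⁆ := by
      have := Subgroup.commutator_mem_commutator (inv_mem hx) (Subgroup.mem_zpowers g)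
      have e1 : c = ⁅x⁻¹, g⁆ := by rw [hc, commutatorElement_def]; group
      rwa [e1]
    have hc2 := Subgroup.commutator_mem_commutator hc1 (Subgroup.mem_zpowers g)
    rw [hquad, Subgroup.mem_bot, commutatorElement_eq_one_iff_mul_comm] at hc2
    have hqd : Commute c g := hc2
    have key : ∀ i : ℕ, g ^ i * x * (g ^ i)⁻¹ = x * c ^ i := by
      intro i
      induction i with
      | zero => simp
      | succ i ihh =>
        calc g ^ (i + 1) * x * (g ^ (i + 1))⁻¹ = g ^ i * (g * x * g⁻¹) * (g ^ i)⁻¹ := by rw [pow_succ]; group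
          _ = g ^ i * (x * c) * (g ^ i)⁻¹ := by rw [hc]; group
          _ = (g ^ i * x * (g ^ i)⁻¹) * (g ^ i * c * (g ^ i)⁻¹) := by group
          _ = x * c ^ i * c := by
            rw [ihh]
            congr 1
            rw [← (hqd.pow_right i).eq, mul_inv_cancel_right]
          _ = _ := by rw [pow_succ, mul_assoc]
    have hce : c ^ p ^ e = 1 := by
      rw [← he]; exact congrArg Subtype.val (pow_card_eq_one' (x := (⟨c, hcP⟩ : P)))
    have := key (p ^ e)
    rw [hce, mul_one, mul_inv_eq_iff_eq_mul] at this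
    exact this.symm
  -- modulo `O_p`
  set MΓ := M.map φ with hMΓ
  have hMt : AbTop p MΓ := hM.map φ hφs
  obtain ⟨hKcomm, hKcop⟩ := hMt.quotient_pCore
  set π := QuotientGroup.mk' (Cfsg.pCore p Γ) with hπ
  have hπs : Function.Surjective π := QuotientGroup.mk'_surjective _
  set K := MΓ.map π with hK
  have hKn : K.Normal := hMt.normal.map π hπs
  have hgK : ∀ k ∈ K, k * π (φ gN) = π (φ gN) * k := by
    rintro _ ⟨_, ⟨m, hm, rfl⟩, rfl⟩
    have h1 : ⁅m, gN⁆ ∈ ⁅M, Subgroup.zpowers gN⁆ := Subgroup.commutator_mem_commutator hm (Subgroup.mem_zpowers gN)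
    have h2 : π (φ ⁅m, gN⁆) ∈ K ⊓ L.map π := by
      refine Subgroup.mem_inf.2 ⟨⟨φ ⁅m, gN⁆, ⟨_, ?_, rfl⟩, rfl⟩, ⟨φ ⁅m, gN⁆, ⟨_, h1, rfl⟩, rfl⟩⟩
      have := mul_mem hm (hM.normal.conj_mem m⁻¹ (inv_mem hm) gN)
      simpa [commutatorElement_def, mul_assoc] using this
    rw [eq_bot_of_coprime hKcop (hLp.map π), Subgroup.mem_bot, map_commutatorElement, map_commutatorElement,
      commutatorElement_eq_one_iff_mul_comm] at h2
    exact h2
  have hgp : IsPGroup p (Subgroup.zpowers (π (φ gN))) := by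
    refine IsPGroup.of_card (n := Nat.log p (orderOf (π (φ gN)))) ?_
    rw [Nat.card_zpowers]
    obtain ⟨j, -, hj⟩ := (Nat.dvd_prime_pow Fact.out).1
      (orderOf_dvd_of_pow_eq_one (show π (φ gN) ^ p ^ e = 1 by rw [← map_pow, hge, map_one]))
    rw [hj, Nat.log_pow (Fact.out : p.Prime).one_lt]
  obtain ⟨T, hT⟩ := hgp.exists_le_sylow
  have hTK : (T : Subgroup (Γ ⧸ Cfsg.pCore p Γ)) ⊔ K = ⊤ := by
    rw [eq_top_iff, ← Cfsg.Agent.Lib.Transfer.sylow_sup_pResidual T]
    refine sup_le_sup_left ?_ _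
    rw [Cfsg.pResidual, Subgroup.closure_le]
    intro x hx
    obtain ⟨k, hk⟩ := (hMt.map π hπs).pow_mem x
    obtain ⟨m, hm⟩ := exists_pow_eq_self_of_coprime (n := p ^ k) (Nat.Coprime.pow_left k (Nat.Coprime.symm hx))
    rw [← hm]; exact pow_mem hk m
  set CC := (T : Subgroup (Γ ⧸ Cfsg.pCore p Γ)) ⊓ Subgroup.centralizer (K : Set (Γ ⧸ Cfsg.pCore p Γ)) with hCC
  have hCn : CC.Normal := by
    rw [← Subgroup.normalizer_eq_top_iff, eq_top_iff, ← hTK]
    refine sup_le (fun t ht => ?_) (fun k hk => ?_)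
    · rw [mem_normalizer_iff_cj, hCC, cj_inf, mem_normalizer_iff_cj.1 (Subgroup.le_normalizer ht),
        mem_normalizer_iff_cj.1 (show t ∈ Subgroup.normalizer (Subgroup.centralizer (K : Set (Γ ⧸ Cfsg.pCore p Γ)) : Set (Γ ⧸ Cfsg.pCore p Γ)) by
          rw [Subgroup.normalizer_eq_top]; trivial)]
    · refine Subgroup.centralizer_le_normalizer _ ?_
      rw [Subgroup.mem_centralizer_iff]
      intro c hc
      exact (Subgroup.mem_centralizer_iff.1 (Subgroup.mem_inf.1 hc).2 k hk).symm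
  have hfin : π (φ gN) ∈ CC := Subgroup.mem_inf.2 ⟨hT (Subgroup.mem_zpowers _),
    Subgroup.mem_centralizer_iff.2 hgK⟩
  have hbot := Cfsg.Agent.Lib.Cores.le_pCore hCn (T.2.to_le inf_le_left) hfin
  rw [Cfsg.Agent.Lib.Cores.pCore_quotient_pCore p Γ, Subgroup.mem_bot] at hbot
  exact (QuotientGroup.eq_one_iff _).1 hbot

/-- the minimal configuration of Thompson's criterion has such a top -/
lemma hasAbTop_minimal {Y : Type u} [Group Y] [Finite Y]
    (hnpc : Cfsg.HasNormalPComplement p (Y ⧸ Cfsg.pCore p Y)) (S : Sylow p Y) (hco : IsCoatom (S : Subgroup Y)) :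
    HasAbTop p Y := by
  set Q := Cfsg.pCore p Y with hQdef
  have hQn : Q.Normal := by rw [hQdef]; infer_instance
  have hQS : Q ≤ (S : Subgroup Y) := pCore_le_S S
  set π := QuotientGroup.mk' Q with hπ
  set K := Cfsg.pResidual p (Y ⧸ Q) with hKdef
  have hcop : (Nat.card K).Coprime p := Cfsg.Agent.Lib.Transfer.hasNormalPComplement_iff_coprime.1 hnpc
  set T := S.mapSurjective (QuotientGroup.mk'_surjective Q) with hTdef
  have hTcoe : (T : Subgroup (Y ⧸ Q)) = (S : Subgroup Y).map π := Sylow.coe_mapSurjective _ S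
  have hcomapS : ((S : Subgroup Y).map π).comap π = (S : Subgroup Y) := by
    rw [Subgroup.comap_map_eq, QuotientGroup.ker_mk', sup_eq_left.2 hQS]
  have hTco : IsCoatom (T : Subgroup (Y ⧸ Q)) := by
    rw [hTcoe]
    refine ⟨fun h => hco.1 ?_, fun H hH => ?_⟩
    · rw [← hcomapS, h, Subgroup.comap_top]
    · have h2 := Subgroup.comap_lt_comap_of_surjective (QuotientGroup.mk'_surjective Q) |>.2 hH
      rw [hcomapS] at h2
      have h3 := congrArg (Subgroup.map π) (hco.2 _ h2)
      rwa [Subgroup.map_comap_eq_self_of_surjective (QuotientGroup.mk'_surjective Q),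
        Subgroup.map_top_of_surjective π (QuotientGroup.mk'_surjective Q)] at h3
  obtain ⟨-, hKcomm⟩ := minimal_residual hcop T hTco
  refine ⟨K.comap π, inferInstance, fun x => ?_, ?_⟩
  · obtain ⟨j, hj⟩ := Cfsg.Agent.Lib.Transfer.isPGroup_quotient_pResidual (G := Y ⧸ Q) (p := p) (QuotientGroup.mk (π x))
    rw [← QuotientGroup.mk_pow, QuotientGroup.eq_one_iff, ← map_pow] at hj
    exact ⟨j, hj⟩
  · refine (Cfsg.Agent.Lib.Cores.pCore_isPGroup p Y).to_le ?_
    rw [Subgroup.commutator_le]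
    intro a ha b hb
    refine (QuotientGroup.eq_one_iff _).1 ?_
    show π ⁅a, b⁆ = 1
    rw [map_commutatorElement, commutatorElement_eq_one_iff_mul_comm]
    exact hKcomm _ ha _ hb

lemma hasAbTop_section {X : Type u} [Group X] (h : HasAbTop p X) (K R : Subgroup X) [(R.subgroupOf K).Normal] :
    HasAbTop p (↥K ⧸ R.subgroupOf K) :=
  hasAbTop_surjective (hasAbTop_subgroup h K) (QuotientGroup.mk' _) (QuotientGroup.mk'_surjective _)

/-- control of fusion by a subgroup containing the core makes it normal -/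
lemma normalizer_eq_top_of_controls {W : ∀ (Q : Type u) [Group Q], Subgroup Q} (hW : Cfsg.IsCharPFunctor.{u} p W)
    {X : Type u} [Group X] [Finite X] (hC : CharPType p X) (T : Sylow p X)
    (h : Cfsg.ControlsStrongFusion p (Cfsg.inducedFunctor (G := X) W (T : Subgroup X))) :
    Subgroup.normalizer ((Cfsg.inducedFunctor (G := X) W (T : Subgroup X) : Subgroup X) : Set X) = ⊤ := by
  obtain ⟨T', -, hT'⟩ := h
  set Nz := Subgroup.normalizer ((Cfsg.inducedFunctor (G := X) W (T : Subgroup X) : Subgroup X) : Set X)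
  rw [eq_top_iff]
  intro x _
  have hQn : (Cfsg.pCore p X).Normal := inferInstance
  obtain ⟨y, hy, hye⟩ := (hT' (Cfsg.pCore p X : Subgroup X) (pCore_le_S T')).2 x (by
    rintro _ ⟨q, hq, rfl⟩
    exact pCore_le_S T' (hQn.conj_mem q hq x))
  have hc : y⁻¹ * x ∈ Subgroup.centralizer ((Cfsg.pCore p X : Subgroup X) : Set X) := by
    rw [Subgroup.mem_centralizer_iff]
    intro q hq
    calc q * (y⁻¹ * x) = y⁻¹ * (y * q * y⁻¹) * x := by group
      _ = y⁻¹ * (x * q * x⁻¹) * x := by rw [hye q hq]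
      _ = _ := by group
  have := mul_mem hy (le_normalizer_inducedFunctor hW T.2 (pCore_le_S T (hC hc)))
  simpa using this

end Cfsg.Agent.Lib.FusionControl
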