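import Cfsg.Agent.Lib.FusionControl.CentralFunctor
import Cfsg.Agent.Lib.Solvable.Nilpotent

/-! Control of fusion passes from a normal subgroup to the group. -/

set_option autoImplicit false

open scoped commutatorElement

namespace Cfsg.Agent.Lib.FusionControl

variable {G : Type*} [Group G] {p : ℕ} [Fact p.Prime]

/-- `N_N(V)` controls the strong fusion of `R` in `N` -/
def SubCtrl (N R V : Subgroup G) : Prop :=
  ∀ A : Subgroup G, A ≤ R → ∀ n ∈ N, cj n A ≤ R →
    ∃ h ∈ N ⊓ Subgroup.normalizer (V : Set G), ∃ c ∈ N ⊓ Subgroup.centralizer (A : Set G), n = h * c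

omit [Fact p.Prime] in
lemma SubCtrl.map {N R V : Subgroup G} (hN : N.Normal) {x : G} (hx : x ∈ Subgroup.normalizer (R : Set G))
    (h : SubCtrl N R V) : SubCtrl N R (cj x V) := by
  intro A hA n hn hnA
  have hR : cj x⁻¹ R = R := mem_normalizer_iff_cj.1 (inv_mem hx)
  have h1 : cj x⁻¹ A ≤ R := by rw [← hR]; exact cj_le_cj hA
  have h2 : cj (x⁻¹ * n * x) (cj x⁻¹ A) ≤ R := by
    rw [cj_cj, show x⁻¹ * n * x * x⁻¹ = x⁻¹ * n by group, ← cj_cj, ← hR]
    exact cj_le_cj hnA
  obtain ⟨h', hh', c, hc, e⟩ := h _ h1 _ (by simpa using hN.conj_mem n hn x⁻¹) h2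
  refine ⟨x * h' * x⁻¹, Subgroup.mem_inf.2 ⟨hN.conj_mem h' (Subgroup.mem_inf.1 hh').1 x, ?_⟩,
    x * c * x⁻¹, Subgroup.mem_inf.2 ⟨hN.conj_mem c (Subgroup.mem_inf.1 hc).1 x, ?_⟩, ?_⟩
  · rw [← cj_normalizer]; exact conj_mem_cj (Subgroup.mem_inf.1 hh').2
  · have := conj_mem_cj (g := x) (Subgroup.mem_inf.1 hc).2
    rwa [cj_centralizer, cj_cj, mul_inv_cancel, show cj (1 : G) A = A from mem_normalizer_iff_cj.1 (one_mem _)] at this
  · calc n = x * (x⁻¹ * n * x) * x⁻¹ := by group
      _ = x * (h' * c) * x⁻¹ := by rw [e]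
      _ = _ := by group

omit [Fact p.Prime] in
/-- one element of `N` normalizing all the given subgroups -/
lemma exists_normalizing_all {N R : Subgroup G} : ∀ (L : List (Subgroup G)),
    (∀ V ∈ L, V ≤ R ∧ SubCtrl N R V) → ∀ A : Subgroup G, A ≤ R → ∀ n ∈ N, cj n A ≤ R →
    ∃ h ∈ N, (∀ a ∈ A, h * a * h⁻¹ = n * a * n⁻¹) ∧ ∀ V ∈ L, h ∈ Subgroup.normalizer (V : Set G) := by
  intro L
  induction L with
  | nil => intro _ A _ n hn _; exact ⟨n, hn, fun a _ => rfl, by simp⟩
  | cons V L ih =>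
    intro hL A hA n hn hnA
    obtain ⟨hVR, hV⟩ := hL V (List.mem_cons_self)
    obtain ⟨h, hh, c, hc, rfl⟩ := hV A hA n hn hnA
    obtain ⟨hhN, hhV⟩ := Subgroup.mem_inf.1 hh
    have hag : ∀ a ∈ A, h * a * h⁻¹ = h * c * a * (h * c)⁻¹ := by
      intro a ha
      have := Subgroup.mem_centralizer_iff.1 (Subgroup.mem_inf.1 hc).2 a ha
      calc h * a * h⁻¹ = h * (a * c) * c⁻¹ * h⁻¹ := by group
        _ = h * (c * a) * c⁻¹ * h⁻¹ := by rw [this]
        _ = _ := by group
    have hAV : cj h (A ⊔ V) ≤ R := by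
      rw [cj, Subgroup.map_sup]
      refine sup_le ?_ ((mem_normalizer_iff_cj.1 hhV).le.trans hVR)
      rw [Subgroup.map_le_iff_le_comap]
      intro a ha
      show h * a * h⁻¹ ∈ R
      rw [hag a ha]; exact hnA (conj_mem_cj ha)
    obtain ⟨h', hh', hag', hL'⟩ := ih (fun U hU => hL U (List.mem_cons_of_mem _ hU)) (A ⊔ V) (sup_le hA hVR) h hhN hAV
    refine ⟨h', hh', fun a ha => (hag' a (Subgroup.mem_sup_left ha)).trans (hag a ha), fun U hU => ?_⟩
    rcases List.mem_cons.1 hU with rfl | hU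
    · rw [mem_normalizer_iff_cj]
      conv_rhs => rw [← mem_normalizer_iff_cj.1 hhV]
      ext y
      exact ⟨fun ⟨v, hv, e⟩ => ⟨v, hv, (hag' v (Subgroup.mem_sup_right hv)).symm.trans e⟩,
        fun ⟨v, hv, e⟩ => ⟨v, hv, (hag' v (Subgroup.mem_sup_right hv)).trans e⟩⟩
    · exact hL' U hU

/-- agreement with an element of `M` -/
def Agree (M : Subgroup G) (A : Set G) (g : G) : Prop := ∃ m ∈ M, ∀ a ∈ A, m * a * m⁻¹ = g * a * g⁻¹

omit [Fact p.Prime] in
lemma Agree.comp {M : Subgroup G} {A : Set G} {x y : G} (h1 : Agree M A x) (h2 : Agree M (cs x A) y) :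
    Agree M A (y * x) := by
  obtain ⟨u, hu, hue⟩ := h1
  obtain ⟨v, hv, hve⟩ := h2
  refine ⟨v * u, mul_mem hv hu, fun a ha => ?_⟩
  calc v * u * a * (v * u)⁻¹ = v * (u * a * u⁻¹) * v⁻¹ := by group
    _ = v * (x * a * x⁻¹) * v⁻¹ := by rw [hue a ha]
    _ = y * (x * a * x⁻¹) * y⁻¹ := hve _ ⟨a, ha, rfl⟩
    _ = _ := by group

variable [Finite G]

/-- Frattini, with the normalizing factor on the left or right -/
lemma exists_frattini_split {K R : Subgroup G} (hRK : R ≤ K) (hR : IsPGroup p R) (hRi : ¬ p ∣ R.relIndex K)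
    {x : G} (hx : x ∈ Subgroup.normalizer (K : Set G)) : ∃ k ∈ K, ∃ y ∈ Subgroup.normalizer (R : Set G), x = k * y := by
  obtain ⟨k, hk, hkx⟩ := exists_frattini hRK hR hRi hx
  exact ⟨k⁻¹, inv_mem hk, k * x, hkx, by group⟩

/-- control of fusion in `N` by normalizers of conjugates of `V` gives control in `G` by `N(W)` -/
theorem normal_control (N : Subgroup G) [hN : N.Normal] (P : Sylow p G) (V W : Subgroup G)
    (hV : V ≤ (P : Subgroup G) ⊓ N) (hctrl : SubCtrl N ((P : Subgroup G) ⊓ N) V)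
    (hW : W = Subgroup.closure (⋃ x ∈ Subgroup.normalizer (((P : Subgroup G) ⊓ N : Subgroup G) : Set G),
      ((cj x V : Subgroup G) : Set G)))
    (A : Subgroup G) (hA : A ≤ (P : Subgroup G)) (g : G) (hgA : cj g A ≤ (P : Subgroup G)) :
    Agree (Subgroup.normalizer (W : Set G)) (A : Set G) g := by
  classical
  set R := (P : Subgroup G) ⊓ N with hR
  set M := Subgroup.normalizer (W : Set G) with hM
  have hnormN : ∀ x : G, x ∈ Subgroup.normalizer (N : Set G) := fun x => by rw [Subgroup.normalizer_eq_top]; trivial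
  have hNRW : Subgroup.normalizer (R : Set G) ≤ M := by
    intro y hy
    refine mem_normalizer_of_cj_le ?_
    rw [hW, cj, MonoidHom.map_closure, Subgroup.closure_le]
    rintro _ ⟨z, hz, rfl⟩
    obtain ⟨x, hx, hzx⟩ : ∃ x ∈ Subgroup.normalizer (R : Set G), z ∈ cj x V := by simpa using hz
    refine Subgroup.subset_closure ?_
    simp only [Set.mem_iUnion]
    exact ⟨y * x, mul_mem hy hx, by rw [← cj_cj]; exact conj_mem_cj hzx⟩
  have hPR : (P : Subgroup G) ≤ Subgroup.normalizer (R : Set G) := fun s hs => by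
    rw [mem_normalizer_iff_cj, hR, cj_inf, mem_normalizer_iff_cj.1 (Subgroup.le_normalizer hs),
      mem_normalizer_iff_cj.1 (hnormN s)]
  have hPM : (P : Subgroup G) ≤ M := hPR.trans hNRW
  -- fusion inside `N`
  have hfus : ∀ T : Subgroup G, T ≤ R → ∀ n ∈ N, cj n T ≤ R →
      ∃ h ∈ N, h ∈ M ∧ ∀ a ∈ T, h * a * h⁻¹ = n * a * n⁻¹ := by
    intro T hT n hn hnT
    have hfin : ((fun x => cj x V) '' (Subgroup.normalizer (R : Set G) : Set G)).Finite := Set.toFinite _
    obtain ⟨h, hh, hag, hall⟩ := exists_normalizing_all (R := R) hfin.toFinset.toList (by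
      intro U hU
      rw [Finset.mem_toList, Set.Finite.mem_toFinset] at hU
      obtain ⟨x, hx, rfl⟩ := hU
      exact ⟨(cj_le_cj hV).trans (mem_normalizer_iff_cj.1 hx).le, hctrl.map hN hx⟩) T hT n hn hnT
    refine ⟨h, hh, ?_, hag⟩
    refine mem_normalizer_of_cj_le ?_
    rw [hW, cj, MonoidHom.map_closure, Subgroup.closure_le]
    rintro _ ⟨z, hz, rfl⟩
    obtain ⟨x, hx, hzx⟩ : ∃ x ∈ Subgroup.normalizer (R : Set G), z ∈ cj x V := by simpa using hz
    have hn' := hall (cj x V) (by rw [Finset.mem_toList, Set.Finite.mem_toFinset]; exact ⟨x, hx, rfl⟩)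
    refine Subgroup.subset_closure ?_
    simp only [Set.mem_iUnion]
    exact ⟨x, hx, (Subgroup.mem_normalizer_iff.1 hn' z).1 hzx⟩
  suffices main : ∀ (k : ℕ) (T : Subgroup G), Nat.card (P : Subgroup G) - Nat.card T = k → T ≤ (P : Subgroup G) →
      ∀ g : G, cj g T ≤ (P : Subgroup G) → Agree M (T : Set G) g from main _ A rfl hA g hgA
  intro k
  induction k using Nat.strong_induction_on with
  | _ k ih =>
    intro T hk hT g hg
    have hch := chain_of_extr P {U | Extr p (P : Subgroup G) U} (fun U hU => by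
      obtain ⟨c, _, hc⟩ := exists_extr_cj P hU
      exact ⟨_, hc, c, rfl, hc⟩) T g hT hg
    suffices key : ∀ U : Subgroup G, Extr p (P : Subgroup G) U → Nat.card T ≤ Nat.card U →
        ∀ x ∈ Subgroup.normalizer (U : Set G), Agree M (U : Set G) x by
      suffices key2 : ∀ (A : Set G) (g : G), Chain {U | Extr p (P : Subgroup G) U} A g →
          ∀ T' : Subgroup G, (T' : Set G) = A → Nat.card T' = Nat.card T → Agree M A g from key2 _ g hch T rfl rfl
      intro A g h
      induction h with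
      | @step A x U hU hA hx =>
        intro T' hT' hc
        obtain ⟨m, hm, hme⟩ := key U hU (hc ▸ Subgroup.card_le_of_le (fun r hr => hA (hT' ▸ hr))) x hx
        exact ⟨m, hm, fun a ha => hme a (hA ha)⟩
      | @comp A x y _ _ ih1 ih2 =>
        intro T' hT' hc
        exact (ih1 T' hT' hc).comp (ih2 (cj x T') (by rw [← hT']; rfl) (by rw [card_cj]; exact hc))
    intro U hU hcard x hx
    -- larger subgroups are known
    have big : ∀ (U' : Subgroup G) (y : G), U < U' → U' ≤ (P : Subgroup G) → y ∈ Subgroup.normalizer (U' : Set G) →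
        Agree M (U : Set G) y := by
      intro U' y hlt hle hy
      have := card_lt_of_lt hlt
      have := Subgroup.card_le_of_le hle
      obtain ⟨m, hm, hme⟩ := ih _ (by omega) U' rfl hle y (by rw [mem_normalizer_iff_cj.1 hy]; exact hle)
      exact ⟨m, hm, fun a ha => hme a (hlt.le ha)⟩
    set NU := Subgroup.normalizer (U : Set G) with hNU
    have hUp : IsPGroup p U := P.2.to_le hU.1
    have hRp : IsPGroup p R := P.2.to_le inf_le_left
    by_cases hRU : R ≤ U
    · refine ⟨x, hNRW ?_, fun a _ => rfl⟩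
      have e : R = U ⊓ N := le_antisymm (le_inf hRU inf_le_right) (inf_le_inf_right N hU.1)
      rw [mem_normalizer_iff_cj, e, cj_inf, mem_normalizer_iff_cj.1 hx, mem_normalizer_iff_cj.1 (hnormN x)]
    set L := N ⊓ NU with hL
    have hNL : NU ≤ Subgroup.normalizer (L : Set G) := fun y hy => by
      rw [mem_normalizer_iff_cj, hL, cj_inf, mem_normalizer_iff_cj.1 (Subgroup.le_normalizer hy),
        mem_normalizer_iff_cj.1 (hnormN y)]
    have hRi : ¬ p ∣ (nS (P : Subgroup G) U ⊓ L).relIndex L :=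
      not_dvd_relIndex_inf inf_le_right (P.2.to_le inf_le_left) hU.2 inf_le_right hNL
    set RU := nS (P : Subgroup G) U ⊓ L with hRUdef
    have hRUeq : RU = R ⊓ NU := le_antisymm
      (le_inf (le_inf (inf_le_left.trans inf_le_left) (inf_le_right.trans inf_le_left)) (inf_le_left.trans inf_le_right))
      (le_inf (le_inf (inf_le_left.trans inf_le_left) inf_le_right) (le_inf (inf_le_left.trans inf_le_right) inf_le_right))
    obtain ⟨l, hl, y, hy, rfl⟩ := exists_frattini_split (inf_le_right : RU ≤ L) ((P.2.to_le inf_le_left).to_le inf_le_left) hRi (hNL hx)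
    have hlNU : l ∈ NU := (Subgroup.mem_inf.1 hl).2
    have hyNU : y ∈ NU := by
      have := mul_mem (inv_mem hlNU) hx
      simpa using this
    have hstrict : ¬ RU ≤ U := by
      intro hle
      apply hRU
      by_contra hne
      have hUR : U ≤ Subgroup.normalizer (R : Set G) := hU.1.trans hPR
      have hlt : U < R ⊔ U := lt_of_le_not_ge le_sup_right (fun h => hne (le_sup_left.trans h))
      have hp2 : IsPGroup p ↥(R ⊔ U) := P.2.to_le (sup_le inf_le_left hU.1)
      obtain ⟨z, hz, hzU⟩ := SetLike.exists_of_lt (lt_nS hp2 hlt)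
      obtain ⟨hz1, hz2⟩ := Subgroup.mem_inf.1 hz
      obtain ⟨r, hr, u, hu, rfl⟩ := Cfsg.Agent.Lib.Coprime.exists_mul_of_mem_sup hUR hz1
      have hrN : r ∈ NU := by
        have := mul_mem hz2 (inv_mem (Subgroup.le_normalizer hu : u ∈ NU))
        simpa using this
      exact hzU (mul_mem (hle (hRUeq ▸ Subgroup.mem_inf.2 ⟨hr, hrN⟩)) hu)
    have c1 : Agree M (U : Set G) y := by
      refine big (U ⊔ RU) y (lt_of_le_not_ge le_sup_left (fun h => hstrict (le_sup_right.trans h)))
        (sup_le hU.1 (inf_le_left.trans inf_le_left)) ?_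
      exact Cfsg.Agent.Lib.Coprime.le_normalizer_sup inf_le_left inf_le_right
        (Subgroup.mem_inf.2 ⟨hyNU, hy⟩ : y ∈ Subgroup.normalizer (U : Set G) ⊓ Subgroup.normalizer (RU : Set G))
    suffices c2 : Agree M (U : Set G) l by
      refine c1.comp ?_
      rw [cs_subgroup, mem_normalizer_iff_cj.1 hyNU]
      exact c2
    clear c1 hy hyNU hx
    -- the element of `N`
    set T0 := U ⊓ N with hT0
    have hT0N : NU ≤ Subgroup.normalizer (T0 : Set G) := fun z hz => by
      rw [mem_normalizer_iff_cj, hT0, cj_inf, mem_normalizer_iff_cj.1 hz, mem_normalizer_iff_cj.1 (hnormN z)]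
    set CL := L ⊓ Subgroup.centralizer (T0 : Set G) with hCL
    have hLCL : L ≤ Subgroup.normalizer (CL : Set G) := fun z hz => by
      rw [mem_normalizer_iff_cj, hCL, cj_inf, mem_normalizer_iff_cj.1 (Subgroup.le_normalizer hz),
        mem_normalizer_iff_cj.1 (normalizer_le_normalizer_centralizer T0 (hT0N (Subgroup.mem_inf.1 hz).2))]
    set D := RU ⊓ CL with hD
    have hDi : ¬ p ∣ D.relIndex CL :=
      not_dvd_relIndex_inf inf_le_right ((P.2.to_le inf_le_left).to_le inf_le_left) hRi inf_le_left hLCL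
    have hDP : D ≤ (P : Subgroup G) := inf_le_left.trans (inf_le_left.trans inf_le_left)
    have hcl : ∀ c ∈ CL, Agree M (U : Set G) c := by
      intro c hc
      have hres : ∀ b ∈ CL, (orderOf b).Coprime p → b ∈ Subgroup.centralizer (U : Set G) := by
        intro b hb hbp
        obtain ⟨hb1, hb2⟩ := Subgroup.mem_inf.1 hb
        obtain ⟨hbN, hbU⟩ := Subgroup.mem_inf.1 hb1
        rw [Subgroup.mem_centralizer_iff]
        intro r hr
        set q := r⁻¹ * (b * r * b⁻¹) with hq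
        have hqT : q ∈ T0 := by
          refine Subgroup.mem_inf.2 ⟨mul_mem (inv_mem hr) ((Subgroup.mem_normalizer_iff.1 hbU r).1 hr), ?_⟩
          rw [hq, show r⁻¹ * (b * r * b⁻¹) = r⁻¹ * b * r * b⁻¹ by group]
          exact mul_mem (hN.conj_mem' b hbN r) (inv_mem hbN)
        have hqb : Commute q b := Subgroup.mem_centralizer_iff.1 hb2 q hqT
        have key : ∀ i : ℕ, b ^ i * r * (b ^ i)⁻¹ = r * q ^ i := by
          intro i
          induction i with
          | zero => simp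
          | succ i ihh =>
            calc b ^ (i + 1) * r * (b ^ (i + 1))⁻¹ = b ^ i * (b * r * b⁻¹) * (b ^ i)⁻¹ := by rw [pow_succ]; group
              _ = b ^ i * (r * q) * (b ^ i)⁻¹ := by rw [hq]; group
              _ = (b ^ i * r * (b ^ i)⁻¹) * (b ^ i * q * (b ^ i)⁻¹) := by group
              _ = r * q ^ i * q := by
                rw [ihh]
                congr 1
                rw [← (hqb.pow_right i).eq, mul_inv_cancel_right]
              _ = _ := by rw [pow_succ, mul_assoc]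
        have h3 := key (orderOf b)
        rw [pow_orderOf_eq_one, one_mul, inv_one, mul_one] at h3
        have h4 : q ^ orderOf b = 1 := by
          have : r * q ^ orderOf b = r * 1 := by rw [← h3, mul_one]
          exact mul_left_cancel this
        have h5 : q = 1 := Cfsg.Agent.Lib.Transfer.eq_one_of_isPGroup_of_coprime hUp (Subgroup.mem_inf.1 hqT).1
          (Nat.Coprime.coprime_dvd_left (orderOf_dvd_of_pow_eq_one h4) hbp)
        rw [hq, inv_mul_eq_one] at h5
        exact mul_inv_eq_iff_eq_mul.1 h5.symm |>.symm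
      let PC : Sylow p CL := ((P.2.to_le hDP).comap_of_injective CL.subtype CL.subtype_injective :
        IsPGroup p (D.subgroupOf CL)).toSylow hDi
      have hmem : (⟨c, hc⟩ : CL) ∈ (PC : Subgroup CL) ⊔ Cfsg.pResidual p CL :=
        (Cfsg.Agent.Lib.Transfer.sylow_sup_pResidual PC) ▸ Subgroup.mem_top _
      obtain ⟨w, hw, m, hm, hwm⟩ := Subgroup.mem_sup_of_normal_right.1 hmem
      refine ⟨w, hPM (hDP (Subgroup.mem_subgroupOf.1 hw)), fun a ha => ?_⟩
      have hle : Cfsg.pResidual p CL ≤ (Subgroup.centralizer (U : Set G)).comap CL.subtype := by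
        rw [Cfsg.pResidual, Subgroup.closure_le]
        exact fun z hz => hres z z.2 (by rw [Subgroup.orderOf_coe]; exact hz)
      have hmc : (m : G) ∈ Subgroup.centralizer (U : Set G) := hle hm
      rw [← show (w : G) * m = c from congrArg Subtype.val hwm]
      have := Subgroup.mem_centralizer_iff.1 hmc a ha
      calc (w : G) * a * (w : G)⁻¹ = w * (a * m) * (m : G)⁻¹ * (w : G)⁻¹ := by group
        _ = w * (m * a) * (m : G)⁻¹ * (w : G)⁻¹ := by rw [this]
        _ = _ := by group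
    by_cases hDU : D ≤ U
    swap
    · obtain ⟨c, hc, y, hy, rfl⟩ := exists_frattini_split (inf_le_right : D ≤ CL) (P.2.to_le hDP) hDi (hLCL hl)
      have hyNU : y ∈ NU := by
        have := mul_mem (inv_mem ((Subgroup.mem_inf.1 (Subgroup.mem_inf.1 hc).1).2)) hlNU
        simpa using this
      refine (big (U ⊔ D) y (lt_of_le_not_ge le_sup_left (fun h => hDU (le_sup_right.trans h))) (sup_le hU.1 hDP)
        (Cfsg.Agent.Lib.Coprime.le_normalizer_sup inf_le_left inf_le_right
          (Subgroup.mem_inf.2 ⟨hyNU, hy⟩ : y ∈ Subgroup.normalizer (U : Set G) ⊓ Subgroup.normalizer (D : Set G)))).comp ?_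
      rw [cs_subgroup, mem_normalizer_iff_cj.1 hyNU]
      exact hcl c hc
    -- the small case
    have hDT : D ≤ T0 := le_inf hDU (inf_le_right.trans (inf_le_left.trans inf_le_left))
    set C0 := N ⊓ Subgroup.centralizer (T0 : Set G) with hC0
    have hNT0C : Subgroup.normalizer (T0 : Set G) ≤ Subgroup.normalizer (C0 : Set G) := fun z hz => by
      rw [mem_normalizer_iff_cj, hC0, cj_inf, mem_normalizer_iff_cj.1 (hnormN z),
        mem_normalizer_iff_cj.1 (normalizer_le_normalizer_centralizer T0 hz)]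
    have hUC0 : U ≤ Subgroup.normalizer (C0 : Set G) := (Subgroup.le_normalizer.trans hT0N).trans hNT0C
    obtain ⟨Y, hUY, hYle, hYp, hYi⟩ := exists_sylow_in p (C0 ⊔ U) (le_sup_right : U ≤ C0 ⊔ U) hUp
    set Q := Y ⊓ C0 with hQ
    have hC0n : C0 ⊔ U ≤ Subgroup.normalizer (C0 : Set G) := sup_le Subgroup.le_normalizer hUC0
    have hQi : ¬ p ∣ Q.relIndex C0 := not_dvd_relIndex_inf hYle hYp hYi le_sup_left hC0n
    have hQT : Q ≤ T0 := by
      by_contra hne
      have hUQ : U ≤ Subgroup.normalizer (Q : Set G) := fun z hz => by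
        rw [mem_normalizer_iff_cj, hQ, cj_inf, mem_normalizer_iff_cj.1 (Subgroup.le_normalizer (hUY hz)),
          mem_normalizer_iff_cj.1 (hUC0 hz)]
      have hp2 : IsPGroup p ↥(Q ⊔ U) := hYp.to_le (sup_le inf_le_left hUY)
      have hlt : U < Q ⊔ U := lt_of_le_not_ge le_sup_right (fun h =>
        hne (le_inf (le_sup_left.trans h) (inf_le_right.trans inf_le_left)))
      obtain ⟨z, hz, hzU⟩ := SetLike.exists_of_lt (lt_nS hp2 hlt)
      obtain ⟨hz1, hz2⟩ := Subgroup.mem_inf.1 hz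
      obtain ⟨d, hd, u, hu, rfl⟩ := Cfsg.Agent.Lib.Coprime.exists_mul_of_mem_sup hUQ hz1
      have hdN : d ∈ NU := by
        have := mul_mem hz2 (inv_mem (Subgroup.le_normalizer hu : u ∈ NU))
        simpa using this
      obtain ⟨hdY, hdC⟩ := Subgroup.mem_inf.1 hd
      have hdCL : Subgroup.zpowers d ≤ CL := Subgroup.zpowers_le.2
        (Subgroup.mem_inf.2 ⟨Subgroup.mem_inf.2 ⟨(Subgroup.mem_inf.1 hdC).1, hdN⟩, (Subgroup.mem_inf.1 hdC).2⟩)
      obtain ⟨c, hc, hle⟩ := exists_cj_le_of_not_dvd (inf_le_right : D ≤ CL) (P.2.to_le hDP) hDi hdCL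
        (hYp.to_le (Subgroup.zpowers_le.2 hdY))
      have h1 : c * d * c⁻¹ ∈ T0 := hDT (hle (conj_mem_cj (Subgroup.mem_zpowers d)))
      have h2 := Subgroup.mem_centralizer_iff.1 (Subgroup.mem_inf.1 hc).2 _ h1
      have h3 : c * d * c⁻¹ = d := by
        have e : c * (c * d * c⁻¹) = c * d := by rw [← h2]; group
        exact mul_left_cancel e
      rw [h3] at h1
      exact hzU (mul_mem (Subgroup.mem_inf.1 h1).1 hu)
    let PQ : Sylow p C0 := ((hYp.to_le inf_le_left).comap_of_injective C0.subtype C0.subtype_injective :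
      IsPGroup p (Q.subgroupOf C0)).toSylow hQi
    have hcentQ : Subgroup.normalizer ((PQ : Subgroup C0) : Set C0) ≤ Subgroup.centralizer ((PQ : Subgroup C0) : Set C0) := by
      intro e _
      rw [Subgroup.mem_centralizer_iff]
      intro w hw
      exact Subtype.ext (Subgroup.mem_centralizer_iff.1 (Subgroup.mem_inf.1 e.2).2 _ (hQT (Subgroup.mem_subgroupOf.1 hw)))
    have hnpc := Cfsg.Agent.Lib.Transfer.hasNormalPComplement_of_normalizer_le_centralizer PQ hcentQ
    rw [Cfsg.Agent.Lib.Transfer.hasNormalPComplement_iff_coprime] at hnpc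
    set O := (Cfsg.pResidual p C0).map C0.subtype with hO
    have hOcop : (Nat.card O).Coprime p := by rw [hO, Subgroup.card_map_of_injective C0.subtype_injective]; exact hnpc
    have hOn : Subgroup.normalizer (T0 : Set G) ≤ Subgroup.normalizer (O : Set G) :=
      hNT0C.trans (Cfsg.Agent.Lib.Cores.normalizer_le_normalizer_map_subtype C0 _)
    have hlT : l ∈ Subgroup.normalizer (T0 : Set G) := hT0N hlNU
    obtain ⟨h, hhN, hhM, hhag⟩ := hfus T0 (inf_le_inf_right N hU.1) l (Subgroup.mem_inf.1 hl).1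
      (by rw [mem_normalizer_iff_cj.1 hlT]; exact inf_le_inf_right N hU.1)
    have hhT : h ∈ Subgroup.normalizer (T0 : Set G) := by
      rw [mem_normalizer_iff_cj]
      conv_rhs => rw [← mem_normalizer_iff_cj.1 hlT]
      ext z
      exact ⟨fun ⟨v, hv, e⟩ => ⟨v, hv, (hhag v hv).symm.trans e⟩, fun ⟨v, hv, e⟩ => ⟨v, hv, (hhag v hv).trans e⟩⟩
    set OM := O ⊓ M with hOM
    have hUOM : U ≤ Subgroup.normalizer (OM : Set G) := fun z hz => by
      rw [mem_normalizer_iff_cj, hOM, cj_inf, mem_normalizer_iff_cj.1 (hOn (hT0N (Subgroup.le_normalizer hz))),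
        mem_normalizer_iff_cj.1 (Subgroup.le_normalizer (hPM (hU.1 hz)))]
    set J := OM ⊔ U with hJ
    have hJsub : cj h U ≤ J := by
      rintro _ ⟨t, ht, rfl⟩
      show h * t * h⁻¹ ∈ J
      have hltl : l * t * l⁻¹ ∈ U := (Subgroup.mem_normalizer_iff.1 hlNU t).1 ht
      have hc : h * t * h⁻¹ * (l * t * l⁻¹)⁻¹ ∈ C0 ⊓ M := by
        refine Subgroup.mem_inf.2 ⟨Subgroup.mem_inf.2 ⟨?_, ?_⟩, mul_mem (mul_mem (mul_mem hhM (hPM (hU.1 ht))) (inv_mem hhM))
          (inv_mem (hPM (hU.1 hltl)))⟩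
        · rw [show h * t * h⁻¹ * (l * t * l⁻¹)⁻¹ = (h * (t * h⁻¹ * t⁻¹)) * (t * l * t⁻¹ * l⁻¹) by group]
          exact mul_mem (mul_mem hhN (hN.conj_mem _ (inv_mem hhN) t))
            (mul_mem (hN.conj_mem _ (Subgroup.mem_inf.1 hl).1 t) (inv_mem (Subgroup.mem_inf.1 hl).1))
        · rw [Subgroup.mem_centralizer_iff]
          intro r hr
          have hr1 : l⁻¹ * r * l ∈ T0 := by
            have := (Subgroup.mem_normalizer_iff.1 (inv_mem hlT) r).1 hr
            simpa using this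
          have hr2 : t⁻¹ * (l⁻¹ * r * l) * t ∈ T0 := by
            have := (Subgroup.mem_normalizer_iff.1 (inv_mem (hT0N (Subgroup.le_normalizer ht))) _).1 hr1
            simpa using this
          have e1 := hhag _ hr1
          have e2 := hhag _ hr2
          have : h * t * h⁻¹ * (l * t * l⁻¹)⁻¹ * r * (h * t * h⁻¹ * (l * t * l⁻¹)⁻¹)⁻¹ = r := by
            calc h * t * h⁻¹ * (l * t * l⁻¹)⁻¹ * r * (h * t * h⁻¹ * (l * t * l⁻¹)⁻¹)⁻¹
                = h * t * h⁻¹ * (l * (t⁻¹ * (l⁻¹ * r * l) * t) * l⁻¹) * (h * t * h⁻¹)⁻¹ := by group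
              _ = h * t * h⁻¹ * (h * (t⁻¹ * (l⁻¹ * r * l) * t) * h⁻¹) * (h * t * h⁻¹)⁻¹ := by rw [← e2]
              _ = h * (l⁻¹ * r * l) * h⁻¹ := by group
              _ = l * (l⁻¹ * r * l) * l⁻¹ := e1
              _ = r := by group
          exact (mul_inv_eq_iff_eq_mul.1 this).symm
      obtain ⟨hcC, hcM⟩ := Subgroup.mem_inf.1 hc
      have hmem : (⟨_, hcC⟩ : C0) ∈ (PQ : Subgroup C0) ⊔ Cfsg.pResidual p C0 :=
        (Cfsg.Agent.Lib.Transfer.sylow_sup_pResidual PQ) ▸ Subgroup.mem_top _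
      obtain ⟨w, hw, m, hm, hwm⟩ := Subgroup.mem_sup_of_normal_right.1 hmem
      have hwU : (w : G) ∈ U := (Subgroup.mem_inf.1 (hQT (Subgroup.mem_subgroupOf.1 hw))).1
      have hwm' : (w : G) * m = h * t * h⁻¹ * (l * t * l⁻¹)⁻¹ := congrArg Subtype.val hwm
      have hmM : (m : G) ∈ M := by
        have := mul_mem (inv_mem (hPM (hU.1 hwU))) hcM
        rwa [← hwm', inv_mul_cancel_left] at this
      rw [show h * t * h⁻¹ = (w : G) * m * (l * t * l⁻¹) by rw [hwm']; group]
      exact mul_mem (mul_mem (Subgroup.mem_sup_right hwU) (Subgroup.mem_sup_left (Subgroup.mem_inf.2 ⟨⟨m, hm, rfl⟩, hmM⟩)))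
        (Subgroup.mem_sup_right hltl)
    have hUi : ¬ p ∣ U.relIndex J := by
      have hdis : OM ⊓ U = ⊥ := by
        rw [eq_bot_iff]
        rintro z ⟨hz1, hz2⟩
        exact Subgroup.mem_bot.2 (Cfsg.Agent.Lib.Transfer.eq_one_of_isPGroup_of_coprime hUp hz2
          (Cfsg.Agent.Lib.Transfer.coprime_orderOf_of_mem hOcop (Subgroup.mem_inf.1 hz1).1))
      have hc := Cfsg.Agent.Lib.Coprime.card_sup_mul_card_inf hUOM
      have h2 := Cfsg.Agent.Lib.Coprime.relIndex_mul_card (show U ≤ J from le_sup_right)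
      rw [hdis, Subgroup.card_bot, mul_one, ← hJ] at hc
      rw [hc, mul_comm] at h2
      have : U.relIndex J = Nat.card OM :=
        Nat.eq_of_mul_eq_mul_left (Nat.card_pos (α := U)) ((mul_comm _ _).trans (h2.trans (mul_comm _ _)))
      intro hd
      rw [this] at hd
      exact (Fact.out : p.Prime).coprime_iff_not_dvd.1 hOcop.symm (hd.trans (Subgroup.card_dvd_of_le inf_le_left))
    obtain ⟨j, hj, hjle⟩ := exists_cj_le_of_not_dvd le_sup_right hUp hUi hJsub (isPGroup_cj hUp)
    rw [cj_cj] at hjle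
    obtain ⟨w, hw, u, hu, rfl⟩ := Cfsg.Agent.Lib.Coprime.exists_mul_of_mem_sup hUOM hj
    set w' := u⁻¹ * w * u with hw'
    have hw'OM : w' ∈ OM := by
      have := (Subgroup.mem_normalizer_iff.1 (inv_mem (hUOM hu)) w).1 hw
      simpa [hw'] using this
    obtain ⟨hw'O, hw'M⟩ := Subgroup.mem_inf.1 hw'OM
    set h' := w' * h with hh'
    have hh'U : h' ∈ NU := by
      refine mem_normalizer_of_cj_le ?_
      rw [show h' = u⁻¹ * (w * u * h) by rw [hh', hw']; group, ← cj_cj]
      exact (cj_le_cj hjle).trans (mem_normalizer_iff_cj.1 (Subgroup.le_normalizer (inv_mem hu))).le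
    have hw'C : w' ∈ C0 := Subgroup.map_subtype_le _ hw'O
    have hag' : ∀ a ∈ T0, h' * a * h'⁻¹ = l * a * l⁻¹ := by
      intro a ha
      have hha : h * a * h⁻¹ ∈ T0 := (Subgroup.mem_normalizer_iff.1 hhT a).1 ha
      have := Subgroup.mem_centralizer_iff.1 (Subgroup.mem_inf.1 hw'C).2 _ hha
      rw [hh', show w' * h * a * (w' * h)⁻¹ = w' * (h * a * h⁻¹) * w'⁻¹ by group, ← this, mul_inv_cancel_right, hhag a ha]
    have hk : h'⁻¹ * l ∈ CL := by
      refine Subgroup.mem_inf.2 ⟨Subgroup.mem_inf.2 ⟨mul_mem (inv_mem (mul_mem (Subgroup.mem_inf.1 hw'C).1 hhN)) (Subgroup.mem_inf.1 hl).1,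
        mul_mem (inv_mem hh'U) hlNU⟩, ?_⟩
      rw [Subgroup.mem_centralizer_iff]
      intro a ha
      calc a * (h'⁻¹ * l) = h'⁻¹ * (h' * a * h'⁻¹) * l := by group
        _ = h'⁻¹ * (l * a * l⁻¹) * l := by rw [hag' a ha]
        _ = _ := by group
    obtain ⟨m, hm, hme⟩ := hcl _ hk
    refine ⟨h' * m, mul_mem (mul_mem hw'M hhM) hm, fun a ha => ?_⟩
    calc h' * m * a * (h' * m)⁻¹ = h' * (m * a * m⁻¹) * h'⁻¹ := by group
      _ = h' * (h'⁻¹ * l * a * (h'⁻¹ * l)⁻¹) * h'⁻¹ := by rw [hme a ha]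
      _ = _ := by group

end Cfsg.Agent.Lib.FusionControl
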