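import Cfsg.Agent.Lib.FusionControl.FactorSL2
import Cfsg.Agent.Lib.Characters.PSolvableTI
import Cfsg.Agent.Lib.PLocal.NoSLTwo
import Cfsg.Agent.Lib.PLocal.Factor
import Cfsg.Agent.Lib.PGroups.Subnormal
import Cfsg.Agent.Lib.Blocks.PSolvable
import Cfsg.Agent.Lib.Coprime.Action
import Mathlib.GroupTheory.SemidirectProduct

/-!
The configuration of offenders attached to a `p`-separable `K ≤ G`, with the action of `N_G(K)`.
-/

set_option autoImplicit false

open Cfsg

namespace Cfsg.Agent.Lib.FusionControl.FactorFrame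

open Cfsg.Agent.Lib.FusionControl

universe u

theorem isPSolvable_subgroup {X : Type u} [Group X] [Finite X] {p : ℕ} [Fact p.Prime] (A : Subgroup X)
    (h : Cfsg.IsPSolvable p X) : Cfsg.IsPSolvable p ↥A := by
  obtain ⟨n, H, h0, h1, hm, hn, hf⟩ := h
  refine ⟨n, fun i => (H i).subgroupOf A, by simp [h0], by simp [h1],
    fun i j hij => Subgroup.comap_mono (hm hij), fun i => (hn i).subgroupOf A, fun i => ?_⟩
  have := hn i.castSucc
  have hd : ((H i.castSucc).subgroupOf A).relIndex ((H i.succ).subgroupOf A) ∣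
      (H i.castSucc).relIndex (H i.succ) := by
    conv_lhs => arg 1; rw [Subgroup.subgroupOf]
    rw [Subgroup.relIndex_comap, Subgroup.subgroupOf_map_subtype,
      ← QuotientGroup.ker_mk' (H i.castSucc), Subgroup.relIndex_ker, Subgroup.relIndex_ker]
    exact Subgroup.card_dvd_of_le (Subgroup.map_mono inf_le_left)
  rcases hf i with ⟨m, hm'⟩ | hc
  · rw [hm'] at hd
    obtain ⟨j, -, hj⟩ := (Nat.dvd_prime_pow (Fact.out : p.Prime)).mp hd
    exact Or.inl ⟨j, hj⟩
  · exact Or.inr (Nat.Coprime.coprime_dvd_left hd hc)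

/-- the action of `L ⧸ C(V)` on `V` -/
noncomputable def actC {L : Type u} [Group L] (V : Subgroup L) [V.Normal] :
    L ⧸ Subgroup.centralizer (V : Set L) →* MulAut ↥V :=
  QuotientGroup.lift _ MulAut.conjNormal fun x hx => by
    ext v
    rw [MulAut.conjNormal_apply, MulAut.one_apply,
      (Subgroup.mem_centralizer_iff.mp hx (v : L) v.2).symm, mul_inv_cancel_right]

/-- The inclusion of `K` in its normalizer. -/
def incl {G : Type u} [Group G] (K : Subgroup G) : ↥K →* ↥(Subgroup.normalizer (K : Set G)) :=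
  Subgroup.inclusion Subgroup.le_normalizer

theorem exists_frame {G : Type u} [Group G] [Finite G] {p : ℕ} [Fact p.Prime] (K : Subgroup G)
    (hsep : Cfsg.IsPSolvable p ↥K) (hO : Cfsg.pPrimeCore p ↥K = ⊥) :
    ∃ (Γ : Type u) (_ : Group Γ) (_ : Finite Γ) (f : ↥(Subgroup.normalizer (K : Set G)) →* Γ)
      (V₀ : Subgroup ↥K) (e : ↥V₀ →* Γ),
      Cfsg.IsElementaryAbelian p V₀ ∧ Function.Injective e ∧
      f.range ≤ Subgroup.normalizer (e.range : Set Γ) ∧
      f.range ≤ Subgroup.normalizer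
        ((Cfsg.thompsonSubgroup p ↥K).map (f.comp (incl K)) : Set Γ) ∧
      (∀ g v, Commute (f g) (e v) ↔ (g : G) * ((v : ↥K) : G) = ((v : ↥K) : G) * (g : G)) ∧
      (∀ (m : ↥K) (v : ↥V₀), ∃ w : ↥V₀, (w : ↥K) = m * (v : ↥K) * m⁻¹ ∧
        e w = f (incl K m) * e v * (f (incl K m))⁻¹) ∧
      ((f.comp (incl K)).ker = Subgroup.centralizer (V₀ : Set ↥K)) ∧
      (∀ S : Sylow p ↥K, (f.comp (incl K)).ker ≤ Subgroup.centralizer
        (Cfsg.omegaOne p ((S : Subgroup ↥K) ⊓ Subgroup.centralizer ((S : Subgroup ↥K) : Set ↥K)) : Set ↥K)) ∧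
      CoprimeOffender.Ctx p e.range ((Cfsg.thompsonSubgroup p ↥K).map (f.comp (incl K))) ∧
      ∀ T : Subgroup Γ, (∀ B, CoprimeOffender.IsTv p e.range
        ((Cfsg.thompsonSubgroup p ↥K).map (f.comp (incl K))) B → B ≤ T) →
          (Cfsg.thompsonSubgroup p ↥K).map (f.comp (incl K)) ≤ T := by
  classical
  set J := Cfsg.thompsonSubgroup p ↥K with hJ
  set Z : Sylow p ↥K → Set ↥K := fun S =>
    {x | x ∈ ((S : Subgroup ↥K) ⊓ Subgroup.centralizer ((S : Subgroup ↥K) : Set ↥K)) ∧ x ^ p = 1} with hZ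
  set V₀ : Subgroup ↥K := Subgroup.closure (⋃ S, Z S) with hV₀
  have hVc : V₀.Characteristic := by
    refine Cfsg.Agent.Lib.Cores.characteristic_of_map_le fun φ => ?_
    rw [Subgroup.map_le_iff_le_comap, hV₀, Subgroup.closure_le]
    intro x hx
    obtain ⟨S, hxS, hxp⟩ := Set.mem_iUnion.mp hx
    refine Subgroup.subset_closure (Set.mem_iUnion.mpr ⟨(φ : MulAut ↥K) • S, ⟨⟨?_, fun u hu => ?_⟩, ?_⟩⟩)
    · rw [SetLike.mem_coe, Sylow.pointwise_smul_def]
      exact Subgroup.smul_mem_pointwise_smul x (φ : MulAut ↥K) _ hxS.1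
    · rw [SetLike.mem_coe, Sylow.pointwise_smul_def, Subgroup.mem_pointwise_smul_iff_inv_smul_mem] at hu
      have hu' : φ.symm u ∈ (S : Subgroup ↥K) := hu
      calc u * φ x = φ (φ.symm u * x) := by rw [map_mul, φ.apply_symm_apply]
        _ = φ x * u := by rw [hxS.2 _ hu', map_mul, φ.apply_symm_apply]
    · show φ x ^ p = 1
      rw [← map_pow, hxp, map_one]
  have hJc : J.Characteristic := Cfsg.Agent.Lib.Cores.characteristic_of_map_le fun φ =>
    le_of_eq (Cfsg.Agent.Lib.PLocal.map_thompsonSubgroup_equiv φ)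
  have hcentQ : ∀ x ∈ ⋃ S, Z S,
      x ∈ Cfsg.pCore p ↥K ∧ x ∈ Subgroup.centralizer (Cfsg.pCore p ↥K : Set ↥K) := by
    intro x hx
    obtain ⟨S, hxS, -⟩ := Set.mem_iUnion.mp hx
    have hxc : x ∈ Subgroup.centralizer (Cfsg.pCore p ↥K : Set ↥K) :=
      Subgroup.centralizer_le (SetLike.coe_subset_coe.mpr (Cfsg.Agent.Lib.Cores.pCore_le_sylow S)) hxS.2
    exact ⟨Cfsg.Agent.Lib.Blocks.centralizer_pCore_le_of_isPSolvable p hsep hO hxc, hxc⟩
  have hV₀e : Cfsg.IsElementaryAbelian p V₀ := by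
    refine Cfsg.Agent.Lib.PLocal.elemAb_closure
      (fun a ha b hb => Subgroup.mem_centralizer_iff.mp (hcentQ b hb).2 a (hcentQ a ha).1) fun a ha => ?_
    obtain ⟨S, -, hp'⟩ := Set.mem_iUnion.mp ha
    exact hp'
  set C₀ := Subgroup.centralizer (V₀ : Set ↥K) with hC₀
  have hC₀Z : ∀ S : Sylow p ↥K, C₀ ≤ Subgroup.centralizer
      (Cfsg.omegaOne p ((S : Subgroup ↥K) ⊓ Subgroup.centralizer ((S : Subgroup ↥K) : Set ↥K)) : Set ↥K) :=
    fun S => Subgroup.centralizer_le (SetLike.coe_subset_coe.mpr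
      (Subgroup.closure_mono (Set.subset_iUnion Z S)))
  have : V₀.Normal := inferInstance
  have hcore : Cfsg.pCore p (↥K ⧸ C₀) = ⊥ := by
    set M := (Cfsg.pCore p (↥K ⧸ C₀)).comap (QuotientGroup.mk' C₀) with hM
    suffices hMC : M ≤ C₀ by
      rw [eq_bot_iff]
      intro q hq
      obtain ⟨x, rfl⟩ := QuotientGroup.mk'_surjective C₀ q
      exact Subgroup.mem_bot.mpr ((QuotientGroup.eq_one_iff x).mpr (hMC hq))
    rw [hC₀, Subgroup.le_centralizer_iff]
    conv_lhs => rw [hV₀]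
    refine (Subgroup.closure_le _).mpr fun z hz => ?_
    obtain ⟨S, hzS, hzp⟩ := Set.mem_iUnion.mp hz
    have hMle : M ≤ C₀ ⊔ ((S : Subgroup ↥K) ⊓ M) := by
      rw [← Subgroup.relIndex_eq_one]
      by_contra hne
      obtain ⟨r, hr, hrd⟩ := Nat.exists_prime_and_dvd hne
      have hr1 : r ∣ C₀.relIndex M := hrd.trans (Subgroup.relIndex_dvd_of_le_left _ le_sup_left)
      have hr2 : r ∣ ((S : Subgroup ↥K) ⊓ M).relIndex M :=
        hrd.trans (Subgroup.relIndex_dvd_of_le_left _ le_sup_right)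
      rw [Subgroup.inf_relIndex_right] at hr2
      have hrp : r ≠ p := by
        rintro rfl
        exact S.not_dvd_index (hr2.trans
          (Cfsg.Agent.Lib.PGroups.relIndex_dvd_index_of_normal_right M _))
      rw [← QuotientGroup.ker_mk' C₀, Subgroup.relIndex_ker, hM,
        Subgroup.map_comap_eq_self_of_surjective (QuotientGroup.mk'_surjective C₀)] at hr1
      obtain ⟨n, hn⟩ := IsPGroup.iff_card.mp (Cfsg.Agent.Lib.Cores.pCore_isPGroup p (↥K ⧸ C₀))
      rw [hn] at hr1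
      exact hrp ((Nat.prime_dvd_prime_iff_eq hr Fact.out).mp (hr.dvd_of_dvd_pow hr1))
    have hzV : z ∈ V₀ := Subgroup.subset_closure hz
    have : M ≤ Subgroup.centralizer ({z} : Set ↥K) := hMle.trans (sup_le
      (Subgroup.centralizer_le (Set.singleton_subset_iff.mpr hzV))
      fun y hy => Subgroup.mem_centralizer_singleton_iff.mpr (hzS.2 y hy.1))
    exact Subgroup.mem_centralizer_iff.mpr fun k hk => Subgroup.mem_centralizer_singleton_iff.mp (this hk)
  -- pass to the normalizer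
  have hι : Function.Injective (incl K) := Subgroup.inclusion_injective _
  set V : Subgroup ↥(Subgroup.normalizer (K : Set G)) := V₀.map (incl K) with hV
  have hVn : V.Normal := by
    refine ⟨fun x hx g => ?_⟩
    obtain ⟨v, hv, rfl⟩ := hx
    have h1 := Cfsg.Agent.Lib.Cores.normalizer_le_normalizer_map_subtype K V₀ g.2
    obtain ⟨w, hw, e⟩ := (Subgroup.mem_normalizer_iff.mp h1 (v : G)).mp ⟨v, hv, rfl⟩
    exact ⟨w, hw, Subtype.ext e⟩
  set C := Subgroup.centralizer (V : Set ↥(Subgroup.normalizer (K : Set G))) with hC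
  let Γ := SemidirectProduct ↥V (↥(Subgroup.normalizer (K : Set G)) ⧸ C) (actC V)
  have hΓ : Finite Γ := Finite.of_equiv (↥V × (↥(Subgroup.normalizer (K : Set G)) ⧸ C))
    { toFun := fun x => ⟨x.1, x.2⟩, invFun := fun x => ⟨x.left, x.right⟩
      left_inv := fun _ => rfl, right_inv := fun _ => rfl }
  let f : ↥(Subgroup.normalizer (K : Set G)) →* Γ :=
    SemidirectProduct.inr.comp (QuotientGroup.mk' C)
  let e : ↥V₀ →* Γ := SemidirectProduct.inl.comp (V₀.equivMapOfInjective (incl K) hι).toMonoidHom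
  have he : Function.Injective e :=
    SemidirectProduct.inl_injective.comp (V₀.equivMapOfInjective (incl K) hι).injective
  have hevalV : ∀ v : ↥V₀, ((V₀.equivMapOfInjective (incl K) hι v : ↥V) :
      ↥(Subgroup.normalizer (K : Set G))) = incl K v := fun v => rfl
  have hrange : e.range = (SemidirectProduct.inl : ↥V →* Γ).range := by
    ext x
    constructor
    · rintro ⟨v, rfl⟩; exact ⟨_, rfl⟩
    · rintro ⟨v, rfl⟩
      exact ⟨(V₀.equivMapOfInjective (incl K) hι).symm v,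
        congrArg SemidirectProduct.inl ((V₀.equivMapOfInjective (incl K) hι).apply_symm_apply v)⟩
  have hact : ∀ (g : ↥(Subgroup.normalizer (K : Set G))) (v : ↥V),
      f g * SemidirectProduct.inl v * (f g)⁻¹ = (SemidirectProduct.inl (MulAut.conjNormal g v) : Γ) := by
    intro g v
    have := SemidirectProduct.inl_aut (φ := actC V) (QuotientGroup.mk' C g) v
    rw [map_inv] at this
    exact this.symm
  have hcent : ∀ g v, Commute (f g) (e v) ↔ (g : G) * ((v : ↥K) : G) = ((v : ↥K) : G) * (g : G) := by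
    intro g v
    show Commute (f g) (SemidirectProduct.inl (V₀.equivMapOfInjective (incl K) hι v)) ↔ _
    rw [Commute, SemiconjBy, ← mul_inv_eq_iff_eq_mul, hact, SemidirectProduct.inl_inj, Subtype.ext_iff,
      MulAut.conjNormal_apply, mul_inv_eq_iff_eq_mul, Subtype.ext_iff]
    rfl
  have hfN : f.range ≤ Subgroup.normalizer (e.range : Set Γ) := by
    rintro _ ⟨g, rfl⟩
    rw [hrange]
    refine Subgroup.mem_normalizer_iff_map_conj_eq.mpr (Subgroup.eq_of_le_of_card_ge ?_ (le_of_eq ?_))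
    · rintro _ ⟨_, ⟨v, rfl⟩, rfl⟩
      exact ⟨MulAut.conjNormal g v, (hact g v).symm⟩
    · exact Nat.card_congr ((SemidirectProduct.inl : ↥V →* Γ).range.equivMapOfInjective _
        (MulAut.conj (f g)).injective).toEquiv
  set fK : ↥K →* Γ := f.comp (incl K) with hfK
  have hker : fK.ker = C₀ := by
    ext x
    rw [MonoidHom.mem_ker, hC₀, Subgroup.mem_centralizer_iff]
    constructor
    · intro hx v hv
      have h1 := (hcent (incl K x) ⟨v, hv⟩).mp (by
        show Commute (fK x) _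
        rw [hx]; exact Commute.one_left _)
      exact Subtype.ext h1.symm
    · intro hx
      show SemidirectProduct.inr (QuotientGroup.mk' C (incl K x)) = 1
      rw [← map_one (SemidirectProduct.inr (φ := actC V)), SemidirectProduct.inr_inj]
      refine (QuotientGroup.eq_one_iff _).mpr (Subgroup.mem_centralizer_iff.mpr ?_)
      rintro _ ⟨v, hv, rfl⟩
      rw [← map_mul, ← map_mul, hx v hv]
  set H : Subgroup Γ := J.map fK with hH
  have hfH : f.range ≤ Subgroup.normalizer (H : Set Γ) := by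
    rintro _ ⟨g, rfl⟩
    refine Subgroup.mem_normalizer_iff_map_conj_eq.mpr (Subgroup.eq_of_le_of_card_ge ?_ (le_of_eq ?_))
    · rintro _ ⟨_, ⟨j, hj, rfl⟩, rfl⟩
      have h1 := Cfsg.Agent.Lib.Cores.normalizer_le_normalizer_map_subtype K J g.2
      obtain ⟨w, hw, ew⟩ := (Subgroup.mem_normalizer_iff.mp h1 (j : G)).mp ⟨j, hj, rfl⟩
      refine ⟨w, hw, ?_⟩
      show f (incl K w) = f g * f (incl K j) * (f g)⁻¹
      rw [← map_inv, ← map_mul, ← map_mul]
      exact congrArg f (Subtype.ext ew)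
    · exact Nat.card_congr (H.equivMapOfInjective _ (MulAut.conj (f g)).injective).toEquiv
  have hfaith : H ⊓ Subgroup.centralizer (e.range : Set Γ) = ⊥ := by
    refine le_bot_iff.mp ?_
    rintro _ ⟨⟨j, -, rfl⟩, hj⟩
    refine Subgroup.mem_bot.mpr (MonoidHom.mem_ker.mp (hker.ge ?_))
    refine Subgroup.mem_centralizer_iff.mpr fun v hv => Subtype.ext ?_
    exact ((hcent (incl K j) ⟨v, hv⟩).mp
      (Subgroup.mem_centralizer_iff.mp hj _ ⟨⟨v, hv⟩, rfl⟩).symm).symm
  have hQ : Cfsg.IsPSolvable p (↥K ⧸ C₀) := Cfsg.Agent.Lib.PLocal.isPSolvable_quotient C₀ hsep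
  set J' : Subgroup (↥K ⧸ C₀) := J.map (QuotientGroup.mk' C₀) with hJ'
  have : J'.Normal := (inferInstance : J.Normal).map _ (QuotientGroup.mk'_surjective C₀)
  let l : ↥K ⧸ C₀ →* Γ := QuotientGroup.lift C₀ fK hker.ge
  have hlinj : Function.Injective l := by
    refine (injective_iff_map_eq_one l).mpr fun x hx => ?_
    obtain ⟨y, rfl⟩ := QuotientGroup.mk'_surjective C₀ x
    exact (QuotientGroup.eq_one_iff y).mpr (hker.le (MonoidHom.mem_ker.mpr hx))
  have hH' : H = J'.map l := by rw [hH, hJ', Subgroup.map_map]; rfl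
  have hself : Subgroup.centralizer (Cfsg.pPrimeCore p ↥H : Set ↥H) ≤ Cfsg.pPrimeCore p ↥H := by
    let ee : ↥J' ≃* ↥H := (J'.equivMapOfInjective _ hlinj).trans (MulEquiv.subgroupCongr hH'.symm)
    have h1 := Cfsg.Agent.Lib.Characters.centralizer_pPrimeCore_le_of_pCore_eq_bot p
      (isPSolvable_subgroup J' hQ) (by
        have h2 := Cfsg.Agent.Lib.Cores.map_subtype_pCore_le (p := p) J'
        rw [hcore, le_bot_iff, Subgroup.map_eq_bot_iff_of_injective _ J'.subtype_injective] at h2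
        exact h2)
    intro x hx
    rw [← Cfsg.Agent.Lib.Cores.map_pPrimeCore_equiv ee] at hx ⊢
    refine ⟨ee.symm x, h1 (Subgroup.mem_centralizer_iff.mpr fun y hy => ?_), ee.apply_symm_apply x⟩
    apply ee.injective
    rw [map_mul, map_mul, ee.apply_symm_apply]
    exact Subgroup.mem_centralizer_iff.mp hx _ ⟨y, hy, rfl⟩
  have hV'e : Cfsg.IsElementaryAbelian p e.range := by
    refine ⟨⟨⟨?_⟩⟩, ?_⟩
    · rintro ⟨_, a, rfl⟩ ⟨_, b, rfl⟩
      refine Subtype.ext ?_
      show e a * e b = e b * e a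
      rw [← map_mul, ← map_mul, show a * b = b * a from Subtype.ext
        (CoprimeOffender.mul_comm_of_elem hV₀e a.2 b.2)]
    · rintro _ ⟨a, rfl⟩
      rw [← map_pow, show a ^ p = 1 from Subtype.ext (by simpa using hV₀e.2 a a.2), map_one]
  have hc : CoprimeOffender.Ctx p e.range H :=
    ⟨hV'e, (Subgroup.map_le_range fK J).trans fun x hx => by
      obtain ⟨y, rfl⟩ := hx
      exact hfN ⟨incl K y, rfl⟩, hfaith, hself⟩
  have hbest : ∀ A ∈ Cfsg.maxElementaryAbelianSubgroups p ↥K,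
      Cfsg.IsBestOffenderOn p e.range (A.map fK) ∧ A.map fK ≤ H := by
    intro A hA
    have hAJ : A.map fK ≤ H := Subgroup.map_mono (le_sSup hA)
    have hAe : Cfsg.IsElementaryAbelian p (A.map fK) := by
      refine ⟨⟨⟨?_⟩⟩, ?_⟩
      · rintro ⟨_, a, ha, rfl⟩ ⟨_, b, hb, rfl⟩
        refine Subtype.ext ?_
        show fK a * fK b = fK b * fK a
        rw [← map_mul, ← map_mul, CoprimeOffender.mul_comm_of_elem hA.1 ha hb]
      · rintro _ ⟨a, ha, rfl⟩
        rw [← map_pow, hA.1.2 a ha, map_one]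
    refine ⟨hc.best_of_fv hAJ hAe (le_antisymm (hc.fv_le_card hAJ hAe) ?_), hAJ⟩
    have hVcard : Nat.card ↥e.range = Nat.card ↥V₀ :=
      (Nat.card_congr (MonoidHom.ofInjective he).toEquiv).symm
    have hcl : Cfsg.IsElementaryAbelian p ((A ⊓ C₀) ⊔ V₀) := by
      rw [← Subgroup.closure_eq (A ⊓ C₀), ← Subgroup.closure_eq V₀, ← Subgroup.closure_union]
      refine Cfsg.Agent.Lib.PLocal.elemAb_closure ?_ ?_
      · rintro a (ha | ha) b (hb | hb)
        · exact CoprimeOffender.mul_comm_of_elem hA.1 ha.1 hb.1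
        · exact (Subgroup.mem_centralizer_iff.mp ha.2 b hb).symm
        · exact Subgroup.mem_centralizer_iff.mp hb.2 a ha
        · exact CoprimeOffender.mul_comm_of_elem hV₀e ha hb
      · rintro a (ha | ha)
        · exact hA.1.2 a ha.1
        · exact hV₀e.2 a ha
    have h1 := hA.2 _ hcl
    have h2 : Nat.card ↥(A ⊓ C₀) * Nat.card ↥V₀ ≤
        Nat.card ↥((A ⊓ C₀) ⊔ V₀) * Nat.card ↥(V₀ ⊓ Subgroup.centralizer (A : Set ↥K)) := by
      rw [← Cfsg.Agent.Lib.Cores.card_sup_mul_card_inf (A ⊓ C₀) V₀]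
      refine Nat.mul_le_mul_left _ (Subgroup.card_le_of_le fun x hx => ⟨hx.2, ?_⟩)
      exact Subgroup.mem_centralizer_iff.mpr fun a ha =>
        CoprimeOffender.mul_comm_of_elem hA.1 ha hx.1.1
    have h3 : Nat.card ↥(A.map fK) * Nat.card ↥(A ⊓ C₀) = Nat.card ↥A := by
      have := Cfsg.Agent.Lib.Cores.card_map_mul_card_inf_ker fK A
      rwa [hker] at this
    have h4 : Nat.card ↥(V₀ ⊓ Subgroup.centralizer (A : Set ↥K)) ≤
        Nat.card ↥(e.range ⊓ Subgroup.centralizer ((A.map fK : Subgroup Γ) : Set Γ)) := by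
      refine Nat.card_le_card_of_injective
        (fun x => ⟨e ⟨(x : ↥K), x.2.1⟩, ⟨_, rfl⟩, ?_⟩) ?_
      · refine Subgroup.mem_centralizer_iff.mpr ?_
        rintro _ ⟨a, ha, rfl⟩
        exact ((hcent (incl K a) ⟨(x : ↥K), x.2.1⟩).mpr
          (congrArg Subtype.val (Subgroup.mem_centralizer_iff.mp x.2.2 a ha))).eq
      · intro x y exy
        exact Subtype.ext (congrArg (fun v : ↥V₀ => (v : ↥K)) (he (congrArg Subtype.val exy)))
    rw [hVcard, CoprimeOffender.fv]
    refine Nat.le_of_mul_le_mul_left (h2.trans ?_) (Nat.card_pos (α := ↥(A ⊓ C₀)))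
    calc Nat.card ↥((A ⊓ C₀) ⊔ V₀) * Nat.card ↥(V₀ ⊓ Subgroup.centralizer (A : Set ↥K))
        ≤ (Nat.card ↥(A.map fK) * Nat.card ↥(A ⊓ C₀)) *
            Nat.card ↥(e.range ⊓ Subgroup.centralizer ((A.map fK : Subgroup Γ) : Set Γ)) := by
          rw [h3]; exact Nat.mul_le_mul h1 h4
      _ = _ := by ring
  have hgen : ∀ T : Subgroup Γ, (∀ B, CoprimeOffender.IsTv p e.range H B → B ≤ T) → H ≤ T := by
    refine hc.gen_tv (le_antisymm ?_ (iSup_le fun A => A.2.1))
    rw [hH, Subgroup.map_le_iff_le_comap, hJ]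
    refine sSup_le fun A hA => ?_
    rw [← Subgroup.map_le_iff_le_comap]
    exact le_iSup_of_le ⟨A.map fK, (hbest A hA).2, (hbest A hA).1⟩ le_rfl
  have hconj : ∀ (m : ↥K) (v : ↥V₀), ∃ w : ↥V₀, (w : ↥K) = m * (v : ↥K) * m⁻¹ ∧
      e w = f (incl K m) * e v * (f (incl K m))⁻¹ := by
    intro m v
    refine ⟨⟨m * (v : ↥K) * m⁻¹, (inferInstance : V₀.Normal).conj_mem _ v.2 m⟩, rfl, ?_⟩
    show SemidirectProduct.inl _ = f (incl K m) * SemidirectProduct.inl _ * (f (incl K m))⁻¹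
    rw [hact]
    exact congrArg SemidirectProduct.inl (Subtype.ext rfl)
  exact ⟨Γ, inferInstance, hΓ, f, V₀, e, hV₀e, he, hfN, hfH, hcent, hconj, hker,
    fun S => hker.trans_le (hC₀Z S), hc, hgen⟩

variable {G : Type u} [Group G] [Finite G] {Γ : Type u} [Group Γ] {K X : Subgroup G}

/-- Coprime lifting of fixed points. -/
theorem exists_lift {q : ℕ} [Fact q.Prime] (hXK : X ≤ Subgroup.normalizer (K : Set G))
    (hX : Cfsg.IsElementaryAbelian q X) (hq : ¬ q ∣ Nat.card K)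
    (f : ↥(Subgroup.normalizer (K : Set G)) →* Γ) {c : Γ} (j : ↥K) (hj : f (incl K j) = c)
    (hfix : ∀ x (hx : x ∈ X), f ⟨x, hXK hx⟩ * c = c * f ⟨x, hXK hx⟩) :
    ∃ m : ↥K, (m : G) ∈ Subgroup.centralizer (X : Set G) ∧ f (incl K m) = c := by
  set N : Subgroup G := (f.comp (incl K)).ker.map K.subtype with hN
  have hXN : X ≤ Subgroup.normalizer (N : Set G) := by
    intro x hx
    refine Subgroup.mem_normalizer_iff_map_conj_eq.mpr (Subgroup.eq_of_le_of_card_ge ?_ (le_of_eq ?_))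
    · rintro _ ⟨_, ⟨n, hn, rfl⟩, rfl⟩
      refine ⟨⟨x * n * x⁻¹, (Subgroup.mem_normalizer_iff.mp (hXK hx) _).mp n.2⟩, ?_, rfl⟩
      show f ⟨x * n * x⁻¹, _⟩ = 1
      have e : (⟨x * n * x⁻¹, Subgroup.le_normalizer ((Subgroup.mem_normalizer_iff.mp (hXK hx) _).mp n.2)⟩ :
          ↥(Subgroup.normalizer (K : Set G))) = ⟨x, hXK hx⟩ * incl K n * ⟨x, hXK hx⟩⁻¹ := rfl
      rw [e, map_mul, map_mul, map_inv, show f (incl K n) = 1 from hn, mul_one, mul_inv_cancel]
    · exact Nat.card_congr (N.equivMapOfInjective _ (MulAut.conj x).injective).toEquiv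
  have hcop : (Nat.card X).Coprime (Nat.card N) := by
    refine Nat.Coprime.coprime_dvd_right (Subgroup.card_dvd_of_le (Subgroup.map_subtype_le _)) ?_
    have hXq : IsPGroup q X := fun x => ⟨1, Subtype.ext (by simpa using hX.2 x x.2)⟩
    obtain ⟨n, hn⟩ := hXq.exists_card_eq
    rw [hn]
    exact Nat.Coprime.pow_left _ ((Nat.Prime.coprime_iff_not_dvd Fact.out).mpr hq)
  have hsolv : Group.IsSolvable X := by
    exact Group.isSolvable_of_comm fun a b =>
      Subtype.ext (CoprimeOffender.mul_comm_of_elem hX a.2 b.2)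
  have hjN : (j : G) ∈ Subgroup.normalizer (N : Set G) :=
    Subgroup.mem_normalizer_iff_map_conj_eq.mpr (Subgroup.eq_of_le_of_card_ge (by
      rintro _ ⟨_, ⟨n, hn, rfl⟩, rfl⟩
      exact ⟨j * n * j⁻¹, (inferInstance : (f.comp (incl K)).ker.Normal).conj_mem n hn j, rfl⟩)
      (le_of_eq (Nat.card_congr (N.equivMapOfInjective _ (MulAut.conj (j : G)).injective).toEquiv)))
  obtain ⟨_, ⟨n, hn, rfl⟩, hc⟩ := Cfsg.Agent.Lib.Coprime.exists_mem_centralizer_of_fixed_coset hXN hcop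
    (Or.inl hsolv) hjN (fun x hx => by
      refine ⟨⟨x * j * x⁻¹ * (j : G)⁻¹,
        mul_mem ((Subgroup.mem_normalizer_iff.mp (hXK hx) _).mp j.2) (inv_mem j.2)⟩, ?_, rfl⟩
      show f ⟨x * j * x⁻¹ * (j : G)⁻¹, _⟩ = 1
      have e : (⟨x * j * x⁻¹ * (j : G)⁻¹, Subgroup.le_normalizer
          (mul_mem ((Subgroup.mem_normalizer_iff.mp (hXK hx) _).mp j.2) (inv_mem j.2))⟩ :
          ↥(Subgroup.normalizer (K : Set G))) =
          ⟨x, hXK hx⟩ * incl K j * ⟨x, hXK hx⟩⁻¹ * (incl K j)⁻¹ := rfl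
      rw [e, map_mul, map_mul, map_mul, map_inv, map_inv, hj, hfix x hx]
      group)
  exact ⟨j * n, hc, by rw [map_mul, map_mul, hj, show f (incl K n) = 1 from hn, mul_one]⟩

end Cfsg.Agent.Lib.FusionControl.FactorFrame

namespace Cfsg.Agent.Lib.FusionControl.FactorFrame

open Cfsg.Agent.Lib.FusionControl

universe v

variable {G : Type v} [Group G] [Finite G] {Γ : Type v} [Group Γ] [Finite Γ] {p q : ℕ} [Fact p.Prime]
  [hqp : Fact q.Prime] {K : Subgroup G} {V' : Subgroup Γ}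

theorem five_le (J : Subgroup ↥K) (g : ↥K →* Γ) (hc : CoprimeOffender.Ctx p V' (J.map g))
    {A : Subgroup Γ} (hA : CoprimeOffender.IsTv p V' (J.map g) A) (hq : ¬ q ∣ Nat.card K) : 5 ≤ q := by
  obtain ⟨k₀, hk₀, hne⟩ := hc.exists_move hA
  obtain ⟨e⟩ := (hc.exists_iso (hc.hyp_conj hA hk₀ hne)).1
  have h6 : 6 ∣ Nat.card K := by
    refine dvd_trans ?_ (((Subgroup.card_dvd_of_le (hc.ex_le hA)).trans (Subgroup.card_map_dvd J g)).trans
      (Subgroup.card_subgroup_dvd_card J))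
    rw [hc.ex_eq hA hk₀ hne, Nat.card_congr e.toEquiv,
      CoprimeOffender.card_SL2 (hc.prime_le_three hA)]
    split <;> norm_num
  have h2 := hqp.out.two_le
  by_contra h5
  interval_cases q
  · exact hq ((show 2 ∣ 6 by norm_num).trans h6)
  · exact hq ((show 3 ∣ 6 by norm_num).trans h6)
  · exact absurd hqp.out (by norm_num)

/-- every `p`-subgroup of the image of a normal `J` is conjugate in it into the image of `S` -/
theorem exists_conj_le (J : Subgroup ↥K) [J.Normal] (g : ↥K →* Γ) (S : Sylow p ↥K) (A : Subgroup Γ)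
    (hAJ : A ≤ J.map g) (hAp : IsPGroup p A) :
    ∃ h ∈ J.map g, CoprimeOffender.cj h A ≤ (S : Subgroup ↥K).map g := by
  set φ := g.subgroupMap J with hφ
  have hφs : Function.Surjective φ := g.subgroupMap_surjective J
  set Q : Subgroup ↥(J.map g) := (((S : Subgroup ↥K)).subgroupOf J).map φ with hQ
  have hQp : IsPGroup p Q := (S.2.comap_of_injective J.subtype J.subtype_injective).map φ
  have hidx : ¬ p ∣ Q.index := fun h =>
    S.not_dvd_index ((h.trans (Subgroup.index_map_dvd _ hφs)).trans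
      (Cfsg.Agent.Lib.PGroups.relIndex_dvd_index_of_normal_right J _))
  obtain ⟨P, hP⟩ := (hAp.of_equiv (Subgroup.subgroupOfEquivOfLe hAJ).symm).exists_le_sylow
  obtain ⟨h, hh⟩ := MulAction.exists_smul_eq ↥(J.map g) P (hQp.toSylow hidx)
  refine ⟨h, h.2, ?_⟩
  rintro _ ⟨a, ha, rfl⟩
  have h1 : h * ⟨a, hAJ ha⟩ * h⁻¹ ∈ Q := by
    have h2 : MulAut.conj h • (⟨a, hAJ ha⟩ : ↥(J.map g)) ∈ ((h • P : Sylow p ↥(J.map g)) : Subgroup ↥(J.map g)) := by
      rw [Sylow.coe_subgroup_smul]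
      exact Subgroup.smul_mem_pointwise_smul _ _ _ (hP ha)
    rw [hh, IsPGroup.toSylow_coe] at h2
    exact h2
  obtain ⟨s, hs, es⟩ := h1
  exact ⟨s, hs, congrArg Subtype.val es⟩

end Cfsg.Agent.Lib.FusionControl.FactorFrame
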