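import Mathlib

/-!
Automorphisms of an abelian `p`-group whose Sylow `p`-group consists of displacements into a subgroup of
order `p`: two Sylow subgroups with different displacement groups generate an element inverting the first.
-/

set_option autoImplicit false

namespace Cfsg.Agent.Lib.FusionControl.AbelianEssential

variable {P : Type*} [CommGroup P] [Finite P] {p : ℕ} [hp : Fact p.Prime]

/-- The automorphisms stabilizing the series `1 ≤ Z ≤ V ≤ P`. -/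
def stab (Z V : Subgroup P) (hZV : Z ≤ V) : Subgroup (MulAut P) where
  carrier := {α | (∀ z ∈ Z, α z = z) ∧ (∀ v ∈ V, v⁻¹ * α v ∈ Z) ∧ ∀ x, x⁻¹ * α x ∈ V}
  one_mem' := ⟨fun _ _ => rfl, fun v _ => by simp, fun x => by simp⟩
  mul_mem' := by
    rintro a b ⟨ha1, ha2, ha3⟩ ⟨hb1, hb2, hb3⟩
    have key : ∀ x, x⁻¹ * (a * b) x = (x⁻¹ * a x) * a (x⁻¹ * b x) := fun x => by
      rw [MulAut.mul_apply, map_mul, map_inv, mul_assoc, mul_inv_cancel_left]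
    refine ⟨fun z hz => by rw [MulAut.mul_apply, hb1 z hz, ha1 z hz], fun v hv => ?_, fun x => ?_⟩
    · rw [key]
      exact Z.mul_mem (ha2 v hv) (by rw [ha1 _ (hb2 v hv)]; exact hb2 v hv)
    · rw [key]
      refine V.mul_mem (ha3 x) ?_
      rw [show a (x⁻¹ * b x) = (x⁻¹ * b x) * ((x⁻¹ * b x)⁻¹ * a (x⁻¹ * b x)) by rw [mul_inv_cancel_left]]
      exact V.mul_mem (hb3 x) (hZV (ha2 _ (hb3 x)))
  inv_mem' := by
    rintro a ⟨h1, h2, h3⟩
    have h1' : ∀ z ∈ Z, a⁻¹ z = z := fun z hz => (MulEquiv.symm_apply_eq a).mpr (h1 z hz).symm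
    have key : ∀ x, x⁻¹ * a⁻¹ x = a⁻¹ (x⁻¹ * a x)⁻¹ := fun x => by
      rw [map_inv, map_mul, map_inv, MulAut.inv_apply_self, mul_inv_rev, inv_inv]
    have hV : ∀ v ∈ V, a⁻¹ v ∈ V := fun v hv => by
      have hz := h2 v hv
      have e : a⁻¹ v = v * (v⁻¹ * a v)⁻¹ := by
        rw [← h1' _ (Z.inv_mem hz), map_inv, map_mul, map_inv, MulAut.inv_apply_self, mul_inv_rev, inv_inv,
          mul_inv_cancel_left]
      rw [e]
      exact V.mul_mem hv (hZV (Z.inv_mem hz))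
    refine ⟨h1', fun v hv => ?_, fun x => ?_⟩
    · rw [key, h1' _ (Z.inv_mem (h2 v hv))]
      exact Z.inv_mem (h2 v hv)
    · rw [key]
      exact hV _ (V.inv_mem (h3 x))

theorem isPGroup_stab (hP : IsPGroup p P) (Z V : Subgroup P) (hZV : Z ≤ V) : IsPGroup p (stab Z V hZV) := by
  obtain ⟨n, hn⟩ := IsPGroup.iff_card.mp hP
  intro ⟨a, h1, h2, h3⟩
  have iter : ∀ (b : MulAut P) (x : P), b (x⁻¹ * b x) = x⁻¹ * b x → ∀ k : ℕ, (b ^ k) x = x * (x⁻¹ * b x) ^ k := by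
    intro b x hb k
    induction k with
    | zero => simp
    | succ k ih => rw [pow_succ', MulAut.mul_apply, ih, map_mul, map_pow, hb, pow_succ', ← mul_assoc x,
        mul_inv_cancel_left]
  have hV : ∀ v ∈ V, (a ^ p ^ n) v = v := fun v hv => by
    rw [iter a v (h1 _ (h2 v hv)), ← hn, pow_card_eq_one', mul_one]
  have hfix : ∀ x, ((a ^ p ^ n) ^ p ^ n) x = x := by
    intro x
    have hmem : x⁻¹ * (a ^ p ^ n) x ∈ V :=
      ((stab Z V hZV).pow_mem (show a ∈ stab Z V hZV from ⟨h1, h2, h3⟩) (p ^ n)).2.2 x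
    rw [iter _ x (hV _ hmem), ← hn, pow_card_eq_one', mul_one]
  refine ⟨n + n, Subtype.ext (MulEquiv.ext fun x => ?_)⟩
  show (a ^ p ^ (n + n)) x = x
  rw [pow_add, pow_mul]
  exact hfix x

omit [Finite P] in
theorem eq_of_mem {Z W : Subgroup P} (hZ : Nat.card Z = p) (hW : Nat.card W = p) {x : P} (hx : x ≠ 1)
    (h1 : x ∈ Z) (h2 : x ∈ W) : Z = W := by
  have : Finite Z := Nat.finite_of_card_ne_zero (hZ ▸ hp.out.ne_zero)
  have : Finite W := Nat.finite_of_card_ne_zero (hW ▸ hp.out.ne_zero)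
  have key : ∀ (H : Subgroup P) [Finite H], Nat.card H = p → x ∈ H → Subgroup.zpowers x = H := by
    intro H _ hH hxH
    refine Subgroup.eq_of_le_of_card_ge (Subgroup.zpowers_le.mpr hxH) ?_
    rw [hH, Nat.card_zpowers]
    refine le_of_eq (orderOf_eq_prime ?_ hx).symm
    rw [← hH]
    exact congrArg Subtype.val (pow_card_eq_one' (x := (⟨x, hxH⟩ : H)))
  rw [← key Z hZ h1, key W hW h2]

variable (A T : Subgroup (MulAut P))
  (hsyl : ∀ H : Subgroup (MulAut P), H ≤ A → IsPGroup p H → ∃ γ ∈ A, ∀ h ∈ H, γ⁻¹ * h * γ ∈ T)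
  (Z : Subgroup P) (hZ : Nat.card Z = p) (hdisp : ∀ t ∈ T, ∀ x, x⁻¹ * t x ∈ Z)
  (hfixZ : ∀ t ∈ T, ∀ z ∈ Z, t z = z)

include hsyl hdisp hfixZ in
/-- `T` is the full stabilizer of its series. -/
theorem mem_T_of_stab (hP : IsPGroup p P) (hTA : T ≤ A) {a : MulAut P} (ha : a ∈ A)
    (ha' : a ∈ stab Z Z le_rfl) : a ∈ T := by
  have hle : T ≤ stab Z Z le_rfl ⊓ A := fun t ht =>
    ⟨⟨hfixZ t ht, fun v _ => hdisp t ht v, hdisp t ht⟩, hTA ht⟩
  obtain ⟨γ, -, hγ⟩ := hsyl _ inf_le_right ((isPGroup_stab hP Z Z le_rfl).to_le inf_le_left)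
  have e : T = stab Z Z le_rfl ⊓ A := by
    refine Subgroup.eq_of_le_of_card_ge hle ?_
    exact Nat.card_le_card_of_injective (fun h : ↥(stab Z Z le_rfl ⊓ A) => (⟨γ⁻¹ * h * γ, hγ _ h.2⟩ : T))
      fun h k hk => Subtype.ext (mul_left_cancel (mul_right_cancel (congrArg Subtype.val hk)))
  exact e.symm ▸ ⟨ha', ha⟩

include hsyl hZ hdisp in
/-- Two elements with different displacement groups move each other's group. -/
theorem not_fix (hP : IsPGroup p P) {Z₁ Z₂ : Subgroup P} (h₁ : Nat.card Z₁ = p) (h₂ : Nat.card Z₂ = p)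
    (hne : Z₁ ≠ Z₂) {t u : MulAut P} (ht : t ∈ A) (hu : u ∈ A) (ht1 : t ≠ 1) (hu1 : u ≠ 1)
    (htd : ∀ x, x⁻¹ * t x ∈ Z₁) (htf : ∀ z ∈ Z₁, t z = z)
    (hud : ∀ x, x⁻¹ * u x ∈ Z₂) (huf : ∀ z ∈ Z₂, u z = z) (hfix : ∀ z ∈ Z₁, u z = z) : False := by
  have hle : Z₁ ≤ Z₁ ⊔ Z₂ := le_sup_left
  have hu' : u ∈ stab Z₁ (Z₁ ⊔ Z₂) hle := by
    refine ⟨hfix, fun v hv => ?_, fun x => Subgroup.mem_sup_right (hud x)⟩
    obtain ⟨a, ha, b, hb, rfl⟩ := Subgroup.mem_sup.mp hv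
    rw [map_mul, hfix a ha, huf b hb, inv_mul_cancel]
    exact one_mem _
  have ht' : t ∈ stab Z₁ (Z₁ ⊔ Z₂) hle :=
    ⟨htf, fun v _ => htd v, fun x => Subgroup.mem_sup_left (htd x)⟩
  obtain ⟨γ, -, hγ⟩ := hsyl _ inf_le_right ((isPGroup_stab hP Z₁ _ hle).to_le (inf_le_left (b := A)))
  set W := Z.map (γ : P →* P) with hW
  have hWc : Nat.card W = p := by rw [hW, Subgroup.card_map_of_injective γ.injective, hZ]
  have hd : ∀ {a}, a ∈ stab Z₁ (Z₁ ⊔ Z₂) hle ⊓ A → ∀ x, x⁻¹ * a x ∈ W := fun {a} ha x => by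
    refine ⟨(γ⁻¹ x)⁻¹ * (γ⁻¹ * a * γ) (γ⁻¹ x), hdisp _ (hγ a ha) _, ?_⟩
    show γ ((γ⁻¹ x)⁻¹ * (γ⁻¹ * a * γ) (γ⁻¹ x)) = _
    simp [MulAut.mul_apply]
  have hnt : ∀ {a : MulAut P}, a ≠ 1 → ∃ x, x⁻¹ * a x ≠ 1 := fun {a} ha => by
    by_contra h
    push Not at h
    exact ha (MulEquiv.ext fun x => (inv_mul_eq_one.mp (h x)).symm)
  obtain ⟨x, hx⟩ := hnt ht1
  obtain ⟨y, hy⟩ := hnt hu1
  exact hne ((eq_of_mem h₁ hWc hx (htd x) (hd ⟨ht', ht⟩ x)).trans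
    (eq_of_mem h₂ hWc hy (hud y) (hd ⟨hu', hu⟩ y)).symm)

variable (C : Subgroup P) (hfix : ∀ t ∈ T, ∀ c ∈ C, t c = c)

include hsyl hZ hdisp hfix in
/-- An element of `A` normalizing `T` and inverting `Z`, attached to a conjugate element of `T`. -/
theorem exists_inverting (hP : IsPGroup p P) (hTA : T ≤ A) (hodd : p ≠ 2) (hZC : Z ≤ C) {γ t : MulAut P}
    (hγ : γ ∈ A) (ht : t ∈ T) (ht1 : t ≠ 1) (hne : Z.map (γ : P →* P) ≠ Z) :
    ∃ τ ∈ A, (∀ s ∈ T, τ * s * τ⁻¹ ∈ T) ∧ (∀ z ∈ Z, τ z = z⁻¹) ∧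
      (∀ c ∈ C, ∃ k ∈ C, τ k = k ∧ c * k⁻¹ ∈ Z) ∧ ∀ k ∈ C, (τ k = k ↔ (γ * t * γ⁻¹) k = k) := by
  have hfixZ : ∀ t ∈ T, ∀ z ∈ Z, t z = z := fun t ht z hz => hfix t ht z (hZC hz)
  set u := γ * t * γ⁻¹ with hu
  set W := Z.map (γ : P →* P) with hW
  have huA : u ∈ A := A.mul_mem (A.mul_mem hγ (hTA ht)) (A.inv_mem hγ)
  have hu1 : u ≠ 1 := fun h => ht1 (by rw [hu] at h; exact conj_eq_one_iff.mp h)
  have hWc : Nat.card W = p := by rw [hW, Subgroup.card_map_of_injective γ.injective, hZ]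
  have hud : ∀ x, x⁻¹ * u x ∈ W := fun x => by
    refine ⟨(γ⁻¹ x)⁻¹ * t (γ⁻¹ x), hdisp t ht _, ?_⟩
    show γ ((γ⁻¹ x)⁻¹ * t (γ⁻¹ x)) = _
    simp [hu, MulAut.mul_apply]
  have huf : ∀ w ∈ W, u w = w := by
    rintro _ ⟨z, hz, rfl⟩
    show u (γ z) = γ z
    simp [hu, MulAut.mul_apply, hfixZ t ht z hz]
  have hZf : Finite Z := Nat.finite_of_card_ne_zero (hZ ▸ hp.out.ne_zero)
  obtain ⟨z, hz, hz1⟩ : ∃ z ∈ Z, z ≠ 1 := by
    refine Z.bot_or_exists_ne_one.resolve_left fun h => hp.out.ne_one ?_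
    rw [← hZ, h, Subgroup.card_bot]
  have hgen : ∀ {H : Subgroup P}, Nat.card H = p → ∀ {a}, a ∈ H → a ≠ 1 → ∀ {b}, b ∈ H → ∃ i : ℕ, a ^ i = b := by
    intro H hH a ha ha1 b hb
    have := mem_powers_of_prime_card (G := H) hH (g := ⟨a, ha⟩) (g' := ⟨b, hb⟩)
      (fun h => ha1 (congrArg Subtype.val h))
    obtain ⟨i, hi⟩ := Submonoid.mem_powers_iff _ _ |>.mp this
    exact ⟨i, congrArg Subtype.val hi⟩
  set e := z⁻¹ * u z with he
  have heW : e ∈ W := hud z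
  have he1 : e ≠ 1 := fun h => by
    have hzu : ∀ z' ∈ Z, u z' = z' := fun z' hz' => by
      obtain ⟨i, rfl⟩ := hgen hZ hz hz1 hz'
      rw [map_pow, ← inv_mul_eq_one.mp h]
    exact not_fix A T hsyl Z hZ hdisp hP hZ hWc (Ne.symm hne) (hTA ht) huA ht1 hu1 (hdisp t ht) (hfixZ t ht)
      hud huf hzu
  have huz : u z = z * e := by rw [he, mul_inv_cancel_left]
  have hf1 : e⁻¹ * t e ≠ 1 := fun h => by
    have hwt : ∀ w ∈ W, t w = w := fun w hw => by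
      obtain ⟨i, rfl⟩ := hgen hWc heW he1 hw
      rw [map_pow, ← inv_mul_eq_one.mp h]
    exact not_fix A T hsyl Z hZ hdisp hP hWc hZ hne huA (hTA ht) hu1 ht1 hud huf (hdisp t ht) (hfixZ t ht) hwt
  obtain ⟨j, hj⟩ := hgen hZ (hdisp t ht e) hf1 (Z.inv_mem hz)
  set t' := t ^ j with ht'
  have ht'T : t' ∈ T := T.pow_mem ht j
  have ht'e : t' e = e * z⁻¹ := by
    have key : ∀ k : ℕ, (t ^ k) e = e * (e⁻¹ * t e) ^ k := by
      intro k
      induction k with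
      | zero => simp
      | succ k ih => rw [pow_succ', MulAut.mul_apply, ih, map_mul, map_pow, hfixZ t ht _ (hdisp t ht e), pow_succ',
          ← mul_assoc e, mul_inv_cancel_left]
    rw [ht', key, hj]
  have ht'z : t' z = z := hfixZ _ ht'T z hz
  set s := t' * u * t' with hs
  have hsz : s z = e := by
    rw [hs, MulAut.mul_apply, MulAut.mul_apply, ht'z, huz, map_mul, ht'z, ht'e, mul_comm e, mul_inv_cancel_left]
  have hse : s e = z⁻¹ := by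
    rw [hs, MulAut.mul_apply, MulAut.mul_apply, ht'e, map_mul, huf e heW, map_inv, huz, mul_inv_rev,
      mul_inv_cancel_left, map_inv, ht'z]
  have hτz : ∀ z' ∈ Z, (s * s) z' = z'⁻¹ := fun z' hz' => by
    obtain ⟨i, rfl⟩ := hgen hZ hz hz1 hz'
    rw [map_pow, MulAut.mul_apply, hsz, hse, inv_pow]
  have hsA : s ∈ A := A.mul_mem (A.mul_mem (hTA ht'T) huA) (hTA ht'T)
  have hdec : ∀ c ∈ C, ∃ k ∈ C, u k = k ∧ c * k⁻¹ ∈ Z := by
    intro c hc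
    obtain ⟨i, hi⟩ := hgen hWc heW he1 (hud c)
    refine ⟨c * (z ^ i)⁻¹, C.mul_mem hc (C.inv_mem (C.pow_mem (hZC hz) i)), ?_, ?_⟩
    · clear_value e
      have huc : u c = c * e ^ i := by rw [hi, mul_inv_cancel_left]
      rw [map_mul, map_inv, map_pow, huc, huz, mul_pow, mul_inv_rev, mul_assoc, mul_inv_cancel_left]
    · rw [mul_inv_rev, inv_inv, mul_comm (z ^ i), mul_inv_cancel_left]
      exact Z.pow_mem hz i
  have huτ : ∀ k ∈ C, u k = k → (s * s) k = k := by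
    intro k hk huk
    have h1 : s k = k := by
      rw [hs, MulAut.mul_apply, MulAut.mul_apply, hfix _ ht'T k hk, huk, hfix _ ht'T k hk]
    rw [MulAut.mul_apply, h1, h1]
  refine ⟨s * s, A.mul_mem hsA hsA, fun a ha => ?_, hτz, fun c hc => ?_, fun k hk => ⟨fun h => ?_, huτ k hk⟩⟩
  · have hinv : ∀ z' ∈ Z, (s * s)⁻¹ z' = z'⁻¹ := fun z' hz' => by
      rw [MulAut.inv_apply, MulEquiv.symm_apply_eq, hτz _ (Z.inv_mem hz'), inv_inv]
    refine mem_T_of_stab A T hsyl Z hdisp hfixZ hP hTA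
      (A.mul_mem (A.mul_mem (A.mul_mem hsA hsA) (hTA ha)) (A.inv_mem (A.mul_mem hsA hsA))) ?_
    have hd : ∀ x, x⁻¹ * (s * s * a * (s * s)⁻¹) x ∈ Z := fun x => by
      have h1 : x⁻¹ * (s * s * a * (s * s)⁻¹) x = (s * s) (((s * s)⁻¹ x)⁻¹ * a ((s * s)⁻¹ x)) := by
        simp [MulAut.mul_apply]
      rw [h1, hτz _ (hdisp a ha _)]
      exact Z.inv_mem (hdisp a ha _)
    refine ⟨fun z' hz' => ?_, fun v _ => hd v, hd⟩
    rw [MulAut.mul_apply, MulAut.mul_apply, hinv z' hz', hfixZ a ha _ (Z.inv_mem hz'), hτz _ (Z.inv_mem hz'),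
      inv_inv]
  · obtain ⟨k, hk, huk, hck⟩ := hdec c hc
    exact ⟨k, hk, huτ k hk huk, hck⟩
  · obtain ⟨k', hk', huk', hkk⟩ := hdec k hk
    have h2 := hτz _ hkk
    rw [map_mul, map_inv, h, huτ k' hk' huk'] at h2
    have h3 : (k * k'⁻¹) ^ 2 = 1 := by
      rw [pow_two, mul_eq_one_iff_eq_inv]
      exact h2
    have h4 : (k * k'⁻¹) ^ p = 1 := by
      have := congrArg Subtype.val (pow_card_eq_one' (x := (⟨k * k'⁻¹, hkk⟩ : Z)))
      rw [hZ] at this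
      exact this
    have h5 : k * k'⁻¹ = 1 := by
      have := pow_gcd_eq_one.mpr ⟨h3, h4⟩
      rwa [(Nat.coprime_primes Nat.prime_two hp.out).mpr hodd.symm, pow_one] at this
    rw [mul_inv_eq_one.mp h5]
    exact huk'

end Cfsg.Agent.Lib.FusionControl.AbelianEssential
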