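import Mathlib.GroupTheory.Sylow

/-! Elementary conjugation and Sylow helpers for fusion control. -/

set_option autoImplicit false

namespace Cfsg.Agent.Lib.FusionControl

variable {G : Type*} [Group G]

/-- left conjugate of a subgroup -/
abbrev cj (g : G) (H : Subgroup G) : Subgroup G := H.map (MulAut.conj g).toMonoidHom

lemma mem_cj {g x : G} {H : Subgroup G} : x ∈ cj g H ↔ g⁻¹ * x * g ∈ H := by
  constructor
  · rintro ⟨y, hy, rfl⟩
    simpa [mul_assoc] using hy
  · intro h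
    exact ⟨_, h, by simp [mul_assoc]⟩

lemma conj_mem_cj {g x : G} {H : Subgroup G} (h : x ∈ H) : g * x * g⁻¹ ∈ cj g H := ⟨x, h, rfl⟩

lemma cj_le_iff {g : G} {H K : Subgroup G} : cj g H ≤ K ↔ ∀ x ∈ H, g * x * g⁻¹ ∈ K :=
  ⟨fun h x hx => h (conj_mem_cj hx), fun h => by rintro _ ⟨x, hx, rfl⟩; exact h x hx⟩

@[simp] lemma cj_one (H : Subgroup G) : cj 1 H = H := by ext x; simp [mem_cj]

lemma cj_cj (g h : G) (H : Subgroup G) : cj g (cj h H) = cj (g * h) H := by
  ext x; simp [mem_cj, mul_assoc]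

@[simp] lemma cj_inv_cj (g : G) (H : Subgroup G) : cj g⁻¹ (cj g H) = H := by simp [cj_cj]

@[simp] lemma cj_cj_inv (g : G) (H : Subgroup G) : cj g (cj g⁻¹ H) = H := by simp [cj_cj]

lemma cj_le_cj {g : G} {H K : Subgroup G} (h : H ≤ K) : cj g H ≤ cj g K := Subgroup.map_mono h

lemma card_cj (g : G) (H : Subgroup G) : Nat.card (cj g H) = Nat.card H :=
  Subgroup.card_map_of_injective (MulAut.conj g).injective

lemma mem_normalizer_iff_cj {g : G} {H : Subgroup G} :
    g ∈ Subgroup.normalizer (H : Set G) ↔ cj g H = H := by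
  rw [Subgroup.mem_normalizer_iff]
  constructor
  · intro h; ext x
    rw [mem_cj]
    have := h (g⁻¹ * x * g)
    simpa [mul_assoc] using this
  · intro h x
    conv_rhs => rw [← h, mem_cj]
    simp [mul_assoc]

lemma mem_normalizer_of_cj_le [Finite G] {g : G} {H : Subgroup G} (h : cj g H ≤ H) :
    g ∈ Subgroup.normalizer (H : Set G) :=
  mem_normalizer_iff_cj.2 (Subgroup.eq_of_le_of_card_ge h (card_cj g H).ge)

lemma cj_normalizer (g : G) (H : Subgroup G) :
    cj g (Subgroup.normalizer (H : Set G)) = Subgroup.normalizer (cj g H : Set G) := by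
  ext x
  rw [mem_cj, mem_normalizer_iff_cj, mem_normalizer_iff_cj, cj_cj]
  constructor
  · intro h
    conv_rhs => rw [← h]
    rw [cj_cj]; congr 1; group
  · intro h
    rw [mul_assoc, ← cj_cj, h, cj_inv_cj]

lemma cj_inf (g : G) (H K : Subgroup G) : cj g (H ⊓ K) = cj g H ⊓ cj g K :=
  Subgroup.map_inf _ _ _ (MulAut.conj g).injective

lemma isPGroup_cj {p : ℕ} {g : G} {H : Subgroup G} (h : IsPGroup p H) : IsPGroup p (cj g H) :=
  h.map _

lemma relIndex_cj (g : G) (H K : Subgroup G) : (cj g H).relIndex (cj g K) = H.relIndex K :=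
  Subgroup.relIndex_map_map_of_injective _ _ (MulAut.conj g).injective

/-- Sylow theorems relative to a subgroup `K`: a `p`-subgroup of `K` of index prime to `p`
contains a `K`-conjugate of every `p`-subgroup of `K`. -/
lemma exists_cj_le_of_not_dvd [Finite G] {p : ℕ} [Fact p.Prime] {K T Q : Subgroup G}
    (hTK : T ≤ K) (hT : IsPGroup p T) (hTi : ¬ p ∣ T.relIndex K) (hQK : Q ≤ K)
    (hQ : IsPGroup p Q) : ∃ k ∈ K, cj k Q ≤ T := by
  let P : Sylow p K := (hT.comap_of_injective K.subtype K.subtype_injective).toSylow hTi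
  obtain ⟨P', hP'⟩ := (hQ.comap_of_injective K.subtype K.subtype_injective).exists_le_sylow
  obtain ⟨k, hk⟩ := MulAction.exists_smul_eq K P' P
  refine ⟨k, k.2, cj_le_iff.2 fun x hx => ?_⟩
  have : k * (⟨x, hQK hx⟩ : K) * k⁻¹ ∈ (P : Subgroup K) := by
    rw [← hk]; exact ⟨_, hP' hx, rfl⟩
  exact this

lemma card_eq_of_not_dvd [Finite G] {p : ℕ} [Fact p.Prime] {K T Q : Subgroup G}
    (hTK : T ≤ K) (hT : IsPGroup p T) (hTi : ¬ p ∣ T.relIndex K) (hQK : Q ≤ K)
    (hQ : IsPGroup p Q) (hQi : ¬ p ∣ Q.relIndex K) : Nat.card Q = Nat.card T := by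
  obtain ⟨k, _, hk⟩ := exists_cj_le_of_not_dvd hTK hT hTi hQK hQ
  obtain ⟨l, _, hl⟩ := exists_cj_le_of_not_dvd hQK hQ hQi hTK hT
  have h1 := Subgroup.card_le_of_le hk
  have h2 := Subgroup.card_le_of_le hl
  rw [card_cj] at h1 h2
  omega

/-- every subgroup has a Sylow subgroup, as a subgroup of the ambient group -/
lemma exists_sylow_in [Finite G] (p : ℕ) [Fact p.Prime] (K : Subgroup G) {Q : Subgroup G}
    (hQK : Q ≤ K) (hQ : IsPGroup p Q) :
    ∃ T : Subgroup G, Q ≤ T ∧ T ≤ K ∧ IsPGroup p T ∧ ¬ p ∣ T.relIndex K := by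
  obtain ⟨P, hP⟩ := (hQ.comap_of_injective K.subtype K.subtype_injective).exists_le_sylow
  refine ⟨(P : Subgroup K).map K.subtype, ?_, Subgroup.map_subtype_le _, P.2.map _, ?_⟩
  · intro x hx
    exact ⟨⟨x, hQK hx⟩, hP hx, rfl⟩
  · rw [Subgroup.relIndex, Subgroup.subgroupOf, Subgroup.comap_map_eq_self_of_injective K.subtype_injective]
    exact P.not_dvd_index

end Cfsg.Agent.Lib.FusionControl
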