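import Mathlib
import Cfsg.Agent.Lib.Classical.LinearCard

/-!
The 2-parts of the orders of linear and symplectic groups over fields of odd order.
-/

set_option autoImplicit false

namespace Cfsg.Agent.Lib.FusionControl.TwoPart

variable {q : ℕ}

theorem val_pow_even_sub_one (hq : 1 < q) (ho : Odd q) {i : ℕ} (hi : i ≠ 0) :
    padicValNat 2 (q ^ (2 * i) - 1) = padicValNat 2 (q + 1) + padicValNat 2 (q - 1) + padicValNat 2 i := by
  have : Fact (Nat.Prime 2) := ⟨Nat.prime_two⟩
  have h2 : ¬ 2 ∣ q := fun h => Nat.not_even_iff_odd.mpr ho (even_iff_two_dvd.mpr h)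
  have h := padicValNat.pow_two_sub_one (n := 2 * i) hq h2 (by omega) (even_two_mul i)
  rw [padicValNat.mul (by norm_num) hi, padicValNat.self (by norm_num)] at h
  omega

theorem exists_odd_factor (hq : 1 < q) (ho : Odd q) (i : ℕ) :
    ∃ u, Odd u ∧ q ^ (2 * i + 1) - 1 = (q - 1) * u := by
  induction i with
  | zero => exact ⟨1, odd_one, by simp⟩
  | succ n ih =>
    obtain ⟨u, hu, h⟩ := ih
    refine ⟨q ^ 2 * u + (q + 1), (ho.pow.mul hu).add_even (ho.add_one), ?_⟩
    have h1 : 1 ≤ q ^ (2 * n + 1) := Nat.one_le_pow _ _ (by omega)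
    zify [h1, Nat.one_le_pow (2 * (n + 1) + 1) q (by omega), hq.le] at h ⊢
    linear_combination (q : ℤ) ^ 2 * h

theorem val_pow_odd_sub_one (hq : 1 < q) (ho : Odd q) (i : ℕ) :
    padicValNat 2 (q ^ (2 * i + 1) - 1) = padicValNat 2 (q - 1) := by
  have : Fact (Nat.Prime 2) := ⟨Nat.prime_two⟩
  obtain ⟨u, hu, h⟩ := exists_odd_factor hq ho i
  rw [h, padicValNat.mul (by omega) hu.pos.ne',
    padicValNat.eq_zero_of_not_dvd (fun hd => Nat.not_even_iff_odd.mpr hu (even_iff_two_dvd.mpr hd)), add_zero]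

theorem val_prod (f : ℕ → ℕ) :
    ∀ n, (∀ i < n, f i ≠ 0) →
      padicValNat 2 (∏ i ∈ Finset.range n, f i) = ∑ i ∈ Finset.range n, padicValNat 2 (f i) := by
  have : Fact (Nat.Prime 2) := ⟨Nat.prime_two⟩
  intro n
  induction n with
  | zero => simp
  | succ n ih =>
    intro hf
    rw [Finset.prod_range_succ, Finset.sum_range_succ,
      padicValNat.mul (Finset.prod_ne_zero_iff.mpr fun i hi => hf i (by have := Finset.mem_range.mp hi; omega))
        (hf n (by omega)), ih fun i hi => hf i (by omega)]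

theorem sum_val_succ (m : ℕ) : ∑ i ∈ Finset.range m, padicValNat 2 (i + 1) = padicValNat 2 m.factorial := by
  rw [← val_prod (fun i => i + 1) m fun i _ => Nat.succ_ne_zero i, Finset.prod_range_add_one_eq_factorial]

theorem val_prod_even (hq : 1 < q) (ho : Odd q) (m : ℕ) :
    padicValNat 2 (∏ i ∈ Finset.range m, (q ^ (2 * (i + 1)) - 1)) =
      m * (padicValNat 2 (q + 1) + padicValNat 2 (q - 1)) + padicValNat 2 m.factorial := by
  rw [val_prod _ m fun i _ => (Nat.sub_pos_of_lt (Nat.one_lt_pow (by omega) hq)).ne',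
    Finset.sum_congr rfl fun i _ => val_pow_even_sub_one hq ho (Nat.succ_ne_zero i), Finset.sum_add_distrib,
    sum_val_succ, Finset.sum_const, Finset.card_range, smul_eq_mul]

/-- The 2-adic valuation of `|GL_n(q)|`. -/
def valGL (q n : ℕ) : ℕ := ∑ i ∈ Finset.range n, padicValNat 2 (q ^ (i + 1) - 1)

theorem val_card_GL {F : Type*} [Field F] [Fintype F] (ho : Odd (Fintype.card F)) (n : ℕ) :
    padicValNat 2 (Nat.card (Matrix.GeneralLinearGroup (Fin n) F)) = valGL (Fintype.card F) n := by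
  have : Fact (Nat.Prime 2) := ⟨Nat.prime_two⟩
  have hq : 1 < Fintype.card F := Fintype.one_lt_card
  rw [Matrix.card_GL_field, Fin.prod_univ_eq_prod_range (fun i => Fintype.card F ^ n - Fintype.card F ^ i) n,
    val_prod _ n fun i hi => (Nat.sub_pos_of_lt (Nat.pow_lt_pow_right hq hi)).ne', valGL, ← Finset.sum_range_reflect]
  refine Finset.sum_congr rfl fun i hi => ?_
  have hi' := Finset.mem_range.mp hi
  have e : Fintype.card F ^ n - Fintype.card F ^ (n - 1 - i) =
      Fintype.card F ^ (n - 1 - i) * (Fintype.card F ^ (i + 1) - 1) := by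
    rw [Nat.mul_sub, mul_one, ← pow_add, show n - 1 - i + (i + 1) = n by omega]
  rw [e, padicValNat.mul (pow_ne_zero _ (by omega)) (Nat.sub_pos_of_lt (Nat.one_lt_pow (by omega) hq)).ne',
    padicValNat.eq_zero_of_not_dvd (fun hd => Nat.not_even_iff_odd.mpr (ho.pow) (even_iff_two_dvd.mpr hd)),
    zero_add]

theorem valGL_two_mul (hq : 1 < q) (ho : Odd q) (m : ℕ) :
    valGL q (2 * m) = m * valGL q 2 + padicValNat 2 m.factorial := by
  induction m with
  | zero => simp [valGL]
  | succ n ih =>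
    have e2 : valGL q 2 = padicValNat 2 (q - 1) + (padicValNat 2 (q + 1) + padicValNat 2 (q - 1)) := by
      have := val_pow_even_sub_one hq ho one_ne_zero
      simp [valGL, Finset.sum_range_succ] at this ⊢
      omega
    rw [valGL, show 2 * (n + 1) = 2 * n + 1 + 1 by ring, Finset.sum_range_succ, Finset.sum_range_succ, ← valGL, ih,
      show 2 * n + 1 + 1 = 2 * (n + 1) by ring, val_pow_even_sub_one hq ho (Nat.succ_ne_zero n),
      val_pow_odd_sub_one hq ho, ← sum_val_succ, ← sum_val_succ, Finset.sum_range_succ, e2, Nat.succ_eq_add_one]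
    ring

theorem valGL_two_mul_add_one (hq : 1 < q) (ho : Odd q) (m : ℕ) :
    valGL q (2 * m + 1) = valGL q (2 * m) + padicValNat 2 (q - 1) := by
  rw [valGL, Finset.sum_range_succ, ← valGL, val_pow_odd_sub_one hq ho]

theorem val_card_SL {F : Type*} [Field F] [Fintype F] (ho : Odd (Fintype.card F)) {n : ℕ} (hn : 1 ≤ n) :
    padicValNat 2 (Fintype.card F - 1) + padicValNat 2 (Nat.card (Matrix.SpecialLinearGroup (Fin n) F)) =
      valGL (Fintype.card F) n := by
  have : Fact (Nat.Prime 2) := ⟨Nat.prime_two⟩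
  have hq : 1 < Fintype.card F := Fintype.one_lt_card
  rw [← padicValNat.mul (by omega) Nat.card_pos.ne', Classical.card_SL_mul hn, ← Matrix.card_GL_field,
    val_card_GL ho]

end Cfsg.Agent.Lib.FusionControl.TwoPart
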