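import Mathlib

/-!
Wreath products inside a group, as Sylow 2-subgroups, and groups whose squares are commutators.
-/

set_option autoImplicit false

open Pointwise

namespace Cfsg.Agent.Lib.FusionControl.WreathSquares

open Equiv

variable {G H : Type*} [Group G] [Group H]

/-- All squares lie in the derived subgroup. -/
def SqInDerived (G : Type*) [Group G] : Prop := ∀ x : G, x ^ 2 ∈ commutator G

theorem sqInDerived_of_equiv (e : G ≃* H) (h : SqInDerived G) : SqInDerived H := by
  intro y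
  have h1 : (e : G →* H) (e.symm y ^ 2) ∈ (commutator G).map (e : G →* H) := Subgroup.mem_map_of_mem _ (h _)
  rw [map_pow, commutator_def, Subgroup.map_commutator,
    Subgroup.map_top_of_surjective _ e.surjective, ← commutator_def] at h1
  simpa using h1

theorem sqInDerived_of_sylow [Finite G] (Q P : Sylow 2 G) (h : SqInDerived (Q : Subgroup G)) :
    SqInDerived (P : Subgroup G) :=
  sqInDerived_of_equiv (Q.equiv P) h

/-- Generators with squares in the derived subgroup suffice. -/
theorem sqInDerived_of_gen (P : Subgroup G) (S : Set G) (hP : P ≤ Subgroup.closure S) (hS : S ⊆ P)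
    (h : ∀ s ∈ S, s ^ 2 ∈ ⁅P, P⁆) : SqInDerived P := by
  set R : Subgroup P := ((powMonoidHom 2 : Abelianization P →* Abelianization P).comp Abelianization.of).ker with hR
  have hle : P ≤ R.map P.subtype := by
    refine hP.trans ((Subgroup.closure_le _).mpr fun s hs => ⟨⟨s, hS hs⟩, ?_, rfl⟩)
    show Abelianization.of _ ^ 2 = 1
    rw [← map_pow]
    refine (QuotientGroup.eq_one_iff _).mpr ?_
    have h1 := h s hs
    rw [← Subgroup.map_subtype_commutator] at h1
    obtain ⟨y, hy, hys⟩ := h1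
    rwa [show (⟨s, hS hs⟩ : P) ^ 2 = y from Subtype.ext hys.symm]
  intro x
  obtain ⟨y, hy, hyx⟩ := hle x.2
  obtain rfl := Subtype.ext hyx
  have h1 : Abelianization.of (y ^ 2) = 1 := by rw [map_pow]; exact hy
  exact (QuotientGroup.eq_one_iff _).mp h1

/-- The image of a group with squares in the derived subgroup. -/
theorem sq_mem_of_map {T : Subgroup H} (hT : SqInDerived T) (f : H →* G) {P : Subgroup G} (hf : T.map f ≤ P)
    {t : H} (ht : t ∈ T) : f t ^ 2 ∈ ⁅P, P⁆ := by
  refine Subgroup.commutator_mono hf hf ?_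
  rw [← Subgroup.map_commutator, ← map_pow]
  refine Subgroup.mem_map_of_mem f ?_
  rw [← Subgroup.map_subtype_commutator]
  exact ⟨⟨t, ht⟩ ^ 2, hT _, rfl⟩

section Wreath

variable {m : ℕ} (B : (Fin m → H) →* G) (L : Perm (Fin m) →* G)

/-- The subgroup generated by the base and the permutations. -/
def wreath (T : Subgroup H) (W : Subgroup (Perm (Fin m))) : Subgroup G :=
  (Subgroup.pi Set.univ fun _ => T).map B ⊔ W.map L

variable (hconj : ∀ (σ : Perm (Fin m)) (v : Fin m → H), L σ * B v * (L σ)⁻¹ = B (fun i => v (σ⁻¹ i)))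
  (hinj : ∀ (v : Fin m → H) (σ : Perm (Fin m)), B v * L σ = 1 → v = 1 ∧ σ = 1)

include hconj in
theorem map_le_normalizer (T : Subgroup H) (W : Subgroup (Perm (Fin m))) :
    W.map L ≤ Subgroup.normalizer (((Subgroup.pi Set.univ fun _ => T).map B : Subgroup G) : Set G) := by
  rintro _ ⟨σ, -, rfl⟩
  refine Subgroup.mem_normalizer_iff.mpr fun g => ⟨?_, fun hg => ?_⟩
  · rintro ⟨v, hv, rfl⟩
    exact ⟨_, fun i _ => hv (σ⁻¹ i) trivial, (hconj σ v).symm⟩
  · obtain ⟨v, hv, hvg⟩ := hg
    refine ⟨_, fun i _ => hv (σ i) trivial, ?_⟩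
    have := hconj σ⁻¹ v
    rw [inv_inv, map_inv, inv_inv] at this
    rw [← this, hvg]
    group

include hconj in
theorem exists_of_mem (T : Subgroup H) (W : Subgroup (Perm (Fin m))) {g : G} (hg : g ∈ wreath B L T W) :
    ∃ v : Fin m → H, (∀ i, v i ∈ T) ∧ ∃ σ ∈ W, g = B v * L σ := by
  have h : g ∈ (((Subgroup.pi Set.univ fun _ => T).map B ⊔ W.map L : Subgroup G) : Set G) := hg
  rw [Subgroup.coe_mul_of_right_le_normalizer_left _ _ (map_le_normalizer B L hconj T W)] at h
  obtain ⟨_, ⟨v, hv, rfl⟩, _, ⟨σ, hσ, rfl⟩, rfl⟩ := h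
  exact ⟨v, fun i => hv i trivial, σ, hσ, rfl⟩

include hconj in
theorem isPGroup_wreath [Finite H] (T : Subgroup H) (W : Subgroup (Perm (Fin m))) (hT : IsPGroup 2 T)
    (hW : IsPGroup 2 W) : IsPGroup 2 (wreath B L T W) := by
  have h1 : IsPGroup 2 ((Subgroup.pi Set.univ fun _ : Fin m => T)) := by
    intro ⟨v, hv⟩
    have h2 : ∀ i, ∃ k, v i ^ 2 ^ k = 1 := fun i => by
      obtain ⟨k, hk⟩ := hT ⟨v i, hv i trivial⟩
      exact ⟨k, congrArg Subtype.val hk⟩
    choose k hk using h2
    refine ⟨∑ i, k i, Subtype.ext (funext fun i => ?_)⟩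
    show v i ^ 2 ^ (∑ j, k j) = 1
    obtain ⟨r, hr⟩ := Nat.pow_dvd_pow 2 (Finset.single_le_sum (fun j _ => Nat.zero_le (k j)) (Finset.mem_univ i))
    rw [hr, pow_mul, hk i, one_pow]
  have h2 : IsPGroup 2 ((W.map L ⊔ (Subgroup.pi Set.univ fun _ => T).map B : Subgroup G)) :=
    (hW.map L).to_sup_of_normal_right' (h1.map B) (map_le_normalizer B L hconj T W)
  rwa [sup_comm] at h2

include hinj in
theorem card_le_wreath [Finite G] [Finite H] (T : Subgroup H) (W : Subgroup (Perm (Fin m))) :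
    Nat.card T ^ m * Nat.card W ≤ Nat.card (wreath B L T W) := by
  have h : Nat.card ((Fin m → T) × W) = Nat.card T ^ m * Nat.card W := by
    rw [Nat.card_prod, Nat.card_fun, Nat.card_eq_fintype_card (α := Fin m), Fintype.card_fin]
  rw [← h]
  refine Nat.card_le_card_of_injective (fun z => (⟨B (fun i => (z.1 i : H)) * L z.2,
    mul_mem (Subgroup.mem_sup_left ⟨_, fun i _ => (z.1 i).2, rfl⟩)
      (Subgroup.mem_sup_right ⟨_, z.2.2, rfl⟩)⟩ : wreath B L T W)) ?_
  rintro ⟨v, σ⟩ ⟨w, τ⟩ h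
  have e : B (fun i => (v i : H)) * L σ = B (fun i => (w i : H)) * L τ := congrArg Subtype.val h
  have e2 : B ((fun i => (w i : H))⁻¹ * fun i => (v i : H)) * L ((σ : Perm (Fin m)) * (τ : Perm (Fin m))⁻¹) = 1 := by
    rw [map_mul, map_mul, map_inv, map_inv, mul_assoc, ← mul_assoc (B fun i => (v i : H)), e]
    group
  obtain ⟨h1, h2⟩ := hinj _ _ e2
  refine Prod.ext (funext fun i => Subtype.ext ?_) (Subtype.ext (mul_inv_eq_one.mp h2))
  exact ((inv_mul_eq_one).mp (congrFun h1 i : ((w i : H))⁻¹ * (v i : H) = 1)).symm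

include hconj hinj in
/-- The wreath product is a Sylow 2-subgroup as soon as the orders agree. -/
theorem exists_sylow [Finite G] [Finite H] (T : Subgroup H) (W : Subgroup (Perm (Fin m))) {a b : ℕ}
    (hT : Nat.card T = 2 ^ a) (hW : Nat.card W = 2 ^ b)
    (hG : padicValNat 2 (Nat.card G) = m * a + b) :
    ∃ P : Sylow 2 G, (P : Subgroup G) = wreath B L T W := by
  have : Fact (Nat.Prime 2) := ⟨Nat.prime_two⟩
  have hp := isPGroup_wreath B L hconj T W (IsPGroup.of_card hT) (IsPGroup.of_card hW)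
  refine ⟨Sylow.ofCard (wreath B L T W) ?_, rfl⟩
  rw [Nat.factorization_def _ Nat.prime_two, hG]
  obtain ⟨c, hc⟩ := IsPGroup.iff_card.mp hp
  refine le_antisymm ?_ ?_
  · rw [hc]
    refine Nat.pow_le_pow_right (by norm_num) ?_
    rw [← hG]
    exact (padicValNat_dvd_iff_le Nat.card_pos.ne').mp (hc ▸ Subgroup.card_subgroup_dvd_card _)
  · have := card_le_wreath B L hinj T W
    rwa [hT, hW, ← pow_mul, ← pow_add, mul_comm a m] at this

/-- Squares of the wreath product lie in its derived subgroup when those of its generators do. -/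
theorem sqInDerived_wreath (T : Subgroup H) (hT : SqInDerived T) (W : Subgroup (Perm (Fin m)))
    (S : Set (Perm (Fin m))) (hWS : W = Subgroup.closure S) (hS : ∀ s ∈ S, s ^ 2 = 1) :
    SqInDerived (wreath B L T W) := by
  refine sqInDerived_of_gen _ ((⋃ i : Fin m, (B.comp (MonoidHom.mulSingle (fun _ : Fin m => H) i)) '' (T : Set H)) ∪ L '' S)
    ?_ ?_ ?_
  · refine sup_le ?_ ?_
    · refine Subgroup.map_le_iff_le_comap.mpr ?_
      refine Subgroup.pi_le_iff.mpr fun i => ?_
      rintro _ ⟨t, ht, rfl⟩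
      exact Subgroup.subset_closure (Or.inl (Set.mem_iUnion.mpr ⟨i, ⟨t, ht, rfl⟩⟩))
    · rw [hWS, MonoidHom.map_closure]
      exact Subgroup.closure_mono Set.subset_union_right
  · refine Set.union_subset (Set.iUnion_subset fun i => ?_) ?_
    · rintro _ ⟨t, ht, rfl⟩
      refine Subgroup.mem_sup_left ⟨_, fun j _ => ?_, rfl⟩
      by_cases h : j = i
      · subst h; simpa using ht
      · simp [h]
    · rintro _ ⟨s, hs, rfl⟩
      exact Subgroup.mem_sup_right ⟨s, hWS ▸ Subgroup.subset_closure hs, rfl⟩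
  · rintro x (hx | ⟨s, hs, rfl⟩)
    · obtain ⟨i, t, ht, rfl⟩ := Set.mem_iUnion.mp hx
      refine sq_mem_of_map hT (B.comp (MonoidHom.mulSingle (fun _ : Fin m => H) i)) ?_ ht
      rintro _ ⟨u, hu, rfl⟩
      refine Subgroup.mem_sup_left ⟨_, fun j _ => ?_, rfl⟩
      by_cases h : j = i
      · subst h; simpa using hu
      · simp [h]
    · rw [← map_pow, hS s hs, map_one]
      exact one_mem _

end Wreath

end Cfsg.Agent.Lib.FusionControl.WreathSquares
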