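import Mathlib
import Cfsg.Agent.Lib.FusionControl.WreathSquares
import Cfsg.Agent.Lib.FusionControl.TwoPartClassical
import Cfsg.Agent.Lib.Classical.SLTwoSylow
import Cfsg.Agent.Lib.Perm.SymSylow

/-!
Block diagonal and permutation matrices on `m` planes, and Sylow 2-subgroups of `GL(2m)`.
-/

set_option autoImplicit false

namespace Cfsg.Agent.Lib.FusionControl.BlockDiag

open Matrix
open scoped commutatorElement
open Cfsg.Agent.Lib.FusionControl.WreathSquares

variable {F : Type*} [Field F] {m : ℕ}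

/-- `m` two-by-two blocks along the pairs `(inl i, inr i)`. -/
def bdM : (Fin m → Matrix (Fin 2) (Fin 2) F) →* Matrix (Fin m ⊕ Fin m) (Fin m ⊕ Fin m) F where
  toFun v := fromBlocks (diagonal fun i => v i 0 0) (diagonal fun i => v i 0 1)
    (diagonal fun i => v i 1 0) (diagonal fun i => v i 1 1)
  map_one' := by simp [fromBlocks_one]
  map_mul' v w := by
    rw [fromBlocks_multiply]
    simp [diagonal_mul_diagonal, diagonal_add, Matrix.mul_apply, Fin.sum_univ_two]

/-- Blocks of invertible matrices. -/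
def bd : (Fin m → GL (Fin 2) F) →* GL (Fin m ⊕ Fin m) F :=
  (bdM.comp (MonoidHom.compLeft (Units.coeHom (Matrix (Fin 2) (Fin 2) F)) (Fin m))).toHomUnits

theorem coe_bd (v : Fin m → GL (Fin 2) F) :
    (bd v : Matrix (Fin m ⊕ Fin m) (Fin m ⊕ Fin m) F) = bdM fun i => (v i : Matrix (Fin 2) (Fin 2) F) := rfl

/-- Permutations of the planes. -/
def pmM : Equiv.Perm (Fin m) →* Matrix (Fin m ⊕ Fin m) (Fin m ⊕ Fin m) F where
  toFun σ := fromBlocks (σ⁻¹.permMatrix F) 0 0 (σ⁻¹.permMatrix F)
  map_one' := by simp [fromBlocks_one]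
  map_mul' σ τ := by rw [fromBlocks_multiply]; simp [_root_.mul_inv_rev, Matrix.permMatrix_mul]

/-- Permutations of the planes, invertible. -/
def pm : Equiv.Perm (Fin m) →* GL (Fin m ⊕ Fin m) F := pmM.toHomUnits

theorem coe_pm (σ : Equiv.Perm (Fin m)) :
    ((pm σ : GL (Fin m ⊕ Fin m) F) : Matrix (Fin m ⊕ Fin m) (Fin m ⊕ Fin m) F) = pmM σ := rfl

theorem perm_mul_diagonal (σ : Equiv.Perm (Fin m)) (d : Fin m → F) :
    σ⁻¹.permMatrix F * diagonal d = diagonal (fun i => d (σ⁻¹ i)) * σ⁻¹.permMatrix F := by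
  ext i j
  rw [Matrix.mul_diagonal, Matrix.diagonal_mul]
  by_cases h : σ⁻¹ i = j
  · rw [h, mul_comm]
  · have h' : σ.symm i ≠ j := h
    rw [show σ⁻¹.permMatrix F i j = 0 by simp [PEquiv.toMatrix_apply, h'], zero_mul, mul_zero]

theorem pm_conj (σ : Equiv.Perm (Fin m)) (v : Fin m → GL (Fin 2) F) :
    pm σ * bd v * (pm σ)⁻¹ = bd (fun i => v (σ⁻¹ i)) := by
  rw [mul_inv_eq_iff_eq_mul]
  refine Units.ext ?_
  rw [Units.val_mul, Units.val_mul, coe_pm, coe_bd, coe_bd]
  simp only [pmM, bdM, MonoidHom.coe_mk, OneHom.coe_mk, fromBlocks_multiply, Matrix.zero_mul, Matrix.mul_zero,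
    add_zero, zero_add, perm_mul_diagonal]

theorem bd_pm_eq_one (v : Fin m → GL (Fin 2) F) (σ : Equiv.Perm (Fin m)) (h : bd v * pm σ = 1) :
    v = 1 ∧ σ = 1 := by
  have h' : bdM (fun i => (v i : Matrix (Fin 2) (Fin 2) F)) * pmM σ = 1 := congrArg Units.val h
  simp only [pmM, bdM, MonoidHom.coe_mk, OneHom.coe_mk, fromBlocks_multiply, Matrix.mul_zero,
    add_zero, zero_add, ← fromBlocks_one] at h'
  obtain ⟨h00, h01, h10, h11⟩ := fromBlocks_inj.mp h'
  have key : ∀ i, σ⁻¹ i = i := by
    intro i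
    by_contra hne
    have := congrFun (congrFun h00 i) i
    have hne' : σ.symm i ≠ i := hne
    rw [Matrix.diagonal_mul, show σ⁻¹.permMatrix F i i = 0 by simp [PEquiv.toMatrix_apply, hne'], mul_zero,
      Matrix.one_apply_eq] at this
    exact zero_ne_one this
  have hσ : σ = 1 := by
    rw [← inv_eq_one]
    exact Equiv.ext key
  subst hσ
  rw [inv_one, Matrix.permMatrix_one, mul_one] at h00 h01 h10 h11
  refine ⟨funext fun i => Units.ext ?_, rfl⟩
  have a := congrFun (congrFun h00 i) i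
  have b := congrFun (congrFun h01 i) i
  have c := congrFun (congrFun h10 i) i
  have d := congrFun (congrFun h11 i) i
  simp only [diagonal_apply_eq, one_apply_eq, Matrix.zero_apply] at a b c d
  show ((v i : GL (Fin 2) F) : Matrix (Fin 2) (Fin 2) F) = 1
  ext r s
  fin_cases r <;> fin_cases s <;> simp_all

theorem det_bd (v : Fin m → GL (Fin 2) F) :
    GeneralLinearGroup.det (bd v) = ∏ i, GeneralLinearGroup.det (v i) := by
  refine Units.ext ?_
  rw [GeneralLinearGroup.val_det_apply, coe_bd, Units.coe_prod]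
  simp only [GeneralLinearGroup.val_det_apply]
  let e : Fin 2 × Fin m ≃ Fin m ⊕ Fin m :=
    { toFun := fun x => if x.1 = 0 then Sum.inl x.2 else Sum.inr x.2
      invFun := Sum.elim (fun i => (0, i)) (fun i => (1, i))
      left_inv := fun x => by
        obtain ⟨a, b⟩ := x
        fin_cases a <;> simp
      right_inv := fun x => by rcases x with i | i <;> simp }
  have key : bdM (fun i => (v i : Matrix (Fin 2) (Fin 2) F)) =
      Matrix.reindex e e (blockDiagonal fun i => (v i : Matrix (Fin 2) (Fin 2) F)) := by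
    ext (i | i) (j | j) <;> by_cases h : i = j <;>
      simp [bdM, blockDiagonal_apply, e, h]
  rw [key, Matrix.det_reindex_self, det_blockDiagonal]

theorem det_pm (σ : Equiv.Perm (Fin m)) : GeneralLinearGroup.det (pm σ : GL (Fin m ⊕ Fin m) F) = 1 := by
  refine Units.ext ?_
  rw [GeneralLinearGroup.val_det_apply, coe_pm]
  show (fromBlocks (σ⁻¹.permMatrix F) 0 0 (σ⁻¹.permMatrix F)).det = ((1 : Fˣ) : F)
  rw [det_fromBlocks_zero₂₁, det_permutation, Units.val_one]
  rcases Int.units_eq_one_or (Equiv.Perm.sign σ⁻¹) with h | h <;> simp [h]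

theorem det_single (i : Fin m) (c : GL (Fin 2) F) :
    GeneralLinearGroup.det (bd (Pi.mulSingle i c)) = GeneralLinearGroup.det c := by
  rw [det_bd, Finset.prod_eq_single i]
  · simp
  · intro j _ hj
    simp [hj]
  · simp

variable [Fintype F]

/-- Squares in a Sylow 2-subgroup of `SL₂(q)`, `q` odd, are commutators. -/
theorem sqInDerived_SL2 (h2 : (2 : F) ≠ 0) (T : Sylow 2 (Matrix.SpecialLinearGroup (Fin 2) F)) :
    SqInDerived (T : Subgroup (Matrix.SpecialLinearGroup (Fin 2) F)) := by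
  obtain ⟨k, hk, ⟨e⟩⟩ := Classical.sylow_two_SL2_quaternion h2 T
  refine sqInDerived_of_equiv e.symm ?_
  have key : ∀ i : ZMod (2 * 2 ^ k), QuaternionGroup.a (i + i) ∈ commutator (QuaternionGroup (2 ^ k)) := by
    intro i
    have h1 : QuaternionGroup.a (i + i) = ⁅QuaternionGroup.a i, QuaternionGroup.xa (0 : ZMod (2 * 2 ^ k))⁆ := by
      rw [commutatorElement_def, eq_mul_inv_iff_mul_eq, eq_mul_inv_iff_mul_eq]
      simp
    rw [h1, commutator_def]
    exact Subgroup.commutator_mem_commutator (Subgroup.mem_top _) (Subgroup.mem_top _)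
  intro x
  rcases x with i | i
  · rw [pow_two, QuaternionGroup.a_mul_a]
    exact key i
  · rw [QuaternionGroup.xa_sq]
    obtain ⟨j, rfl⟩ := Nat.exists_eq_succ_of_ne_zero (show k ≠ 0 by omega)
    have := key ((2 ^ j : ℕ) : ZMod _)
    have e2 : ((2 ^ j : ℕ) : ZMod (2 * 2 ^ j.succ)) + ((2 ^ j : ℕ) : ZMod (2 * 2 ^ j.succ)) =
        ((2 ^ j.succ : ℕ) : ZMod (2 * 2 ^ j.succ)) := by
      rw [← Nat.cast_add, ← two_mul]
      exact congrArg Nat.cast (pow_succ' 2 j).symm
    rw [e2] at this
    exact this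

theorem odd_ne_two (ho : Odd (Fintype.card F)) : (2 : F) ≠ 0 :=
  Ring.two_ne_zero fun h => Nat.not_even_iff_odd.mpr ho (Nat.even_iff.mpr (FiniteField.even_card_of_char_two h))

/-- The pullback of a Sylow 2-subgroup along an injection whose image is a kernel into an abelian group. -/
theorem exists_sylow_comap {G K A : Type*} [Group G] [Finite G] [Group K] [CommGroup A] [Finite A]
    (f : K →* G) (hf : Function.Injective f) (χ : G →* A) (hker : f.range = χ.ker)
    (hv : padicValNat 2 (Nat.card G) = padicValNat 2 (Nat.card A) + padicValNat 2 (Nat.card K))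
    (P : Sylow 2 G) : ∃ Q : Sylow 2 K, (Q : Subgroup K) = (P : Subgroup G).comap f := by
  have : Fact (Nat.Prime 2) := ⟨Nat.prime_two⟩
  have : Finite K := Finite.of_injective _ hf
  have hQ : IsPGroup 2 ((P : Subgroup G).comap f) := P.2.comap_of_injective f hf
  refine ⟨Sylow.ofCard ((P : Subgroup G).comap f) ?_, rfl⟩
  rw [Nat.factorization_def _ Nat.prime_two]
  obtain ⟨a, ha⟩ := IsPGroup.iff_card.mp hQ
  refine le_antisymm ?_ ?_
  · rw [ha]
    exact Nat.pow_le_pow_right (by norm_num)
      ((padicValNat_dvd_iff_le Nat.card_pos.ne').mp (ha ▸ Subgroup.card_subgroup_dvd_card _))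
  · let ψ : (P : Subgroup G) →* A := χ.comp (P : Subgroup G).subtype
    have h1 : Nat.card ψ.ker ≤ Nat.card ((P : Subgroup G).comap f) := by
      have hx : ∀ x : ψ.ker, ∃ y, f y = ((x : (P : Subgroup G)) : G) := fun x => by
        have : ((x : (P : Subgroup G)) : G) ∈ χ.ker := x.2
        rw [← hker] at this
        exact this
      choose y hy using hx
      refine Nat.card_le_card_of_injective (fun x => (⟨y x, by
        rw [Subgroup.mem_comap, hy x]; exact (x : (P : Subgroup G)).2⟩ : (P : Subgroup G).comap f)) ?_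
      intro x x' h
      have := congrArg f (congrArg Subtype.val h)
      rw [hy, hy] at this
      exact Subtype.ext (Subtype.ext this)
    have hr : IsPGroup 2 ψ.range :=
      IsPGroup.of_surjective P.2 ψ.rangeRestrict ψ.rangeRestrict_surjective
    obtain ⟨b, hb⟩ := IsPGroup.iff_card.mp hr
    have h2 : Nat.card ψ.range ≤ 2 ^ padicValNat 2 (Nat.card A) := by
      rw [hb]
      exact Nat.pow_le_pow_right (by norm_num)
        ((padicValNat_dvd_iff_le Nat.card_pos.ne').mp (hb ▸ Subgroup.card_subgroup_dvd_card _))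
    have h3 := ψ.ker.card_mul_index
    rw [Subgroup.index_ker, P.card_eq_multiplicity, Nat.factorization_def _ Nat.prime_two, hv, pow_add] at h3
    have h4 := Nat.mul_le_mul h1 h2
    rw [h3, mul_comm (Nat.card ((P : Subgroup G).comap f))] at h4
    exact Nat.le_of_mul_le_mul_left h4 (Nat.two_pow_pos _)

theorem range_toGL_ker {n : Type*} [Fintype n] [DecidableEq n] :
    (SpecialLinearGroup.toGL : SpecialLinearGroup n F →* GL n F).range = GeneralLinearGroup.det.ker :=
  Classical.range_toGL_eq_ker_det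

theorem val_GL_SL (ho : Odd (Fintype.card F)) {n : ℕ} (hn : 1 ≤ n) :
    padicValNat 2 (Nat.card (GL (Fin n) F)) =
      padicValNat 2 (Nat.card Fˣ) + padicValNat 2 (Nat.card (SpecialLinearGroup (Fin n) F)) := by
  rw [TwoPart.val_card_GL ho, ← TwoPart.val_card_SL ho hn, Classical.natCard_units]

/-- Reindexing the linear group. -/
def glReindex {a b : Type*} [Fintype a] [Fintype b] [DecidableEq a] [DecidableEq b] (e : a ≃ b) :
    GL a F ≃* GL b F := Units.mapEquiv (reindexAlgEquiv F F e).toMulEquiv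

/-- Reindexing the special linear group. -/
def slReindex {a b : Type*} [Fintype a] [Fintype b] [DecidableEq a] [DecidableEq b] (e : a ≃ b) :
    SpecialLinearGroup a F ≃* SpecialLinearGroup b F where
  toFun A := ⟨reindexAlgEquiv F F e A.1, by rw [det_reindexAlgEquiv]; exact A.2⟩
  invFun A := ⟨reindexAlgEquiv F F e.symm A.1, by rw [det_reindexAlgEquiv]; exact A.2⟩
  left_inv A := Subtype.ext (by ext i j; simp)
  right_inv A := Subtype.ext (by ext i j; simp)
  map_mul' A A' := Subtype.ext (map_mul (reindexAlgEquiv F F e) A.1 A'.1)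

set_option maxHeartbeats 800000 in
/-- A Sylow 2-subgroup of `GL(2m)` as a wreath product. -/
theorem exists_sylow_GL (ho : Odd (Fintype.card F)) (R : Sylow 2 (GL (Fin 2) F))
    (W : Sylow 2 (Equiv.Perm (Fin m))) :
    ∃ P : Sylow 2 (GL (Fin m ⊕ Fin m) F),
      (P : Subgroup (GL (Fin m ⊕ Fin m) F)) = wreath bd pm R W := by
  have hq : 1 < Fintype.card F := Fintype.one_lt_card
  have hR : Nat.card (R : Subgroup (GL (Fin 2) F)) = 2 ^ TwoPart.valGL (Fintype.card F) 2 := by
    rw [R.card_eq_multiplicity, Nat.factorization_def _ Nat.prime_two, TwoPart.val_card_GL ho]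
  have hW : Nat.card (W : Subgroup (Equiv.Perm (Fin m))) = 2 ^ padicValNat 2 m.factorial := by
    rw [W.card_eq_multiplicity, Nat.factorization_def _ Nat.prime_two, Nat.card_perm,
      Nat.card_eq_fintype_card, Fintype.card_fin]
  have e : Nat.card (GL (Fin m ⊕ Fin m) F) = Nat.card (GL (Fin (2 * m)) F) :=
    Nat.card_congr (glReindex (finSumFinEquiv.trans (finCongr (two_mul m).symm))).toEquiv
  have hG : padicValNat 2 (Nat.card (GL (Fin m ⊕ Fin m) F)) =
      m * TwoPart.valGL (Fintype.card F) 2 + padicValNat 2 m.factorial := by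
    rw [e, TwoPart.val_card_GL ho, TwoPart.valGL_two_mul hq ho]
  exact exists_sylow bd pm pm_conj bd_pm_eq_one (R : Subgroup (GL (Fin 2) F)) (W : Subgroup (Equiv.Perm (Fin m))) hR hW hG

/-- A Sylow 2-subgroup of `S_m` generated by involutions. -/
theorem exists_sylow_perm (m : ℕ) :
    ∃ (W : Sylow 2 (Equiv.Perm (Fin m))) (S : Set (Equiv.Perm (Fin m))),
      (W : Subgroup (Equiv.Perm (Fin m))) = Subgroup.closure S ∧ ∀ s ∈ S, s ^ 2 = 1 := by
  have : Fact (Nat.Prime 2) := ⟨Nat.prime_two⟩
  obtain ⟨W, S, T, hS, -, hW, -⟩ := Perm.SymSylow.exists_sylow_gen (p := 2) m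
  exact ⟨W, S, hW, hS⟩

end Cfsg.Agent.Lib.FusionControl.BlockDiag
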