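import Cfsg.Agent.Lib.FusionControl.Control
import Cfsg.Agent.Lib.FusionControl.TransferControl
import Cfsg.Agent.Lib.FusionControl.Centric

/-! Control of fusion and transfer by a conjugacy functor together with a central functor. -/

set_option autoImplicit false

namespace Cfsg.Agent.Lib.FusionControl

variable {G : Type*} [Group G]

lemma cj_centralizer (g : G) (H : Subgroup G) :
    cj g (Subgroup.centralizer (H : Set G)) = Subgroup.centralizer (cj g H : Set G) := by
  ext x
  rw [mem_cj, Subgroup.mem_centralizer_iff, Subgroup.mem_centralizer_iff]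
  constructor
  · rintro h _ ⟨y, hy, rfl⟩
    show g * y * g⁻¹ * x = x * (g * y * g⁻¹)
    calc g * y * g⁻¹ * x = g * (y * (g⁻¹ * x * g)) * g⁻¹ := by group
      _ = g * (g⁻¹ * x * g * y) * g⁻¹ := by rw [h y hy]
      _ = _ := by group
  · intro h y hy
    have := h _ (conj_mem_cj (g := g) hy)
    calc y * (g⁻¹ * x * g) = g⁻¹ * (g * y * g⁻¹ * x) * g := by group
      _ = g⁻¹ * (x * (g * y * g⁻¹)) * g := by rw [this]
      _ = _ := by group

/-- one step inside `H` by `W` or by the central functor `V` -/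
def wvSet (W V : Subgroup G → Subgroup G) (H T : Subgroup G) : Set G :=
  {x | x ∈ H ⊓ Subgroup.normalizer ((W T : Subgroup G) : Set G) ∨
    x ∈ H ⊓ Subgroup.centralizer ((V T : Subgroup G) : Set G)}

lemma one_mem_wvSet (W V : Subgroup G → Subgroup G) (H T : Subgroup G) : (1 : G) ∈ wvSet W V H T :=
  Or.inl (one_mem _)

lemma inv_mem_wvSet {W V : Subgroup G → Subgroup G} {H T : Subgroup G} {x : G} (h : x ∈ wvSet W V H T) :
    x⁻¹ ∈ wvSet W V H T := h.imp inv_mem inv_mem

variable {p : ℕ} {W V : Subgroup G → Subgroup G}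

lemma wvSet_map (hW : Cfsg.IsConjugacyFunctor p W) (hV : Cfsg.IsConjugacyFunctor p V)
    {H T : Subgroup G} (hT : IsPGroup p T) (k : G) :
    cs k (wvSet W V H T) ⊆ wvSet W V (cj k H) (cj k T) := by
  rintro _ ⟨x, hx, rfl⟩
  have e1 : W (cj k T) = cj k (W T) := (hW T hT).2.2 k
  have e2 : V (cj k T) = cj k (V T) := (hV T hT).2.2 k
  rcases hx with hx | hx
  · refine Or.inl ?_
    have := conj_mem_cj (g := k) hx
    rw [cj_inf, cj_normalizer] at this
    rw [e1]; exact this
  · refine Or.inr ?_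
    have := conj_mem_cj (g := k) hx
    rw [cj_inf, cj_centralizer] at this
    rw [e2]; exact this

/-- `W` with `V` controls strong fusion in `H`, for some Sylow subgroup -/
def WVCtrl (p : ℕ) (W V : Subgroup G → Subgroup G) (H : Subgroup G) : Prop :=
  ∃ T : Subgroup G, T ≤ H ∧ IsPGroup p ↥T ∧ ¬ p ∣ T.relIndex H ∧ LocalCtrl H T (wvSet W V H T)

/-- the transfer contribution of `W` with `V` -/
def wvPart (W V : Subgroup G → Subgroup G) (H T : Subgroup G) : Subgroup G :=
  (T ⊓ ⁅H ⊓ Subgroup.normalizer ((W T : Subgroup G) : Set G), H ⊓ Subgroup.normalizer ((W T : Subgroup G) : Set G)⁆) ⊔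
  (T ⊓ ⁅H ⊓ Subgroup.centralizer ((V T : Subgroup G) : Set G), H ⊓ Subgroup.centralizer ((V T : Subgroup G) : Set G)⁆)

/-- `W` with `V` controls transfer in `H`, for some Sylow subgroup -/
def WVTrans (p : ℕ) (W V : Subgroup G → Subgroup G) (H : Subgroup G) : Prop :=
  ∃ T : Subgroup G, T ≤ H ∧ IsPGroup p ↥T ∧ ¬ p ∣ T.relIndex H ∧ T ⊓ ⁅H, H⁆ = wvPart W V H T

lemma wvPart_le {H T : Subgroup G} : wvPart W V H T ≤ T ⊓ ⁅H, H⁆ :=
  sup_le (inf_le_inf_left _ (Subgroup.commutator_mono inf_le_left inf_le_left))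
    (inf_le_inf_left _ (Subgroup.commutator_mono inf_le_left inf_le_left))

lemma wvPart_map (hW : Cfsg.IsConjugacyFunctor p W) (hV : Cfsg.IsConjugacyFunctor p V)
    {H T : Subgroup G} (hT : IsPGroup p T) (k : G) :
    cj k (wvPart W V H T) = wvPart W V (cj k H) (cj k T) := by
  have e1 : W (cj k T) = cj k (W T) := (hW T hT).2.2 k
  have e2 : V (cj k T) = cj k (V T) := (hV T hT).2.2 k
  have hs : ∀ A B : Subgroup G, cj k (A ⊔ B) = cj k A ⊔ cj k B := fun A B => Subgroup.map_sup _ _ _
  simp only [wvPart, hs, cj_inf, cj_commutator, cj_normalizer, cj_centralizer, e1, e2]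

variable [Finite G] [Fact p.Prime]

lemma WVCtrl.localCtrl (hW : Cfsg.IsConjugacyFunctor p W) (hV : Cfsg.IsConjugacyFunctor p V)
    {H : Subgroup G} (h : WVCtrl p W V H) (k : G) {T' : Subgroup G} (h1' : T' ≤ cj k H)
    (h2' : IsPGroup p T') (h3' : ¬ p ∣ T'.relIndex (cj k H)) : LocalCtrl (cj k H) T' (wvSet W V (cj k H) T') := by
  obtain ⟨T, h1, h2, h3, h⟩ := h
  have g1 : cj k T ≤ cj k H := cj_le_cj h1
  have g3 : ¬ p ∣ (cj k T).relIndex (cj k H) := by rwa [relIndex_cj]
  obtain ⟨m, hm, hle⟩ := exists_cj_le_of_not_dvd h1' h2' h3' g1 (isPGroup_cj h2)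
  have hH : cj m (cj k H) = cj k H := mem_normalizer_iff_cj.1 (Subgroup.le_normalizer hm)
  have he : cj m (cj k T) = T' := Subgroup.eq_of_le_of_card_ge hle
    (by rw [card_cj, card_eq_of_not_dvd g1 (isPGroup_cj h2) g3 h1' h2' h3'])
  have h' := (h.map k).map m
  rw [hH, he] at h'
  intro A g hg hA hgA
  refine (h' A g hg hA hgA).mono_steps ?_
  have e2 := wvSet_map hW hV (isPGroup_cj (g := k) h2) m (H := cj k H)
  rw [hH, he] at e2
  exact (cs_subset (wvSet_map hW hV h2 k)).trans e2

lemma WVTrans.eq (hW : Cfsg.IsConjugacyFunctor p W) (hV : Cfsg.IsConjugacyFunctor p V)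
    {H : Subgroup G} (h : WVTrans p W V H) (k : G) {T' : Subgroup G} (h1' : T' ≤ cj k H)
    (h2' : IsPGroup p T') (h3' : ¬ p ∣ T'.relIndex (cj k H)) :
    T' ⊓ ⁅cj k H, cj k H⁆ = wvPart W V (cj k H) T' := by
  obtain ⟨T, h1, h2, h3, h⟩ := h
  have g1 : cj k T ≤ cj k H := cj_le_cj h1
  have g3 : ¬ p ∣ (cj k T).relIndex (cj k H) := by rwa [relIndex_cj]
  obtain ⟨m, hm, hle⟩ := exists_cj_le_of_not_dvd h1' h2' h3' g1 (isPGroup_cj h2)
  have hH : cj m (cj k H) = cj k H := mem_normalizer_iff_cj.1 (Subgroup.le_normalizer hm)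
  have he : cj m (cj k T) = T' := Subgroup.eq_of_le_of_card_ge hle
    (by rw [card_cj, card_eq_of_not_dvd g1 (isPGroup_cj h2) g3 h1' h2' h3'])
  have h' := congrArg (cj m) (congrArg (cj k) h)
  rwa [wvPart_map hW hV h2, wvPart_map hW hV (isPGroup_cj h2), cj_inf, cj_inf, cj_commutator, cj_commutator, hH, he] at h'

/-- common hypotheses -/
structure CentralSetup (S : Sylow p G) (W V : Subgroup G → Subgroup G) : Prop where
  hW : Cfsg.IsConjugacyFunctor p W
  hV : Cfsg.IsConjugacyFunctor p V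
  hS : (S : Subgroup G) ≠ ⊥
  hWZ : ∀ H : Subgroup G, IsPGroup p ↥H → H ⊓ Subgroup.centralizer (H : Set G) ≤ W H
  hVmono : ∀ H K : Subgroup G, IsPGroup p ↥H → IsPGroup p ↥K → H ≠ ⊥ → K ≠ ⊥ →
    H ⊓ Subgroup.centralizer (H : Set G) ≤ K ⊓ Subgroup.centralizer (K : Set G) → V H ≤ V K

variable {S : Sylow p G}

/-- the centre of the Sylow subgroup -/
abbrev zS (S : Sylow p G) : Subgroup G := (S : Subgroup G) ⊓ Subgroup.centralizer ((S : Subgroup G) : Set G)

omit [Finite G] [Fact p.Prime] in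
lemma zS_le_centralizer {U : Subgroup G} (hU : U ≤ (S : Subgroup G)) :
    zS S ≤ Subgroup.centralizer (U : Set G) := inf_le_right.trans (Subgroup.centralizer_le hU)

omit [Finite G] [Fact p.Prime] in
lemma zS_le_nS {U : Subgroup G} (hU : U ≤ (S : Subgroup G)) : zS S ≤ nS (S : Subgroup G) U :=
  le_inf inf_le_left ((zS_le_centralizer hU).trans (Subgroup.centralizer_le_normalizer _))

lemma CentralSetup.ne_bot (hc : CentralSetup S W V) {T : Subgroup G} (hT : zS S ≤ T) : T ≠ ⊥ := by
  intro h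
  rw [h, le_bot_iff] at hT
  have hn : Nontrivial (S : Subgroup G) := (Subgroup.nontrivial_iff_ne_bot _).2 hc.hS
  have hfin := S.2.center_nontrivial
  obtain ⟨⟨z, hz⟩, hz1⟩ := exists_ne (1 : Subgroup.center (S : Subgroup G))
  apply hz1
  have : (z : G) ∈ zS S := Subgroup.mem_inf.2 ⟨z.2, by
    rw [Subgroup.mem_centralizer_iff]
    intro s hs
    exact congrArg Subtype.val (Subgroup.mem_center_iff.1 hz ⟨s, hs⟩)⟩
  rw [hT, Subgroup.mem_bot] at this
  exact Subtype.ext (Subtype.ext this)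

lemma CentralSetup.centralizer_mono (hc : CentralSetup S W V) {T : Subgroup G} (hT : T ≤ (S : Subgroup G))
    (hzT : zS S ≤ T) :
    Subgroup.centralizer ((V T : Subgroup G) : Set G) ≤
      Subgroup.centralizer ((V (S : Subgroup G) : Subgroup G) : Set G) :=
  Subgroup.centralizer_le (hc.hVmono _ _ S.2 (S.2.to_le hT) hc.hS (hc.ne_bot hzT)
    (le_inf hzT (zS_le_centralizer hT)))

lemma CentralSetup.zS_le_W (hc : CentralSetup S W V) {T : Subgroup G} (hT : T ≤ (S : Subgroup G))
    (hzT : zS S ≤ T) : zS S ≤ W T :=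
  (le_inf hzT (zS_le_centralizer hT)).trans (hc.hWZ T (S.2.to_le hT))

/-- hypotheses of the engine which come from centric subgroups -/
lemma centric_hgen (Conn : Set G → G → Prop)
    (hmono : ∀ {A B : Set G} {g : G}, A ⊆ B → Conn B g → Conn A g)
    (hcomp : ∀ {A : Set G} {x y : G}, Conn A x → Conn (cs x A) y → Conn A (y * x))
    (hcongr : ∀ {A : Set G} {g g' : G}, Conn A g → (∀ a ∈ A, g' * a * g'⁻¹ = g * a * g⁻¹) → Conn A g')
    (R : Subgroup G) (g : G) (hR : R ≤ (S : Subgroup G)) (hgR : cj g R ≤ (S : Subgroup G))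
    (hE : ∀ E : Subgroup G, E ≤ (S : Subgroup G) → zS S ≤ E → Nat.card R ≤ Nat.card E →
      ∀ x ∈ Subgroup.normalizer (E : Set G), Conn (E : Set G) x) : Conn (R : Set G) g := by
  obtain ⟨g', hch, hee⟩ := cchain_AG S R g hR hgR
  refine hcongr ?_ (fun a ha => (hee a ha).symm)
  suffices key : ∀ (A : Set G) (g : G), Chain {U | AG p (S : Subgroup G) U} A g →
      ∀ R' : Subgroup G, (R' : Set G) = A → Nat.card R' = Nat.card R → Conn A g from
    key _ g' hch R rfl rfl
  intro A g h
  induction h with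
  | @step A x T hT hA hx =>
    intro R' hR' hcard
    refine hmono hA (hE T hT.1.1 ((le_inf inf_le_left (zS_le_centralizer hT.1.1)).trans hT.2.1) ?_ x hx)
    rw [← hcard]
    exact Subgroup.card_le_of_le (fun r hr => hA (hR' ▸ hr))
  | @comp A x y _ _ ih1 ih2 =>
    intro R' hR' hcard
    exact hcomp (ih1 R' hR' hcard) (ih2 (cj x R') (by rw [← hR']; rfl) (by rw [card_cj]; exact hcard))

theorem wv_strongFusion (hc : CentralSetup S W V)
    (hloc : ∀ U ≤ (S : Subgroup G), zS S ≤ U → WVCtrl p W V (Subgroup.normalizer (U : Set G))) :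
    LocalCtrl ⊤ (S : Subgroup G) (wvSet W V ⊤ (S : Subgroup G)) := by
  intro A g _ hA hgA
  set M := wvSet W V ⊤ (S : Subgroup G) with hM
  have hM1 : (1 : G) ∈ M := one_mem_wvSet _ _ _ _
  have htop : ∀ {H : Subgroup G}, wvSet W V H (S : Subgroup G) ⊆ M := fun {H} x hx =>
    hx.imp (fun h => ⟨Subgroup.mem_top x, h.2⟩) (fun h => ⟨Subgroup.mem_top x, h.2⟩)
  refine engine S (Reach (S : Subgroup G) M) (fun U => zS S ≤ U)
    (fun U => Extr p (S : Subgroup G) U ∧ zS S ≤ nS (S : Subgroup G) U ∧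
      LocalCtrl (Subgroup.normalizer (U : Set G)) (nS (S : Subgroup G) U)
        (wvSet W V (Subgroup.normalizer (U : Set G)) (nS (S : Subgroup G) U)))
    (fun hAB h => h.mono hAB) (fun h1 h2 => .comp h1 h2) ?_ ?_ ?_ ?_ A g hA hgA
  · intro x hx
    have hl := (hloc _ le_rfl inf_le_left).localCtrl hc.hW hc.hV 1 (T' := (S : Subgroup G))
    rw [show cj (1 : G) (Subgroup.normalizer ((S : Subgroup G) : Set G)) = Subgroup.normalizer ((S : Subgroup G) : Set G) from mem_normalizer_iff_cj.1 (one_mem _)] at hl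
    refine (hl Subgroup.le_normalizer S.2 (by have := (extr_self S).2; rwa [nS_self] at this) _ x hx subset_rfl
      (by rw [cs_subgroup, mem_normalizer_iff_cj.1 hx])).mono_steps htop
  · exact centric_hgen (S := S) (Reach (S : Subgroup G) M) (fun hAB h => h.mono hAB)
      (fun h1 h2 => .comp h1 h2) (fun h he => h.congr hM1 he)
  · intro U hU hz
    obtain ⟨k, hk, hext⟩ := exists_extr_cj S hU
    refine ⟨k, hk, hext, zS_le_nS hext.1, ?_⟩
    have := (hloc U hU hz).localCtrl hc.hW hc.hV k (T' := nS (S : Subgroup G) (cj k U))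
    rw [cj_normalizer] at this
    exact this inf_le_right (S.2.to_le inf_le_left) hext.2
  · rintro U hUS ⟨hext, hz, hl⟩ IH _ x hx
    obtain ⟨T, hT⟩ : ∃ T, T = nS (S : Subgroup G) U := ⟨_, rfl⟩
    rw [← hT] at IH hl hz
    have hTS' : T ≤ (S : Subgroup G) := hT ▸ inf_le_left
    have hTp : IsPGroup p T := S.2.to_le hTS'
    have h0 := hl (movSet (S : Subgroup G) U x) x hx (fun b hb => hT ▸ hb.1)
      (by rintro _ ⟨b, hb, rfl⟩; exact hT ▸ hb.2)
    generalize hB : movSet (S : Subgroup G) U x = B at h0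
    clear hB hx
    induction h0 with
    | @step A g y hy hA hyA he =>
      have hAS : A ⊆ ((S : Subgroup G) : Set G) := fun a ha => hTS' (hA ha)
      have hyS : cs y A ⊆ ((S : Subgroup G) : Set G) := fun a ha => hTS' (hyA ha)
      have hy' : Reach (S : Subgroup G) M A y := by
        by_cases hTS : T = (S : Subgroup G)
        · rw [hTS] at hy
          exact .step (htop hy) hAS hyS (fun a _ => rfl)
        rcases hy with hy | hy
        · have h1 : T < nS (S : Subgroup G) T := lt_nS S.2 (lt_of_le_of_ne hTS' hTS)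
          have h2 : nS (S : Subgroup G) T ≤ nS (S : Subgroup G) (W T) :=
            inf_le_inf_left _ (normalizer_le_normalizer_functor hc.hW hTp)
          have h3 : T ≤ nS (S : Subgroup G) (W T) := h1.le.trans h2
          exact (IH (W T) ((hc.hW T hTp).1.trans hTS') (Or.inl (hc.zS_le_W hTS' hz))
            (lt_of_lt_of_le (card_lt_of_lt h1) (Subgroup.card_le_of_le h2)) y hy.2).mono
            (fun a ha => ⟨h3 (hA ha), h3 (hyA ⟨a, ha, rfl⟩)⟩)
        · exact .step (Or.inr ⟨Subgroup.mem_top y, hc.centralizer_mono hTS' hz hy.2⟩) hAS hyS (fun a _ => rfl)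
      exact hy'.congr hM1 he
    | comp _ _ ih1 ih2 => exact .comp ih1 ih2

theorem wv_transfer (hc : CentralSetup S W V)
    (hloc : ∀ U ≤ (S : Subgroup G), zS S ≤ U → WVTrans p W V (Subgroup.normalizer (U : Set G))) :
    (S : Subgroup G) ⊓ ⁅(⊤ : Subgroup G), ⊤⁆ = wvPart W V ⊤ (S : Subgroup G) := by
  refine le_antisymm ?_ wvPart_le
  set D := wvPart W V ⊤ (S : Subgroup G) with hD
  let Conn : Set G → G → Prop := fun A g =>
    A ⊆ ((S : Subgroup G) : Set G) ∧ cs g A ⊆ ((S : Subgroup G) : Set G) ∧ ∀ a ∈ A, a⁻¹ * (g * a * g⁻¹) ∈ D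
  have hDS : ∀ H : Subgroup G, wvPart W V H (S : Subgroup G) ≤ D := fun H =>
    sup_le_sup (inf_le_inf_left _ (Subgroup.commutator_mono (inf_le_inf_right _ le_top) (inf_le_inf_right _ le_top)))
      (inf_le_inf_left _ (Subgroup.commutator_mono (inf_le_inf_right _ le_top) (inf_le_inf_right _ le_top)))
  have hmono : ∀ {A B : Set G} {g : G}, A ⊆ B → Conn B g → Conn A g := fun hAB h =>
    ⟨hAB.trans h.1, (cs_subset hAB).trans h.2.1, fun a ha => h.2.2 a (hAB ha)⟩
  have hcomp : ∀ {A : Set G} {x y : G}, Conn A x → Conn (cs x A) y → Conn A (y * x) := by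
    intro A x y h1 h2
    refine ⟨h1.1, by rw [← cs_cs]; exact h2.2.1, fun a ha => ?_⟩
    have := mul_mem (h1.2.2 a ha) (h2.2.2 _ ⟨a, ha, rfl⟩)
    convert this using 1
    group
  have hcongr : ∀ {A : Set G} {g g' : G}, Conn A g → (∀ a ∈ A, g' * a * g'⁻¹ = g * a * g⁻¹) → Conn A g' := by
    intro A g g' h he
    exact ⟨h.1, by rw [cs_congr he]; exact h.2.1, fun a ha => by rw [he a ha]; exact h.2.2 a ha⟩
  have hlocS : ∀ x ∈ Subgroup.normalizer ((S : Subgroup G) : Set G), Conn ((S : Subgroup G) : Set G) x := by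
    intro x hx
    refine ⟨subset_rfl, by rw [cs_subgroup, mem_normalizer_iff_cj.1 hx], fun a ha => hDS (Subgroup.normalizer ((S : Subgroup G) : Set G)) ?_⟩
    have hl := (hloc _ le_rfl inf_le_left).eq hc.hW hc.hV 1 (T' := (S : Subgroup G))
    rw [show cj (1 : G) (Subgroup.normalizer ((S : Subgroup G) : Set G)) = Subgroup.normalizer ((S : Subgroup G) : Set G) from mem_normalizer_iff_cj.1 (one_mem _)] at hl
    rw [← hl Subgroup.le_normalizer S.2 (by have := (extr_self S).2; rwa [nS_self] at this)]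
    exact Subgroup.mem_inf.2 ⟨(S : Subgroup G).mul_mem ((S : Subgroup G).inv_mem ha) ((Subgroup.mem_normalizer_iff.1 hx a).1 ha),
      mem_commutator_of_conj hx (Subgroup.le_normalizer ha)⟩
  have main := engine S Conn (fun U => zS S ≤ U)
    (fun U => Extr p (S : Subgroup G) U ∧ zS S ≤ nS (S : Subgroup G) U ∧
      nS (S : Subgroup G) U ⊓ ⁅Subgroup.normalizer (U : Set G), Subgroup.normalizer (U : Set G)⁆ =
        wvPart W V (Subgroup.normalizer (U : Set G)) (nS (S : Subgroup G) U))
    hmono hcomp hlocS (centric_hgen (S := S) Conn hmono hcomp hcongr) ?_ ?_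
  · refine inf_commutator_le le_top S.2 (sylow_relIndex_top S) fun x _ b hb hxb => ?_
    exact (main {b} x (Set.singleton_subset_iff.2 hb) (by rintro _ ⟨a, rfl, rfl⟩; exact hxb)).2.2 b rfl
  · intro U hU hz
    obtain ⟨k, hk, hext⟩ := exists_extr_cj S hU
    refine ⟨k, hk, hext, zS_le_nS hext.1, ?_⟩
    have := (hloc U hU hz).eq hc.hW hc.hV k (T' := nS (S : Subgroup G) (cj k U))
    rw [cj_normalizer] at this
    exact this inf_le_right (S.2.to_le inf_le_left) hext.2
  · rintro U hUS ⟨hext, hz, hl⟩ IH IH2 x hx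
    refine ⟨fun b hb => hb.1.1, by rintro _ ⟨b, hb, rfl⟩; exact hb.2.1, ?_⟩
    rintro b ⟨hb, hxb⟩
    obtain ⟨T, hT⟩ : ∃ T, T = nS (S : Subgroup G) U := ⟨_, rfl⟩
    rw [← hT] at IH IH2 hb hxb hl hz
    have hTS' : T ≤ (S : Subgroup G) := hT ▸ inf_le_left
    have hTp : IsPGroup p T := S.2.to_le hTS'
    have hTN : T ≤ Subgroup.normalizer (U : Set G) := hT ▸ inf_le_right
    suffices wvPart W V (Subgroup.normalizer (U : Set G)) T ≤ D by
      apply this
      rw [← hl]
      exact Subgroup.mem_inf.2 ⟨T.mul_mem (T.inv_mem hb) hxb, mem_commutator_of_conj hx (hTN hb)⟩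
    by_cases hTS : T = (S : Subgroup G)
    · rw [hTS]; exact hDS _
    refine sup_le ?_ ?_
    · refine le_trans (inf_le_inf_left T (Subgroup.commutator_mono inf_le_right inf_le_right)) ?_
      have h1 : T < nS (S : Subgroup G) T := lt_nS S.2 (lt_of_le_of_ne hTS' hTS)
      have h2 : nS (S : Subgroup G) T ≤ nS (S : Subgroup G) (W T) :=
        inf_le_inf_left _ (normalizer_le_normalizer_functor hc.hW hTp)
      have h3 : Nat.card T < Nat.card (nS (S : Subgroup G) (W T)) :=
        lt_of_lt_of_le (card_lt_of_lt h1) (Subgroup.card_le_of_le h2)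
      have hWS : W T ≤ (S : Subgroup G) := (hc.hW T hTp).1.trans hTS'
      have hWZ : zS S ≤ W T := hc.zS_le_W hTS' hz
      obtain ⟨k, hk, hgk⟩ := exists_extr_cj S hWS
      have hgood : Extr p (S : Subgroup G) (cj k (W T)) ∧ zS S ≤ nS (S : Subgroup G) (cj k (W T)) ∧
          nS (S : Subgroup G) (cj k (W T)) ⊓ ⁅Subgroup.normalizer (cj k (W T) : Set G), Subgroup.normalizer (cj k (W T) : Set G)⁆ =
            wvPart W V (Subgroup.normalizer (cj k (W T) : Set G)) (nS (S : Subgroup G) (cj k (W T))) := by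
        refine ⟨hgk, zS_le_nS hgk.1, ?_⟩
        have := (hloc (W T) hWS hWZ).eq hc.hW hc.hV k (T' := nS (S : Subgroup G) (cj k (W T)))
        rw [cj_normalizer] at this
        exact this inf_le_right (S.2.to_le inf_le_left) hgk.2
      have hcc := IH2 (nS (S : Subgroup G) (W T)) k inf_le_left hk h3
      have hkU := cj_nS_le hk
      have hT''le : Nat.card (nS (S : Subgroup G) (W T)) ≤ Nat.card (nS (S : Subgroup G) (cj k (W T))) := by
        have := Subgroup.card_le_of_le hkU
        rwa [card_cj] at this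
      have hfoc : nS (S : Subgroup G) (cj k (W T)) ⊓
          ⁅Subgroup.normalizer (cj k (W T) : Set G), Subgroup.normalizer (cj k (W T) : Set G)⁆ ≤ D :=
        inf_commutator_le inf_le_right (S.2.to_le inf_le_left) hgk.2 fun y hy b hb hyb =>
          (IH (cj k (W T)) hgk.1 (Or.inr hgood) (lt_of_lt_of_le h3 hT''le) y hy).2.2 b ⟨hb, hyb⟩
      rintro z ⟨hzT, hz'⟩
      have hzn : z ∈ nS (S : Subgroup G) (W T) := (h1.le.trans h2) hzT
      have hz'' : k * z * k⁻¹ ∈ D := by
        refine hfoc ⟨hkU (conj_mem_cj hzn), ?_⟩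
        have := conj_mem_cj (g := k) hz'
        rwa [cj_commutator, cj_normalizer] at this
      have := mul_mem hz'' (inv_mem (hcc.2.2 z hzn))
      convert this using 1
      group
    · refine le_trans ?_ le_sup_right
      exact inf_le_inf hTS' (Subgroup.commutator_mono
        (le_inf le_top (inf_le_right.trans (hc.centralizer_mono hTS' hz)))
        (le_inf le_top (inf_le_right.trans (hc.centralizer_mono hTS' hz))))

lemma reach_iff_right {T : Subgroup G} {M : Set G} (hM : ∀ x ∈ M, x⁻¹ ∈ M) (h1 : (1 : G) ∈ M)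
    {H : Subgroup G} (hMH : M ⊆ H) {X : Set G} {a : G} (hX : X ⊆ T) (ha : a ∈ H) :
    Reach T M X a⁻¹ ↔ ∃ c ∈ H ⊓ Subgroup.centralizer X, ∃ (n : ℕ) (b : Fin n → G), (∀ i, b i ∈ M) ∧
      a = c * (List.ofFn b).prod ∧ ∀ k : ℕ, k ≤ n → (fun x => (((List.ofFn b).take k).prod)⁻¹ * x *
        ((List.ofFn b).take k).prod) '' ((fun x => c⁻¹ * x * c) '' X) ⊆ T := by
  have hc : ∀ c ∈ Subgroup.centralizer X, (fun x => c⁻¹ * x * c) '' X = X := by
    intro c hc
    refine (Set.image_congr ?_).trans (Set.image_id X)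
    intro x hx
    rw [mul_assoc, Subgroup.mem_centralizer_iff.1 hc x hx]; simp
  constructor
  · intro h
    obtain ⟨d, hd, hde⟩ := h.exists_rel
    have key : d ∈ H ∧ ∃ l : List G, (∀ y ∈ l, y ∈ M) ∧ l.prod = d⁻¹ ∧
        ∀ k : ℕ, cs ((l.take k).prod)⁻¹ X ⊆ T := by
      clear hde
      induction hd with
      | refl => exact ⟨one_mem _, [], by simp, by simp, fun k => by simpa [cs_one] using hX⟩
      | @tail u v _ huv ih =>
        obtain ⟨huH, l, hl, hlp, hlk⟩ := ih
        have hvH : v ∈ H := by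
          have := mul_mem (hMH huv.1) huH
          simpa using this
        refine ⟨hvH, l ++ [u * v⁻¹], ?_, ?_, ?_⟩
        · intro y hy
          rcases List.mem_append.1 hy with hy | hy
          · exact hl y hy
          · rw [List.mem_singleton] at hy
            subst hy
            have := hM _ huv.1
            simpa [mul_inv_rev] using this
        · rw [List.prod_append, hlp]; simp
        · intro k
          by_cases hk : k ≤ l.length
          · rw [List.take_append_of_le_length hk]; exact hlk k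
          · rw [List.take_of_length_le (by simp; omega), List.prod_append, hlp]
            simpa using huv.2
    obtain ⟨hdH, l, hl, hlp, hlk⟩ := key
    have hcc : a * d ∈ Subgroup.centralizer X := by
      rw [Subgroup.mem_centralizer_iff]
      intro x hx
      have := hde x hx
      calc x * (a * d) = a * (a⁻¹ * x * a⁻¹⁻¹) * d := by group
        _ = a * (d * x * d⁻¹) * d := by rw [this]
        _ = _ := by group
    refine ⟨a * d, ⟨mul_mem ha hdH, hcc⟩, l.length, l.get, fun i => hl _ (List.get_mem _ _), ?_, fun k _ => ?_⟩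
    · rw [List.ofFn_get, hlp]; group
    · rw [hc _ hcc, List.ofFn_get]
      have := hlk k
      rw [cs] at this
      simpa using this
  · rintro ⟨c, ⟨-, hcX⟩, n, b, hb, rfl, hk⟩
    rw [hc c hcX] at hk
    have key : ∀ k : ℕ, k ≤ n → Reach T M X (((List.ofFn b).take k).prod)⁻¹ := by
      intro k
      induction k with
      | zero =>
        intro _
        exact .step h1 hX (by rw [cs_one]; exact hX) (fun x _ => by simp)
      | succ k ih =>
        intro hkn
        have hkl : k < (List.ofFn b).length := by simp; omega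
        have e : ((List.ofFn b).take (k + 1)).prod = ((List.ofFn b).take k).prod * b ⟨k, by omega⟩ := by
          rw [← List.take_concat_get' _ _ hkl, List.prod_append]; simp
        rw [e, mul_inv_rev]
        refine .comp (ih (by omega)) (.step (hM _ (hb _)) ?_ ?_ (fun x _ => rfl))
        · have := hk k (by omega)
          simpa [cs] using this
        · rw [cs_cs, ← mul_inv_rev, ← e]
          have := hk (k + 1) hkn
          simpa [cs] using this
    have := key n le_rfl
    rw [List.take_of_length_le (by simp)] at this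
    refine this.congr h1 fun x hx => ?_
    have := Subgroup.mem_centralizer_iff.1 hcX x hx
    calc (c * (List.ofFn b).prod)⁻¹ * x * (c * (List.ofFn b).prod)⁻¹⁻¹
        = (List.ofFn b).prod⁻¹ * (c⁻¹ * (x * c)) * (List.ofFn b).prod := by group
      _ = (List.ofFn b).prod⁻¹ * (c⁻¹ * (c * x)) * (List.ofFn b).prod := by rw [this]
      _ = _ := by group

/-- elements of a product of two subgroups, one normalizing the other -/
lemma mem_sup_iff_exists {A B : Subgroup G} (h : A ≤ Subgroup.normalizer (B : Set G)) (x : G) :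
    x ∈ A ⊔ B ↔ ∃ a ∈ A, ∃ b ∈ B, x = a * b := by
  constructor
  · intro hx
    rw [← SetLike.mem_coe, Subgroup.coe_mul_of_left_le_normalizer_right A B h] at hx
    obtain ⟨a, ha, b, hb, rfl⟩ := hx
    exact ⟨a, ha, b, hb, rfl⟩
  · rintro ⟨a, ha, b, hb, rfl⟩
    exact Subgroup.mul_mem_sup ha hb

lemma wvPart_mem_iff {H T : Subgroup G} (hTH : T ≤ H) (hT : IsPGroup p T)
    (hVZ : V T ≤ T ⊓ Subgroup.centralizer (T : Set G)) (x : G) :
    x ∈ wvPart W V H T ↔ ∃ a ∈ T ⊓ ⁅H ⊓ Subgroup.normalizer ((W T : Subgroup G) : Set G), H ⊓ Subgroup.normalizer ((W T : Subgroup G) : Set G)⁆,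
      ∃ b ∈ T ⊓ ⁅H ⊓ Subgroup.centralizer ((V T : Subgroup G) : Set G), H ⊓ Subgroup.centralizer ((V T : Subgroup G) : Set G)⁆, x = a * b := by
  refine mem_sup_iff_exists ?_ x
  refine inf_le_left.trans fun t ht => ?_
  have htK : t ∈ H ⊓ Subgroup.centralizer ((V T : Subgroup G) : Set G) := by
    refine Subgroup.mem_inf.2 ⟨hTH ht, ?_⟩
    rw [Subgroup.mem_centralizer_iff]
    intro v hv
    exact (Subgroup.mem_centralizer_iff.1 (Subgroup.mem_inf.1 (hVZ hv)).2 t ht).symm
  have h1 := mem_normalizer_iff_cj.1 (Subgroup.le_normalizer ht)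
  have h2 := mem_normalizer_iff_cj.1 (Subgroup.le_normalizer htK)
  rw [mem_normalizer_iff_cj, cj_inf, cj_commutator, h1, h2]

end Cfsg.Agent.Lib.FusionControl
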