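import Mathlib

/-! Transfer of a central involution fixed by the normalizer of a Sylow 2-subgroup. -/

set_option autoImplicit false

namespace Cfsg.Agent.CentralInvolution

open Subgroup MulAction

theorem transfer_eq_aux {G : Type*} [Group G] [Finite G] (H : Subgroup G) (hHp : IsPGroup 2 ↥H)
    (hidx : ¬ 2 ∣ H.index) {A : Type*} [CommGroup A]
    (ϕ : ↥H →* A) (u : G) (hu : u ∈ H) (hu2 : u * u = 1)
    (hc : ∀ x ∈ H, x * u = u * x)
    (hN : ∀ n ∈ normalizer (H : Set G), n⁻¹ * u * n = u) :
    MonoidHom.transfer ϕ u = ϕ ⟨u, hu⟩ := by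
  classical
  have := Fintype.ofFinite (G ⧸ H)
  let T : H.LeftTransversal := default
  let a : G ⧸ H → G := fun q => ((T.2.leftQuotientEquiv q : T.1) : G)
  have ha : ∀ q, ((a q : G) : G ⧸ H) = q := fun q =>
    T.2.quotientGroupMk_leftQuotientEquiv q
  have huinv : u⁻¹ = u := inv_eq_of_mul_eq_one_right hu2
  have hmem : ∀ q, (a q)⁻¹ * (u * a (u • q)) ∈ H := by
    intro q
    rw [← QuotientGroup.eq, ← smul_eq_mul, ← MulAction.Quotient.smul_coe, ha, ha, ← mul_smul, hu2,
      one_smul]
  let F : G ⧸ H → A := fun q => ϕ ⟨_, hmem q⟩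
  have hval : MonoidHom.transfer ϕ u = ∏ q, F q := by
    rw [MonoidHom.transfer_def ϕ T u]
    unfold Subgroup.leftTransversals.diff
    dsimp only
    refine Finset.prod_congr (by ext; simp) (fun q _ => congrArg ϕ (Subtype.ext ?_))
    simp only [smul_apply_eq_smul_apply_inv_smul, smul_eq_mul, huinv, a]
  have hpair : ∏ q ∈ Finset.univ.filter (fun q => ¬ u • q = q), F q = 1 := by
    refine Finset.prod_involution (fun q _ => u • q) ?_ ?_ ?_ ?_
    · intro q _
      simp only [F]
      rw [← map_mul, ← map_one ϕ]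
      refine congrArg ϕ (Subtype.ext ?_)
      simp only [Subgroup.coe_mul, Subgroup.coe_one, ← mul_smul, hu2, one_smul]
      calc (a q)⁻¹ * (u * a (u • q)) * ((a (u • q))⁻¹ * (u * a q))
          = (a q)⁻¹ * (u * u) * a q := by group
        _ = 1 := by rw [hu2]; group
    · intro q hq _
      exact (Finset.mem_filter.1 hq).2
    · intro q hq
      refine Finset.mem_filter.2 ⟨Finset.mem_univ _, fun e => (Finset.mem_filter.1 hq).2 ?_⟩
      exact MulAction.injective u e
    · intro q _
      simp only [← mul_smul, hu2, one_smul]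
  have hfix : ∀ q, u • q = q → ∀ x : ↥H, u • (x • q) = x • q ∧ F (x • q) = F q := by
    intro q hq x
    have h1 : u • (x • q) = x • q := by
      change u • ((x : G) • q) = (x : G) • q
      rw [← mul_smul, ← hc _ x.2, mul_smul, hq]
    refine ⟨h1, ?_⟩
    have hh : (a q)⁻¹ * (x : G)⁻¹ * a (x • q) ∈ H := by
      rw [mul_assoc, ← QuotientGroup.eq, ha, ← smul_eq_mul, ← MulAction.Quotient.smul_coe, ha]
      change q = (x : G)⁻¹ • ((x : G) • q)
      rw [inv_smul_smul]
    have hw : (a q)⁻¹ * (u * a q) ∈ H := by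
      have := hmem q
      rwa [hq] at this
    have e1 : F (x • q) = ϕ (⟨_, hh⟩⁻¹ * ⟨_, hw⟩ * ⟨_, hh⟩) := by
      refine congrArg ϕ (Subtype.ext ?_)
      simp only [Subgroup.coe_mul, Subgroup.coe_inv, h1]
      calc (a (x • q))⁻¹ * (u * a (x • q))
          = (a (x • q))⁻¹ * ((x : G) * u * (x : G)⁻¹) * a (x • q) := by rw [hc _ x.2]; group
        _ = _ := by group
    rw [e1, map_mul, map_mul, map_inv, mul_right_comm, inv_mul_cancel, one_mul]
    simp only [F, hq]
  have hfixX : ∀ q, (∀ x : ↥H, x • q = q) → u • q = q ∧ F q = ϕ ⟨u, hu⟩ := by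
    intro q hq
    have huq : u • q = q := hq ⟨u, hu⟩
    refine ⟨huq, ?_⟩
    have hn : (a q)⁻¹ ∈ normalizer (H : Set G) := by
      change (a q)⁻¹ ∈ normalizer (H : Set G)
      have hle : ∀ x ∈ H, (a q)⁻¹ * x * a q ∈ H := by
        intro x hx
        have := hq ⟨x, hx⟩
        change x • q = q at this
        rw [← ha q, MulAction.Quotient.smul_coe, smul_eq_mul] at this
        have := QuotientGroup.eq.1 this.symm
        rwa [← mul_assoc] at this
      have hmap : H.map (MulAut.conj (a q)⁻¹).toMonoidHom ≤ H := by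
        rintro _ ⟨x, hx, rfl⟩
        simpa using hle x hx
      have heq := Subgroup.eq_of_le_of_card_ge hmap
        (by rw [Subgroup.card_map_of_injective (MulAut.conj (a q)⁻¹).injective])
      rw [Subgroup.mem_normalizer_iff]
      intro h
      constructor
      · intro hh; simpa using hle h hh
      · intro hh
        rw [← heq] at hh
        obtain ⟨y, hy, hye⟩ := hh
        simp only [MulEquiv.coe_toMonoidHom, MulAut.conj_apply, mul_left_inj, mul_right_inj] at hye
        exact hye ▸ hy
    have e := hN _ (inv_mem hn)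
    refine congrArg ϕ (Subtype.ext ?_)
    simp only [huq]
    rw [← mul_assoc]
    simpa using e
  have hcount : ∀ c : A, c ≠ ϕ ⟨u, hu⟩ →
      Even (Finset.univ.filter (fun q => u • q = q ∧ F q = c)).card := by
    intro c hcne
    let S : SubMulAction ↥H (G ⧸ H) :=
      { carrier := {q | u • q = q ∧ F q = c}
        smul_mem' := fun x q hq =>
          ⟨(hfix q hq.1 x).1, (hfix q hq.1 x).2.trans hq.2⟩ }
    have := hHp.card_modEq_card_fixedPoints S
    have h0 : Nat.card (fixedPoints ↥H S) = 0 := by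
      refine Nat.card_eq_zero.2 (Or.inl ⟨fun s => hcne ?_⟩)
      have := hfixX s.1.1 (fun x => congrArg Subtype.val (s.2 x))
      exact s.1.2.2.symm.trans this.2
    rw [h0] at this
    have hS : Nat.card S = (Finset.univ.filter (fun q => u • q = q ∧ F q = c)).card := by
      rw [Nat.card_eq_fintype_card]
      exact Fintype.card_of_subtype _ (fun q => by simp only [Finset.mem_filter]; exact
        ⟨fun h => h.2, fun h => ⟨Finset.mem_univ _, h⟩⟩)
    rw [← hS]
    exact even_iff_two_dvd.2 (Nat.modEq_zero_iff_dvd.1 this)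
  set ε := ϕ ⟨u, hu⟩ with hε
  have hodd : Odd (Finset.univ.filter (fun q => u • q = q ∧ F q = ε)).card := by
    let S : SubMulAction ↥H (G ⧸ H) :=
      { carrier := {q | u • q = q ∧ F q = ε}
        smul_mem' := fun x q hq =>
          ⟨(hfix q hq.1 x).1, (hfix q hq.1 x).2.trans hq.2⟩ }
    have h1 := hHp.card_modEq_card_fixedPoints S
    have h2 := hHp.card_modEq_card_fixedPoints (G ⧸ H)
    have h3 : Nat.card (fixedPoints ↥H S) = Nat.card (fixedPoints ↥H (G ⧸ H)) := by
      refine Nat.card_congr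
        { toFun := fun s => ⟨s.1.1, fun x => congrArg Subtype.val (s.2 x)⟩
          invFun := fun q => ⟨⟨q.1, hfixX q.1 q.2⟩, fun x => Subtype.ext (q.2 x)⟩
          left_inv := fun s => rfl
          right_inv := fun q => rfl }
    have hS : Nat.card S = (Finset.univ.filter (fun q => u • q = q ∧ F q = ε)).card := by
      rw [Nat.card_eq_fintype_card]
      exact Fintype.card_of_subtype _ (fun q => by simp only [Finset.mem_filter]; exact
        ⟨fun h => h.2, fun h => ⟨Finset.mem_univ _, h⟩⟩)
    rw [hS, h3] at h1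
    have h4 := h1.trans h2.symm
    have h5 : ¬ 2 ∣ Nat.card (G ⧸ H) := hidx
    rw [Nat.ModEq] at h4
    rw [Nat.odd_iff]
    omega
  have hsq : ∀ q, u • q = q → F q ^ 2 = 1 := by
    intro q hq
    simp only [F]
    rw [← map_pow, ← map_one ϕ]
    refine congrArg ϕ (Subtype.ext ?_)
    simp only [SubgroupClass.coe_pow, OneMemClass.coe_one, hq, sq]
    calc (a q)⁻¹ * (u * a q) * ((a q)⁻¹ * (u * a q)) = (a q)⁻¹ * (u * u) * a q := by group
      _ = 1 := by rw [hu2]; group
  rw [hval, ← Finset.prod_filter_mul_prod_filter_not Finset.univ (fun q => u • q = q) F, hpair,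
    mul_one]
  rw [← Finset.prod_fiberwise_of_maps_to (g := F)
    (t := insert ε (Finset.univ.image F)) (fun q _ => by simp)]
  rw [Finset.prod_eq_single ε]
  · rw [Finset.prod_congr rfl (fun q hq => (Finset.mem_filter.1 hq).2), Finset.prod_const,
      Finset.filter_filter]
    obtain ⟨m, hm⟩ := hodd
    rw [hm, pow_succ, pow_mul]
    have : ε ^ 2 = 1 := by
      rw [hε, ← map_pow, ← map_one ϕ]
      exact congrArg ϕ (Subtype.ext (by simp [sq, hu2]))
    rw [this, one_pow, one_mul]
  · intro c _ hcne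
    rw [Finset.prod_congr rfl (fun q hq => (Finset.mem_filter.1 hq).2), Finset.prod_const,
      Finset.filter_filter]
    obtain ⟨m, hm⟩ := hcount c hcne
    by_cases h0 : m = 0
    · rw [hm, h0]; simp
    have hne : (Finset.univ.filter (fun q => u • q = q ∧ F q = c)).Nonempty := by
      rw [← Finset.card_pos, hm]; omega
    obtain ⟨q, hq⟩ := hne
    obtain ⟨hq1, hq2⟩ := (Finset.mem_filter.1 hq).2
    rw [hm, ← two_mul, pow_mul, ← hq2, hsq q hq1, one_pow]
  · intro h; simp at h

theorem transfer_eq {G : Type*} [Group G] [Finite G] (X : Sylow 2 G) {A : Type*} [CommGroup A]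
    (ϕ : ↥(X : Subgroup G) →* A) (u : G) (hu : u ∈ (X : Subgroup G)) (hu2 : u * u = 1)
    (hc : ∀ x ∈ (X : Subgroup G), x * u = u * x)
    (hN : ∀ n ∈ normalizer ((X : Subgroup G) : Set G), n⁻¹ * u * n = u) :
    MonoidHom.transfer ϕ u = ϕ ⟨u, hu⟩ :=
  transfer_eq_aux _ X.isPGroup' X.not_dvd_index ϕ u hu hu2 hc hN

/-- A nontrivial 2-group quotient gives a subgroup of index 2. -/
theorem exists_index_two {G A : Type*} [Group G] [Finite G] [CommGroup A] [Finite A]
    (hA : IsPGroup 2 A) (f : G →* A) (g : G) (hg : f g ≠ 1) : ∃ H : Subgroup G, H.index = 2 := by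
  obtain ⟨k, hk⟩ := IsPGroup.iff_card.1 (hA.to_subgroup f.range)
  have hk0 : k ≠ 0 := by
    rintro rfl
    rw [pow_zero] at hk
    have := (Subgroup.card_eq_one.1 hk)
    exact hg (by
      have h : f g ∈ f.range := ⟨g, rfl⟩
      rw [this, Subgroup.mem_bot] at h
      exact h)
  obtain ⟨m, rfl⟩ := Nat.exists_eq_succ_of_ne_zero hk0
  obtain ⟨K, hK⟩ := Sylow.exists_subgroup_card_pow_prime 2
    (G := f.range) (n := m) (by rw [hk]; exact pow_dvd_pow 2 (Nat.le_succ m))
  refine ⟨K.comap f.rangeRestrict, ?_⟩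
  rw [Subgroup.index_comap_of_surjective _ f.rangeRestrict_surjective]
  have := K.card_mul_index
  rw [hk, hK, pow_succ] at this
  exact Nat.eq_of_mul_eq_mul_left (pow_pos (by norm_num) m) this

/-- Main criterion. -/
theorem exists_index_two_of_central {G : Type*} [Group G] [Finite G] (X : Sylow 2 G) (u : G)
    (hu : u ∈ (X : Subgroup G)) (hu2 : u * u = 1)
    (hc : ∀ x ∈ (X : Subgroup G), x * u = u * x)
    (hN : ∀ n ∈ normalizer ((X : Subgroup G) : Set G), n⁻¹ * u * n = u)
    (hd : (⟨u, hu⟩ : ↥(X : Subgroup G)) ∉ commutator ↥(X : Subgroup G)) :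
    ∃ H : Subgroup G, H.index = 2 := by
  refine exists_index_two (A := Abelianization ↥(X : Subgroup G)) ?_
    (MonoidHom.transfer Abelianization.of) u ?_
  · exact X.isPGroup'.of_surjective Abelianization.of QuotientGroup.mk_surjective
  · rw [transfer_eq X Abelianization.of u hu hu2 hc hN]
    intro h
    exact hd ((QuotientGroup.eq_one_iff _).1 h)

end Cfsg.Agent.CentralInvolution
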