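import Cfsg.Agent.Lib.FusionControl.KInfSub

/-! The K-infinity subgroups are isomorphism-invariant functors. -/

set_option autoImplicit false

universe u

namespace Cfsg.Agent.Lib.FusionControl

variable {P R : Type u} [Group P] [Group R] (e : P ≃* R)

lemma kinf_map_map_symm (B : Subgroup R) : (B.map e.symm.toMonoidHom).map e.toMonoidHom = B := by
  rw [Subgroup.map_map, show e.toMonoidHom.comp e.symm.toMonoidHom = MonoidHom.id R from
    MonoidHom.ext e.apply_symm_apply, Subgroup.map_id]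

lemma kinf_map_centralizer (B : Subgroup P) :
    (Subgroup.centralizer (B : Set P)).map e.toMonoidHom = Subgroup.centralizer (B.map e.toMonoidHom : Set R) := by
  ext x
  constructor
  · rintro ⟨y, hy, rfl⟩
    rw [Subgroup.mem_centralizer_iff]
    rintro _ ⟨b, hb, rfl⟩
    show e b * e y = e y * e b
    rw [← map_mul, Subgroup.mem_centralizer_iff.1 hy b hb, map_mul]
  · intro hx
    refine ⟨e.symm x, Subgroup.mem_centralizer_iff.2 fun b hb => ?_, e.apply_symm_apply x⟩
    apply e.injective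
    rw [map_mul, map_mul, e.apply_symm_apply]
    exact Subgroup.mem_centralizer_iff.1 hx _ ⟨b, hb, rfl⟩

lemma kinf_map_classTwo (B : Subgroup P) :
    B ∈ Cfsg.classTwoSubgroups P ↔ B.map e.toMonoidHom ∈ Cfsg.classTwoSubgroups R := by
  show ⁅B, B⁆ ≤ _ ↔ ⁅B.map e.toMonoidHom, B.map e.toMonoidHom⁆ ≤ _
  rw [← Subgroup.map_commutator, ← kinf_map_centralizer, Subgroup.map_le_map_iff_of_injective e.injective]

lemma kinf_map_normalizer (B : Subgroup P) :
    (Subgroup.normalizer (B : Set P)).map e.toMonoidHom = Subgroup.normalizer (B.map e.toMonoidHom : Set R) :=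
  Subgroup.map_normalizer_eq_of_bijective B e.bijective

lemma kinf_map_upper (Q B : Subgroup P) :
    B ∈ Cfsg.kUpperStarFamily Q ↔ B.map e.toMonoidHom ∈ Cfsg.kUpperStarFamily (Q.map e.toMonoidHom) := by
  show _ ∧ _ ↔ _ ∧ _
  rw [kinf_map_classTwo e B, ← Subgroup.map_commutator, ← kinf_map_centralizer,
    ← Subgroup.map_inf _ _ _ e.injective, Subgroup.map_le_map_iff_of_injective e.injective]

lemma kinf_map_lower (Q B : Subgroup P) :
    B ∈ Cfsg.kLowerStarFamily Q ↔ B.map e.toMonoidHom ∈ Cfsg.kLowerStarFamily (Q.map e.toMonoidHom) := by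
  show _ ∧ _ ∧ _ ↔ _ ∧ _ ∧ _
  refine and_congr (kinf_map_classTwo e B) (and_congr ?_ ?_)
  · rw [← kinf_map_normalizer, Subgroup.map_le_map_iff_of_injective e.injective]
  · constructor
    · intro h A hA hAQ hBA h1 h2
      obtain ⟨A, rfl⟩ : ∃ A' : Subgroup P, A = A'.map e.toMonoidHom := ⟨_, (kinf_map_map_symm e A).symm⟩
      rw [← kinf_map_normalizer, Subgroup.map_le_map_iff_of_injective e.injective] at hBA
      rw [Subgroup.map_le_map_iff_of_injective e.injective] at hAQ
      rw [← Subgroup.map_commutator, ← Subgroup.map_commutator,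
        Subgroup.map_eq_bot_iff_of_injective _ e.injective] at h1
      rw [← kinf_map_centralizer, ← Subgroup.map_inf _ _ _ e.injective, ← Subgroup.map_commutator,
        ← Subgroup.map_commutator, Subgroup.map_eq_bot_iff_of_injective _ e.injective] at h2
      rw [← kinf_map_centralizer, ← Subgroup.map_inf _ _ _ e.injective, ← Subgroup.map_commutator,
        Subgroup.map_le_map_iff_of_injective e.injective]
      exact h A ((kinf_map_classTwo e A).2 hA) hAQ hBA h1 h2
    · intro h A hA hAQ hBA h1 h2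
      have := h (A.map e.toMonoidHom) ((kinf_map_classTwo e A).1 hA) (Subgroup.map_mono hAQ)
        (by rw [← kinf_map_normalizer]; exact Subgroup.map_mono hBA)
        (by rw [← Subgroup.map_commutator, ← Subgroup.map_commutator, h1, Subgroup.map_bot])
        (by rw [← kinf_map_centralizer, ← Subgroup.map_inf _ _ _ e.injective, ← Subgroup.map_commutator,
          ← Subgroup.map_commutator, h2, Subgroup.map_bot])
      rwa [← kinf_map_centralizer, ← Subgroup.map_inf _ _ _ e.injective, ← Subgroup.map_commutator,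
        Subgroup.map_le_map_iff_of_injective e.injective] at this

lemma kinf_map_sSup {𝒦 : Set (Subgroup P)} {𝒦' : Set (Subgroup R)}
    (h : ∀ B, B ∈ 𝒦 ↔ B.map e.toMonoidHom ∈ 𝒦') : (sSup 𝒦).map e.toMonoidHom = sSup 𝒦' := by
  refine le_antisymm ?_ (sSup_le fun B hB => ?_)
  · rw [Subgroup.map_le_iff_le_comap]
    refine sSup_le fun B hB => ?_
    rw [← Subgroup.map_le_iff_le_comap]
    exact le_sSup ((h B).1 hB)
  · rw [← kinf_map_map_symm e B] at hB ⊢
    exact Subgroup.map_mono (le_sSup ((h _).2 hB))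

lemma map_kSeqOdd : ∀ n : ℕ, (Cfsg.kSeqOdd P n).map e.toMonoidHom = Cfsg.kSeqOdd R n
  | 0 => Subgroup.map_top_of_surjective _ e.surjective
  | n + 1 => by
    show (sSup (Cfsg.kUpperStarFamily (sSup (Cfsg.kLowerStarFamily (Cfsg.kSeqOdd P n))))).map e.toMonoidHom =
      sSup (Cfsg.kUpperStarFamily (sSup (Cfsg.kLowerStarFamily (Cfsg.kSeqOdd R n))))
    rw [← map_kSeqOdd n]
    refine kinf_map_sSup e fun B => ?_
    rw [← kinf_map_sSup e (kinf_map_lower e (Cfsg.kSeqOdd P n))]
    exact kinf_map_upper e _ B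

theorem map_kInfUpper : (Cfsg.kInfUpper P).map e.toMonoidHom = Cfsg.kInfUpper R := by
  rw [Cfsg.kInfUpper, Cfsg.kInfUpper]
  refine le_antisymm (le_iInf fun n => (Subgroup.map_mono (iInf_le _ n)).trans (map_kSeqOdd e n).le) ?_
  rw [← kinf_map_map_symm e (⨅ n, Cfsg.kSeqOdd R n)]
  refine Subgroup.map_mono (le_iInf fun n => ?_)
  rw [← map_kSeqOdd e.symm n]
  exact Subgroup.map_mono (iInf_le _ n)

variable (P) in
theorem center_le_kInfUpper {p : ℕ} [Fact p.Prime] [Finite P] (hP : IsPGroup p P) :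
    Subgroup.center P ≤ Cfsg.kInfUpper P ∧ Subgroup.centralizer (Cfsg.kInfUpper P : Set P) ≤ Cfsg.kInfUpper P := by
  obtain ⟨n, hn⟩ := exists_stable (P := P)
  have h : Subgroup.centralizer (Cfsg.kInfUpper P : Set P) ≤ Cfsg.kInfUpper P := by
    rw [← (hn (n + 1) (Nat.le_succ n)).2]
    exact centralizer_sSup_le hP _ (Or.inr ⟨_, rfl⟩)
  exact ⟨(Subgroup.center_le_centralizer _).trans h, h⟩

theorem isCharPFunctor_kInfUpper {p : ℕ} [Fact p.Prime] :
    Cfsg.IsCharPFunctor.{u} p Cfsg.kInfUpper := by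
  refine ⟨fun Q _ _ hQ hnt h => ?_, fun Q R _ _ _ _ φ => map_kInfUpper φ⟩
  have := (center_le_kInfUpper Q hQ).1
  rw [h, le_bot_iff] at this
  have hc := hQ.center_nontrivial
  rw [Subgroup.nontrivial_iff_ne_bot] at hc
  exact hc this

theorem kInfUpper_characteristic : (Cfsg.kInfUpper P).Characteristic :=
  Subgroup.characteristic_iff_map_eq.2 fun φ => map_kInfUpper φ

lemma map_kSeqEven (n : ℕ) : (Cfsg.kSeqEven P n).map e.toMonoidHom = Cfsg.kSeqEven R n := by
  show (sSup (Cfsg.kLowerStarFamily (Cfsg.kSeqOdd P n))).map e.toMonoidHom =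
    sSup (Cfsg.kLowerStarFamily (Cfsg.kSeqOdd R n))
  rw [← map_kSeqOdd e n]
  exact kinf_map_sSup e fun B => kinf_map_lower e _ B

theorem map_kInfLower : (Cfsg.kInfLower P).map e.toMonoidHom = Cfsg.kInfLower R := by
  rw [Cfsg.kInfLower, Cfsg.kInfLower, Subgroup.map_iSup]
  exact iSup_congr fun n => map_kSeqEven e n

variable (P) in
theorem center_le_kInfLower {p : ℕ} [Fact p.Prime] [Finite P] (hP : IsPGroup p P) :
    Subgroup.center P ≤ Cfsg.kInfLower P ∧ Subgroup.centralizer (Cfsg.kInfLower P : Set P) ≤ Cfsg.kInfLower P := by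
  obtain ⟨n, hn⟩ := exists_stable (P := P)
  have h : Subgroup.centralizer (Cfsg.kInfLower P : Set P) ≤ Cfsg.kInfLower P := by
    rw [← (hn n le_rfl).1]
    exact centralizer_sSup_le hP _ (Or.inl ⟨_, rfl⟩)
  exact ⟨(Subgroup.center_le_centralizer _).trans h, h⟩

theorem isCharPFunctor_kInfLower {p : ℕ} [Fact p.Prime] :
    Cfsg.IsCharPFunctor.{u} p Cfsg.kInfLower := by
  refine ⟨fun Q _ _ hQ hnt h => ?_, fun Q R _ _ _ _ φ => map_kInfLower φ⟩
  have := (center_le_kInfLower Q hQ).1
  rw [h, le_bot_iff] at this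
  have hc := hQ.center_nontrivial
  rw [Subgroup.nontrivial_iff_ne_bot] at hc
  exact hc this

end Cfsg.Agent.Lib.FusionControl
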