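import Cfsg.Agent.Lib.FusionControl.KStable
import Cfsg.Agent.Lib.FusionControl.KInfMap
import Cfsg.Agent.Lib.FusionControl.PSurj
import Cfsg.Agent.Lib.PLocal.Dickson
import Cfsg.Agent.Lib.PLocal.QdFree
import Cfsg.Agent.Lib.PGroups.SylowNumber
import Cfsg.Agent.Lib.LocalEven.Qd
import Cfsg.Agent.Lib.Cores.PCore
/-!
# The least centric radical subgroup when no automizer involves `SL₂(p)`
-/

set_option autoImplicit false
set_option linter.style.haveILetI false

namespace Cfsg.Agent.Lib.CentricMin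

open Subgroup

universe u

variable {G : Type u} [Group G] [Finite G] {p : ℕ} [hp : Fact p.Prime]

omit [Finite G] in
theorem conj_centralizer {Q : Subgroup G} {n : G} (hn : n ∈ normalizer (Q : Set G)) {c : G}
    (hc : c ∈ centralizer (Q : Set G)) : n * c * n⁻¹ ∈ centralizer (Q : Set G) := by
  rw [mem_centralizer_iff] at hc ⊢
  intro q hq
  have h1 : n⁻¹ * q * n ∈ Q := by
    have := (mem_normalizer_iff.mp (inv_mem hn) q).mp hq
    rwa [inv_inv] at this
  have h2 := hc _ h1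
  calc q * (n * c * n⁻¹) = n * ((n⁻¹ * q * n) * c) * n⁻¹ := by group
    _ = n * (c * (n⁻¹ * q * n)) * n⁻¹ := by rw [h2]
    _ = n * c * n⁻¹ * q := by group

omit [Finite G] in
theorem normalizer_le_normalizer_centralizer (Q : Subgroup G) :
    normalizer (Q : Set G) ≤ normalizer ((centralizer (Q : Set G) : Subgroup G) : Set G) := by
  intro n hn
  rw [mem_normalizer_iff]
  intro c
  refine ⟨conj_centralizer hn, fun h => ?_⟩
  have := conj_centralizer (inv_mem hn) h
  rwa [inv_inv, show n⁻¹ * (n * c * n⁻¹) * n = c by group] at this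

/-- A group involving `Qd(p)` has a `p`-subgroup whose automizer has a section `SL₂(p)`. -/
theorem not_involves_qd
    (hfree : ∀ Q : Subgroup G, IsPGroup p ↥Q → ¬ ∃ (H K : Subgroup G) (_ : (K.subgroupOf H).Normal),
      centralizer (Q : Set G) ≤ K ∧ K ≤ H ∧ H ≤ normalizer (Q : Set G) ∧
      Nonempty ((↥H ⧸ K.subgroupOf H) ≃* Matrix.SpecialLinearGroup (Fin 2) (ZMod p))) :
    ¬ Cfsg.Involves ↥(Cfsg.qd p) G := by
  rintro ⟨H₀, R₀, hn, ⟨e⟩⟩
  haveI := hn
  let π : ↥H₀ →* ↥(Cfsg.qdOver (ZMod p)) := e.toMonoidHom.comp (QuotientGroup.mk' (R₀.subgroupOf H₀))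
  have hπ : Function.Surjective π := e.surjective.comp (QuotientGroup.mk'_surjective _)
  let ρ : ↥H₀ →* Matrix.SpecialLinearGroup (Fin 2) (ZMod p) := LocalEven.Qd.proj.comp π
  have hρ : Function.Surjective ρ := LocalEven.Qd.proj_surjective.comp hπ
  set E := ρ.ker with hE
  let πE : ↥E →* ↥(LocalEven.Qd.proj (F := ZMod p)).ker :=
    (π.comp E.subtype).codRestrict _ fun x => x.2
  have hπE : Function.Surjective πE := by
    rintro ⟨v, hv⟩
    obtain ⟨x, hx⟩ := hπ v
    exact ⟨⟨x, by show LocalEven.Qd.proj (π x) = 1; rw [hx]; exact hv⟩, Subtype.ext hx⟩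
  obtain ⟨S⟩ : Nonempty (Sylow p ↥E) := inferInstance
  set Q₀ := (S : Subgroup ↥E).map E.subtype with hQ₀
  have hlift : ∀ v, ∃ x ∈ Q₀, π x = LocalEven.Qd.el 1 v := by
    intro v
    have hV : IsPGroup p ↥(LocalEven.Qd.proj (F := ZMod p)).ker :=
      IsPGroup.of_card (n := 2) (by rw [LocalEven.Qd.card_ker, Nat.card_zmod])
    have htop : ((S.mapSurjective hπE : Sylow p _) : Subgroup ↥(LocalEven.Qd.proj (F := ZMod p)).ker) = ⊤ :=
      ((S.mapSurjective hπE).is_maximal' (hV.to_subgroup ⊤) le_top).symm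
    obtain ⟨s, hs, he⟩ := ((Sylow.coe_mapSurjective hπE S).symm.trans htop).ge
      (mem_top ⟨LocalEven.Qd.el 1 v, LocalEven.Qd.mem_ker_proj_iff.2 ⟨v, rfl⟩⟩)
    exact ⟨s, ⟨s, hs, rfl⟩, congrArg Subtype.val he⟩
  have hcent : centralizer (Q₀ : Set ↥H₀) ≤ E := by
    intro x hx
    obtain ⟨g, w, hgw⟩ := LocalEven.Qd.el_surj (π x)
    have hg : ∀ v, g.1.mulVec v = v := by
      intro v
      obtain ⟨y, hy, hyv⟩ := hlift v
      have h1 := congrArg π (mem_centralizer_iff.mp hx y hy)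
      rw [map_mul, map_mul, hyv, hgw] at h1
      have h2 := LocalEven.Qd.conj_trans g v w
      rw [← h1, mul_inv_cancel_right] at h2
      exact (LocalEven.Qd.aff_injective (congrArg Subtype.val h2)).2.symm
    have hg1 : g = 1 := by
      apply Subtype.ext
      ext i j
      have := congrFun (hg (Pi.single j 1)) i
      rw [Matrix.mulVec_single_one] at this
      simpa [Matrix.one_apply, Pi.single_apply] using this
    show LocalEven.Qd.proj (π x) = 1
    rw [hgw, hg1]
    exact LocalEven.Qd.proj_el 1 w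
  have hN : normalizer (Q₀ : Set ↥H₀) ⊔ E = ⊤ := Sylow.normalizer_sup_eq_top S
  set Q := Q₀.map H₀.subtype with hQ
  refine hfree Q ((S.2.map _).map _) ?_
  set N := normalizer (Q₀ : Set ↥H₀) with hNdef
  set C := centralizer (Q : Set G) with hC
  have hN₀ : N.map H₀.subtype ≤ normalizer (Q : Set G) :=
    le_normalizer_map H₀.subtype
  have hCE : ∀ x ∈ N, (x : G) ∈ C → x ∈ E := by
    intro x _ hx
    refine hcent (mem_centralizer_iff.mpr fun y hy => Subtype.ext ?_)
    exact mem_centralizer_iff.mp hx y ⟨y, hy, rfl⟩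
  set E₁ := (N ⊓ E).map H₀.subtype with hE₁
  set H := N.map H₀.subtype ⊔ C with hH
  set K := E₁ ⊔ C with hK
  have hKH : K ≤ H := sup_le_sup_right (Subgroup.map_mono inf_le_left) _
  have hHQ : H ≤ normalizer (Q : Set G) := sup_le hN₀ (centralizer_le_normalizer _)
  have hHK : H ≤ normalizer (K : Set G) := by
    refine sup_le ?_ (le_trans le_sup_right le_normalizer)
    rintro _ ⟨n, hn, rfl⟩
    refine mem_normalizer_iff_map_conj_eq.mpr ?_
    have h1 : E₁.map (MulAut.conj (n : G)).toMonoidHom = E₁ := by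
      refine mem_normalizer_iff_map_conj_eq.mp (le_normalizer_map H₀.subtype ⟨n, ?_, rfl⟩)
      refine (inf_normalizer_le_normalizer_inf (⟨le_normalizer hn, ?_⟩ : n ∈ normalizer (N : Set ↥H₀) ⊓ normalizer (E : Set ↥H₀)))
      rw [normalizer_eq_top]
      exact mem_top n
    have h2 : C.map (MulAut.conj (n : G)).toMonoidHom = C :=
      mem_normalizer_iff_map_conj_eq.mp (normalizer_le_normalizer_centralizer Q (hN₀ ⟨n, hn, rfl⟩))
    rw [hK, Subgroup.map_sup]
    exact congrArg₂ (· ⊔ ·) h1 h2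
  haveI hKn : (K.subgroupOf H).Normal := normal_subgroupOf_of_le_normalizer hHK
  refine ⟨H, K, hKn, le_sup_right, hKH, hHQ, ?_⟩
  let ψ : ↥N →* ↥H ⧸ K.subgroupOf H :=
    (QuotientGroup.mk' (K.subgroupOf H)).comp ((H₀.subtype.comp N.subtype).codRestrict H
      fun x => mem_sup_left ⟨x, x.2, rfl⟩)
  have hCn : N.map H₀.subtype ≤ normalizer (C : Set G) := hN₀.trans (normalizer_le_normalizer_centralizer Q)
  have hψ : Function.Surjective ψ := by
    intro y
    obtain ⟨⟨h, hh⟩, rfl⟩ := QuotientGroup.mk'_surjective _ y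
    have hh' : h ∈ ((N.map H₀.subtype ⊔ C : Subgroup G) : Set G) := hh
    rw [coe_mul_of_left_le_normalizer_right _ _ hCn] at hh'
    obtain ⟨_, ⟨n, hn, rfl⟩, c, hc, rfl⟩ := hh'
    refine ⟨⟨n, hn⟩, QuotientGroup.eq.mpr ?_⟩
    rw [mem_subgroupOf]
    show ((n : G))⁻¹ * ((n : G) * c) ∈ K
    rw [inv_mul_cancel_left]
    exact mem_sup_right hc
  let φ : ↥N →* Matrix.SpecialLinearGroup (Fin 2) (ZMod p) := ρ.comp N.subtype
  have hφ : Function.Surjective φ := by
    intro g
    obtain ⟨x, rfl⟩ := hρ g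
    obtain ⟨n, hn, c, hc, rfl⟩ := mem_sup_of_normal_right.mp (hN.ge (mem_top x))
    exact ⟨⟨n, hn⟩, by show ρ n = _; rw [map_mul, MonoidHom.mem_ker.mp hc, mul_one]⟩
  have hker : ψ.ker = φ.ker := by
    ext ⟨n, hn⟩
    show (QuotientGroup.mk' (K.subgroupOf H) _ = 1) ↔ n ∈ E
    rw [QuotientGroup.mk'_apply, QuotientGroup.eq_one_iff, mem_subgroupOf]
    refine ⟨fun h => ?_, fun h => mem_sup_left ⟨n, ⟨hn, h⟩, rfl⟩⟩
    have h' : (n : G) ∈ ((E₁ ⊔ C : Subgroup G) : Set G) := h
    rw [coe_mul_of_left_le_normalizer_right _ _ ((Subgroup.map_mono inf_le_left).trans hCn)] at h'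
    obtain ⟨_, ⟨e', he', rfl⟩, c, hc, hec⟩ := h'
    have hc' : c = ((e'⁻¹ * n : ↥H₀) : G) := by
      simp only [Subgroup.coe_mul, Subgroup.coe_inv]
      rw [← show (e' : G) * c = n from hec, inv_mul_cancel_left]
    have := hCE (e'⁻¹ * n) (N.mul_mem (N.inv_mem he'.1) hn) (hc' ▸ hc)
    have := E.mul_mem he'.2 this
    rwa [mul_inv_cancel_left] at this
  exact ⟨(QuotientGroup.quotientKerEquivOfSurjective ψ hψ).symm.trans
    ((QuotientGroup.quotientMulEquivOfEq hker).trans (QuotientGroup.quotientKerEquivOfSurjective φ hφ))⟩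

/-- `N(W)` controls strong fusion in `P`. -/
theorem controls_fusion (P : Sylow p G)
    (hst : ∀ (K R : Subgroup G) [_hR : (R.subgroupOf K).Normal], Cfsg.IsNormalizerPStable p (↥K ⧸ R.subgroupOf K))
    {A : Subgroup G} (hA : A ≤ (P : Subgroup G)) {g : G}
    (hg : A.map (MulAut.conj g).toMonoidHom ≤ (P : Subgroup G)) :
    ∃ h ∈ normalizer ((Cfsg.inducedFunctor Cfsg.kInfLower (P : Subgroup G) : Subgroup G) : Set G),
      ∃ c ∈ centralizer (A : Set G), g = h * c := by
  open FusionControl in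
  have h𝓦 : ∀ W' ∈ ({Cfsg.kInfLower} : Set (∀ (Q : Type u) [Group Q], Subgroup Q)),
      Cfsg.IsCharPFunctor.{u} p W' := by
    rintro _ rfl; exact FusionControl.isCharPFunctor_kInfLower
  have h0 := FusionControl.strongFusion_of_hloc h𝓦 (G := G) (fun K R _ hC => by
    obtain ⟨T⟩ : Nonempty (Sylow p (↥K ⧸ R.subgroupOf K)) := inferInstance
    obtain ⟨h1, -⟩ := FusionControl.kInf_normal_of_stable hst FusionControl.involves_section hC T
    refine FusionControl.family_iff.2 ⟨T, le_top, T.2, FusionControl.sylow_relIndex_top T, fun B g _ hB hgB => ?_⟩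
    refine .step (Or.inr ⟨_, ⟨Cfsg.kInfLower, rfl, rfl⟩, Subgroup.mem_top g, ?_⟩) hB hgB (fun a _ => rfl)
    rw [Subgroup.normalizer_eq_top_iff.2 h1]; trivial) G FusionControl.involves_self
  have hl := FusionControl.localCtrl_of_family (FusionControl.indSet_conjugacy h𝓦 G) h0 le_top P.2
    (FusionControl.sylow_relIndex_top P)
  obtain ⟨x, hx, hxe⟩ := (hl (A : Set G) g (Subgroup.mem_top g) hA (by
      rintro _ ⟨a, ha, rfl⟩; exact hg ⟨a, ha, rfl⟩)).exists_mem
    (normalizer ((Cfsg.inducedFunctor Cfsg.kInfLower (P : Subgroup G) : Subgroup G) : Set G)) (by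
      rintro y (rfl | ⟨_, ⟨W', rfl, rfl⟩, hy⟩)
      · exact one_mem _
      · exact hy.2)
  refine ⟨x, hx, x⁻¹ * g, mem_centralizer_iff.mpr fun a ha => ?_, (mul_inv_cancel_left x g).symm⟩
  have h1 := hxe a ha
  calc a * (x⁻¹ * g) = x⁻¹ * (x * a * x⁻¹) * g := by group
    _ = x⁻¹ * (g * a * g⁻¹) * g := by rw [h1]
    _ = x⁻¹ * g * a := by group

end Cfsg.Agent.Lib.CentricMin
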