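import Mathlib.Algebra.CharP.Lemmas
import Mathlib.Algebra.CharP.Basic
import Mathlib.Algebra.CharP.CharAndCard
import Mathlib.RingTheory.Nilpotent.Lemmas
import Mathlib.Algebra.Ring.Subring.Basic
import Mathlib.GroupTheory.OrderOfElement
import Mathlib.RingTheory.Ideal.Quotient.Basic
import Mathlib.Data.Nat.Choose.Sum

/-! A semilinear relation of small degree forces commutation with an abelian group of order prime to `p`. -/

set_option autoImplicit false

namespace Cfsg.Agent.Lib.FusionControl

open Finset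

variable {p : ℕ} [hp : Fact p.Prime] {E : Type*} [Ring E] {K : Type*} [CommGroup K]

lemma pow_mul_twist {g : E} (κ : K →* E) (σ : K ≃* K) (hg : ∀ l, g * κ l = κ (σ l) * g) :
    ∀ (i : ℕ) (l : K), g ^ i * κ l = κ ((⇑σ)^[i] l) * g ^ i := by
  intro i
  induction i with
  | zero => intro l; simp
  | succ i ih =>
    intro l
    rw [pow_succ, mul_assoc, hg, ← mul_assoc, ih, mul_assoc, ← Function.iterate_succ_apply]

lemma exists_modular_inverse {j : ℕ} (hj : 0 < j) (hjp : j < p) : ∃ t, j * t % p = 1 := by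
  obtain ⟨t, -, ht⟩ := Nat.exists_mul_mod_eq_one_of_coprime
    ((hp.out.coprime_iff_not_dvd.2 (Nat.not_dvd_of_pos_of_lt hj hjp)).symm) hp.out.one_lt
  exact ⟨t, ht⟩

/-- If `g` satisfies an equation of degree less than `p` and twists an abelian `p'`-group, it centralises it. -/
theorem twist_eq_of_relation (hpE : (p : E) = 0) {g : E} (hgp : g ^ p = 1) (κ : K →* E) (σ : K ≃* K)
    (hg : ∀ l, g * κ l = κ (σ l) * g) {n : ℕ} (hn : n.Coprime p) (hKn : ∀ l : K, l ^ n = 1)
    {m : ℕ} (hm : m < p) (a : ℕ → ℤ) (ham : a m = 1)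
    (hrel : ∑ i ∈ range (m + 1), (a i : E) * g ^ i = 0) (l₀ : K) : κ (σ l₀) = κ l₀ := by
  obtain hE | hE := subsingleton_or_nontrivial E
  · exact Subsingleton.elim _ _
  set R := Subring.closure (Set.range κ) with hR
  have hcomm : IsMulCommutative R := Subring.isMulCommutative_closure (by
    rintro _ ⟨x, rfl⟩ _ ⟨y, rfl⟩; rw [← map_mul, ← map_mul, mul_comm])
  letI : CommRing R := { (inferInstance : Ring R) with mul_comm := fun x y => mul_comm' x y }
  have hκmem : ∀ l, κ l ∈ R := fun l => Subring.subset_closure ⟨l, rfl⟩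
  let κR : K →* R :=
    { toFun := fun l => ⟨κ l, hκmem l⟩, map_one' := Subtype.ext (map_one κ),
      map_mul' := fun x y => Subtype.ext (map_mul κ x y) }
  have hκR : ∀ l, ((κR l : R) : E) = κ l := fun _ => rfl
  let σi : ℕ → K → K := fun i => (⇑σ)^[i]
  have hperiod : ∀ l, κ (σi p l) = κ l := by
    intro l
    have := pow_mul_twist κ σ hg p l
    rw [hgp, one_mul, mul_one] at this
    exact this.symm
  -- elimination
  have key : ∀ (s : Finset ℕ) (l : ℕ → K),
      ∑ i ∈ range (m + 1), (((a i : R) * ∏ t ∈ s, (κR (σi i (l t)) - κR (σi t (l t))) : R) : E) * g ^ i = 0 := by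
    intro s l
    induction s using Finset.induction_on with
    | empty => simpa using hrel
    | @insert t s ht ih =>
      set x : ℕ → R := fun i => (a i : R) * ∏ t ∈ s, (κR (σi i (l t)) - κR (σi t (l t))) with hx
      have h1 : ∀ i, (((a i : R) * ∏ u ∈ insert t s, (κR (σi i (l u)) - κR (σi u (l u))) : R) : E) * g ^ i =
          ((x i : R) : E) * g ^ i * κ (l t) - κ (σi t (l t)) * (((x i : R) : E) * g ^ i) := by
        intro i
        rw [mul_assoc, pow_mul_twist κ σ hg, ← mul_assoc, ← mul_assoc, ← hκR, ← hκR, ← Subring.coe_mul,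
          ← Subring.coe_mul, ← sub_mul, ← AddSubgroupClass.coe_sub]
        congr 2
        rw [Finset.prod_insert ht, hx]
        show _ = (a i : R) * _ * κR (σi i (l t)) - κR (σi t (l t)) * ((a i : R) * _)
        ring
      simp only [h1, Finset.sum_sub_distrib, ← Finset.sum_mul, ← Finset.mul_sum]
      rw [show ∑ i ∈ range (m + 1), ((x i : R) : E) * g ^ i = 0 from ih]
      simp
  have hprod : ∀ l : ℕ → K, ∏ t ∈ range m, (κR (σi m (l t)) - κR (σi t (l t))) = 0 := by
    intro l
    have := key (range m) l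
    rw [Finset.sum_eq_single m] at this
    · have hu : IsUnit (g ^ m) := (IsUnit.of_pow_eq_one hgp hp.out.ne_zero).pow m
      have h2 := (IsUnit.mul_left_eq_zero hu).1 this
      rw [ham, Int.cast_one, one_mul] at h2
      exact Subtype.ext h2
    · intro i hi hne
      have hi' : i ∈ range m := Finset.mem_range.2 (by have := Finset.mem_range.1 hi; omega)
      rw [Finset.prod_eq_zero hi' (sub_self _)]
      simp
    · intro h; exact absurd (Finset.self_mem_range_succ m) h
  -- modulo every prime
  obtain ⟨d, hd⟩ : ∃ d, d = l₀⁻¹ * σ l₀ := ⟨_, rfl⟩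
  have hnil : κR d - 1 ∈ nilradical R := by
    rw [nilradical_eq_sInf, Submodule.mem_sInf]
    intro P hP
    have hP' : Ideal.IsPrime P := hP
    let ψ : K →* R ⧸ P := (Ideal.Quotient.mk P).toMonoidHom.comp κR
    have hex : ∃ i < m, ∀ l, ψ (σi m l) = ψ (σi i l) := by
      by_contra hc
      push Not at hc
      choose! w hw using hc
      have h0 := congrArg (Ideal.Quotient.mk P) (hprod w)
      rw [map_prod, map_zero, Finset.prod_eq_zero_iff] at h0
      obtain ⟨t, ht, h0⟩ := h0
      rw [map_sub, sub_eq_zero] at h0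
      exact hw t (Finset.mem_range.1 ht) h0
    obtain ⟨i, hi, hii⟩ := hex
    have hsurj : Function.Surjective (σi i) := σ.surjective.iterate i
    have hj : ∀ l, ψ (σi (m - i) l) = ψ l := by
      intro l
      obtain ⟨y, rfl⟩ := hsurj l
      show ψ ((⇑σ)^[m - i] ((⇑σ)^[i] y)) = _
      rw [← Function.iterate_add_apply, Nat.sub_add_cancel hi.le]
      exact hii y
    have hjt : ∀ t l, ψ (σi ((m - i) * t) l) = ψ l := by
      intro t
      induction t with
      | zero => intro l; rfl
      | succ t ih =>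
        intro l
        show ψ ((⇑σ)^[(m - i) * (t + 1)] l) = ψ l
        rw [Nat.mul_succ, Nat.add_comm, Function.iterate_add_apply]
        exact (hj _).trans (ih l)
    have hp' : ∀ q l, κR (σi (p * q) l) = κR l := by
      intro q
      induction q with
      | zero => intro l; rfl
      | succ q ih =>
        intro l
        show κR ((⇑σ)^[p * (q + 1)] l) = κR l
        rw [Nat.mul_succ, Nat.add_comm, Function.iterate_add_apply]
        exact (Subtype.ext (hperiod _)).trans (ih l)
    obtain ⟨t, ht⟩ := exists_modular_inverse (p := p) (j := m - i) (by omega) (by omega)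
    have h1 := hjt t l₀
    rw [show (m - i) * t = 1 + p * ((m - i) * t / p) by have := Nat.mod_add_div ((m - i) * t) p; omega] at h1
    have h2 : ψ (σ l₀) = ψ l₀ := by
      rw [← h1]
      show Ideal.Quotient.mk P (κR (σ l₀)) = Ideal.Quotient.mk P (κR ((⇑σ)^[1 + p * ((m - i) * t / p)] l₀))
      congr 1
      rw [Nat.add_comm, Function.iterate_add_apply, Function.iterate_one]
      exact (hp' _ _).symm
    have h3 : ψ d = 1 := by
      rw [hd, map_mul, h2, ← map_mul, inv_mul_cancel, map_one]
    rw [← Ideal.Quotient.eq_zero_iff_mem, map_sub, map_one, sub_eq_zero]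
    exact h3
  obtain ⟨k, hk⟩ := mem_nilradical.1 hnil
  have : Nontrivial R := ⟨⟨0, 1, fun h => zero_ne_one (congrArg Subtype.val h)⟩⟩
  have : CharP R p := (CharP.charP_iff_prime_eq_zero hp.out).2 (Subtype.ext (by simpa using hpE))
  have h1 : (κR d) ^ p ^ k = 1 := by
    rw [← sub_eq_zero]
    have h2 : (κR d - 1) ^ p ^ k = 0 := pow_eq_zero_of_le (Nat.lt_pow_self hp.out.one_lt).le hk
    rwa [sub_pow_char_pow_of_commute _ _ (Commute.one_right _), one_pow] at h2
  have h2 : (κR d) ^ n = 1 := by rw [← map_pow, hKn, map_one]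
  have h3 : κR d = 1 := by
    have := pow_gcd_eq_one.2 ⟨h1, h2⟩
    rwa [Nat.Coprime.gcd_eq_one (hn.symm.pow_left k), pow_one] at this
  have h4 : κ d = 1 := congrArg Subtype.val h3
  have h5 : σ l₀ = l₀ * d := by rw [hd, mul_inv_cancel_left]
  rw [h5, map_mul, h4, mul_one]

/-- the case of a nilpotency index less than `p` -/
theorem twist_eq_of_sub_one_pow (hpE : (p : E) = 0) {g : E} (hg0 : (g - 1) ^ (p - 1) = 0) (κ : K →* E)
    (σ : K ≃* K) (hg : ∀ l, g * κ l = κ (σ l) * g) {n : ℕ} (hn : n.Coprime p) (hKn : ∀ l : K, l ^ n = 1)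
    (l₀ : K) : κ (σ l₀) = κ l₀ := by
  obtain hE | hE := subsingleton_or_nontrivial E
  · exact Subsingleton.elim _ _
  have : CharP E p := (CharP.charP_iff_prime_eq_zero hp.out).2 hpE
  have hgp : g ^ p = 1 := by
    have h : (g - 1) ^ p ^ 1 = 0 := by
      rw [pow_one]; exact pow_eq_zero_of_le (Nat.sub_le p 1) hg0
    rw [sub_pow_char_pow_of_commute _ _ (Commute.one_right g), one_pow, pow_one, sub_eq_zero] at h
    exact h
  refine twist_eq_of_relation hpE hgp κ σ hg hn hKn (m := p - 1) (by have := hp.out.pos; omega)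
    (fun i => (-1) ^ (p - 1 - i) * ((p - 1).choose i : ℤ)) (by simp) ?_ l₀
  rw [← hg0, sub_eq_add_neg, Commute.add_pow (Commute.neg_one_right g)]
  refine Finset.sum_congr rfl fun i _ => ?_
  push_cast
  rw [mul_assoc, ((Commute.neg_one_left _).pow_left _).eq, mul_assoc,
    ((Nat.cast_commute _ _)).eq, mul_assoc]

end Cfsg.Agent.Lib.FusionControl
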