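import Cfsg.Agent.Lib.FusionControl.NPC
import Cfsg.Agent.Lib.FusionControl.Relation
import Cfsg.Agent.Lib.Coprime.Action
import Cfsg.Agent.Lib.Solvable.Nilpotent
import Cfsg.Prelude.Def_PLocal

/-! An element of a maximal Sylow subgroup has full nilpotency index on the chief factors it moves. -/

set_option autoImplicit false

universe u

open scoped commutatorElement

namespace Cfsg.Agent.Lib.FusionControl

variable {p : ℕ} [Fact p.Prime]

lemma eq_bot_of_coprime {G : Type u} [Group G] [Finite G] {K : Subgroup G} (hK : (Nat.card K).Coprime p)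
    {T : Subgroup G} (hT : IsPGroup p T) : K ⊓ T = ⊥ := by
  rw [eq_bot_iff]
  rintro x ⟨hxK, hxT⟩
  exact Subgroup.mem_bot.2 (Cfsg.Agent.Lib.Transfer.eq_one_of_isPGroup_of_coprime hT hxT
    (Cfsg.Agent.Lib.Transfer.coprime_orderOf_of_mem hK hxK))

/-- in the minimal configuration the `p'`-part is abelian and minimal -/
lemma minimal_residual {Z : Type u} [Group Z] [Finite Z] (hcop : (Nat.card (Cfsg.pResidual p Z)).Coprime p)
    (T : Sylow p Z) (hT : IsCoatom (T : Subgroup Z)) :
    (∀ H ≤ Cfsg.pResidual p Z, (T : Subgroup Z) ≤ Subgroup.normalizer (H : Set Z) → H = ⊥ ∨ H = Cfsg.pResidual p Z) ∧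
      (∀ a ∈ Cfsg.pResidual p Z, ∀ b ∈ Cfsg.pResidual p Z, a * b = b * a) := by
  set K := Cfsg.pResidual p Z with hK
  have hKn : K.Normal := by rw [hK]; infer_instance
  have hKT : K ⊓ (T : Subgroup Z) = ⊥ := eq_bot_of_coprime hcop T.2
  have hmin : ∀ H ≤ K, (T : Subgroup Z) ≤ Subgroup.normalizer (H : Set Z) → H = ⊥ ∨ H = K := by
    intro H hHK hTH
    rcases (le_sup_right : (T : Subgroup Z) ≤ H ⊔ (T : Subgroup Z)).eq_or_lt with h | h
    · left
      rw [eq_bot_iff, ← hKT]
      exact le_inf hHK (le_sup_left.trans h.ge)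
    · right
      have htop := hT.2 _ h
      refine le_antisymm hHK fun k hk => ?_
      obtain ⟨a, ha, t, ht, rfl⟩ := Cfsg.Agent.Lib.Coprime.exists_mul_of_mem_sup hTH (htop ▸ Subgroup.mem_top k)
      have : t ∈ K ⊓ (T : Subgroup Z) := ⟨by simpa using mul_mem (inv_mem (hHK ha)) hk, ht⟩
      rw [hKT, Subgroup.mem_bot] at this
      simpa [this] using ha
  refine ⟨hmin, ?_⟩
  by_cases hKb : K = ⊥
  · intro a ha b hb
    rw [hKb, Subgroup.mem_bot] at ha hb
    rw [ha, hb]
  have hne : Nat.card K ≠ 1 := fun h => hKb (Subgroup.card_eq_one.1 h)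
  have : Fact (Nat.card K).minFac.Prime := ⟨Nat.minFac_prime hne⟩
  set r := (Nat.card K).minFac
  have hTK : (T : Subgroup Z) ≤ Subgroup.normalizer (K : Set Z) := by
    rw [Subgroup.normalizer_eq_top]; exact le_top
  have hc2 : (Nat.card (T : Subgroup Z)).Coprime (Nat.card K) := by
    obtain ⟨e, he⟩ := T.2.exists_card_eq
    rw [he]; exact Nat.Coprime.pow_left e hcop.symm
  have : Group.IsNilpotent (T : Subgroup Z) := T.2.isNilpotent
  obtain ⟨R, hR⟩ := Cfsg.Agent.Lib.Coprime.exists_invariant_sylow hTK hc2 (Or.inl inferInstance) r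
  have hRne : (R : Subgroup K) ≠ ⊥ := R.ne_bot_of_dvd_card (Nat.minFac_dvd _)
  have hRK : (R : Subgroup K).map K.subtype = K := by
    rcases hmin _ (Subgroup.map_subtype_le _) hR with h | h
    · exact absurd ((Subgroup.map_eq_bot_iff_of_injective _ K.subtype_injective).1 h) hRne
    · exact h
  have hKr : IsPGroup r K := by
    have := R.2.map K.subtype
    rwa [hRK] at this
  have hcen : (Subgroup.center K).map K.subtype = K := by
    rcases hmin _ (Subgroup.map_subtype_le _) (hTK.trans (Cfsg.Agent.Lib.Cores.normalizer_le_normalizer_map_subtype K (Subgroup.center K))) with h | h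
    · exfalso
      have : Nontrivial K := (Subgroup.nontrivial_iff_ne_bot _).2 hKb
      have hn := hKr.center_nontrivial
      rw [Subgroup.nontrivial_iff_ne_bot] at hn
      exact hn ((Subgroup.map_eq_bot_iff_of_injective _ K.subtype_injective).1 h)
    · exact h
  intro a ha b hb
  obtain ⟨a', ha', rfl⟩ := hcen.ge ha
  exact congrArg Subtype.val (Subgroup.mem_center_iff.1 ha' ⟨b, hb⟩).symm

/-- automorphisms as endomorphisms of the additive group -/
def autToEnd (A : Type*) [CommGroup A] : MulAut A →* AddMonoid.End (Additive A) where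
  toFun e := MonoidHom.toAdditive e.toMonoidHom
  map_one' := rfl
  map_mul' _ _ := rfl

/-- `[U, g] ≤ V` once the `(p-1)`-fold commutator is in `V` -/
theorem commutator_le_of_iter {Y : Type u} [Group Y] [Finite Y]
    (hnpc : Cfsg.HasNormalPComplement p (Y ⧸ Cfsg.pCore p Y)) (S : Sylow p Y) (hco : IsCoatom (S : Subgroup Y))
    {g : Y} (hgS : g ∈ (S : Subgroup Y)) (hgQ : g ∉ Cfsg.pCore p Y) {U V : Subgroup Y}
    (hchief : Cfsg.IsChiefFactor U V) (hUQ : U ≤ Cfsg.pCore p Y)
    (hiter : Cfsg.iterCommutator U (Subgroup.zpowers g) (p - 1) ≤ V) : ⁅U, Subgroup.zpowers g⁆ ≤ V := by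
  obtain ⟨hVU, hUn, hVn, hminU⟩ := hchief
  set Q := Cfsg.pCore p Y with hQdef
  have hQn : Q.Normal := by rw [hQdef]; infer_instance
  have hQp : IsPGroup p Q := Cfsg.Agent.Lib.Cores.pCore_isPGroup p Y
  have hQS : Q ≤ (S : Subgroup Y) := pCore_le_S S
  set π := QuotientGroup.mk' Q with hπ
  set K := Cfsg.pResidual p (Y ⧸ Q) with hKdef
  have hcop : (Nat.card K).Coprime p := Cfsg.Agent.Lib.Transfer.hasNormalPComplement_iff_coprime.1 hnpc
  have hKn : K.Normal := by rw [hKdef]; infer_instance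
  set T := S.mapSurjective (QuotientGroup.mk'_surjective Q) with hTdef
  have hTcoe : (T : Subgroup (Y ⧸ Q)) = (S : Subgroup Y).map π := Sylow.coe_mapSurjective _ S
  have hcomapS : ((S : Subgroup Y).map π).comap π = (S : Subgroup Y) := by
    rw [Subgroup.comap_map_eq, QuotientGroup.ker_mk', sup_eq_left.2 hQS]
  have hTco : IsCoatom (T : Subgroup (Y ⧸ Q)) := by
    rw [hTcoe]
    refine ⟨fun h => hco.1 ?_, fun H hH => ?_⟩
    · rw [← hcomapS, h, Subgroup.comap_top]
    · have h2 := Subgroup.comap_lt_comap_of_surjective (QuotientGroup.mk'_surjective Q) |>.2 hH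
      rw [hcomapS] at h2
      have h3 := congrArg (Subgroup.map π) (hco.2 _ h2)
      rwa [Subgroup.map_comap_eq_self_of_surjective (QuotientGroup.mk'_surjective Q),
        Subgroup.map_top_of_surjective π (QuotientGroup.mk'_surjective Q)] at h3
  obtain ⟨hKmin, hKcomm⟩ := minimal_residual hcop T hTco
  have hsup : (T : Subgroup (Y ⧸ Q)) ⊔ K = ⊤ := Cfsg.Agent.Lib.Transfer.sylow_sup_pResidual T
  -- the chief factor
  set v := QuotientGroup.mk' V with hv
  have hvs : Function.Surjective v := QuotientGroup.mk'_surjective V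
  set U1 := U.map v with hU1
  have hU1n : U1.Normal := hUn.map v hvs
  have hVQ : V ≤ Q := hVU.le.trans hUQ
  have hU1ne : U1 ≠ ⊥ := by
    rw [hU1, Ne, Subgroup.map_eq_bot_iff, QuotientGroup.ker_mk']
    exact not_le_of_gt hVU
  have hmin1 : ∀ N : Subgroup (Y ⧸ V), N.Normal → N ≤ U1 → N ≠ ⊥ → N = U1 := by
    intro N hN hNU hne
    have h1 : N.comap v ≤ U := by
      refine (Subgroup.comap_mono hNU).trans ?_
      rw [hU1, Subgroup.comap_map_eq, QuotientGroup.ker_mk', sup_eq_left.2 hVU.le]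
    have h2 : V ≤ N.comap v := fun x hx => by
      show v x ∈ N
      rw [show v x = 1 from (QuotientGroup.eq_one_iff x).2 hx]; exact one_mem _
    rcases hminU _ (hN.comap v) h2 h1 with h | h
    · exfalso
      apply hne
      rw [← Subgroup.map_comap_eq_self_of_surjective hvs N, h, hv, QuotientGroup.map_mk'_self]
    · rw [← Subgroup.map_comap_eq_self_of_surjective hvs N, h]
  set Q1 := Q.map v with hQ1
  have hQ1n : Q1.Normal := hQn.map v hvs
  have hU1Q1 : U1 ≤ Q1 := Subgroup.map_mono hUQ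
  have hU1p : IsPGroup p U1 := (hQp.map v).to_le hU1Q1
  have hcentQ : U1 ≤ Subgroup.centralizer (Q1 : Set (Y ⧸ V)) := by
    suffices U1 ⊓ Subgroup.centralizer (Q1 : Set (Y ⧸ V)) = U1 from this ▸ inf_le_right
    refine hmin1 _ inferInstance inf_le_left ?_
    have hnil : Group.IsNilpotent Q1 := (hQp.map v).isNilpotent
    have hne : U1.subgroupOf Q1 ≠ ⊥ := by
      intro h
      rw [Subgroup.subgroupOf_eq_bot] at h
      exact hU1ne (disjoint_self.1 (h.mono_right hU1Q1))
    have h := Cfsg.Agent.Lib.Solvable.inf_center_ne_bot (N := U1.subgroupOf Q1) hne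
    intro hbot
    apply h
    rw [eq_bot_iff]
    rintro z ⟨hz1, hz2⟩
    refine Subgroup.mem_bot.2 (Subtype.ext (Subgroup.mem_bot.1 (hbot ▸ ?_)))
    refine Subgroup.mem_inf.2 ⟨hz1, ?_⟩
    rw [Subgroup.mem_centralizer_iff]
    intro q hq
    exact congrArg Subtype.val (Subgroup.mem_center_iff.1 hz2 ⟨q, hq⟩)
  have hcommU : ∀ a ∈ U1, ∀ b ∈ U1, a * b = b * a := fun a ha b hb =>
    (Subgroup.mem_centralizer_iff.1 (hcentQ hb) a (hU1Q1 ha))
  letI : CommGroup U1 := { (inferInstance : Group U1) with mul_comm := fun a b => Subtype.ext (hcommU a a.2 b b.2) }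
  have hexp : ∀ u ∈ U1, u ^ p = 1 := by
    let W : Subgroup (Y ⧸ V) :=
      { carrier := {u | u ∈ U1 ∧ u ^ p = 1}
        one_mem' := ⟨one_mem _, one_pow _⟩
        mul_mem' := fun {a b} ha hb => ⟨mul_mem ha.1 hb.1, by
          rw [(show Commute a b from hcommU a ha.1 b hb.1).mul_pow, ha.2, hb.2, one_mul]⟩
        inv_mem' := fun {a} ha => ⟨inv_mem ha.1, by rw [inv_pow, ha.2, inv_one]⟩ }
    have hWn : W.Normal := ⟨fun u hu y => ⟨hU1n.conj_mem u hu.1 y, by
      rw [conj_pow, hu.2, mul_one, mul_inv_cancel]⟩⟩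
    suffices W = U1 from fun u hu => ((this.ge hu : u ∈ W)).2
    refine hmin1 W hWn (fun u hu => hu.1) ?_
    have hpd : p ∣ Nat.card U1 := by
      obtain ⟨e, he⟩ := hU1p.exists_card_eq
      rw [he]
      refine dvd_pow_self p fun h0 => hU1ne (Subgroup.card_eq_one.1 ?_)
      rw [he, h0, pow_zero]
    obtain ⟨x, hx⟩ := exists_prime_orderOf_dvd_card' p hpd
    intro hb
    have hxW : (x : Y ⧸ V) ∈ W := ⟨x.2, by
      rw [← SubgroupClass.coe_pow, ← hx, pow_orderOf_eq_one]; rfl⟩
    rw [hb, Subgroup.mem_bot] at hxW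
    have h1 : x = 1 := Subtype.ext hxW
    rw [h1, orderOf_one] at hx
    exact (Fact.out : p.Prime).ne_one hx.symm
  let Φ : Y →* AddMonoid.End (Additive U1) := ((autToEnd U1).comp (MulAut.conjNormal (H := U1))).comp v
  let val : Additive U1 → Y ⧸ V := fun u => ((Additive.toMul u : U1) : Y ⧸ V)
  have val_inj : Function.Injective val := fun a b h => Additive.toMul.injective (Subtype.ext h)
  have hval : ∀ (y : Y) (u : Additive U1), val (Φ y u) = v y * val u * (v y)⁻¹ :=
    fun y u => MulAut.conjNormal_apply (v y) (Additive.toMul u)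
  have hvmem : ∀ u : Additive U1, val u ∈ U1 := fun u => (Additive.toMul u).2
  have hvsub : ∀ a b : Additive U1, val (a - b) = val a * (val b)⁻¹ := fun a b => by
    show (((Additive.toMul (a - b)) : U1) : Y ⧸ V) = _
    rw [toMul_sub, div_eq_mul_inv]; rfl
  have hΦext : ∀ (y z : Y), (∀ u ∈ U1, v y * u * (v y)⁻¹ = v z * u * (v z)⁻¹) → Φ y = Φ z := fun y z h =>
    AddMonoidHom.ext fun u => val_inj ((hval y u).trans ((h _ (hvmem u)).trans (hval z u).symm))
  have hker : ∀ q ∈ Q, Φ q = 1 := fun q hq => by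
    rw [← map_one Φ]
    refine hΦext q 1 fun u hu => ?_
    have := Subgroup.mem_centralizer_iff.1 (hcentQ hu) _ (⟨q, hq, rfl⟩ : v q ∈ Q1)
    rw [this, mul_inv_cancel_right, map_one, inv_one, one_mul, mul_one]
  let Ψ : Y ⧸ Q →* AddMonoid.End (Additive U1) := QuotientGroup.lift Q Φ hker
  have hΨ : ∀ y, Ψ (π y) = Φ y := fun y => rfl
  have hpE : ((p : ℕ) : AddMonoid.End (Additive U1)) = 0 := by
    refine AddMonoidHom.ext fun u => ?_
    refine (AddMonoid.End.natCast_apply p u).trans ?_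
    refine val_inj ?_
    show (((Additive.toMul (p • u)) : U1) : Y ⧸ V) = _
    rw [toMul_nsmul, Subgroup.coe_pow]
    exact hexp _ (hvmem u)
  have hnilp : ∀ (i : ℕ) (u : Additive U1), val (((Φ g - 1) ^ i) u) ∈
      (Cfsg.iterCommutator U (Subgroup.zpowers g) i).map v := by
    intro i
    induction i with
    | zero => intro u; exact hvmem u
    | succ i ih =>
      intro u
      rw [pow_succ']
      obtain ⟨z, hz, hze⟩ := ih u
      refine ⟨⁅g, z⁆, ?_, ?_⟩
      · show _ ∈ ⁅Cfsg.iterCommutator U (Subgroup.zpowers g) i, Subgroup.zpowers g⁆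
        rw [Subgroup.commutator_comm]
        exact Subgroup.commutator_mem_commutator (Subgroup.mem_zpowers g) hz
      · refine (Eq.trans ?_ (hvsub (Φ g (((Φ g - 1) ^ i) u)) (((Φ g - 1) ^ i) u)).symm)
        rw [hval, commutatorElement_def, map_mul, map_mul, map_mul, map_inv, map_inv, hze]
  have hg0 : (Φ g - 1) ^ (p - 1) = 0 := by
    refine AddMonoidHom.ext fun u => val_inj ?_
    obtain ⟨z, hz, hze⟩ := hnilp (p - 1) u
    refine hze.symm.trans ?_
    exact (QuotientGroup.eq_one_iff z).2 (hiter hz)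
  letI : CommGroup K := { (inferInstance : Group K) with mul_comm := fun a b => Subtype.ext (hKcomm a a.2 b b.2) }
  have htw : ∀ l : K, Ψ (π g * l * (π g)⁻¹) = Ψ l := fun l =>
    twist_eq_of_sub_one_pow hpE (by rw [← hΨ] at hg0; exact hg0) (Ψ.comp K.subtype) (MulAut.conjNormal (H := K) (π g))
      (fun m => by
        show Ψ (π g) * Ψ m = Ψ ((MulAut.conjNormal (π g) m : K) : Y ⧸ Q) * Ψ (π g)
        rw [MulAut.conjNormal_apply, ← map_mul, ← map_mul, inv_mul_cancel_right])
      hcop (fun m => pow_card_eq_one') l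
  set D := K ⊓ Ψ.ker with hD
  have hDn : D.Normal := inferInstance
  rcases hKmin D inf_le_left (by rw [Subgroup.normalizer_eq_top]; exact le_top) with h | h
  · exfalso
    apply hgQ
    have hCT : (T : Subgroup (Y ⧸ Q)) ⊓ Subgroup.centralizer (K : Set (Y ⧸ Q)) = ⊥ := by
      set C := (T : Subgroup (Y ⧸ Q)) ⊓ Subgroup.centralizer (K : Set (Y ⧸ Q)) with hC
      have hCn : C.Normal := by
        rw [← Subgroup.normalizer_eq_top_iff, eq_top_iff, ← hsup]
        refine sup_le (fun t ht => ?_) (fun k hk => ?_)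
        · rw [mem_normalizer_iff_cj, hC, cj_inf, mem_normalizer_iff_cj.1 (Subgroup.le_normalizer ht),
            mem_normalizer_iff_cj.1 (show t ∈ Subgroup.normalizer (Subgroup.centralizer (K : Set (Y ⧸ Q)) : Set (Y ⧸ Q)) by
              rw [Subgroup.normalizer_eq_top]; trivial)]
        · refine Subgroup.centralizer_le_normalizer _ ?_
          rw [Subgroup.mem_centralizer_iff]
          intro c hc
          exact (Subgroup.mem_centralizer_iff.1 (Subgroup.mem_inf.1 hc).2 k hk).symm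
      rw [eq_bot_iff, ← Cfsg.Agent.Lib.Cores.pCore_quotient_pCore p Y]
      exact Cfsg.Agent.Lib.Cores.le_pCore hCn (T.2.to_le inf_le_left)
    have hmem : π g ∈ (T : Subgroup (Y ⧸ Q)) ⊓ Subgroup.centralizer (K : Set (Y ⧸ Q)) := by
      refine Subgroup.mem_inf.2 ⟨hTcoe ▸ ⟨g, hgS, rfl⟩, ?_⟩
      rw [Subgroup.mem_centralizer_iff]
      intro k hk
      have h1 : π g * k * (π g)⁻¹ * k⁻¹ ∈ D := by
        refine Subgroup.mem_inf.2 ⟨mul_mem (hKn.conj_mem k hk _) (inv_mem hk), ?_⟩
        rw [MonoidHom.mem_ker, map_mul, htw ⟨k, hk⟩, ← map_mul, mul_inv_cancel, map_one]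
      rw [h, Subgroup.mem_bot, mul_inv_eq_one, mul_inv_eq_iff_eq_mul] at h1
      exact h1.symm
    rw [hCT, Subgroup.mem_bot] at hmem
    exact (QuotientGroup.eq_one_iff g).1 hmem
  · -- `K` acts trivially
    set P1 := (S : Subgroup Y).map v with hP1
    have hU1P : U1 ≤ P1 := Subgroup.map_mono (hUQ.trans hQS)
    have hnil : Group.IsNilpotent P1 := (S.2.map v).isNilpotent
    have hne : U1.subgroupOf P1 ≠ ⊥ := by
      intro h
      rw [Subgroup.subgroupOf_eq_bot] at h
      exact hU1ne (disjoint_self.1 (h.mono_right hU1P))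
    have hc := Cfsg.Agent.Lib.Solvable.inf_center_ne_bot (N := U1.subgroupOf P1) hne
    have hcenter : U1 ≤ Subgroup.center (Y ⧸ V) := by
      suffices U1 ⊓ Subgroup.center (Y ⧸ V) = U1 from this ▸ inf_le_right
      refine hmin1 _ inferInstance inf_le_left fun hbot => hc ?_
      rw [eq_bot_iff]
      rintro z ⟨hz1, hz2⟩
      refine Subgroup.mem_bot.2 (Subtype.ext (Subgroup.mem_bot.1 (hbot ▸ ?_)))
      refine Subgroup.mem_inf.2 ⟨hz1, Subgroup.mem_center_iff.2 fun x => ?_⟩
      obtain ⟨y, rfl⟩ := hvs x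
      obtain ⟨t, ht, k, hk, htk⟩ := Subgroup.mem_sup_of_normal_right.1 (hsup ▸ Subgroup.mem_top (π y))
      rw [hTcoe] at ht
      obtain ⟨s, hs, rfl⟩ := ht
      have hys : π (s⁻¹ * y) = k := by rw [map_mul, map_inv, ← htk, inv_mul_cancel_left]
      have hΦk : Φ (s⁻¹ * y) = 1 := by
        rw [← hΨ, hys]
        exact (Subgroup.mem_inf.1 (h.ge hk)).2
      have hfix : v (s⁻¹ * y) * (z : Y ⧸ V) * (v (s⁻¹ * y))⁻¹ = z :=
        (hval _ (Additive.ofMul (⟨z, hz1⟩ : U1))).symm.trans (by rw [hΦk]; rfl)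
      have hsz : v s * (z : Y ⧸ V) = z * v s :=
        congrArg Subtype.val (Subgroup.mem_center_iff.1 hz2 ⟨v s, ⟨s, hs, rfl⟩⟩)
      rw [mul_inv_eq_iff_eq_mul] at hfix
      calc v y * z = v s * (v (s⁻¹ * y) * z) := by rw [← mul_assoc, ← map_mul, mul_inv_cancel_left]
        _ = v s * (z * v (s⁻¹ * y)) := by rw [hfix]
        _ = z * (v s * v (s⁻¹ * y)) := by rw [← mul_assoc, hsz, mul_assoc]
        _ = _ := by rw [← map_mul, mul_inv_cancel_left]
    rw [Subgroup.commutator_le]
    intro a ha b _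
    rw [← QuotientGroup.eq_one_iff]
    show v ⁅a, b⁆ = 1
    have := Subgroup.mem_center_iff.1 (hcenter ⟨a, ha, rfl⟩) (v b)
    rw [commutatorElement_def, map_mul, map_mul, map_mul, map_inv, map_inv, ← this, mul_inv_cancel_right, mul_inv_cancel]

end Cfsg.Agent.Lib.FusionControl
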