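import Cfsg.Agent.Lib.FusionControl.Basic
import Mathlib.GroupTheory.Transfer
import Mathlib.GroupTheory.Nilpotent

/-! Transfer of a normal `p`-subgroup under the action of a weakly closed subgroup on the cosets of a
Sylow subgroup. -/

set_option autoImplicit false

open MulAction Finset

namespace Cfsg.Agent.Lib.FusionControl

variable {G : Type*} [Group G] {A : Type*} [CommGroup A]

section Coset

variable {S : Subgroup G} (φ : S →* A) {R : Subgroup G} [R.Normal] (hR : R ≤ S)

/-- the contribution of a coset to the transfer of an element of a normal subgroup of `S` -/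
noncomputable def cosetVal (q : G ⧸ S) (x : R) : A :=
  φ ⟨q.out⁻¹ * x * q.out, hR (by simpa using Subgroup.Normal.conj_mem ‹R.Normal› x x.2 q.out⁻¹)⟩

lemma cosetVal_mul (q : G ⧸ S) (x y : R) :
    cosetVal φ hR q (x * y) = cosetVal φ hR q x * cosetVal φ hR q y := by
  rw [cosetVal, cosetVal, cosetVal, ← map_mul]
  congr 1
  exact Subtype.ext (by simp [mul_assoc])

/-- `x ↦` contribution, as a homomorphism -/
noncomputable def cosetHom (q : G ⧸ S) : R →* A := MonoidHom.mk' (cosetVal φ hR q) (cosetVal_mul φ hR q)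

lemma cosetHom_smul (q : G ⧸ S) (w : G) (x : R) (y : R) (hy : (y : G) = w⁻¹ * x * w) :
    cosetHom φ hR (w • q) x = cosetHom φ hR q y := by
  have hs : q.out⁻¹ * w⁻¹ * (w • q).out ∈ S := by
    have h1 : ((w * q.out : G) : G ⧸ S) = ((w • q).out : G ⧸ S) := by
      rw [QuotientGroup.out_eq', ← smul_eq_mul, Quotient.coe_smul_out]
    have := QuotientGroup.eq.1 h1
    simpa [mul_assoc] using this
  show φ _ = φ _
  have e : (⟨(w • q).out⁻¹ * x * (w • q).out,
      hR (by simpa using Subgroup.Normal.conj_mem ‹R.Normal› x x.2 (w • q).out⁻¹)⟩ : S) =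
      ⟨_, hs⟩⁻¹ * ⟨q.out⁻¹ * y * q.out, hR (by simpa using Subgroup.Normal.conj_mem ‹R.Normal› y y.2 q.out⁻¹)⟩
        * ⟨_, hs⟩ := by
    refine Subtype.ext ?_
    show _ = (q.out⁻¹ * w⁻¹ * (w • q).out)⁻¹ * (q.out⁻¹ * y * q.out) * (q.out⁻¹ * w⁻¹ * (w • q).out)
    rw [hy]; group
  rw [e, map_mul, map_mul, map_inv, mul_comm, ← mul_assoc, mul_inv_cancel, one_mul]

lemma transfer_eq_prod_cosetHom [Finite G] [Fintype (G ⧸ S)] (x : R) :
    φ.transfer (x : G) = ∏ q : G ⧸ S, cosetHom φ hR q x := by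
  let T : S.LeftTransversal :=
    ⟨Set.range (Quotient.out : G ⧸ S → G), Subgroup.isComplement_range_left QuotientGroup.out_eq'⟩
  have hT : ∀ q : G ⧸ S, (T.2.leftQuotientEquiv q : G) = q.out := fun q =>
    Subgroup.IsComplement.leftQuotientEquiv_apply QuotientGroup.out_eq' q
  have hfix : ∀ q : G ⧸ S, ((x : G)⁻¹) • q = q := fun q => by
    rw [← QuotientGroup.out_eq' q]
    show ((((x : G)⁻¹) * q.out : G) : G ⧸ S) = _
    rw [QuotientGroup.eq]
    refine hR ?_
    have := Subgroup.Normal.conj_mem ‹R.Normal› x x.2 q.out⁻¹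
    simpa [mul_assoc] using this
  rw [MonoidHom.transfer_def φ T]
  unfold Subgroup.leftTransversals.diff
  refine Finset.prod_congr (by ext; simp) fun q _ => ?_
  show φ _ = φ _
  congr 1
  refine Subtype.ext ?_
  show (T.2.leftQuotientEquiv q : G)⁻¹ * ((x : G) • T).2.leftQuotientEquiv q = q.out⁻¹ * x * q.out
  rw [Subgroup.smul_apply_eq_smul_apply_inv_smul, hfix, hT, smul_eq_mul, mul_assoc]

end Coset

variable {p : ℕ} [Fact p.Prime]

lemma prod_range_mul_eq_one (f : ℕ → A) (m : ℕ) (h : ∀ j < m, ∏ i ∈ range p, f (p * j + i) = 1) :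
    ∏ i ∈ range (p * m), f i = 1 := by
  induction m with
  | zero => simp
  | succ m ih =>
    rw [mul_add_one, prod_range_add, ih (fun j hj => h j (hj.trans (Nat.lt_succ_self m))), one_mul]
    exact h m (Nat.lt_succ_self m)

/-- a fixed-point-free `p`-element whose norm dies contributes nothing -/
lemma prod_eq_one_of_free {α : Type*} [MulAction G α] (f : α → A) {w : G} (hw : ∃ k, w ^ p ^ k = 1)
    (hnorm : ∀ q : α, ∏ i ∈ range p, f (w ^ i • q) = 1) :
    ∀ O : Finset α, (∀ q ∈ O, w • q ∈ O) → (∀ q ∈ O, w • q ≠ q) → ∏ q ∈ O, f q = 1 := by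
  classical
  intro O
  induction O using Finset.strongInduction with
  | _ O ih =>
  intro hinv hfree
  rcases O.eq_empty_or_nonempty with rfl | ⟨q, hq⟩
  · simp
  obtain ⟨k, hk⟩ := hw
  set L := Function.minimalPeriod (w • ·) q with hL
  have hper : Function.IsPeriodicPt (w • · : α → α) (p ^ k) q := by
    show (w • ·)^[p ^ k] q = q
    rw [smul_iterate_apply, hk, one_smul]
  have hLdvd : L ∣ p ^ k := hper.minimalPeriod_dvd
  have hL1 : L ≠ 1 := fun h => hfree q hq (Function.minimalPeriod_eq_one_iff_isFixedPt.1 h)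
  have hpL : p ∣ L := by
    obtain ⟨i, _, hi⟩ := (Nat.dvd_prime_pow Fact.out).1 hLdvd
    rw [hi] at hL1 ⊢
    exact dvd_pow_self p (by rintro rfl; simp at hL1)
  obtain ⟨m, hm⟩ := hpL
  have hLpos : 0 < L := Nat.pos_of_dvd_of_pos hLdvd (pow_pos (Fact.out : p.Prime).pos k)
  set C := (range L).image (fun i => w ^ i • q) with hC
  have hmem : ∀ i : ℕ, w ^ i • q ∈ O := by
    intro i
    induction i with
    | zero => simpa using hq
    | succ i ih => rw [pow_succ', mul_smul]; exact hinv _ ih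
  have hCO : C ⊆ O := by
    intro y hy
    obtain ⟨i, _, rfl⟩ := mem_image.1 hy
    exact hmem i
  have hCinv : ∀ y ∈ C, w • y ∈ C := by
    intro y hy
    obtain ⟨i, _, rfl⟩ := mem_image.1 hy
    rw [← mul_smul, ← pow_succ', ← MulAction.pow_smul_mod_minimalPeriod]
    exact mem_image.2 ⟨_, mem_range.2 (Nat.mod_lt _ hLpos), rfl⟩
  have hinj : Set.InjOn (fun i => w ^ i • q) (range L : Set ℕ) := by
    intro i hi j hj hij
    simp only [coe_range, Set.mem_Iio] at hi hj
    exact Function.iterate_injOn_Iio_minimalPeriod (f := (w • · : α → α)) (x := q) hi hj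
      (by simpa [smul_iterate] using hij)
  have h1 : ∏ y ∈ C, f y = 1 := by
    rw [hC, prod_image hinj, hm]
    refine prod_range_mul_eq_one (fun i => f (w ^ i • q)) m fun j _ => ?_
    simp only [Nat.add_comm (p * j), pow_add, mul_smul]
    exact hnorm _
  have h2 : ∏ y ∈ O \ C, f y = 1 := by
    refine ih (O \ C) (sdiff_ssubset hCO ⟨q, mem_image.2 ⟨0, mem_range.2 hLpos, by simp⟩⟩) ?_
      (fun y hy => hfree y (mem_sdiff.1 hy).1)
    intro y hy
    obtain ⟨hyO, hyC⟩ := mem_sdiff.1 hy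
    refine mem_sdiff.2 ⟨hinv y hyO, fun h => hyC ?_⟩
    obtain ⟨i, _, hi⟩ := mem_image.1 h
    have : w ^ (i + L - 1) • q = y := by
      apply smul_left_cancel w
      rw [← mul_smul, ← pow_succ', Nat.sub_add_cancel (by omega), pow_add, mul_smul,
        pow_smul_eq_iff_minimalPeriod_dvd.2 dvd_rfl]
      exact hi
    rw [← this, ← MulAction.pow_smul_mod_minimalPeriod]
    exact mem_image.2 ⟨_, mem_range.2 (Nat.mod_lt _ hLpos), rfl⟩
  rw [← prod_sdiff hCO, h1, h2, one_mul]

/-- elements with trivial norm generating a `p`-group only see its fixed points -/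
lemma prod_eq_prod_fixed {α : Type*} [MulAction G α] [Fintype α] [Finite G] (f : α → A) {B : Subgroup G}
    (hB : IsPGroup p B) {Ω : Set G} (hΩ : B = Subgroup.closure Ω)
    (hnorm : ∀ w ∈ Ω, ∀ q : α, ∏ i ∈ range p, f (w ^ i • q) = 1)
    [DecidablePred fun q : α => q ∈ fixedPoints B α] :
    ∏ q, f q = ∏ q with q ∈ fixedPoints B α, f q := by
  classical
  rw [← prod_filter_mul_prod_filter_not univ (fun q => q ∈ fixedPoints B α)]
  suffices ∏ q with ¬ q ∈ fixedPoints B α, f q = 1 by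
    rw [this, mul_one]
  suffices H : ∀ O : Finset α, (∀ b : B, ∀ q ∈ O, b • q ∈ O) → (∀ q ∈ O, q ∉ fixedPoints B α) →
      ∏ q ∈ O, f q = 1 by
    refine H _ (fun b q hq => ?_) (fun q hq => (mem_filter.1 hq).2)
    refine mem_filter.2 ⟨mem_univ _, fun h => (mem_filter.1 hq).2 ?_⟩
    intro c
    have h1 := h (b * c * b⁻¹)
    rw [mul_smul, mul_smul, inv_smul_smul] at h1
    exact smul_left_cancel b h1
  intro O
  induction O using Finset.strongInduction with
  | _ O ih =>
  intro hinv hfix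
  rcases O.eq_empty_or_nonempty with rfl | ⟨q, hq⟩
  · simp
  set C := O.filter (fun y => y ∈ orbit B q) with hC
  have hCO : C ⊆ O := filter_subset _ _
  have hqC : q ∈ C := mem_filter.2 ⟨hq, mem_orbit_self q⟩
  have hst : stabilizer B q ≠ ⊤ := fun h => hfix q hq fun b => (h ▸ Subgroup.mem_top b : b ∈ stabilizer B q)
  obtain ⟨M, hM, hle⟩ := (eq_top_or_exists_le_coatom (stabilizer B q)).resolve_left hst
  have : Group.IsNilpotent B := hB.isNilpotent
  have hMn : M.Normal := Subgroup.NormalizerCondition.normal_of_coatom M Group.normalizerCondition_of_isNilpotent hM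
  obtain ⟨w, hwΩ, hwM⟩ : ∃ w, ∃ h : w ∈ Ω, (⟨w, hΩ ▸ Subgroup.subset_closure h⟩ : B) ∉ M := by
    by_contra h
    push Not at h
    refine hM.1 (eq_top_iff.2 fun b _ => ?_)
    have : (b : G) ∈ M.map B.subtype := by
      have hle : Subgroup.closure Ω ≤ M.map B.subtype :=
        (Subgroup.closure_le _).2 fun w hw => ⟨_, h w hw, rfl⟩
      exact hle (hΩ ▸ b.2)
    obtain ⟨c, hc, hcb⟩ := this
    rwa [← Subtype.ext (a1 := c) (a2 := b) hcb]
  have hwB : w ∈ B := hΩ ▸ Subgroup.subset_closure hwΩ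
  have h1 : ∏ y ∈ C, f y = 1 := by
    obtain ⟨k, hk⟩ := hB ⟨w, hwB⟩
    refine prod_eq_one_of_free (G := G) f ⟨k, by simpa using congrArg Subtype.val hk⟩ (hnorm w hwΩ) C
      (fun y hy => ?_) (fun y hy he => hwM ?_)
    · obtain ⟨hyO, c, rfl⟩ := mem_filter.1 hy
      exact mem_filter.2 ⟨hinv ⟨w, hwB⟩ _ hyO, ⟨w, hwB⟩ * c, mul_smul _ _ _⟩
    · obtain ⟨hyO, c, rfl⟩ := mem_filter.1 hy
      have h2 : c⁻¹ * ⟨w, hwB⟩ * c ∈ stabilizer B q := by
        rw [mem_stabilizer_iff, mul_smul, mul_smul, inv_smul_eq_iff]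
        exact he
      have := hMn.conj_mem _ (hle h2) c
      simpa [mul_assoc] using this
  have h2 : ∏ y ∈ O \ C, f y = 1 := by
    refine ih (O \ C) (sdiff_ssubset hCO ⟨q, hqC⟩) (fun b y hy => ?_) fun y hy => hfix y (mem_sdiff.1 hy).1
    obtain ⟨hyO, hyC⟩ := mem_sdiff.1 hy
    refine mem_sdiff.2 ⟨hinv b y hyO, fun h => hyC (mem_filter.2 ⟨hyO, ?_⟩)⟩
    obtain ⟨-, c, hc⟩ := mem_filter.1 h
    exact ⟨b⁻¹ * c, by simp only [mul_smul]; rw [inv_smul_eq_iff]; exact hc⟩
  rw [← prod_sdiff hCO, h1, h2, one_mul]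

/-- if a weakly closed subgroup generated by elements with trivial norms has normalizer acting trivially
on `R`, then an element of `R` inside the derived group dies in the abelian quotient of the Sylow subgroup -/
theorem map_eq_one_of_norms [Finite G] (S : Sylow p G) (φ : (S : Subgroup G) →* A) {R : Subgroup G} [R.Normal]
    (hR : R ≤ (S : Subgroup G)) {Ω : Set G} (hΩS : Ω ⊆ ((S : Subgroup G) : Set G))
    (hweak : ∀ g : G, cj g (Subgroup.closure Ω) ≤ (S : Subgroup G) →
      g ∈ Subgroup.normalizer ((Subgroup.closure Ω : Subgroup G) : Set G))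
    (htriv : ∀ n ∈ Subgroup.normalizer ((Subgroup.closure Ω : Subgroup G) : Set G), ∀ x y : R,
      (y : G) = n * x * n⁻¹ → φ ⟨x, hR x.2⟩ = φ ⟨y, hR y.2⟩)
    (hnorm : ∀ w ∈ Ω, ∀ x : R, ∃ z : R,
      (z : G) = ((List.range p).map fun i => (w ^ i)⁻¹ * (x : G) * w ^ i).prod ∧
        ∀ g : G, ∀ h : g⁻¹ * (z : G) * g ∈ (S : Subgroup G), φ ⟨g⁻¹ * z * g, h⟩ = 1)
    (x : R) (hx : (x : G) ∈ commutator G) : φ ⟨x, hR x.2⟩ = 1 := by
  classical
  set B := Subgroup.closure Ω with hB
  have hBS : B ≤ (S : Subgroup G) := (Subgroup.closure_le _).2 hΩS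
  have hBp : IsPGroup p B := S.2.to_le hBS
  let := Fintype.ofFinite (G ⧸ (S : Subgroup G))
  have hker : (x : G) ∈ φ.transfer.ker := Abelianization.commutator_subset_ker _ hx
  rw [MonoidHom.mem_ker, transfer_eq_prod_cosetHom φ hR, prod_eq_prod_fixed (fun q => cosetHom φ hR q x) hBp hB] at hker
  swap
  · intro w hw q
    obtain ⟨z, hz, hz1⟩ := hnorm w hw x
    let c : ℕ → R := fun i => ⟨(w ^ i)⁻¹ * (x : G) * w ^ i, by
      simpa using Subgroup.Normal.conj_mem ‹R.Normal› x x.2 (w ^ i)⁻¹⟩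
    have e : ∀ i ∈ range p, cosetHom φ hR (w ^ i • q) x = cosetHom φ hR q (c i) := fun i _ =>
      cosetHom_smul φ hR q (w ^ i) x (c i) rfl
    rw [prod_congr rfl e]
    have hzc : z = ((List.range p).map c).prod := by
      refine Subtype.ext ?_
      rw [hz, SubmonoidClass.coe_list_prod, List.map_map]
      rfl
    have : ∏ i ∈ range p, cosetHom φ hR q (c i) = cosetHom φ hR q z := by
      rw [hzc, map_list_prod, List.map_map, ← List.toFinset_range, List.prod_toFinset _ List.nodup_range]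
      rfl
    rw [this]
    exact hz1 q.out (hR (by simpa using Subgroup.Normal.conj_mem ‹R.Normal› z z.2 q.out⁻¹))
  have hfix : ∀ q ∈ fixedPoints B (G ⧸ (S : Subgroup G)), cosetHom φ hR q x = φ ⟨x, hR x.2⟩ := by
    intro q hq
    have hN : q.out⁻¹ ∈ Subgroup.normalizer (B : Set G) := by
      refine hweak _ (cj_le_iff.2 fun b hb => ?_)
      have h1 : (b : G) • q = q := hq ⟨b, hb⟩
      rw [← QuotientGroup.out_eq' q] at h1
      have := QuotientGroup.eq.1 (show (((b * q.out : G)) : G ⧸ (S : Subgroup G)) = (q.out : G) from h1)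
      have := inv_mem this
      simpa [mul_assoc] using this
    exact (htriv _ hN x ⟨q.out⁻¹ * x * q.out, by simpa using Subgroup.Normal.conj_mem ‹R.Normal› x x.2 q.out⁻¹⟩
      (by simp)).symm
  erw [prod_congr rfl (fun q hq => hfix q (mem_filter.1 hq).2), prod_const] at hker
  set N := (univ.filter fun q => q ∈ fixedPoints B (G ⧸ (S : Subgroup G))).card with hN
  have hNp : ¬ p ∣ N := by
    have h1 := hBp.card_modEq_card_fixedPoints (G ⧸ (S : Subgroup G))
    have h2 : Nat.card (fixedPoints B (G ⧸ (S : Subgroup G))) = N := by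
      rw [hN, Nat.card_eq_fintype_card, Fintype.card_subtype]
    rw [h2] at h1
    intro hd
    apply S.not_dvd_index
    rw [Subgroup.index]
    exact (h1.dvd_iff dvd_rfl).2 hd
  obtain ⟨j, hj⟩ := S.2 ⟨x, hR x.2⟩
  have h2 : φ ⟨x, hR x.2⟩ ^ p ^ j = 1 := by rw [← map_pow, hj, map_one]
  have hco : N.Coprime (p ^ j) :=
    ((Nat.Prime.coprime_iff_not_dvd Fact.out).2 hNp).symm.pow_right j
  exact orderOf_eq_one_iff.1 (Nat.eq_one_of_dvd_coprimes hco (orderOf_dvd_of_pow_eq_one hker) (orderOf_dvd_of_pow_eq_one h2))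

end Cfsg.Agent.Lib.FusionControl
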