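import Cfsg.Agent.Lib.FusionControl.ChiefAction
import Cfsg.Agent.Lib.FusionControl.TransferAction
import Mathlib.Algebra.Polynomial.Eval.Defs
import Mathlib.Algebra.Polynomial.Degree.Defs
import Mathlib.Algebra.Ring.GeomSum
import Mathlib.RingTheory.Polynomial.Basic

/-! Degrees of unipotent actions on chief factors, and the transfer consequence. -/

set_option autoImplicit false

universe u

open scoped commutatorElement

namespace Cfsg.Agent.Lib.FusionControl

variable {G : Type u} [Group G]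

/-- the `k`-fold commutator with `w` maps `U` into `V` -/
def Deg (k : ℕ) (w : G) (U V : Subgroup G) : Prop :=
  ∀ x ∈ U, (fun y : G => ⁅w, y⁆)^[k] x ∈ V

lemma iterate_mem_iterCommutator {U : Subgroup G} {w x : G} (hx : x ∈ U) :
    ∀ k : ℕ, (fun y : G => ⁅w, y⁆)^[k] x ∈ Cfsg.iterCommutator U (Subgroup.zpowers w) k := by
  intro k
  induction k with
  | zero => exact hx
  | succ k ih =>
    rw [Function.iterate_succ_apply']
    show ⁅w, _⁆ ∈ ⁅Cfsg.iterCommutator U (Subgroup.zpowers w) k, Subgroup.zpowers w⁆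
    rw [Subgroup.commutator_comm]
    exact Subgroup.commutator_mem_commutator (Subgroup.mem_zpowers w) ih

lemma deg_of_iter {k : ℕ} {w : G} {U V : Subgroup G}
    (h : Cfsg.iterCommutator U (Subgroup.zpowers w) k ≤ V) : Deg k w U V :=
  fun _ hx => h (iterate_mem_iterCommutator hx k)

lemma iterate_conj (g w x : G) : ∀ k : ℕ,
    (fun y : G => ⁅g * w * g⁻¹, y⁆)^[k] (g * x * g⁻¹) = g * (fun y : G => ⁅w, y⁆)^[k] x * g⁻¹ := by
  intro k
  induction k with
  | zero => rfl
  | succ k ih =>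
    rw [Function.iterate_succ_apply', Function.iterate_succ_apply', ih]
    simp only [commutatorElement_def]; group

lemma Deg.conj {k : ℕ} {w : G} {U V : Subgroup G} [hU : U.Normal] [hV : V.Normal] (h : Deg k w U V) (g : G) :
    Deg k (g * w * g⁻¹) U V := by
  intro x hx
  have := hV.conj_mem _ (h (g⁻¹ * x * g⁻¹⁻¹) (hU.conj_mem x hx g⁻¹)) g
  rw [← iterate_conj] at this
  simpa [mul_assoc] using this

variable {p : ℕ} [hp : Fact p.Prime]

/-- a chief factor inside a normal `p`-subgroup is elementary abelian and central there -/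
lemma chief_facts [Finite G] {U V Q : Subgroup G} [hQn : Q.Normal] (hQ : IsPGroup p Q) (h : Cfsg.IsChiefFactor U V)
    (hUQ : U ≤ Q) : ⁅U, Q⁆ ≤ V ∧ (∀ a ∈ U, ∀ b ∈ U, ⁅a, b⁆ ∈ V) ∧ ∀ a ∈ U, a ^ p ∈ V := by
  obtain ⟨hVU, hUn, hVn, hmin⟩ := h
  set v := QuotientGroup.mk' V with hv
  have hvs : Function.Surjective v := QuotientGroup.mk'_surjective V
  set U1 := U.map v with hU1
  set Q1 := Q.map v with hQ1
  have hU1n : U1.Normal := hUn.map v hvs
  have hQ1n : Q1.Normal := hQn.map v hvs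
  have hU1Q1 : U1 ≤ Q1 := Subgroup.map_mono hUQ
  have hU1ne : U1 ≠ ⊥ := by
    rw [hU1, Ne, Subgroup.map_eq_bot_iff, QuotientGroup.ker_mk']
    exact not_le_of_gt hVU
  have hmin1 : ∀ N : Subgroup (G ⧸ V), N.Normal → N ≤ U1 → N ≠ ⊥ → N = U1 := by
    intro N hN hNU hne
    have h1 : N.comap v ≤ U := by
      refine (Subgroup.comap_mono hNU).trans ?_
      rw [hU1, Subgroup.comap_map_eq, QuotientGroup.ker_mk', sup_eq_left.2 hVU.le]
    have h2 : V ≤ N.comap v := fun x hx => by
      show v x ∈ N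
      rw [show v x = 1 from (QuotientGroup.eq_one_iff x).2 hx]; exact one_mem _
    rcases hmin _ (hN.comap v) h2 h1 with h | h
    · exact absurd (by rw [← Subgroup.map_comap_eq_self_of_surjective hvs N, h, hv, QuotientGroup.map_mk'_self]) hne
    · rw [← Subgroup.map_comap_eq_self_of_surjective hvs N, h]
  have hcentQ : U1 ≤ Subgroup.centralizer (Q1 : Set (G ⧸ V)) := by
    suffices U1 ⊓ Subgroup.centralizer (Q1 : Set (G ⧸ V)) = U1 from this ▸ inf_le_right
    refine hmin1 _ inferInstance inf_le_left ?_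
    have hnil : Group.IsNilpotent Q1 := (hQ.map v).isNilpotent
    have hne : U1.subgroupOf Q1 ≠ ⊥ := by
      intro h
      rw [Subgroup.subgroupOf_eq_bot] at h
      exact hU1ne (disjoint_self.1 (h.mono_right hU1Q1))
    intro hbot
    refine Cfsg.Agent.Lib.Solvable.inf_center_ne_bot (N := U1.subgroupOf Q1) hne ?_
    rw [eq_bot_iff]
    rintro z ⟨hz1, hz2⟩
    refine Subgroup.mem_bot.2 (Subtype.ext (Subgroup.mem_bot.1 (hbot ▸ ?_)))
    refine Subgroup.mem_inf.2 ⟨hz1, ?_⟩
    rw [Subgroup.mem_centralizer_iff]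
    intro q hq
    exact congrArg Subtype.val (Subgroup.mem_center_iff.1 hz2 ⟨q, hq⟩)
  have hone : ∀ a : G, v a = 1 → a ∈ V := fun a ha => (QuotientGroup.eq_one_iff a).1 ha
  have hUQV : ∀ a ∈ U, ∀ q ∈ Q, ⁅a, q⁆ ∈ V := by
    intro a ha q hq
    refine hone _ ?_
    rw [map_commutatorElement, commutatorElement_eq_one_iff_mul_comm]
    exact (Subgroup.mem_centralizer_iff.1 (hcentQ ⟨a, ha, rfl⟩) _ ⟨q, hq, rfl⟩).symm
  refine ⟨Subgroup.commutator_le.2 hUQV, fun a ha b hb => hUQV a ha b (hUQ hb), ?_⟩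
  have hcommU : ∀ a ∈ U1, ∀ b ∈ U1, a * b = b * a := fun a ha b hb =>
    Subgroup.mem_centralizer_iff.1 (hcentQ hb) a (hU1Q1 ha)
  let W : Subgroup (G ⧸ V) :=
    { carrier := {u | u ∈ U1 ∧ u ^ p = 1}
      one_mem' := ⟨one_mem _, one_pow _⟩
      mul_mem' := fun {a b} ha hb => ⟨mul_mem ha.1 hb.1, by
        rw [(show Commute a b from hcommU a ha.1 b hb.1).mul_pow, ha.2, hb.2, one_mul]⟩
      inv_mem' := fun {a} ha => ⟨inv_mem ha.1, by rw [inv_pow, ha.2, inv_one]⟩ }
  have hWn : W.Normal := ⟨fun u hu y => ⟨hU1n.conj_mem u hu.1 y, by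
    rw [conj_pow, hu.2, mul_one, mul_inv_cancel]⟩⟩
  have hW : W = U1 := by
    refine hmin1 W hWn (fun u hu => hu.1) ?_
    have hpd : p ∣ Nat.card U1 := by
      obtain ⟨e, he⟩ := ((hQ.map v).to_le hU1Q1).exists_card_eq
      rw [he]
      refine dvd_pow_self p fun h0 => hU1ne (Subgroup.card_eq_one.1 ?_)
      rw [he, h0, pow_zero]
    obtain ⟨x, hx⟩ := exists_prime_orderOf_dvd_card' p hpd
    intro hb
    have hxW : (x : G ⧸ V) ∈ W := ⟨x.2, by rw [← SubgroupClass.coe_pow, ← hx, pow_orderOf_eq_one]; rfl⟩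
    rw [hb, Subgroup.mem_bot] at hxW
    rw [show x = 1 from Subtype.ext hxW, orderOf_one] at hx
    exact (Fact.out : p.Prime).ne_one hx.symm
  intro a ha
  refine hone _ ?_
  rw [map_pow]
  exact (hW.ge (show v a ∈ U1 from ⟨a, ha, rfl⟩) : v a ∈ W).2

/-- in characteristic `p`, a unipotent element of degree less than `p` has zero norm -/
lemma sum_pow_eq_zero {E : Type*} [Ring E] (hpE : (p : E) = 0) {u : E} (hu : (u - 1) ^ (p - 1) = 0) :
    ∑ i ∈ Finset.range p, u ^ i = 0 := by
  obtain hE | hE := subsingleton_or_nontrivial E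
  · exact Subsingleton.elim _ _
  have : CharP E p := (CharP.charP_iff_prime_eq_zero hp.out).2 hpE
  set f := ZMod.castHom (dvd_refl p) E with hf
  have hfc : ∀ a : ZMod p, Commute (f a) u := fun a => by
    obtain ⟨n, rfl⟩ := ZMod.natCast_zmod_surjective a
    rw [map_natCast]; exact Nat.cast_commute n u
  let ev := Polynomial.eval₂RingHom' f u hfc
  have hX : ev Polynomial.X = u := Polynomial.eval₂_X f u
  have key : ∑ i ∈ Finset.range p, (Polynomial.X : Polynomial (ZMod p)) ^ i =
      (Polynomial.X - 1) ^ (p - 1) := by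
    refine mul_right_cancel₀ (b := (Polynomial.X - 1 : Polynomial (ZMod p))) ?_ ?_
    · simpa using Polynomial.X_sub_C_ne_zero (1 : ZMod p)
    · rw [geom_sum_mul, ← pow_succ, Nat.sub_add_cancel hp.out.one_le, sub_pow_char, one_pow]
  have := congrArg ev key
  simpa [map_sum, hX, hu] using this

lemma inv_sub_one_pow {E : Type*} [Ring E] {u v : E} (h1 : v * u = 1) (h2 : u * v = 1) {k : ℕ}
    (h : (u - 1) ^ k = 0) : (v - 1) ^ k = 0 := by
  have e : v - 1 = (-v) * (u - 1) := by rw [neg_mul, mul_sub, h1, mul_one, neg_sub]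
  have hc : Commute (-v) (u - 1) := by
    show _ * _ = _ * _
    rw [neg_mul, mul_neg, mul_sub, sub_mul, h1, h2, mul_one, one_mul]
  rw [e, hc.mul_pow, h, mul_zero]

/-- the norm of an element of degree less than `p` kills a chief factor -/
theorem norm_mem [Finite G] {U V Q : Subgroup G} [Q.Normal] (hQ : IsPGroup p Q) (h : Cfsg.IsChiefFactor U V)
    (hUQ : U ≤ Q) {w : G} (hw : Deg (p - 1) w U V) {x : G} (hx : x ∈ U) :
    ((List.range p).map fun i => (w ^ i)⁻¹ * x * w ^ i).prod ∈ V := by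
  obtain ⟨-, hab, hexp⟩ := chief_facts hQ h hUQ
  obtain ⟨hVU, hUn, hVn, -⟩ := h
  set v := QuotientGroup.mk' V with hv
  set U1 := U.map v with hU1
  have hU1n : U1.Normal := hUn.map v (QuotientGroup.mk'_surjective V)
  have hone : ∀ a : G, a ∈ V → v a = 1 := fun a ha => (QuotientGroup.eq_one_iff a).2 ha
  have hcommU : ∀ a ∈ U1, ∀ b ∈ U1, a * b = b * a := by
    rintro _ ⟨a, ha, rfl⟩ _ ⟨b, hb, rfl⟩
    have := hone _ (hab a ha b hb)
    rwa [map_commutatorElement, commutatorElement_eq_one_iff_mul_comm] at this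
  letI : CommGroup U1 := { (inferInstance : Group U1) with mul_comm := fun a b => Subtype.ext (hcommU a a.2 b b.2) }
  let Φ : G →* AddMonoid.End (Additive U1) := ((autToEnd U1).comp (MulAut.conjNormal (H := U1))).comp v
  let val : Additive U1 → G ⧸ V := fun a => ((Additive.toMul a : U1) : G ⧸ V)
  have val_inj : Function.Injective val := fun a b e => Additive.toMul.injective (Subtype.ext e)
  have hval : ∀ (y : G) (a : Additive U1), val (Φ y a) = v y * val a * (v y)⁻¹ :=
    fun y a => MulAut.conjNormal_apply (v y) (Additive.toMul a)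
  have hpE : ((p : ℕ) : AddMonoid.End (Additive U1)) = 0 := by
    refine AddMonoidHom.ext fun a => ?_
    refine (AddMonoid.End.natCast_apply p a).trans (val_inj ?_)
    show (((Additive.toMul (p • a)) : U1) : G ⧸ V) = _
    rw [toMul_nsmul, Subgroup.coe_pow]
    obtain ⟨b, hb, hbe⟩ := (Additive.toMul a).2
    rw [← hbe, ← map_pow]; exact hone _ (hexp b hb)
  have hit : ∀ (k : ℕ) (a : Additive U1) (b : G), v b = val a →
      v ((fun y : G => ⁅w, y⁆)^[k] b) = val (((Φ w - 1) ^ k) a) := by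
    intro k
    induction k with
    | zero => intro a b hb; exact hb
    | succ k ih =>
      intro a b hb
      rw [Function.iterate_succ_apply', pow_succ']
      show v ⁅w, _⁆ = val (Φ w (((Φ w - 1) ^ k) a) - ((Φ w - 1) ^ k) a)
      rw [map_commutatorElement, ih a b hb, commutatorElement_def]
      show _ = ((Additive.toMul (_ - _) : U1) : G ⧸ V)
      rw [toMul_sub, div_eq_mul_inv, Subgroup.coe_mul]
      exact (congrArg (· * _) (hval w _).symm)
  have hw0 : (Φ w - 1) ^ (p - 1) = 0 := by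
    refine DFunLike.ext _ _ fun a => val_inj ?_
    obtain ⟨b, hb, hbe⟩ := (Additive.toMul a).2
    refine (hit _ a b hbe).symm.trans ?_
    exact hone _ (hw b hb)
  have hw1 : (Φ w⁻¹ - 1) ^ (p - 1) = 0 :=
    inv_sub_one_pow (u := Φ w) (by rw [← map_mul, inv_mul_cancel, map_one])
      (by rw [← map_mul, mul_inv_cancel, map_one]) hw0
  obtain ⟨a, ha⟩ : ∃ a : Additive U1, val a = v x := ⟨Additive.ofMul ⟨v x, x, hx, rfl⟩, rfl⟩
  have hsum := congrArg (fun e : AddMonoid.End (Additive U1) => val (e a)) (sum_pow_eq_zero hpE hw1)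
  let valHom : Additive U1 →+ Additive (G ⧸ V) := MonoidHom.toAdditive U1.subtype
  have hlist : ∀ n : ℕ, val ((∑ i ∈ Finset.range n, Φ w⁻¹ ^ i : AddMonoid.End (Additive U1)) a) =
      ((List.range n).map fun i => val ((Φ w⁻¹ ^ i : AddMonoid.End (Additive U1)) a)).prod := by
    intro n
    induction n with
    | zero => rfl
    | succ n ih =>
      rw [Finset.sum_range_succ, List.range_succ, List.map_append, List.prod_append, ← ih,
        List.map_cons, List.map_nil, List.prod_cons, List.prod_nil, mul_one]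
      rfl
  have hrhs : val ((0 : AddMonoid.End (Additive U1)) a) = 1 := rfl
  rw [hlist, hrhs] at hsum
  refine (QuotientGroup.eq_one_iff _).1 ?_
  show v _ = 1
  rw [map_list_prod, List.map_map, ← hsum]
  refine congrArg List.prod (List.map_congr_left fun i _ => ?_)
  show v ((w ^ i)⁻¹ * x * w ^ i) = _
  rw [← map_pow, hval, ha, ← map_inv, ← map_mul, ← map_mul, inv_pow, inv_inv]

/-- `Q ∩ G' ≤ T` when a weakly closed subgroup generated by elements of small degree has a normalizer acting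
trivially on `Q` modulo `T` -/
theorem inf_commutator_le_of_deg [Finite G] (S : Sylow p G) {T Q : Subgroup G} [Q.Normal] (hQ : IsPGroup p Q)
    (hTS : T ≤ (S : Subgroup G)) (hST : ⁅(S : Subgroup G), (S : Subgroup G)⁆ ≤ T)
    {Ω : Set G} (hΩS : Ω ⊆ ((S : Subgroup G) : Set G))
    (hweak : ∀ g : G, cj g (Subgroup.closure Ω) ≤ (S : Subgroup G) →
      g ∈ Subgroup.normalizer ((Subgroup.closure Ω : Subgroup G) : Set G))
    (hN : ∀ n ∈ Subgroup.normalizer ((Subgroup.closure Ω : Subgroup G) : Set G), ∀ x ∈ Q, ⁅n, x⁆ ∈ T)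
    (hdeg : ∀ w ∈ Ω, ∀ U V : Subgroup G, Cfsg.IsChiefFactor U V → U ≤ Q → Deg (p - 1) w U V) :
    Q ⊓ commutator G ≤ T := by
  set T' := T.subgroupOf (S : Subgroup G) with hT'
  have hcom : commutator (S : Subgroup G) ≤ T' := fun s hs =>
    hST (Subgroup.map_subtype_commutator (S : Subgroup G) ▸ ⟨s, hs, rfl⟩)
  have : T'.Normal := ⟨fun a ha g => by
    have := mul_mem (hcom (Subgroup.commutator_mem_commutator (Subgroup.mem_top g) (Subgroup.mem_top a))) ha
    simpa [commutatorElement_def] using this⟩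
  letI : CommGroup (↥(S : Subgroup G) ⧸ T') :=
    { (inferInstance : Group (↥(S : Subgroup G) ⧸ T')) with
      mul_comm := fun a b => by
        induction a using QuotientGroup.induction_on with
        | H a =>
          induction b using QuotientGroup.induction_on with
          | H b =>
            rw [← QuotientGroup.mk_mul, ← QuotientGroup.mk_mul, QuotientGroup.eq]
            have := hcom (Subgroup.commutator_mem_commutator (Subgroup.mem_top b⁻¹) (Subgroup.mem_top a⁻¹))
            simpa [commutatorElement_def, mul_assoc] using this }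
  let φ : ↥(S : Subgroup G) →* ↥(S : Subgroup G) ⧸ T' := QuotientGroup.mk' T'
  have hQS : Q ≤ (S : Subgroup G) := (Cfsg.Agent.Lib.Cores.le_pCore inferInstance hQ).trans (pCore_le_S S)
  by_contra hne
  obtain ⟨R, ⟨hRn, hRQ, hRT⟩, hRmin⟩ := exists_minimal_of_wellFoundedLT
    (fun R : Subgroup G => R.Normal ∧ R ≤ Q ⊓ commutator G ∧ ¬ R ≤ T) ⟨_, inferInstance, le_rfl, hne⟩
  obtain ⟨Y, ⟨hYn, hYR⟩, hYmax⟩ := exists_maximal_of_wellFoundedGT
    (fun Y : Subgroup G => Y.Normal ∧ Y < R) ⟨⊥, inferInstance, bot_lt_iff_ne_bot.2 fun h => hRT (h ▸ bot_le)⟩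
  have hYT : Y ≤ T := by
    by_contra h
    exact hYR.not_ge (hRmin ⟨hYn, hYR.le.trans hRQ, h⟩ hYR.le)
  have hchief : Cfsg.IsChiefFactor R Y := ⟨hYR, hRn, hYn, fun N hN h1 h2 => by
    rcases h2.eq_or_lt with h | h
    · exact Or.inr h
    · exact Or.inl (le_antisymm (hYmax ⟨hN, h⟩ h1) h1)⟩
  have hRQ' : R ≤ Q := hRQ.trans inf_le_left
  refine hRT fun x hx => ?_
  have := map_eq_one_of_norms S φ (hRQ'.trans hQS) hΩS hweak ?_ ?_ ⟨x, hx⟩ (Subgroup.mem_inf.1 (hRQ hx)).2
  · exact (QuotientGroup.eq_one_iff (⟨x, hQS (hRQ' hx)⟩ : (S : Subgroup G))).1 this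
  · intro n hn a b hab
    refine (QuotientGroup.eq).2 (show _ ∈ T from ?_)
    have h1 := hN n hn a (hRQ' a.2)
    have h2 := hST (Subgroup.commutator_mem_commutator (inv_mem (hQS (hRQ' a.2))) (hTS h1))
    have h3 := mul_mem h2 h1
    rw [commutatorElement_def, commutatorElement_def, ← hab] at h3
    show (a : G)⁻¹ * b ∈ T
    convert h3 using 1
    group
  · intro w hw a
    have hz := norm_mem hQ hchief hRQ' (hdeg w hw R Y hchief hRQ') a.2
    refine ⟨⟨_, hYR.le hz⟩, rfl, fun g h => ?_⟩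
    refine (QuotientGroup.eq_one_iff _).2 (show _ ∈ T from hYT ?_)
    simpa using hYn.conj_mem _ hz g⁻¹

end Cfsg.Agent.Lib.FusionControl
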