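import Cfsg.Agent.Lib.FusionControl.Family
import Cfsg.Agent.Lib.Coprime.Basic
import Mathlib.GroupTheory.IsSubnormal

/-! Subnormal subgroups act completely reducibly on minimal normal abelian subgroups. -/

set_option autoImplicit false

namespace Cfsg.Agent.Lib.FusionControl

variable {G : Type*} [Group G] [Finite G]

/-- a minimal nontrivial `H`-invariant subgroup -/
def InvAtom (H W : Subgroup G) : Prop :=
  W ≠ ⊥ ∧ H ≤ Subgroup.normalizer (W : Set G) ∧
    ∀ W' ≤ W, H ≤ Subgroup.normalizer (W' : Set G) → W' = ⊥ ∨ W' = W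

/-- `U` is generated by minimal `H`-invariant subgroups -/
def SemiSimple (H U : Subgroup G) : Prop :=
  sSup {W : Subgroup G | W ≤ U ∧ InvAtom H W} = U

omit [Finite G] in
lemma le_normalizer_sSup {H : Subgroup G} {𝒦 : Set (Subgroup G)}
    (h : ∀ g ∈ H, ∀ W ∈ 𝒦, cj g W ≤ sSup 𝒦) [Finite G] : H ≤ Subgroup.normalizer ((sSup 𝒦 : Subgroup G) : Set G) := by
  intro g hg
  refine mem_normalizer_of_cj_le ?_
  rw [cj, Subgroup.map_le_iff_le_comap]
  exact sSup_le fun W hW => Subgroup.map_le_iff_le_comap.1 (h g hg W hW)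

lemma exists_invAtom {H U : Subgroup G} (hne : U ≠ ⊥) (hU : H ≤ Subgroup.normalizer (U : Set G)) :
    ∃ W ≤ U, InvAtom H W := by
  obtain ⟨W, ⟨hW1, hW2, hW3⟩, hmin⟩ := exists_minimal_of_wellFoundedLT
    (fun W : Subgroup G => W ≠ ⊥ ∧ H ≤ Subgroup.normalizer (W : Set G) ∧ W ≤ U) ⟨U, hne, hU, le_rfl⟩
  refine ⟨W, hW3, hW1, hW2, fun W' hW' hH => ?_⟩
  by_cases h : W' = ⊥
  · exact Or.inl h
  · exact Or.inr (le_antisymm hW' (hmin ⟨h, hH, hW'.trans hW3⟩ hW'))

/-- descend along a normal subgroup -/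
lemma semiSimple_of_normal {H K U : Subgroup G} (hHK : H ≤ K) (hn : (H.subgroupOf K).Normal)
    (h : SemiSimple K U) : SemiSimple H U := by
  refine le_antisymm (sSup_le fun W hW => hW.1) ?_
  conv_lhs => rw [← h]
  refine sSup_le ?_
  rintro W ⟨hWU, hW0, hKW, hWmin⟩
  obtain ⟨W0, hW0W, ha0⟩ := exists_invAtom hW0 (hHK.trans hKW)
  set 𝒦 : Set (Subgroup G) := {Y | Y ≤ W ∧ InvAtom H Y} with h𝒦
  have hKK : K ≤ Subgroup.normalizer (H : Set G) := (Subgroup.normal_subgroupOf_iff_le_normalizer hHK).1 hn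
  have hconj : ∀ k ∈ K, ∀ Y ∈ 𝒦, cj k Y ∈ 𝒦 := by
    rintro k hk Y ⟨hY, hY0, hHY, hYmin⟩
    refine ⟨(cj_le_cj hY).trans (mem_normalizer_iff_cj.1 (hKW hk)).le, ?_, ?_, fun Y' hY' hHY' => ?_⟩
    · rw [Ne, Subgroup.map_eq_bot_iff_of_injective _ (MulAut.conj k).injective]; exact hY0
    · rw [← cj_normalizer, ← mem_normalizer_iff_cj.1 (hKK hk)]; exact cj_le_cj hHY
    · have h1 : cj k⁻¹ Y' ≤ Y := by
        have := cj_le_cj (g := k⁻¹) hY'
        rwa [cj_inv_cj] at this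
      have h2 : H ≤ Subgroup.normalizer (cj k⁻¹ Y' : Set G) := by
        rw [← cj_normalizer, ← mem_normalizer_iff_cj.1 (hKK (inv_mem hk))]
        exact cj_le_cj hHY'
      rcases hYmin _ h1 h2 with h3 | h3
      · refine Or.inl ?_
        rw [← cj_cj_inv k Y', h3, cj, Subgroup.map_bot]
      · exact Or.inr (by rw [← h3, cj_cj_inv])
  have hle : K ≤ Subgroup.normalizer ((sSup 𝒦 : Subgroup G) : Set G) :=
    le_normalizer_sSup fun k hk Y hY => le_sSup (hconj k hk Y hY)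
  rcases hWmin _ (sSup_le fun Y hY => hY.1) hle with h1 | h1
  · exact absurd (le_bot_iff.1 (h1 ▸ le_sSup (show W0 ∈ 𝒦 from ⟨hW0W, ha0⟩))) ha0.1
  · exact h1.ge.trans (sSup_le_sSup fun Y hY => ⟨hY.1.trans hWU, hY.2⟩)

/-- Clifford: subnormal subgroups act completely reducibly on a minimal normal subgroup -/
theorem semiSimple_of_subnormal {H U : Subgroup G} (hU : U.Normal)
    (hmin : ∀ N : Subgroup G, N.Normal → N ≤ U → N = ⊥ ∨ N = U) (hH : H.IsSubnormal) : SemiSimple H U := by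
  induction hH with
  | top =>
    by_cases hne : U = ⊥
    · refine le_antisymm (sSup_le fun W hW => hW.1) ?_
      rw [hne]; exact bot_le
    refine le_antisymm (sSup_le fun W hW => hW.1) (le_sSup ⟨le_rfl, hne, ?_, fun W' h h' => ?_⟩)
    · rw [Subgroup.normalizer_eq_top]
    · exact hmin W' (Subgroup.normalizer_eq_top_iff.1 (top_le_iff.1 h')) h
  | step H K hle hK hn ih => exact semiSimple_of_normal hle hn ih

/-- complements of invariant subgroups -/
theorem SemiSimple.exists_complement {H U M : Subgroup G} (h : SemiSimple H U)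
    (hcomm : ∀ a ∈ U, ∀ b ∈ U, a * b = b * a) (hMU : M ≤ U) (hM : H ≤ Subgroup.normalizer (M : Set G)) :
    ∃ R ≤ U, H ≤ Subgroup.normalizer (R : Set G) ∧ R ⊓ M = ⊥ ∧ R ⊔ M = U := by
  obtain ⟨R, ⟨hRU, hHR, hRM⟩, hmax⟩ := exists_maximal_of_wellFoundedGT
    (fun R : Subgroup G => R ≤ U ∧ H ≤ Subgroup.normalizer (R : Set G) ∧ R ⊓ M = ⊥)
    ⟨⊥, bot_le, by rw [Subgroup.normalizer_eq_top]; exact le_top, bot_inf_eq _⟩
  have hnc : ∀ {A : Subgroup G}, A ≤ U → U ≤ Subgroup.normalizer (A : Set G) := fun {A} hA u hu => by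
    refine mem_normalizer_of_cj_le ?_
    rintro _ ⟨a, ha, rfl⟩
    show u * a * u⁻¹ ∈ A
    rwa [hcomm u hu a (hA ha), mul_inv_cancel_right]
  refine ⟨R, hRU, hHR, hRM, le_antisymm (sup_le hRU hMU) ?_⟩
  conv_lhs => rw [← h]
  refine sSup_le ?_
  rintro W ⟨hWU, hW0, hHW, hWmin⟩
  by_contra hW
  have hsupN : ∀ {A B : Subgroup G}, H ≤ Subgroup.normalizer (A : Set G) → H ≤ Subgroup.normalizer (B : Set G) →
      H ≤ Subgroup.normalizer ((A ⊔ B : Subgroup G) : Set G) := fun hA hB g hg => by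
    rw [mem_normalizer_iff_cj, cj, Subgroup.map_sup]
    exact congrArg₂ _ (mem_normalizer_iff_cj.1 (hA hg)) (mem_normalizer_iff_cj.1 (hB hg))
  have hinfN : H ≤ Subgroup.normalizer ((W ⊓ (R ⊔ M) : Subgroup G) : Set G) := fun g hg => by
    rw [mem_normalizer_iff_cj, cj_inf]
    exact congrArg₂ _ (mem_normalizer_iff_cj.1 (hHW hg)) (mem_normalizer_iff_cj.1 (hsupN hHR hM hg))
  have hWb : W ⊓ (R ⊔ M) = ⊥ := by
    rcases hWmin _ inf_le_left hinfN with h1 | h1
    · exact h1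
    · exact absurd (inf_eq_left.1 h1) hW
  have hdis : (R ⊔ W) ⊓ M = ⊥ := by
    rw [eq_bot_iff]
    intro x hx
    obtain ⟨hx1, hxM⟩ := Subgroup.mem_inf.1 hx
    obtain ⟨w, hw, r, hr, rfl⟩ := Cfsg.Agent.Lib.Coprime.exists_mul_of_mem_sup
      ((hWU.trans (hnc hRU))) (show x ∈ R ⊔ W from hx1)
    have h2 : r ∈ W ⊓ (R ⊔ M) := Subgroup.mem_inf.2 ⟨hr, by
      have := mul_mem (Subgroup.mem_sup_left (T := M) (inv_mem hw)) (Subgroup.mem_sup_right (S := R) hxM)
      simpa using this⟩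
    rw [hWb, Subgroup.mem_bot] at h2
    subst h2
    rw [mul_one] at hxM ⊢
    rw [← hRM]
    exact Subgroup.mem_inf.2 ⟨hw, hxM⟩
  refine hW (le_trans ?_ le_sup_left)
  exact le_sup_right.trans (hmax ⟨sup_le hRU hWU, hsupN hHR hHW, hdis⟩ le_sup_left)

end Cfsg.Agent.Lib.FusionControl
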