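import Cfsg.Agent.Lib.FusionControl.Family

/-! Towers and well-placed conjugates. -/

set_option autoImplicit false

namespace Cfsg.Agent.Lib.FusionControl

variable {G : Type*} [Group G] {p : ℕ} {W : Subgroup G → Subgroup G}

lemma normalizer_le_normalizer_functor (hW : Cfsg.IsConjugacyFunctor p W) {P : Subgroup G}
    (hP : IsPGroup p P) :
    Subgroup.normalizer (P : Set G) ≤ Subgroup.normalizer ((W P : Subgroup G) : Set G) := by
  intro x hx
  rw [mem_normalizer_iff_cj] at hx ⊢
  have := (hW P hP).2.2 x
  rw [show P.map (MulAut.conj x).toMonoidHom = P from hx] at this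
  exact this.symm

variable [Finite G] [Fact p.Prime]

lemma tower_le (hW : Cfsg.IsConjugacyFunctor p W) {S T : Subgroup G} (hS : IsPGroup p S) (hT : T ≤ S)
    (i : ℕ) : Cfsg.functorTower W S T i ≤ S := by
  cases i with
  | zero => exact hT
  | succ i => exact (hW _ (hS.to_le inf_le_left)).1.trans inf_le_left

lemma nS_tower_mono (hW : Cfsg.IsConjugacyFunctor p W) {S T : Subgroup G} (hS : IsPGroup p S) (i : ℕ) :
    nS S (Cfsg.functorTower W S T i) ≤ nS S (Cfsg.functorTower W S T (i + 1)) :=
  le_inf inf_le_left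
    (le_trans Subgroup.le_normalizer (normalizer_le_normalizer_functor hW (hS.to_le inf_le_left)))

lemma nS_tower_le (hW : Cfsg.IsConjugacyFunctor p W) {S T : Subgroup G} (hS : IsPGroup p S) {i j : ℕ}
    (h : i ≤ j) : nS S (Cfsg.functorTower W S T i) ≤ nS S (Cfsg.functorTower W S T j) := by
  induction h with
  | refl => exact le_rfl
  | step _ ih => exact ih.trans (nS_tower_mono hW hS _)

/-- the first `n` levels of the tower of `T` are extremal -/
def Upto (p : ℕ) (W : Subgroup G → Subgroup G) (S T : Subgroup G) (n : ℕ) : Prop :=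
  ∀ i < n, ¬ p ∣ (nS S (Cfsg.functorTower W S T i)).relIndex
    (Subgroup.normalizer ((Cfsg.functorTower W S T i : Subgroup G) : Set G))

lemma exists_upto (hW : Cfsg.IsConjugacyFunctor p W) (S : Sylow p G) (T : Subgroup G)
    (hT : T ≤ (S : Subgroup G)) (n : ℕ) :
    ∃ h : G, cj h (nS (S : Subgroup G) T) ≤ S ∧ Upto p W (S : Subgroup G) (cj h T) n := by
  induction n with
  | zero => exact ⟨1, by simp, fun i hi => absurd hi (Nat.not_lt_zero i)⟩
  | succ n ih =>
    obtain ⟨h, hh, hup⟩ := ih
    set T1 := cj h T with hT1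
    have hT1S : T1 ≤ (S : Subgroup G) := (cj_le_cj (le_nS hT)).trans hh
    set Tn := Cfsg.functorTower W (S : Subgroup G) T1 with hTn
    obtain ⟨g, hg, hgext⟩ := exists_extr_cj S (tower_le hW S.2 hT1S n)
    have hbase : ∀ i, i ≤ n → cj g (nS (S : Subgroup G) (Tn i)) ≤ S := fun i hi =>
      (cj_le_cj (nS_tower_le hW S.2 hi)).trans hg
    have key : ∀ i, i ≤ n → Cfsg.functorTower W (S : Subgroup G) (cj g T1) i = cj g (Tn i) := by
      intro i
      induction i with
      | zero => exact fun _ => rfl
      | succ i ih =>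
        intro hi
        have hi' : i ≤ n := by omega
        show W (nS (S : Subgroup G) (Cfsg.functorTower W (S : Subgroup G) (cj g T1) i)) = cj g (W (nS (S : Subgroup G) (Tn i)))
        rw [ih hi']
        refine Eq.trans ?_ ((hW _ (S.2.to_le inf_le_left : IsPGroup p (nS (S : Subgroup G) (Tn i)))).2.2 g)
        congr 1
        refine (Subgroup.eq_of_le_of_card_ge (cj_nS_le (hbase i hi')) ?_).symm
        obtain ⟨k, -, hk⟩ := exists_cj_le_of_not_dvd (inf_le_right : nS (S : Subgroup G) (Tn i) ≤ _)
          (S.2.to_le inf_le_left) (hup i (by omega))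
          (show cj g⁻¹ (nS (S : Subgroup G) (cj g (Tn i))) ≤ Subgroup.normalizer ((Tn i : Subgroup G) : Set G) by
            refine (cj_le_cj inf_le_right).trans ?_
            rw [cj_normalizer, cj_inv_cj])
          (isPGroup_cj (S.2.to_le inf_le_left))
        have := Subgroup.card_le_of_le hk
        rw [card_cj, card_cj] at this
        rwa [← card_cj g (nS (S : Subgroup G) (Tn i))] at this
    refine ⟨g * h, ?_, ?_⟩
    · rw [← cj_cj]
      refine (cj_le_cj ?_).trans (hbase 0 (Nat.zero_le n))
      exact cj_nS_le hh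
    · intro i hi
      rw [← cj_cj, key i (by omega)]
      rcases lt_or_eq_of_le (Nat.lt_succ_iff.1 hi) with hlt | rfl
      · rw [← cj_normalizer]
        intro hd
        apply hup i hlt
        rw [← relIndex_cj g (nS (S : Subgroup G) (Tn i))]
        exact hd.trans (Subgroup.relIndex_dvd_of_le_left _ (cj_nS_le (hbase i hlt.le)))
      · exact hgext.2

/-- every subgroup of `S` has a well-placed conjugate receiving its normalizer in `S` -/
theorem exists_wellPlaced (hW : Cfsg.IsConjugacyFunctor p W) (S : Sylow p G) (T : Subgroup G)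
    (hT : T ≤ (S : Subgroup G)) :
    ∃ h : G, cj h (nS (S : Subgroup G) T) ≤ S ∧
      Cfsg.IsWellPlaced p W (S : Subgroup G) (cj h T) := by
  obtain ⟨h, hh, hup⟩ := exists_upto hW S T hT (Nat.card (S : Subgroup G) + 2)
  refine ⟨h, hh, (cj_le_cj (le_nS hT)).trans hh, ?_⟩
  set U := fun i => nS (S : Subgroup G) (Cfsg.functorTower W (S : Subgroup G) (cj h T) i) with hU
  obtain ⟨j, hj, hjeq⟩ : ∃ j ≤ Nat.card (S : Subgroup G), U j = U (j + 1) := by
    by_contra hcon
    push Not at hcon
    have : ∀ j ≤ Nat.card (S : Subgroup G) + 1, j ≤ Nat.card (U j) := by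
      intro j
      induction j with
      | zero => exact fun _ => Nat.zero_le _
      | succ j ih =>
        intro hj
        have h1 := ih (by omega)
        have h2 : Nat.card (U j) < Nat.card (U (j + 1)) :=
          card_lt_of_lt (lt_of_le_of_ne (nS_tower_mono hW S.2 j) (hcon j (by omega)))
        omega
    have h1 := this (Nat.card (S : Subgroup G) + 1) le_rfl
    have h2 := Subgroup.card_le_of_le (inf_le_left : U (Nat.card (S : Subgroup G) + 1) ≤ (S : Subgroup G))
    simp only [hU, nS] at h1 h2
    omega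
  have hconst : ∀ i, Cfsg.functorTower W (S : Subgroup G) (cj h T) (j + 1 + i) =
      Cfsg.functorTower W (S : Subgroup G) (cj h T) (j + 1) := by
    intro i
    induction i with
    | zero => rfl
    | succ i ih =>
      show W (nS (S : Subgroup G) (Cfsg.functorTower W (S : Subgroup G) (cj h T) (j + 1 + i))) = W (U j)
      rw [ih, hjeq]
  intro i
  by_cases hi : i < Nat.card (S : Subgroup G) + 2
  · exact hup i hi
  · obtain ⟨d, rfl⟩ : ∃ d, i = j + 1 + d := ⟨i - (j + 1), by omega⟩
    rw [hconst]
    exact hup (j + 1) (by omega)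

omit [Finite G] [Fact p.Prime] in
lemma extr_of_wellPlaced {S T : Subgroup G} (h : Cfsg.IsWellPlaced p W S T) : Extr p S T := ⟨h.1, h.2 0⟩

end Cfsg.Agent.Lib.FusionControl
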