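import Cfsg.Agent.Lib.FusionControl.Engine
import Cfsg.Agent.Lib.FusionControl.WellPlaced
import Cfsg.Agent.Lib.Transfer.Focal

/-! Control of strong fusion and transfer by conjugacy functors: local to global. -/

set_option autoImplicit false

open scoped commutatorElement

namespace Cfsg.Agent.Lib.FusionControl

variable {G : Type*} [Group G]

/-- `g` agrees on `A` with a composite of conjugations by elements of `M`, staying in `T` -/
inductive Reach (T : Subgroup G) (M : Set G) : Set G → G → Prop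
  | step {A : Set G} {g x : G} (hx : x ∈ M) (hA : A ⊆ T) (hxA : cs x A ⊆ T)
      (he : ∀ a ∈ A, g * a * g⁻¹ = x * a * x⁻¹) : Reach T M A g
  | comp {A : Set G} {x y : G} : Reach T M A x → Reach T M (cs x A) y → Reach T M A (y * x)

lemma Reach.mono {T : Subgroup G} {M : Set G} {B : Set G} {g : G} (h : Reach T M B g) :
    ∀ {A : Set G}, A ⊆ B → Reach T M A g := by
  induction h with
  | step hx hA hxA he =>
    exact fun hAB => .step hx (hAB.trans hA) ((cs_subset hAB).trans hxA) (fun a ha => he a (hAB ha))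
  | comp _ _ ih1 ih2 => exact fun hAB => .comp (ih1 hAB) (ih2 (cs_subset hAB))

lemma cs_congr {A : Set G} {g x : G} (he : ∀ a ∈ A, g * a * g⁻¹ = x * a * x⁻¹) : cs g A = cs x A :=
  Set.image_congr he

lemma Reach.subset {T : Subgroup G} {M : Set G} {A : Set G} {g : G} (h : Reach T M A g) :
    A ⊆ (T : Set G) ∧ cs g A ⊆ (T : Set G) := by
  induction h with
  | step hx hA hxA he => exact ⟨hA, by rw [cs_congr he]; exact hxA⟩
  | comp _ _ ih1 ih2 => exact ⟨ih1.1, by rw [← cs_cs]; exact ih2.2⟩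

lemma Reach.congr {T : Subgroup G} {M : Set G} (h1 : (1 : G) ∈ M) {A : Set G} {g g' : G}
    (h : Reach T M A g) (he : ∀ a ∈ A, g' * a * g'⁻¹ = g * a * g⁻¹) : Reach T M A g' := by
  have h2 : Reach T M (cs g A) (g' * g⁻¹) := by
    refine .step (x := 1) h1 h.subset.2 (by rw [cs_one]; exact h.subset.2) ?_
    rintro _ ⟨a, ha, rfl⟩
    calc g' * g⁻¹ * (g * a * g⁻¹) * (g' * g⁻¹)⁻¹ = g' * a * g'⁻¹ := by group
      _ = g * a * g⁻¹ := he a ha
      _ = _ := by group
  simpa using Reach.comp h h2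

lemma Reach.exists_mem {T : Subgroup G} {M : Set G} (K : Subgroup G) (hM : M ⊆ K) {A : Set G} {g : G}
    (h : Reach T M A g) : ∃ x ∈ K, ∀ a ∈ A, x * a * x⁻¹ = g * a * g⁻¹ := by
  induction h with
  | step hx hA hxA he => exact ⟨_, hM hx, fun a ha => (he a ha).symm⟩
  | @comp A x y _ _ ih1 ih2 =>
    obtain ⟨u, hu, hue⟩ := ih1
    obtain ⟨v, hv, hve⟩ := ih2
    refine ⟨v * u, mul_mem hv hu, fun a ha => ?_⟩
    calc v * u * a * (v * u)⁻¹ = v * (u * a * u⁻¹) * v⁻¹ := by group
      _ = v * (x * a * x⁻¹) * v⁻¹ := by rw [hue a ha]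
      _ = y * (x * a * x⁻¹) * y⁻¹ := hve _ ⟨a, ha, rfl⟩
      _ = _ := by group

lemma Reach.map {T : Subgroup G} {M : Set G} {A : Set G} {g : G} (k : G) (h : Reach T M A g) :
    Reach (cj k T) (cs k M) (cs k A) (k * g * k⁻¹) := by
  induction h with
  | @step A g x hx hA hxA he =>
    refine .step (x := k * x * k⁻¹) ⟨x, hx, rfl⟩ ?_ ?_ ?_
    · exact cs_subset hA
    · rw [cs_cs, show k * x * k⁻¹ * k = k * x by group, ← cs_cs]; exact cs_subset hxA
    · rintro _ ⟨a, ha, rfl⟩
      calc k * g * k⁻¹ * (k * a * k⁻¹) * (k * g * k⁻¹)⁻¹ = k * (g * a * g⁻¹) * k⁻¹ := by group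
        _ = k * (x * a * x⁻¹) * k⁻¹ := by rw [he a ha]
        _ = _ := by group
  | @comp A x y _ _ ih1 ih2 =>
    have e : k * (y * x) * k⁻¹ = (k * y * k⁻¹) * (k * x * k⁻¹) := by group
    rw [e]
    refine .comp ih1 ?_
    rwa [cs_cs, show k * x * k⁻¹ * k = k * x by group, ← cs_cs]

/-- `M` controls the conjugations of `H` inside `T` -/
def LocalCtrl (H T : Subgroup G) (M : Set G) : Prop :=
  ∀ (A : Set G) (h : G), h ∈ H → A ⊆ T → cs h A ⊆ T → Reach T M A h

lemma LocalCtrl.map {H T : Subgroup G} {M : Set G} (k : G) (h : LocalCtrl H T M) :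
    LocalCtrl (cj k H) (cj k T) (cs k M) := by
  intro A x hx hA hxA
  rw [mem_cj] at hx
  have := (h (cs k⁻¹ A) (k⁻¹ * x * k) hx ?_ ?_).map k
  · rwa [cs_cs, mul_inv_cancel, cs_one, show k * (k⁻¹ * x * k) * k⁻¹ = x by group] at this
  · intro y hy
    have := cs_subset (g := k⁻¹) hA hy
    rwa [cs_subgroup, cj_inv_cj] at this
  · rw [cs_cs, show k⁻¹ * x * k * k⁻¹ = k⁻¹ * x by group, ← cs_cs]
    intro y hy
    have := cs_subset (g := k⁻¹) hxA hy
    rwa [cs_subgroup, cj_inv_cj] at this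

/-- the elements allowed in one step by a set of functors inside `H`, for the Sylow subgroup `T` -/
def stepSet (𝓦 : Set (Subgroup G → Subgroup G)) (H T : Subgroup G) : Set G :=
  {x | x = 1 ∨ ∃ W ∈ 𝓦, x ∈ H ⊓ Subgroup.normalizer ((W T : Subgroup G) : Set G)}

lemma stepSet_map {p : ℕ} {𝓦 : Set (Subgroup G → Subgroup G)} (h𝓦 : ∀ W ∈ 𝓦, Cfsg.IsConjugacyFunctor p W)
    {H T : Subgroup G} (hT : IsPGroup p T) (k : G) :
    cs k (stepSet 𝓦 H T) ⊆ stepSet 𝓦 (cj k H) (cj k T) := by
  rintro _ ⟨x, hx, rfl⟩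
  rcases hx with rfl | ⟨W, hW, hx⟩
  · left; group
  · right
    refine ⟨W, hW, ?_⟩
    have := conj_mem_cj (g := k) hx
    rw [cj_inf, cj_normalizer] at this
    have e : W (cj k T) = cj k (W T) := (h𝓦 W hW T hT).2.2 k
    rw [e]; exact this

lemma Reach.mono_steps {T : Subgroup G} {M M' : Set G} (hM : M ⊆ M') {A : Set G} {g : G}
    (h : Reach T M A g) : Reach T M' A g := by
  induction h with
  | step hx hA hxA he => exact .step (hM hx) hA hxA he
  | comp _ _ ih1 ih2 => exact .comp ih1 ih2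

/-- `c` moves to `d` by one step -/
def StepRel (T : Subgroup G) (M : Set G) (A : Set G) (c d : G) : Prop :=
  d * c⁻¹ ∈ M ∧ cs d A ⊆ T

lemma Reach.exists_rel {T : Subgroup G} {M : Set G} {A : Set G} {g : G} (h : Reach T M A g) :
    ∃ d, Relation.ReflTransGen (StepRel T M A) 1 d ∧ ∀ a ∈ A, d * a * d⁻¹ = g * a * g⁻¹ := by
  induction h with
  | @step A g x hx hA hxA he =>
    exact ⟨x, .single ⟨by simpa using hx, hxA⟩, fun a ha => (he a ha).symm⟩
  | @comp A x y _ _ ih1 ih2 =>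
    obtain ⟨u, hu, hue⟩ := ih1
    obtain ⟨v, hv, hve⟩ := ih2
    refine ⟨v * u, hu.trans ?_, fun a ha => ?_⟩
    · have key : ∀ d, Relation.ReflTransGen (StepRel T M (cs x A)) 1 d →
          Relation.ReflTransGen (StepRel T M A) u (d * u) := by
        intro d hd
        induction hd with
        | refl => rw [one_mul]
        | @tail b c _ hbc ih =>
          refine ih.tail ⟨?_, ?_⟩
          · rw [show c * u * (b * u)⁻¹ = c * b⁻¹ by group]; exact hbc.1
          · rw [← cs_cs, cs_congr hue]; exact hbc.2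
      exact key v hv
    · calc v * u * a * (v * u)⁻¹ = v * (u * a * u⁻¹) * v⁻¹ := by group
        _ = v * (x * a * x⁻¹) * v⁻¹ := by rw [hue a ha]
        _ = y * (x * a * x⁻¹) * y⁻¹ := hve _ ⟨a, ha, rfl⟩
        _ = _ := by group

theorem family_iff {p : ℕ} {𝓦 : Set (Subgroup G → Subgroup G)} {H : Subgroup G} :
    Cfsg.FamilyControlsStrongFusionIn p 𝓦 H ↔
      ∃ T : Subgroup G, T ≤ H ∧ IsPGroup p ↥T ∧ ¬ p ∣ T.relIndex H ∧ LocalCtrl H T (stepSet 𝓦 H T) := by
  constructor
  · rintro ⟨T, h1, h2, h3, h⟩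
    refine ⟨T, h1, h2, h3, fun A g hg hA hgA => ?_⟩
    obtain ⟨n, c, hc0, hcs, hcT, hce⟩ := h A g hg hA hgA
    have : ∀ i : Fin (n + 1), Reach T (stepSet 𝓦 H T) A (c i) := by
      intro i
      induction i using Fin.induction with
      | zero => rw [hc0]; exact .step (x := 1) (Or.inl rfl) hA (by rw [cs_one]; exact hA) (fun a _ => rfl)
      | succ i ih =>
        have h2 : Reach T (stepSet 𝓦 H T) (cs (c i.castSucc) A) (c i.succ * (c i.castSucc)⁻¹) := by
          refine .step (Or.inr (hcs i)) (hcT i.castSucc) ?_ (fun a _ => rfl)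
          rw [cs_cs, inv_mul_cancel_right]; exact hcT i.succ
        simpa using Reach.comp ih h2
    refine (this (Fin.last n)).congr (g' := g) (show (1 : G) ∈ stepSet 𝓦 H T from Or.inl rfl) ?_
    intro a ha
    exact (hce a ha).symm
  · rintro ⟨T, h1, h2, h3, h⟩
    refine ⟨T, h1, h2, h3, fun A g hg hA hgA => ?_⟩
    obtain ⟨d, hd, hde⟩ := (h A g hg hA hgA).exists_rel
    have key : ∃ (n : ℕ) (c : Fin (n + 1) → G), c 0 = 1 ∧
        (∀ i : Fin n, ∃ W ∈ 𝓦, c i.succ * (c i.castSucc)⁻¹ ∈ H ⊓ Subgroup.normalizer ((W T : Subgroup G) : Set G)) ∧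
        (∀ i : Fin (n + 1), cs (c i) A ⊆ T) ∧ c (Fin.last n) = d := by
      clear hde
      induction hd with
      | refl => exact ⟨0, fun _ => 1, rfl, fun i => i.elim0, fun i => by rw [cs_one]; exact hA, rfl⟩
      | @tail b e _ hbe ih =>
        obtain ⟨n, c, hc0, hcs, hcT, hcl⟩ := ih
        rcases hbe.1 with h1 | hW
        · exact ⟨n, c, hc0, hcs, hcT, hcl.trans (mul_inv_eq_one.1 h1).symm⟩
        · refine ⟨n + 1, Fin.snoc c e, ?_, ?_, ?_, Fin.snoc_last _ _⟩
          · rw [← Fin.castSucc_zero, Fin.snoc_castSucc, hc0]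
          · intro i
            induction i using Fin.lastCases with
            | last => rw [Fin.succ_last, Fin.snoc_last, Fin.snoc_castSucc, hcl]; exact hW
            | cast j => rw [← Fin.castSucc_succ, Fin.snoc_castSucc, Fin.snoc_castSucc]; exact hcs j
          · intro i
            induction i using Fin.lastCases with
            | last => rw [Fin.snoc_last]; exact hbe.2
            | cast j => rw [Fin.snoc_castSucc]; exact hcT j
    obtain ⟨n, c, hc0, hcs, hcT, hcl⟩ := key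
    exact ⟨n, c, hc0, hcs, hcT, fun a ha => by rw [hcl]; exact hde a ha⟩

theorem single_iff {p : ℕ} {W : Subgroup G → Subgroup G} {H : Subgroup G} :
    Cfsg.ControlsStrongFusionIn p W H ↔ Cfsg.FamilyControlsStrongFusionIn p {W} H := by
  rw [family_iff]
  constructor
  · rintro ⟨T, h1, h2, h3, h⟩
    refine ⟨T, h1, h2, h3, fun A g hg hA hgA => ?_⟩
    obtain ⟨x, hx, hxe⟩ := h A g hg hA hgA
    refine .step (Or.inr ⟨W, rfl, hx⟩) hA ?_ (fun a ha => (hxe a ha).symm)
    rw [cs_congr hxe]; exact hgA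
  · rintro ⟨T, h1, h2, h3, h⟩
    refine ⟨T, h1, h2, h3, fun A g hg hA hgA => ?_⟩
    refine (h A g hg hA hgA).exists_mem (H ⊓ Subgroup.normalizer ((W T : Subgroup G) : Set G)) ?_
    rintro x (rfl | ⟨W', rfl, hx⟩)
    · exact one_mem _
    · exact hx

variable [Finite G] {p : ℕ} [Fact p.Prime]

/-- the chosen Sylow subgroup in the definition does not matter -/
theorem localCtrl_of_family {𝓦 : Set (Subgroup G → Subgroup G)} (h𝓦 : ∀ W ∈ 𝓦, Cfsg.IsConjugacyFunctor p W)
    {H : Subgroup G} (h : Cfsg.FamilyControlsStrongFusionIn p 𝓦 H) {T' : Subgroup G} (h1' : T' ≤ H)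
    (h2' : IsPGroup p T') (h3' : ¬ p ∣ T'.relIndex H) : LocalCtrl H T' (stepSet 𝓦 H T') := by
  obtain ⟨T, h1, h2, h3, h⟩ := family_iff.1 h
  obtain ⟨k, hk, hle⟩ := exists_cj_le_of_not_dvd h1' h2' h3' h1 h2
  have he : cj k T = T' := Subgroup.eq_of_le_of_card_ge hle
    (by rw [card_cj, card_eq_of_not_dvd h1 h2 h3 h1' h2' h3'])
  have hH : cj k H = H := mem_normalizer_iff_cj.1 (Subgroup.le_normalizer hk)
  have := h.map k
  rw [hH, he] at this
  intro A g hg hA hgA
  have h' := stepSet_map h𝓦 h2 k (H := H)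
  rw [hH, he] at h'
  exact (this A g hg hA hgA).mono_steps h'

lemma sylow_relIndex_top (S : Sylow p G) : ¬ p ∣ (S : Subgroup G).relIndex ⊤ := by
  rw [Subgroup.relIndex_top_right]; exact S.not_dvd_index

omit [Finite G] [Fact p.Prime] in
lemma reach_trivial {T : Subgroup G} {M : Set G} (h1 : (1 : G) ∈ M) {A : Set G} {g : G}
    (hA : A ⊆ ((⊥ : Subgroup G) : Set G)) : Reach T M A g := by
  have ha : ∀ a ∈ A, a = 1 := fun a ha => Subgroup.mem_bot.1 (hA ha)
  refine .step (x := 1) h1 (fun a h => by rw [ha a h]; exact one_mem _) ?_ (fun a h => by rw [ha a h]; group)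
  rintro _ ⟨a, h, rfl⟩
  show _ ∈ T
  rw [ha a h]; simp

/-- local control in normalizers of good subgroups gives control in `G` -/
theorem strongFusion_local_global (S : Sylow p G) {𝓦 : Set (Subgroup G → Subgroup G)}
    (h𝓦 : ∀ W ∈ 𝓦, Cfsg.IsConjugacyFunctor p W) (Good : Subgroup G → Prop)
    (hext : ∀ U, Good U → Extr p (S : Subgroup G) U)
    (hgood : ∀ U ≤ (S : Subgroup G), ∃ h, cj h (nS (S : Subgroup G) U) ≤ S ∧ Good (cj h U))
    (hloc : ∀ U, Good U → U ≠ ⊥ →
      Cfsg.FamilyControlsStrongFusionIn p 𝓦 (Subgroup.normalizer (U : Set G))) :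
    Cfsg.FamilyControlsStrongFusionIn p 𝓦 ⊤ := by
  rw [family_iff]
  refine ⟨S, le_top, S.2, sylow_relIndex_top S, fun A g _ hA hgA => ?_⟩
  set M := stepSet 𝓦 ⊤ (S : Subgroup G) with hM
  have hM1 : (1 : G) ∈ M := Or.inl rfl
  have hlocS : ∀ x ∈ Subgroup.normalizer ((S : Subgroup G) : Set G),
      Reach (S : Subgroup G) M ((S : Subgroup G) : Set G) x := by
    intro x hx
    by_cases hS1 : (S : Subgroup G) = ⊥
    · exact reach_trivial hM1 (by rw [hS1])
    · obtain ⟨h, hh, hg⟩ := hgood (S : Subgroup G) le_rfl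
      rw [nS_self] at hh
      have hhS : cj h (S : Subgroup G) = S := Subgroup.eq_of_le_of_card_ge hh (card_cj h _).ge
      rw [hhS] at hg
      have hl := localCtrl_of_family h𝓦 (hloc _ hg hS1) Subgroup.le_normalizer S.2
        (by have := (extr_self S).2; rwa [nS_self] at this)
      have := hl ((S : Subgroup G) : Set G) x hx subset_rfl (by
        rw [cs_subgroup, mem_normalizer_iff_cj.1 hx])
      refine this.mono_steps ?_
      rintro y (rfl | ⟨W, hW, hy⟩)
      · exact hM1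
      · exact Or.inr ⟨W, hW, Subgroup.mem_top y, hy.2⟩
  refine engine S (Reach (S : Subgroup G) M) (fun U => U ≠ ⊥) (fun U => Good U ∧ U ≠ ⊥)
    (fun hAB h => h.mono hAB) (fun h1 h2 => .comp h1 h2) hlocS ?_ ?_ ?_ A g hA hgA
  · intro R g hR hgR hE
    have hch := chain_of_extr S {E | E ≤ (S : Subgroup G)} (fun T hT => by
      obtain ⟨k, _, hk⟩ := exists_extr_cj S hT
      exact ⟨_, hk.1, k, rfl, hk⟩) R g hR hgR
    suffices key : ∀ (A : Set G) (g : G), Chain {E | E ≤ (S : Subgroup G)} A g →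
        ∀ R' : Subgroup G, (R' : Set G) = A → Nat.card R' = Nat.card R → Reach (S : Subgroup G) M A g from
      key _ g hch R rfl rfl
    intro A g h
    induction h with
    | @step A x T hT hA hx =>
      intro R' hR' hc
      by_cases hTb : T = ⊥
      · subst hTb; exact reach_trivial hM1 hA
      · refine (hE T hT hTb ?_ x hx).mono hA
        rw [← hc]
        exact Subgroup.card_le_of_le (fun r hr => hA (hR' ▸ hr))
    | @comp A x y _ _ ih1 ih2 =>
      intro R' hR' hc
      exact .comp (ih1 R' hR' hc) (ih2 (cj x R') (by rw [← hR']; rfl) (by rw [card_cj]; exact hc))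
  · intro U hU hne
    obtain ⟨h, hh, hg⟩ := hgood U hU
    refine ⟨h, hh, hg, fun hb => hne ?_⟩
    rw [← cj_inv_cj h U, hb, cj, Subgroup.map_bot]
  · rintro U hUS ⟨hg, hne⟩ IH _ x hx
    obtain ⟨T, hT⟩ : ∃ T, T = nS (S : Subgroup G) U := ⟨_, rfl⟩
    rw [← hT] at IH
    have hTS' : T ≤ (S : Subgroup G) := hT ▸ inf_le_left
    have hTp : IsPGroup p T := S.2.to_le hTS'
    have hl := localCtrl_of_family h𝓦 (hloc U hg hne) (hT ▸ inf_le_right : T ≤ Subgroup.normalizer (U : Set G)) hTp (hT ▸ (hext U hg).2)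
    have h0 := hl (movSet (S : Subgroup G) U x) x hx (fun b hb => hT ▸ hb.1)
      (by rintro _ ⟨b, hb, rfl⟩; exact hT ▸ hb.2)
    have hTne : T ≠ ⊥ := fun h => hne (le_bot_iff.1 (h ▸ hT ▸ le_nS hUS))
    generalize hB : movSet (S : Subgroup G) U x = B at h0
    clear hB hx
    induction h0 with
    | @step A g y hy hA hyA he =>
      have hAS : A ⊆ ((S : Subgroup G) : Set G) := fun a ha => hTS' (hA ha)
      have hy' : Reach (S : Subgroup G) M A y := by
        rcases hy with rfl | ⟨W, hW, hy⟩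
        · exact .step hM1 hAS (by rw [cs_one]; exact hAS) (fun a _ => rfl)
        · by_cases hTS : T = (S : Subgroup G)
          · rw [hTS] at hy hyA
            exact .step (Or.inr ⟨W, hW, Subgroup.mem_top y, hy.2⟩) hAS hyA (fun a _ => rfl)
          · obtain ⟨hle, hne', -⟩ := h𝓦 W hW T hTp
            have h1 : T < nS (S : Subgroup G) T := lt_nS S.2 (lt_of_le_of_ne hTS' hTS)
            have h2 : nS (S : Subgroup G) T ≤ nS (S : Subgroup G) (W T) :=
              inf_le_inf_left _ (normalizer_le_normalizer_functor (h𝓦 W hW) hTp)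
            have h3 : T ≤ nS (S : Subgroup G) (W T) := h1.le.trans h2
            exact (IH (W T) (hle.trans hTS') (Or.inl (hne' hTne))
              (lt_of_lt_of_le (card_lt_of_lt h1) (Subgroup.card_le_of_le h2)) y hy.2).mono
              (fun a ha => ⟨h3 (hA ha), h3 (hyA ⟨a, ha, rfl⟩)⟩)
      exact hy'.congr hM1 he
    | comp _ _ ih1 ih2 => exact .comp ih1 ih2

end Cfsg.Agent.Lib.FusionControl
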