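import Mathlib
import Cfsg.Prelude.Def_PLocal
import Cfsg.Agent.Lib.Cores.PCore
import Cfsg.Agent.Lib.Coprime.PxQ
import Cfsg.Agent.Lib.CoprimeGen.Abelian

/-!
Best offenders in a group `H` acting faithfully on `V` with `C_H(O_{p'}(H)) ≤ O_{p'}(H)`.
-/

set_option autoImplicit false

open scoped IsMulCommutative commutatorElement

namespace Cfsg.Agent.Lib.FusionControl.CoprimeOffender

universe u

variable {G : Type u} [Group G] [Finite G] {p : ℕ}

/-- The hypotheses on `V` and `H`. -/
structure Ctx (p : ℕ) (V H : Subgroup G) : Prop where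
  elem : Cfsg.IsElementaryAbelian p V
  norm : H ≤ Subgroup.normalizer (V : Set G)
  faith : H ⊓ Subgroup.centralizer (V : Set G) = ⊥
  self : Subgroup.centralizer (Cfsg.pPrimeCore p ↥H : Set ↥H) ≤ Cfsg.pPrimeCore p ↥H

/-- `|B| |C_V(B)|` -/
noncomputable def fv (V B : Subgroup G) : ℕ :=
  Nat.card B * Nat.card ↥(V ⊓ Subgroup.centralizer (B : Set G))

variable {V H : Subgroup G}

theorem fv_bot : fv V (⊥ : Subgroup G) = Nat.card V := by
  have : V ⊓ Subgroup.centralizer ((⊥ : Subgroup G) : Set G) = V := by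
    refine inf_eq_left.mpr fun x _ => Subgroup.mem_centralizer_iff.mpr fun y hy => ?_
    rw [Subgroup.mem_bot.mp hy, one_mul, mul_one]
  rw [fv, this, Subgroup.card_bot, one_mul]

theorem Ctx.eq_one (hc : Ctx p V H) {x : G} (hx : x ∈ H) (hv : x ∈ Subgroup.centralizer (V : Set G)) :
    x = 1 := by
  have : x ∈ (⊥ : Subgroup G) := hc.faith ▸ (⟨hx, hv⟩ : x ∈ H ⊓ Subgroup.centralizer (V : Set G))
  exact Subgroup.mem_bot.mp this

theorem Ctx.isElementaryAbelian (hc : Ctx p V H) {A : Subgroup G} (hAH : A ≤ H)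
    (h1 : ⁅A, A⁆ ≤ Subgroup.centralizer (V : Set G))
    (h2 : ∀ a ∈ A, a ^ p ∈ Subgroup.centralizer (V : Set G)) :
    Cfsg.IsElementaryAbelian p A := by
  refine ⟨⟨⟨fun a b => Subtype.ext ?_⟩⟩, fun a ha => hc.eq_one (pow_mem (hAH ha) p) (h2 a ha)⟩
  have := hc.eq_one (x := ⁅(a : G), (b : G)⁆)
    ((Subgroup.commutator_le_self H) (Subgroup.commutator_mem_commutator (hAH a.2) (hAH b.2)))
    (h1 (Subgroup.commutator_mem_commutator a.2 b.2))
  exact commutatorElement_eq_one_iff_mul_comm.mp this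

theorem isElementaryAbelian_le {A B : Subgroup G} (h : Cfsg.IsElementaryAbelian p A) (hle : B ≤ A) :
    Cfsg.IsElementaryAbelian p B :=
  ⟨⟨⟨fun a b => Subtype.ext (congrArg Subtype.val
    ((h.1).is_comm.comm ⟨a.1, hle a.2⟩ ⟨b.1, hle b.2⟩) :)⟩⟩, fun a ha => h.2 a (hle ha)⟩

theorem isPGroup_of_elem {A : Subgroup G} (h : Cfsg.IsElementaryAbelian p A) : IsPGroup p A :=
  fun a => ⟨1, Subtype.ext (by simpa using h.2 a a.2)⟩

theorem mul_comm_of_elem {A : Subgroup G} (h : Cfsg.IsElementaryAbelian p A) {a b : G}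
    (ha : a ∈ A) (hb : b ∈ A) : a * b = b * a :=
  congrArg Subtype.val (h.1.is_comm.comm (⟨a, ha⟩ : A) ⟨b, hb⟩)

/-- good hyperplanes of `A` -/
def Good (p : ℕ) (V A B : Subgroup G) : Prop :=
  B ≤ A ∧ B.relIndex A = p ∧
    p * Nat.card ↥(V ⊓ Subgroup.centralizer (A : Set G)) ≤
      Nat.card ↥(V ⊓ Subgroup.centralizer (B : Set G))

/-- good hyperplanes witnessed by an element `k` of `S` centralising `B` and moving `A` -/
def GoodIn (p : ℕ) (V S A B : Subgroup G) : Prop :=
  Good p V A B ∧ ∃ k ∈ S, (∀ b ∈ B, b * k = k * b) ∧ ∃ a ∈ A, a * k ≠ k * a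

variable [hp : Fact p.Prime]

/-- The good hyperplanes intersect trivially. -/
theorem Ctx.inf_goodIn (hc : Ctx p V H) {A : Subgroup G} (hAH : A ≤ H)
    (hA : Cfsg.IsElementaryAbelian p A) {x : G} (hxA : x ∈ A)
    (hx : ∀ B, GoodIn p V ((Cfsg.pPrimeCore p ↥H).map H.subtype) A B → x ∈ B) :
    x = 1 := by
  classical
  have := hA.1
  set K : Subgroup G := (Cfsg.pPrimeCore p ↥H).map H.subtype with hK
  have hKH : K ≤ H := Subgroup.map_subtype_le _
  have hKcard : (Nat.card K).Coprime p :=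
    Nat.Coprime.coprime_dvd_left (Subgroup.card_map_dvd _ _) (Cores.pPrimeCore_coprime p ↥H)
  have hHK : H ≤ Subgroup.normalizer (K : Set G) :=
    (Subgroup.le_normalizer).trans (Cores.normalizer_le_normalizer_map_subtype H _)
  have hAK : A ≤ Subgroup.normalizer (K : Set G) := hAH.trans hHK
  have hAp := isPGroup_of_elem hA
  have hVp := isPGroup_of_elem hc.elem
  have hAKcop : (Nat.card A).Coprime (Nat.card K) := by
    obtain ⟨n, hn⟩ := IsPGroup.iff_card.mp hAp
    rw [hn]
    exact Nat.Coprime.pow_left _ hKcard.symm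
  -- it suffices to centralise `K`
  suffices hxK : ∀ k ∈ K, x * k = k * x by
    have h1 : (⟨x, hAH hxA⟩ : ↥H) ∈ Cfsg.pPrimeCore p ↥H := hc.self
      (Subgroup.mem_centralizer_iff.mpr fun k hk => Subtype.ext (hxK k ⟨k, hk, rfl⟩).symm)
    refine orderOf_eq_one_iff.mp (Nat.eq_one_of_dvd_coprimes hKcard ?_ (orderOf_dvd_of_pow_eq_one (hA.2 x hxA)))
    have := Subgroup.orderOf_dvd_natCard K (show x ∈ K from ⟨_, h1, rfl⟩)
    exact this
  let φ : ↥A →* MulAut ↥K :=
    (MulAut.conjNormal (H := K.subgroupOf (Subgroup.normalizer (K : Set G)))).comp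
      (Subgroup.inclusion hAK) |> fun ψ =>
    ((MulAut.congr (Subgroup.subgroupOfEquivOfLe (Subgroup.le_normalizer (H := K)))).toMonoidHom).comp ψ
  have hφ : ∀ (a : ↥A) (k : ↥K), ((φ a k : ↥K) : G) = (a : G) * k * (a : G)⁻¹ := fun a k => rfl
  have hgen := CoprimeGen.iSup_fix_eq_top (Nat.card A) ↥A ↥K φ rfl hAKcop
  intro k hk
  have hmem : (⟨k, hk⟩ : ↥K) ∈ (⊤ : Subgroup ↥K) := Subgroup.mem_top _
  rw [← hgen] at hmem
  have hle : (⨆ B ∈ {B : Subgroup ↥A | ∃ a, B ⊔ Subgroup.zpowers a = ⊤}, CoprimeGen.fix φ B) ≤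
      (Subgroup.centralizer ({x} : Set G)).subgroupOf K := by
    refine iSup₂_le fun B hB y hy => ?_
    rw [Subgroup.mem_subgroupOf, Subgroup.mem_centralizer_singleton_iff]
    obtain ⟨a, ha⟩ := hB
    by_cases hall : ∀ a ∈ A, a * (y : G) = y * a
    · exact (hall x hxA).symm
    -- `B` gives a good hyperplane containing `x`
    push_neg at hall
    obtain ⟨a₁, ha₁, hne⟩ := hall
    set B' : Subgroup G := B.map A.subtype with hB'
    have hBA : B' ≤ A := Subgroup.map_subtype_le _
    have hB'y : ∀ b ∈ B', b * (y : G) = y * b := by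
      rintro _ ⟨b, hb, rfl⟩
      have := congrArg Subtype.val (CoprimeGen.mem_fix.mp hy b hb)
      rw [hφ] at this
      exact mul_inv_eq_iff_eq_mul.mp this
    have hidx : B'.relIndex A = p := by
      have haA : a ∉ B := by
        intro haB
        rw [sup_eq_left.mpr (Subgroup.zpowers_le.mpr haB)] at ha
        exact hne (hB'y a₁ ⟨⟨a₁, ha₁⟩, ha ▸ Subgroup.mem_top _, rfl⟩)
      have hord : Nat.card (Subgroup.zpowers a) = p := by
        rw [Nat.card_zpowers]
        exact orderOf_eq_prime (Subtype.ext (hA.2 a a.2)) fun h => haA (h ▸ one_mem B)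
      have hinf : B ⊓ Subgroup.zpowers a = ⊥ := by
        rw [← Subgroup.card_eq_one]
        have hd := Subgroup.card_dvd_of_le (inf_le_right : B ⊓ Subgroup.zpowers a ≤ _)
        rw [hord] at hd
        refine ((Nat.dvd_prime hp.out).mp hd).resolve_right fun h => haA ?_
        have he : B ⊓ Subgroup.zpowers a = Subgroup.zpowers a :=
          Subgroup.eq_of_le_of_card_ge inf_le_right (by rw [h, hord])
        exact (he.ge (Subgroup.mem_zpowers a)).1
      have h1 := Cores.card_sup_mul_card_inf (Subgroup.zpowers a) B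
      rw [sup_comm, ha, inf_comm, hinf, Subgroup.card_bot, Subgroup.card_top, mul_one, hord] at h1
      rw [hB', Subgroup.relIndex, Subgroup.subgroupOf, Subgroup.comap_map_eq_self_of_injective A.subtype_injective]
      have h2 := B.card_mul_index
      rw [h1, mul_comm p] at h2
      exact Nat.eq_of_mul_eq_mul_left Nat.card_pos h2
    refine (hB'y x (hx B' ⟨⟨hBA, hidx, ?_⟩, (y : G), y.2, hB'y, a₁, ha₁, hne⟩)).symm
    -- `C_V(A) < C_V(B)`
    set W : Subgroup G := V ⊓ Subgroup.centralizer (B' : Set G) with hW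
    have hCle : V ⊓ Subgroup.centralizer (A : Set G) ≤ W :=
      inf_le_inf_left _ (Subgroup.centralizer_le hBA)
    obtain ⟨n, hn⟩ := IsPGroup.iff_card.mp (hVp.to_le (inf_le_left : W ≤ V))
    obtain ⟨m, hm, hme⟩ := (Nat.dvd_prime_pow hp.out).mp (hn ▸ Subgroup.card_dvd_of_le hCle)
    rw [hn, hme]
    suffices hlt : m < n by
      rw [← pow_succ']; exact Nat.pow_le_pow_right hp.out.pos hlt
    refine lt_of_le_of_ne hm fun hmn => ?_
    have heq : V ⊓ Subgroup.centralizer (A : Set G) = W :=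
      Subgroup.eq_of_le_of_card_ge hCle (by rw [hn, hme, hmn])
    have hWA : ∀ w ∈ W, ∀ a ∈ A, a * w = w * a := fun w hw b hb =>
      Subgroup.mem_centralizer_iff.mp (heq.ge hw).2 b hb
    set c : G := a₁ * y * a₁⁻¹ * (y : G)⁻¹ with hc'
    have hcK : c ∈ K := mul_mem ((Subgroup.mem_normalizer_iff.mp (hAK ha₁) _).mp y.2) (inv_mem y.2)
    set Q : Subgroup G := K ⊓ Subgroup.centralizer (B' : Set G) ⊓ Subgroup.centralizer (W : Set G) with hQ
    have hAB : ∀ b ∈ B', a₁ * b = b * a₁ := fun b hb => mul_comm_of_elem hA ha₁ (hBA hb)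
    have hyW : ∀ w ∈ W, (y : G)⁻¹ * w * y ∈ W := by
      intro w hw
      refine ⟨(Subgroup.mem_normalizer_iff''.mp (hc.norm (hKH y.2)) w).mp hw.1, ?_⟩
      refine Subgroup.mem_centralizer_iff.mpr fun b hb => ?_
      have e1 : b * w = w * b := Subgroup.mem_centralizer_iff.mp hw.2 b hb
      have e2 : b * (y : G) = y * b := hB'y b hb
      have e3 : b * (y : G)⁻¹ = (y : G)⁻¹ * b := (Commute.inv_right e2).eq
      calc b * ((y : G)⁻¹ * w * y) = (b * (y : G)⁻¹) * w * y := by group
        _ = (y : G)⁻¹ * (b * w) * y := by rw [e3]; group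
        _ = (y : G)⁻¹ * w * (b * y) := by rw [e1]; group
        _ = (y : G)⁻¹ * w * y * b := by rw [e2]; group
    have hcQ : c ∈ Q := by
      refine ⟨⟨hcK, Subgroup.mem_centralizer_iff.mpr fun b hb => ?_⟩,
        Subgroup.mem_centralizer_iff.mpr fun w hw => ?_⟩
      · have e1 : Commute b a₁ := (hAB b hb).symm
        have e2 : Commute b (y : G) := hB'y b hb
        exact (((e1.mul_right e2).mul_right e1.inv_right).mul_right e2.inv_right).eq
      · have hw' := hyW w hw
        have e1 : Commute a₁ w := hWA w hw a₁ ha₁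
        have e2 : Commute a₁ ((y : G)⁻¹ * w * y) := hWA _ hw' a₁ ha₁
        have : c * w * c⁻¹ = w := by
          calc c * w * c⁻¹
              = a₁ * y * (a₁⁻¹ * ((y : G)⁻¹ * w * y) * a₁) * (y : G)⁻¹ * a₁⁻¹ := by rw [hc']; group
            _ = a₁ * y * ((y : G)⁻¹ * w * y) * (y : G)⁻¹ * a₁⁻¹ := by
              rw [e2.inv_left.eq]; group
            _ = a₁ * w * a₁⁻¹ := by group
            _ = w := by rw [e1.eq]; group
        calc w * c = (c * w * c⁻¹) * c := by rw [this]
          _ = c * w := by group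
    have hQV : Q ≤ Subgroup.centralizer (V : Set G) :=
      Cfsg.Agent.Lib.Coprime.le_centralizer_of_PxQ (p := p) (P := B') (U := V)
        (hAp.to_le hBA) (hKcard.coprime_dvd_left (Subgroup.card_dvd_of_le (inf_le_left.trans inf_le_left)))
        hVp (Subgroup.le_centralizer_iff.mp (inf_le_left.trans inf_le_right))
        ((hBA.trans hAH).trans hc.norm) ((inf_le_left.trans inf_le_left).trans (hKH.trans hc.norm))
        (Subgroup.le_centralizer_iff.mp inf_le_right)
    have hc1 : c = 1 := hc.eq_one (hKH hcK) (hQV hcQ)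
    rw [hc', mul_inv_eq_one, mul_inv_eq_iff_eq_mul] at hc1
    exact hne hc1
  have := hle hmem
  rw [Subgroup.mem_subgroupOf, Subgroup.mem_centralizer_singleton_iff] at this
  exact this.symm

theorem Ctx.inf_good (hc : Ctx p V H) {A : Subgroup G} (hAH : A ≤ H)
    (hA : Cfsg.IsElementaryAbelian p A) {x : G} (hxA : x ∈ A) (hx : ∀ B, Good p V A B → x ∈ B) :
    x = 1 :=
  hc.inf_goodIn hAH hA hxA fun B hB => hx B hB.1

theorem Ctx.exists_good (hc : Ctx p V H) {A : Subgroup G} (hAH : A ≤ H)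
    (hA : Cfsg.IsElementaryAbelian p A) (hne : A ≠ ⊥) : ∃ B, Good p V A B := by
  by_contra hno
  push_neg at hno
  exact hne ((Subgroup.eq_bot_iff_forall A).mpr fun x hx =>
    hc.inf_good hAH hA hx fun B hB => absurd hB (hno B))

theorem card_eq_of_good {A B : Subgroup G} (h : Good p V A B) : Nat.card A = p * Nat.card B := by
  rw [← Subgroup.relIndex_bot_left A, ← Subgroup.relIndex_mul_relIndex ⊥ B A bot_le h.1,
    Subgroup.relIndex_bot_left, h.2.1, mul_comm]

theorem Good.fv_le {A B : Subgroup G} (h : Good p V A B) : fv V A ≤ fv V B := by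
  calc fv V A = Nat.card B * (p * Nat.card ↥(V ⊓ Subgroup.centralizer (A : Set G))) := by
        rw [fv, card_eq_of_good h]; ring
    _ ≤ fv V B := Nat.mul_le_mul_left _ h.2.2

theorem Ctx.fv_le_card (hc : Ctx p V H) : ∀ {A : Subgroup G}, A ≤ H →
    Cfsg.IsElementaryAbelian p A → fv V A ≤ Nat.card V := by
  intro A
  induction hn : Nat.card A using Nat.strongRecOn generalizing A with
  | ind n ih =>
    intro hAH hA
    rcases eq_or_ne A ⊥ with rfl | hne
    · exact fv_bot.le
    obtain ⟨B, hB⟩ := hc.exists_good hAH hA hne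
    refine hB.fv_le.trans (ih (Nat.card B) ?_ rfl (hB.1.trans hAH) (isElementaryAbelian_le hA hB.1))
    rw [← hn, card_eq_of_good hB]
    exact lt_mul_of_one_lt_left Nat.card_pos hp.out.one_lt

theorem Ctx.fv_eq (hc : Ctx p V H) {A : Subgroup G} (hAH : A ≤ H)
    (hA : Cfsg.IsBestOffenderOn p V A) : fv V A = Nat.card V :=
  le_antisymm (hc.fv_le_card hAH (hc.isElementaryAbelian hAH hA.2.1 hA.2.2))
    (fv_bot.ge.trans (hA.1 ⊥ bot_le))

theorem Ctx.best_of_fv (hc : Ctx p V H) {A : Subgroup G} (hAH : A ≤ H)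
    (hA : Cfsg.IsElementaryAbelian p A) (h : fv V A = Nat.card V) :
    Cfsg.IsBestOffenderOn p V A := by
  refine ⟨fun B hB => ?_, ?_, fun a ha => by rw [hA.2 a ha]; exact one_mem _⟩
  · exact (hc.fv_le_card (hB.trans hAH) (isElementaryAbelian_le hA hB)).trans h.ge
  · have h0 : ⁅A, A⁆ = ⊥ := Subgroup.commutator_eq_bot_iff_le_centralizer.mpr
      (fun a ha b hb => (mul_comm_of_elem hA ha hb).symm)
    rw [h0]; exact bot_le

theorem Ctx.good_fv (hc : Ctx p V H) {A B : Subgroup G} (hAH : A ≤ H)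
    (hA : Cfsg.IsElementaryAbelian p A) (h : fv V A = Nat.card V) (hB : Good p V A B) :
    fv V B = Nat.card V :=
  le_antisymm (hc.fv_le_card (hB.1.trans hAH) (isElementaryAbelian_le hA hB.1)) (h.ge.trans hB.fv_le)

theorem Ctx.commutator_eq_bot (hc : Ctx p V H) {A : Subgroup G} (hAH : A ≤ H) :
    ⁅V, A⁆ = ⊥ ↔ A = ⊥ := by
  constructor
  · intro h
    refine (Subgroup.eq_bot_iff_forall A).mpr fun a ha => hc.eq_one (hAH ha) ?_
    exact Subgroup.le_centralizer_iff.mp (Subgroup.commutator_eq_bot_iff_le_centralizer.mp h) ha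
  · rintro rfl
    rw [Subgroup.commutator_bot_right]

/-- Every best offender is generated by offenders of prime order. -/
theorem Ctx.le_iSup_small (hc : Ctx p V H) : ∀ {A : Subgroup G}, A ≤ H →
    Cfsg.IsElementaryAbelian p A → fv V A = Nat.card V →
    A ≤ ⨆ C ∈ {C : Subgroup G | C ≤ A ∧ Nat.card C = p ∧ fv V C = Nat.card V}, C := by
  intro A
  induction hn : Nat.card A using Nat.strongRecOn generalizing A with
  | ind n ih =>
    intro hAH hA hf
    rcases eq_or_ne A ⊥ with rfl | hne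
    · exact bot_le
    obtain ⟨B, hB⟩ := hc.exists_good hAH hA hne
    set S := ⨆ C ∈ {C : Subgroup G | C ≤ A ∧ Nat.card C = p ∧ fv V C = Nat.card V}, C with hS
    have hgood : ∀ B, Good p V A B → B ≤ S := by
      intro B hB
      refine (ih (Nat.card B) ?_ rfl (hB.1.trans hAH) (isElementaryAbelian_le hA hB.1)
        (hc.good_fv hAH hA hf hB)).trans ?_
      · rw [← hn, card_eq_of_good hB]
        exact lt_mul_of_one_lt_left Nat.card_pos hp.out.one_lt
      · exact iSup₂_le fun C hC => le_iSup₂_of_le C ⟨hC.1.trans hB.1, hC.2.1, hC.2.2⟩ le_rfl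
    by_cases hone : ∀ B', Good p V A B' → B' = B
    · -- only one good hyperplane: it is trivial
      have hBbot : B = ⊥ := (Subgroup.eq_bot_iff_forall B).mpr fun x hx =>
        hc.inf_good hAH hA (hB.1 hx) fun B' hB' => (hone B' hB').symm ▸ hx
      have : Nat.card A = p := by rw [card_eq_of_good hB, hBbot, Subgroup.card_bot, mul_one]
      exact le_iSup₂_of_le A ⟨le_rfl, this, hf⟩ le_rfl
    · push_neg at hone
      obtain ⟨B', hB', hne'⟩ := hone
      have hidx : (B ⊔ B').relIndex A = 1 := by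
        have hd : (B ⊔ B').relIndex A ∣ p := hB.2.1 ▸ Subgroup.relIndex_dvd_of_le_left A le_sup_left
        refine ((Nat.dvd_prime hp.out).mp hd).resolve_right fun h => hne' ?_
        have h1 := Subgroup.relIndex_mul_relIndex B (B ⊔ B') A le_sup_left (sup_le hB.1 hB'.1)
        rw [h, hB.2.1] at h1
        have h2 : B ⊔ B' ≤ B := Subgroup.relIndex_eq_one.mp
          (Nat.eq_of_mul_eq_mul_right hp.out.pos (h1.trans (one_mul p).symm))
        have h3 := card_eq_of_good hB
        rw [card_eq_of_good hB'] at h3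
        exact Subgroup.eq_of_le_of_card_ge (le_sup_right.trans h2)
          (Nat.eq_of_mul_eq_mul_left hp.out.pos h3).ge
      exact (Subgroup.relIndex_eq_one.mp hidx).trans (sup_le (hgood B hB) (hgood B' hB'))

theorem iSupIndep_cons {A C : Subgroup G} {k : ℕ} {B : Fin k → Subgroup G}
    (hA : Cfsg.IsElementaryAbelian p A) (hC : C ≤ A) (hB : ∀ i, B i ≤ A) (hind : iSupIndep B)
    (hdisj : C ⊓ (⨆ i, B i) = ⊥) : iSupIndep (Fin.cons C B) := by
  intro i
  cases i using Fin.cases with
  | zero =>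
    rw [Fin.cons_zero]
    refine (disjoint_iff.mpr hdisj).mono_right (iSup₂_le fun j hj => ?_)
    cases j using Fin.cases with
    | zero => exact absurd rfl hj
    | succ j => rw [Fin.cons_succ]; exact le_iSup B j
  | succ i =>
    rw [Fin.cons_succ, disjoint_iff]
    set S := ⨆ (j : Fin k) (_ : j ≠ i), B j with hS
    have hle : (⨆ (j : Fin (k + 1)) (_ : j ≠ i.succ), (Fin.cons C B : Fin (k + 1) → Subgroup G) j) ≤ C ⊔ S := by
      refine iSup₂_le fun j hj => ?_
      cases j using Fin.cases with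
      | zero => rw [Fin.cons_zero]; exact le_sup_left
      | succ j =>
        rw [Fin.cons_succ]
        exact le_sup_of_le_right (le_iSup₂_of_le j (fun h => hj (congrArg Fin.succ h)) le_rfl)
    refine le_bot_iff.mp fun x hx => ?_
    have hSA : S ≤ A := iSup₂_le fun j _ => hB j
    have hnorm : C ≤ Subgroup.normalizer (S : Set G) := fun c hc => by
      rw [Subgroup.mem_normalizer_iff]
      intro y
      constructor
      · intro hy
        rwa [mul_comm_of_elem hA (hC hc) (hSA hy), mul_inv_cancel_right]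
      · intro hy
        have := mul_comm_of_elem hA (hC hc) (hSA hy)
        have hy' : c * y * c⁻¹ = y := by
          calc c * y * c⁻¹ = c⁻¹ * (c * (c * y * c⁻¹)) := by group
            _ = c⁻¹ * ((c * y * c⁻¹) * c) := by rw [this]
            _ = y := by group
        rwa [hy'] at hy
    have hx' : x ∈ (↑(C ⊔ S) : Set G) := hle hx.2
    rw [Subgroup.coe_mul_of_left_le_normalizer_right C S hnorm] at hx'
    obtain ⟨c, hc', s, hs, rfl⟩ := hx'
    have hcS : c ∈ ⨆ j, B j := by
      have h1 : S ≤ ⨆ j, B j := iSup₂_le fun j _ => le_iSup B j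
      have h2 : c * s ∈ ⨆ j, B j := le_iSup B i hx.1
      have := mul_mem h2 (inv_mem (h1 hs))
      rwa [mul_inv_cancel_right] at this
    have hc1 : c = 1 := Subgroup.mem_bot.mp (hdisj ▸ (⟨hc', hcS⟩ : c ∈ C ⊓ ⨆ j, B j))
    subst hc1
    simp only [one_mul] at hx ⊢
    exact (disjoint_iff.mp (hind i)) ▸ (⟨hx.1, hs⟩ : s ∈ B i ⊓ S)

/-- Decomposition of a best offender. -/
theorem Ctx.decomp (hc : Ctx p V H) : ∀ {A : Subgroup G}, A ≤ H →
    Cfsg.IsElementaryAbelian p A → fv V A = Nat.card V →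
    ∃ (k : ℕ) (B : Fin k → Subgroup G),
      (∀ i, B i ≤ A ∧ Nat.card (B i) = p ∧ fv V (B i) = Nat.card V) ∧ iSupIndep B ∧ ⨆ i, B i = A := by
  intro A
  induction hn : Nat.card A using Nat.strongRecOn generalizing A with
  | ind n ih =>
    intro hAH hA hf
    rcases eq_or_ne A ⊥ with rfl | hne
    · exact ⟨0, Fin.elim0, fun i => i.elim0, fun i => i.elim0, iSup_of_empty _⟩
    obtain ⟨B₁, hB₁⟩ := hc.exists_good hAH hA hne
    obtain ⟨k, B, hB, hind, hsup⟩ := ih (Nat.card B₁) (by
        rw [← hn, card_eq_of_good hB₁]; exact lt_mul_of_one_lt_left Nat.card_pos hp.out.one_lt)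
      rfl (hB₁.1.trans hAH) (isElementaryAbelian_le hA hB₁.1) (hc.good_fv hAH hA hf hB₁)
    obtain ⟨C, hC, hCB⟩ : ∃ C ∈ {C : Subgroup G | C ≤ A ∧ Nat.card C = p ∧ fv V C = Nat.card V},
        ¬ C ≤ B₁ := by
      by_contra hno
      push_neg at hno
      have hle := (hc.le_iSup_small hAH hA hf).trans (iSup₂_le hno)
      have h1 := card_eq_of_good hB₁
      have h2 := Subgroup.card_le_of_le hle
      have h3 := lt_mul_of_one_lt_left (Nat.card_pos (α := B₁)) hp.out.one_lt
      omega
    have hdisj : C ⊓ B₁ = ⊥ := by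
      rw [← Subgroup.card_eq_one]
      have hd := Subgroup.card_dvd_of_le (inf_le_left : C ⊓ B₁ ≤ C)
      rw [hC.2.1] at hd
      refine ((Nat.dvd_prime hp.out).mp hd).resolve_right fun h => hCB ?_
      have he : C ⊓ B₁ = C := Subgroup.eq_of_le_of_card_ge inf_le_left (by rw [h, hC.2.1])
      exact he ▸ inf_le_right
    refine ⟨k + 1, Fin.cons C B, fun i => ?_, iSupIndep_cons hA hC.1
      (fun i => (hB i).1.trans hB₁.1) hind (hsup.symm ▸ hdisj), ?_⟩
    · cases i using Fin.cases with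
      | zero => rw [Fin.cons_zero]; exact ⟨hC.1, hC.2.1, hC.2.2⟩
      | succ i => rw [Fin.cons_succ]; exact ⟨(hB i).1.trans hB₁.1, (hB i).2.1, (hB i).2.2⟩
    · refine le_antisymm (iSup_le fun i => ?_) ?_
      · cases i using Fin.cases with
        | zero => rw [Fin.cons_zero]; exact hC.1
        | succ i => rw [Fin.cons_succ]; exact (hB i).1.trans hB₁.1
      · have h1 : B₁ ≤ ⨆ i, (Fin.cons C B : Fin (k + 1) → Subgroup G) i :=
          hsup ▸ iSup_le fun i => le_iSup_of_le i.succ (by rw [Fin.cons_succ])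
        have h2 : C ≤ ⨆ i, (Fin.cons C B : Fin (k + 1) → Subgroup G) i :=
          le_iSup_of_le 0 (by rw [Fin.cons_zero])
        set U := ⨆ i, (Fin.cons C B : Fin (k + 1) → Subgroup G) i with hU
        rw [← Subgroup.relIndex_eq_one]
        have hd : U.relIndex A ∣ p := hB₁.2.1 ▸ Subgroup.relIndex_dvd_of_le_left A h1
        refine ((Nat.dvd_prime hp.out).mp hd).resolve_right fun h => hCB ?_
        have hUA : U ≤ A := iSup_le fun i => by
          cases i using Fin.cases with
          | zero => rw [Fin.cons_zero]; exact hC.1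
          | succ i => rw [Fin.cons_succ]; exact (hB i).1.trans hB₁.1
        have h3 := Subgroup.relIndex_mul_relIndex B₁ U A h1 hUA
        rw [h, hB₁.2.1] at h3
        exact h2.trans (Subgroup.relIndex_eq_one.mp
          (Nat.eq_of_mul_eq_mul_right hp.out.pos (h3.trans (one_mul p).symm)))

end Cfsg.Agent.Lib.FusionControl.CoprimeOffender
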