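import Mathlib
import Cfsg.Agent.Lib.FusionControl.WreathSquares

/-!
Derived length of wreath products inside a group, and block diagonal embeddings of matrix groups.
-/

set_option autoImplicit false

open scoped commutatorElement

namespace Cfsg.Agent.Lib.FusionControl.DerivedWreath

open Equiv
open Cfsg.Agent.Lib.FusionControl.WreathSquares

section Abstract

variable {G H : Type*} [Group G] [Group H] {m : ℕ} (B : (Fin m → H) →* G) (L : Perm (Fin m) →* G)
variable (hconj : ∀ (σ : Perm (Fin m)) (v : Fin m → H), L σ * B v * (L σ)⁻¹ = B (fun i => v (σ⁻¹ i)))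
  (hinj : ∀ (v : Fin m → H) (σ : Perm (Fin m)), B v * L σ = 1 → v = 1 ∧ σ = 1)

include hconj in
theorem isPGroup_wreath [Finite H] {p : ℕ} [Fact p.Prime] (T : Subgroup H) (W : Subgroup (Perm (Fin m)))
    (hT : IsPGroup p T) (hW : IsPGroup p W) : IsPGroup p (wreath B L T W) := by
  have h1 : IsPGroup p ((Subgroup.pi Set.univ fun _ : Fin m => T)) := by
    intro ⟨v, hv⟩
    have h2 : ∀ i, ∃ k, v i ^ p ^ k = 1 := fun i => by
      obtain ⟨k, hk⟩ := hT ⟨v i, hv i trivial⟩
      exact ⟨k, congrArg Subtype.val hk⟩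
    choose k hk using h2
    refine ⟨∑ i, k i, Subtype.ext (funext fun i => ?_)⟩
    show v i ^ p ^ (∑ j, k j) = 1
    obtain ⟨r, hr⟩ := Nat.pow_dvd_pow p (Finset.single_le_sum (fun j _ => Nat.zero_le (k j)) (Finset.mem_univ i))
    rw [hr, pow_mul, hk i, one_pow]
  have h2 : IsPGroup p ((W.map L ⊔ (Subgroup.pi Set.univ fun _ => T).map B : Subgroup G)) :=
    (hW.map L).to_sup_of_normal_right' (h1.map B) (map_le_normalizer B L hconj T W)
  rwa [sup_comm] at h2

include hconj hinj in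
/-- The wreath product has derived length greater than that of the coordinate group. -/
theorem derived_ne_bot (T : Subgroup H) (W : Subgroup (Perm (Fin m))) (σ : Perm (Fin m)) (hσ : σ ∈ W)
    (i : Fin m) (hi : σ i ≠ i) {k : ℕ} (hk : derivedSeries T k ≠ ⊥) :
    derivedSeries (wreath B L T W) (k + 1) ≠ ⊥ := by
  classical
  have hmem : ∀ v : Fin m → T, B (fun i => (v i : H)) ∈ wreath B L T W := fun v =>
    Subgroup.mem_sup_left ⟨_, fun i _ => (v i).2, rfl⟩
  let ψ : (Fin m → T) →* wreath B L T W :=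
    (B.comp (MonoidHom.compLeft T.subtype (Fin m))).codRestrict _ hmem
  have hψinj : Function.Injective ψ := fun v w h => by
    have h' : B ((fun i => (v i : H)) * fun i => ((w i : H))⁻¹) * L 1 = 1 := by
      rw [map_one, mul_one, map_mul, show (fun i => ((w i : H))⁻¹) = (fun i => (w i : H))⁻¹ from rfl, map_inv,
        mul_inv_eq_one]
      exact congrArg Subtype.val h
    exact funext fun i => Subtype.ext (mul_inv_eq_one.mp (congrFun (hinj _ _ h').1 i))
  set K := (derivedSeries (wreath B L T W) 1).comap ψ with hK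
  have hsurj : Function.Surjective ((Pi.evalMonoidHom (fun _ : Fin m => T) i).comp K.subtype) := by
    intro x
    let s : wreath B L T W := ⟨L σ, Subgroup.mem_sup_right ⟨σ, hσ, rfl⟩⟩
    have hc : ψ (fun j => (Pi.mulSingle i x⁻¹ : Fin m → T) (σ⁻¹ j)) * (ψ (Pi.mulSingle i x⁻¹))⁻¹ =
        ⁅s, ψ (Pi.mulSingle i x⁻¹)⁆ := by
      rw [commutatorElement_def]
      refine congrArg (· * _) (Subtype.ext ?_)
      exact (hconj σ (fun j => ((Pi.mulSingle i x⁻¹ : Fin m → T) j : H))).symm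
    refine ⟨⟨(fun j => (Pi.mulSingle i x⁻¹ : Fin m → T) (σ⁻¹ j)) * (Pi.mulSingle i x⁻¹)⁻¹, ?_⟩, ?_⟩
    · rw [hK, Subgroup.mem_comap, map_mul, map_inv, hc, derivedSeries_one]
      exact Subgroup.commutator_mem_commutator (Subgroup.mem_top _) (Subgroup.mem_top _)
    · have hi' : σ⁻¹ i ≠ i := fun h => hi (by conv_lhs => rw [← h]; simp)
      show (Pi.mulSingle i x⁻¹ : Fin m → T) (σ⁻¹ i) * ((Pi.mulSingle i x⁻¹ : Fin m → T) i)⁻¹ = x
      rw [Pi.mulSingle_eq_same, Pi.mulSingle_eq_of_ne hi', one_mul, inv_inv]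
  have hmap : ∀ j, (derivedSeries K j).map (ψ.comp K.subtype) ≤ derivedSeries (wreath B L T W) (j + 1) := by
    intro j
    induction j with
    | zero =>
      rintro _ ⟨x, -, rfl⟩
      exact x.2
    | succ j ih =>
      rw [derivedSeries_succ K j, Subgroup.map_commutator, derivedSeries_succ (wreath B L T W) (j + 1)]
      exact Subgroup.commutator_mono ih ih
  intro hbot
  apply hk
  rw [eq_bot_iff, ← map_derivedSeries_eq hsurj k]
  rintro _ ⟨x, hx, rfl⟩
  have h1 : ψ x.1 = 1 := by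
    have := hmap k ⟨x, hx, rfl⟩
    rwa [hbot, Subgroup.mem_bot] at this
  rw [Subgroup.mem_bot]
  show x.1 i = 1
  rw [hψinj (h1.trans (map_one ψ).symm)]
  rfl

include hconj in
/-- The wreath product of an abelian group has derived length at most one more than that of the top. -/
theorem derived_eq_bot (T : Subgroup H) (hT : ∀ a ∈ T, ∀ b ∈ T, a * b = b * a) (W : Subgroup (Perm (Fin m)))
    {k : ℕ}
    (hk : derivedSeries W k = ⊥) : derivedSeries (wreath B L T W) (k + 1) = ⊥ := by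
  classical
  set P := wreath B L T W with hP
  have key : ∀ j, ∀ g ∈ derivedSeries P j, ∃ v : Fin m → H, (∀ i, v i ∈ T) ∧
      ∃ σ : W, σ ∈ derivedSeries W j ∧ (g : G) = B v * L (σ : Perm (Fin m)) := by
    intro j
    induction j with
    | zero =>
      intro g _
      obtain ⟨v, hv, σ, hσ, e⟩ := exists_of_mem B L hconj T W g.2
      exact ⟨v, hv, ⟨σ, hσ⟩, Subgroup.mem_top _, e⟩
    | succ j ih =>
      let A : Subgroup G := (Subgroup.pi Set.univ fun _ => T).map B
      let D : Subgroup G := ((derivedSeries W j).map W.subtype).map L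
      have hDle : ∀ {j' : ℕ}, ((derivedSeries W j').map W.subtype).map L ≤ W.map L := fun {j'} =>
        Subgroup.map_mono (Subgroup.map_subtype_le _)
      have hle : (derivedSeries P (j + 1)).map P.subtype ≤ A ⊔ ((derivedSeries W (j + 1)).map W.subtype).map L := by
        rw [derivedSeries_succ, Subgroup.map_commutator, Subgroup.commutator_le]
        rintro _ ⟨a, ha, rfl⟩ _ ⟨b, hb, rfl⟩
        obtain ⟨v, hv, σ, hσ, ea⟩ := ih a ha
        obtain ⟨w, hw, τ, hτ, eb⟩ := ih b hb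
        show ⁅(a : G), (b : G)⁆ ∈ _
        rw [ea, eb]
        have hBv : B v ∈ A := ⟨v, fun i _ => hv i, rfl⟩
        have hBw : B w ∈ A := ⟨w, fun i _ => hw i, rfl⟩
        have hn : ∀ ρ : W, ∀ x ∈ A, L (ρ : Perm (Fin m)) * x * (L (ρ : Perm (Fin m)))⁻¹ ∈ A := fun ρ x hx =>
          (Subgroup.mem_normalizer_iff.mp (map_le_normalizer B L hconj T W ⟨_, ρ.2, rfl⟩) x).mp hx
        have e : ⁅B v * L (σ : Perm (Fin m)), B w * L (τ : Perm (Fin m))⁆ =
            B v * (L (σ : Perm (Fin m)) * B w * (L (σ : Perm (Fin m)))⁻¹) *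
              (L ((σ * τ * σ⁻¹ : W) : Perm (Fin m)) * (B v)⁻¹ * (L ((σ * τ * σ⁻¹ : W) : Perm (Fin m)))⁻¹) *
              (L ((σ * τ * σ⁻¹ * τ⁻¹ : W) : Perm (Fin m)) * (B w)⁻¹ *
                (L ((σ * τ * σ⁻¹ * τ⁻¹ : W) : Perm (Fin m)))⁻¹) *
              L ((σ * τ * σ⁻¹ * τ⁻¹ : W) : Perm (Fin m)) := by
          simp only [Subgroup.coe_mul, Subgroup.coe_inv, map_mul, map_inv, commutatorElement_def]
          group
        rw [e]
        refine mul_mem (Subgroup.mem_sup_left (mul_mem (mul_mem (mul_mem hBv (hn σ _ hBw)) (hn _ _ (inv_mem hBv)))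
          (hn _ _ (inv_mem hBw)))) (Subgroup.mem_sup_right ⟨_, ⟨σ * τ * σ⁻¹ * τ⁻¹, ?_, rfl⟩, rfl⟩)
        rw [derivedSeries_succ]
        exact Subgroup.commutator_mem_commutator hσ hτ
      intro g hg
      have h : (g : G) ∈ ((A ⊔ ((derivedSeries W (j + 1)).map W.subtype).map L : Subgroup G) : Set G) :=
        hle ⟨g, hg, rfl⟩
      rw [Subgroup.coe_mul_of_right_le_normalizer_left _ _
        ((hDle (j' := j + 1)).trans (map_le_normalizer B L hconj T W))] at h
      obtain ⟨_, ⟨v, hv, rfl⟩, _, ⟨_, ⟨σ, hσ, rfl⟩, rfl⟩, e⟩ := h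
      exact ⟨v, fun i => hv i trivial, σ, hσ, e.symm⟩
  rw [derivedSeries_succ, Subgroup.commutator_eq_bot_iff_le_centralizer]
  intro a ha
  rw [Subgroup.mem_centralizer_iff]
  intro b hb
  obtain ⟨v, hv, σ, hσ, ea⟩ := key k a ha
  obtain ⟨w, hw, τ, hτ, eb⟩ := key k b hb
  rw [hk, Subgroup.mem_bot] at hσ hτ
  subst hσ hτ
  refine Subtype.ext ?_
  rw [Subgroup.coe_mul, Subgroup.coe_mul, ea, eb, Subgroup.coe_one, map_one, mul_one, mul_one, ← map_mul, ← map_mul]
  exact congrArg B (funext fun i => hT _ (hw i) _ (hv i))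

end Abstract

section Blocks

open Matrix

variable {F : Type*} [CommRing F] {ι κ : Type*} [Fintype ι] [DecidableEq ι] [Fintype κ] [DecidableEq κ] {b : ℕ}

/-- Block diagonal matrices. -/
def blk : (Fin b → GL ι F) →* GL (ι × Fin b) F :=
  ((blockDiagonalRingHom ι (Fin b) F).toMonoidHom.comp
    (MonoidHom.compLeft (Units.coeHom (Matrix ι ι F)) (Fin b))).toHomUnits

theorem coe_blk (v : Fin b → GL ι F) :
    (blk v : Matrix (ι × Fin b) (ι × Fin b) F) = blockDiagonal fun i => (v i : Matrix ι ι F) := rfl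

/-- A permutation of the second coordinate. -/
def liftP : Equiv.Perm (Fin b) →* Equiv.Perm (ι × Fin b) where
  toFun σ := (Equiv.refl ι).prodCongr σ
  map_one' := Equiv.ext fun _ => rfl
  map_mul' _ _ := Equiv.ext fun _ => rfl

/-- Permutations of the blocks. -/
def bpm : Equiv.Perm (Fin b) →* GL (ι × Fin b) F :=
  (MonoidHom.mk ⟨fun σ : Equiv.Perm (Fin b) => (liftP (ι := ι) σ)⁻¹.permMatrix F, by simp⟩
    (fun σ τ => by simp [map_mul, _root_.mul_inv_rev, Matrix.permMatrix_mul])).toHomUnits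

theorem coe_bpm (σ : Equiv.Perm (Fin b)) :
    ((bpm σ : GL (ι × Fin b) F) : Matrix (ι × Fin b) (ι × Fin b) F) =
      (liftP (ι := ι) σ)⁻¹.permMatrix F := rfl

theorem perm_mul_blk (σ : Equiv.Perm (Fin b)) (M : Fin b → Matrix ι ι F) :
    ((liftP (ι := ι) σ)⁻¹.permMatrix F) * blockDiagonal M =
      blockDiagonal (fun i => M (σ⁻¹ i)) * ((liftP (ι := ι) σ)⁻¹.permMatrix F) := by
  ext ⟨i, a⟩ ⟨j, c⟩
  rw [Equiv.Perm.permMatrix, PEquiv.toMatrix_toPEquiv_mul, PEquiv.mul_toMatrix_toPEquiv]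
  show blockDiagonal M (i, σ.symm a) (j, c) = blockDiagonal (fun i => M (σ⁻¹ i)) (i, a) (j, σ c)
  rw [blockDiagonal_apply, blockDiagonal_apply]
  by_cases h : σ.symm a = c
  · subst h; simp
  · rw [if_neg h, if_neg fun h' => h (by rw [show a = σ c from h', Equiv.symm_apply_apply])]

theorem bpm_conj (σ : Equiv.Perm (Fin b)) (v : Fin b → GL ι F) :
    bpm σ * blk v * (bpm σ : GL (ι × Fin b) F)⁻¹ = blk (fun i => v (σ⁻¹ i)) := by
  rw [mul_inv_eq_iff_eq_mul]
  refine Units.ext ?_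
  rw [Units.val_mul, Units.val_mul, coe_bpm, coe_blk, coe_blk]
  exact perm_mul_blk σ fun i => (v i : Matrix ι ι F)

theorem blk_bpm_eq_one [Nontrivial F] [Nonempty ι] (v : Fin b → GL ι F) (σ : Equiv.Perm (Fin b))
    (h : blk v * bpm σ = 1) : v = 1 ∧ σ = 1 := by
  have h' : blockDiagonal (fun i => (v i : Matrix ι ι F)) * ((liftP (ι := ι) σ)⁻¹.permMatrix F) = 1 :=
    congrArg Units.val h
  rw [Equiv.Perm.permMatrix, PEquiv.mul_toMatrix_toPEquiv] at h'
  obtain ⟨i₀⟩ := (inferInstance : Nonempty ι)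
  have hσ : σ = 1 := by
    refine Equiv.ext fun a => ?_
    by_contra hne
    have h1 := congrFun (congrFun h' (i₀, a)) (i₀, a)
    change blockDiagonal (fun i => (v i : Matrix ι ι F)) (i₀, a) (i₀, σ a) = _ at h1
    rw [blockDiagonal_apply, if_neg (fun e : (i₀, a).2 = (i₀, σ a).2 => hne e.symm), Matrix.one_apply_eq] at h1
    exact zero_ne_one h1
  subst hσ
  refine ⟨funext fun a => Units.ext (Matrix.ext fun i j => ?_), rfl⟩
  rw [map_one, inv_one, Equiv.Perm.one_symm, Equiv.Perm.coe_one, Matrix.submatrix_id_id] at h'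
  have h1 := congrFun (congrFun h' (i, a)) (j, a)
  rw [blockDiagonal_apply_eq] at h1
  rw [h1]
  simp [Matrix.one_apply]

/-- Extending by the identity. -/
def pad : GL ι F →* GL (ι ⊕ κ) F :=
  (MonoidHom.mk ⟨fun A : GL ι F => fromBlocks (A : Matrix ι ι F) 0 0 (1 : Matrix κ κ F), by simp [fromBlocks_one]⟩
    (fun _ _ => by simp [fromBlocks_multiply])).toHomUnits

theorem coe_pad (A : GL ι F) :
    ((pad A : GL (ι ⊕ κ) F) : Matrix (ι ⊕ κ) (ι ⊕ κ) F) = fromBlocks (A : Matrix ι ι F) 0 0 1 := rfl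

theorem pad_injective : Function.Injective (pad : GL ι F →* GL (ι ⊕ κ) F) := fun A B h =>
  Units.ext (fromBlocks_inj.mp (congrArg Units.val h : _)).1

end Blocks

end Cfsg.Agent.Lib.FusionControl.DerivedWreath
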