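import Cfsg.Agent.Lib.FusionControl.Family

/-! The local-to-global induction for relations between conjugations inside a Sylow subgroup. -/

set_option autoImplicit false

namespace Cfsg.Agent.Lib.FusionControl

variable {G : Type*} [Group G] [Finite G] {p : ℕ} [Fact p.Prime]

/-- the elements of `N_S(U)` that `x` keeps inside `N_S(U)` -/
def movSet (S U : Subgroup G) (x : G) : Set G := {b | b ∈ nS S U ∧ x * b * x⁻¹ ∈ nS S U}

/-- Local-to-global: `Conn A g` is any relation stable under restriction and composition. -/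
theorem engine (S : Sylow p G) (Conn : Set G → G → Prop) (Dom Good : Subgroup G → Prop)
    (hmono : ∀ {A B : Set G} {g : G}, A ⊆ B → Conn B g → Conn A g)
    (hcomp : ∀ {A : Set G} {x y : G}, Conn A x → Conn (cs x A) y → Conn A (y * x))
    (hS : ∀ x ∈ Subgroup.normalizer ((S : Subgroup G) : Set G), Conn ((S : Subgroup G) : Set G) x)
    (hgen : ∀ (R : Subgroup G) (g : G), R ≤ (S : Subgroup G) → cj g R ≤ (S : Subgroup G) →
      (∀ E : Subgroup G, E ≤ (S : Subgroup G) → Dom E → Nat.card R ≤ Nat.card E →
        ∀ x ∈ Subgroup.normalizer (E : Set G), Conn (E : Set G) x) → Conn (R : Set G) g)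
    (hgood : ∀ U ≤ (S : Subgroup G), Dom U →
      ∃ h, cj h (nS (S : Subgroup G) U) ≤ S ∧ Good (cj h U))
    (hloc : ∀ U ≤ (S : Subgroup G), Good U →
      (∀ U' ≤ (S : Subgroup G), (Dom U' ∨ Good U') →
        Nat.card (nS (S : Subgroup G) U) < Nat.card (nS (S : Subgroup G) U') →
        ∀ x ∈ Subgroup.normalizer (U' : Set G), Conn (movSet (S : Subgroup G) U' x) x) →
      (∀ (R : Subgroup G) (g : G), R ≤ (S : Subgroup G) → cj g R ≤ (S : Subgroup G) →
        Nat.card (nS (S : Subgroup G) U) < Nat.card R → Conn (R : Set G) g) →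
      ∀ x ∈ Subgroup.normalizer (U : Set G), Conn (movSet (S : Subgroup G) U x) x) :
    ∀ (A : Set G) (g : G), A ⊆ (S : Subgroup G) → cs g A ⊆ (S : Subgroup G) → Conn A g := by
  -- a subgroup large enough is controlled once all larger normalizers are
  have gen : ∀ m : ℕ, (∀ U' ≤ (S : Subgroup G), (Dom U' ∨ Good U') →
        m < Nat.card (nS (S : Subgroup G) U') →
        ∀ x ∈ Subgroup.normalizer (U' : Set G), Conn (movSet (S : Subgroup G) U' x) x) →
      ∀ (R : Subgroup G) (g : G), R ≤ (S : Subgroup G) → cj g R ≤ (S : Subgroup G) →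
        m ≤ Nat.card R → Conn (R : Set G) g := by
    intro m hm R g hR hgR hc
    refine hgen R g hR hgR fun E hE hd hRE x hx => ?_
    by_cases hES : E = (S : Subgroup G)
    · subst hES; exact hS x hx
    · have := card_lt_nS S.2 (lt_of_le_of_ne hE hES)
      refine hmono ?_ (hm E hE (Or.inl hd) (by omega) x hx)
      intro b hb
      exact ⟨le_nS hE hb, le_nS hE ((Subgroup.mem_normalizer_iff.1 hx b).1 hb)⟩
  suffices H : ∀ (k : ℕ) (U : Subgroup G), Nat.card (S : Subgroup G) - Nat.card (nS (S : Subgroup G) U) = k →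
      U ≤ (S : Subgroup G) → (Dom U ∨ Good U) → ∀ x ∈ Subgroup.normalizer (U : Set G),
        Conn (movSet (S : Subgroup G) U x) x by
    intro A g hA hgA
    refine hmono Subgroup.subset_closure
      (gen 0 (fun U hU hd _ => H _ U rfl hU hd) (Subgroup.closure A) g ((Subgroup.closure_le _).2 hA) ?_ (Nat.zero_le _))
    rw [cj, MonoidHom.map_closure]
    exact (Subgroup.closure_le _).2 hgA
  intro k
  induction k using Nat.strong_induction_on with
  | _ k ih =>
    intro U hk hU hd x hx
    have hUle : Nat.card (nS (S : Subgroup G) U) ≤ Nat.card (S : Subgroup G) := Subgroup.card_le_of_le inf_le_left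
    have IH : ∀ U' ≤ (S : Subgroup G), (Dom U' ∨ Good U') →
        Nat.card (nS (S : Subgroup G) U) < Nat.card (nS (S : Subgroup G) U') →
        ∀ x ∈ Subgroup.normalizer (U' : Set G), Conn (movSet (S : Subgroup G) U' x) x := by
      intro U' hU' hd' hlt
      have : Nat.card (nS (S : Subgroup G) U') ≤ Nat.card (S : Subgroup G) := Subgroup.card_le_of_le inf_le_left
      exact ih _ (by omega) U' rfl hU' hd'
    -- statements at a good subgroup with at least as large a normalizer
    have good : ∀ V ≤ (S : Subgroup G), Good V →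
        Nat.card (nS (S : Subgroup G) U) ≤ Nat.card (nS (S : Subgroup G) V) →
        ∀ x ∈ Subgroup.normalizer (V : Set G), Conn (movSet (S : Subgroup G) V x) x := by
      intro V hV hg hle
      exact hloc V hV hg (fun U' hU' hd' hlt => IH U' hU' hd' (lt_of_le_of_lt hle hlt))
        (fun R g hR hgR hlt => gen _ IH R g hR hgR (le_of_lt (lt_of_le_of_lt hle hlt)))
    rcases hd with hd | hd
    · obtain ⟨h, hh, hg⟩ := hgood U hU hd
      have hle := cj_nS_le hh
      have hcard : Nat.card (nS (S : Subgroup G) U) ≤ Nat.card (nS (S : Subgroup G) (cj h U)) := by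
        have := Subgroup.card_le_of_le hle
        rwa [card_cj] at this
      have hx' : h * x * h⁻¹ ∈ Subgroup.normalizer (cj h U : Set G) := by
        rw [← cj_normalizer]; exact conj_mem_cj hx
      set B := movSet (S : Subgroup G) U x with hB
      have c1 : Conn B h :=
        hmono (fun b hb => hb.1) (gen _ IH (nS (S : Subgroup G) U) h inf_le_left hh le_rfl)
      have c2 : Conn (cs h B) (h * x * h⁻¹) := by
        refine hmono ?_ (good (cj h U) ((cj_le_cj (le_nS hU)).trans hh) hg hcard _ hx')
        rintro _ ⟨b, hb, rfl⟩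
        refine ⟨hle (conj_mem_cj hb.1), ?_⟩
        have := hle (conj_mem_cj (g := h) hb.2)
        convert this using 1; group
      have c3 : Conn (cs (h * x * h⁻¹ * h) B) h⁻¹ := by
        refine hmono ?_ (gen _ IH (cj h (nS (S : Subgroup G) U)) h⁻¹ hh
          (by rw [cj_inv_cj]; exact inf_le_left) (card_cj h _).ge)
        rintro _ ⟨b, hb, rfl⟩
        have := conj_mem_cj (g := h) hb.2
        show h * x * h⁻¹ * h * b * (h * x * h⁻¹ * h)⁻¹ ∈ cj h (nS (S : Subgroup G) U)
        convert this using 1; group
      have c12 := hcomp c1 c2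
      have e : x = h⁻¹ * (h * x * h⁻¹ * h) := by group
      have := hcomp c12 c3
      rwa [← e] at this
    · exact good U hU hd le_rfl x hx

end Cfsg.Agent.Lib.FusionControl
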