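import Cfsg.Agent.Lib.FusionControl.OffenderSL2
import Mathlib.GroupTheory.NoncommPiCoprod
import Mathlib.GroupTheory.SpecificGroups.Cyclic

/-!
A `q`-group of operators (`q ≥ 5`) on the configuration of offenders of prime order: the `SL₂(p)`
components are either fixed pointwise or moved to commuting ones, hence the fixed points contain
diagonal copies.
-/

set_option autoImplicit false

open scoped IsMulCommutative commutatorElement

namespace Cfsg.Agent.Lib.FusionControl.CoprimeOffender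

universe u

/-- Product of the conjugates of a subgroup `U` under `R`, as a homomorphism. -/
theorem exists_orbit_hom {G : Type u} [Group G] [Finite G] (R U : Subgroup G)
    (h : ∀ r ∈ R, (∀ g ∈ U, r * g = g * r) ∨
      ∀ g ∈ U, ∀ g' ∈ U, Commute (r * g * r⁻¹) g') :
    ∃ P : ↥U →* G, (∀ g, ∀ r ∈ R, r * P g = P g * r) ∧
      (∀ T : Subgroup G, ∀ g : ↥U, (∀ r ∈ R, r * (g : G) * r⁻¹ ∈ T) → P g ∈ T) ∧
      ∀ g : ↥U, ∃ c : G, P g = (g : G) * c ∧ (∀ g' ∈ U, Commute c g') ∧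
        ∀ T : Subgroup G, (∀ r ∈ R, (∀ u ∈ U, ∀ u' ∈ U, Commute (r * u * r⁻¹) u') →
          r * (g : G) * r⁻¹ ∈ T) → c ∈ T := by
  classical
  set St : Subgroup ↥R := (Subgroup.centralizer (U : Set G)).subgroupOf R with hSt
  have : Fintype (↥R ⧸ St) := Fintype.ofFinite _
  let u : ↥R ⧸ St → ↥U →* G := fun i =>
    (MulAut.conj ((i.out : ↥R) : G)).toMonoidHom.comp U.subtype
  have huapp : ∀ i g, u i g = ((i.out : ↥R) : G) * (g : G) * ((i.out : ↥R) : G)⁻¹ := fun _ _ => rfl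
  have hu : ∀ (r : ↥R) (g : ↥U), u (r : ↥R ⧸ St) g = (r : G) * (g : G) * (r : G)⁻¹ := by
    intro r g
    obtain ⟨s, hs⟩ := QuotientGroup.mk_out_eq_mul St r
    rw [huapp, hs, Subgroup.coe_mul]
    have e := (Subgroup.mem_centralizer_iff.mp (Subgroup.mem_subgroupOf.mp s.2) g g.2).symm
    calc (r : G) * ((s : ↥R) : G) * g * ((r : G) * ((s : ↥R) : G))⁻¹
        = (r : G) * (((s : ↥R) : G) * g) * (((s : ↥R) : G))⁻¹ * (r : G)⁻¹ := by group
      _ = (r : G) * g * (r : G)⁻¹ := by rw [e]; group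
  have hcom : Pairwise fun i j => ∀ g g', Commute (u i g) (u j g') := by
    intro i j hij g g'
    obtain ⟨a, rfl⟩ := QuotientGroup.mk_surjective i
    obtain ⟨b, rfl⟩ := QuotientGroup.mk_surjective j
    rcases h _ (mul_mem (inv_mem b.2) a.2) with hh | hh
    · refine absurd (QuotientGroup.eq.mpr ?_) hij.symm
      exact Subgroup.mem_subgroupOf.mpr (Subgroup.mem_centralizer_iff.mpr fun y hy => (hh y hy).symm)
    · have e := (hh g g.2 g' g'.2).map (MulAut.conj (b : G)).toMonoidHom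
      rw [hu, hu]
      convert e using 1 <;> simp [mul_assoc]
  let P : ↥U →* G := (MonoidHom.noncommPiCoprod u hcom).comp (MonoidHom.pi fun _ => MonoidHom.id _)
  have hcom' : ∀ (g : ↥U) (s : Finset (↥R ⧸ St)),
      (s : Set (↥R ⧸ St)).Pairwise (Function.onFun Commute fun i => u i g) :=
    fun g s i _ j _ hij => hcom hij g g
  have hP : ∀ g : ↥U, P g = (Finset.univ : Finset (↥R ⧸ St)).noncommProd (fun i => u i g)
      (hcom' g _) := fun g => rfl
  refine ⟨P, fun g r hr => ?_, fun T g hT => ?_, fun g => ?_⟩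
  · rw [← mul_inv_eq_iff_eq_mul]
    show (MulAut.conj r).toMonoidHom (P g) = P g
    rw [hP, Finset.map_noncommProd]
    unfold Finset.noncommProd
    congr 1
    have e1 : (fun i : ↥R ⧸ St => (MulAut.conj r).toMonoidHom (u i g)) =
        (fun i => u i g) ∘ ⇑(MulAction.toPerm (⟨r, hr⟩ : ↥R)) := by
      funext i
      obtain ⟨a, rfl⟩ := QuotientGroup.mk_surjective i
      show r * u (a : ↥R ⧸ St) g * r⁻¹ = u ((⟨r, hr⟩ * a : ↥R) : ↥R ⧸ St) g
      rw [hu, hu, Subgroup.coe_mul]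
      group
    rw [e1, ← Multiset.map_map, Multiset.map_univ_val_equiv]
  · rw [hP]
    exact Subgroup.noncommProd_mem T _ fun i _ => hT _ (i.out).2
  · set i₀ : ↥R ⧸ St := ((1 : ↥R) : ↥R ⧸ St) with hi₀
    refine ⟨((Finset.univ : Finset (↥R ⧸ St)).erase i₀).noncommProd (fun i => u i g)
      (hcom' g _), ?_, fun g' hg' => ?_, fun T hT => ?_⟩
    · rw [hP, ← Finset.mul_noncommProd_erase _ (Finset.mem_univ i₀), hi₀, hu]
      simp
    · refine (Finset.noncommProd_commute _ _ _ _ fun i hi => ?_).symm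
      have := hcom (Finset.ne_of_mem_erase hi) g ⟨g', hg'⟩
      rw [hi₀, hu] at this
      simpa using this.symm
    · refine Subgroup.noncommProd_mem T _ fun i hi => hT _ (i.out).2 ?_
      refine (h _ (i.out).2).resolve_left fun hh => Finset.ne_of_mem_erase hi ?_
      rw [hi₀, ← QuotientGroup.out_eq' i]
      refine QuotientGroup.eq.mpr (Subgroup.mem_subgroupOf.mpr ?_)
      rw [mul_one, InvMemClass.coe_inv]
      exact inv_mem (Subgroup.mem_centralizer_iff.mpr fun y hy => (hh y hy).symm)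

variable {G : Type u} [Group G] [Finite G] {p : ℕ} [hp : Fact p.Prime] {V H A B : Subgroup G}

theorem Ctx.not_central (hc : Ctx p V H) (hA : IsTv p V H A) :
    ¬ ∀ g ∈ EX p H A, ∀ a ∈ A, g * a = a * g := by
  intro hno
  obtain ⟨k, hk, hne⟩ := hc.exists_move hA
  exact (hc.hyp_conj hA hk hne).not₁ (hc.ce_le_ax_of_comm hA (hA.conj hc (hc.K0_le hk))
    fun a ha b hb => (hno b ((le_iSup (fun k : ↥(K0 p H) => cj (k : G) A) ⟨k, hk⟩) hb) a ha).symm)

theorem Ctx.ex_conj_H (hc : Ctx p V H) (hA : IsTv p V H A)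
    (hgen : ∀ T : Subgroup G, (∀ B, IsTv p V H B → B ≤ T) → H ≤ T) {h : G} (hh : h ∈ H) :
    EX p H (cj h A) = EX p H A := by
  have hN := hc.ex_normal hA hgen hh
  rcases hc.dichotomy hA (hA.conj hc hh) with ⟨k, hk, e⟩ | hcm
  · rw [e, hc.ex_conj hk]
  · refine absurd (fun g hg a ha => ?_) (hc.not_central hA)
    have e := hcm _ ((Subgroup.mem_normalizer_iff.mp hN g).mp hg) _ ⟨a, ha, rfl⟩
    change h * g * h⁻¹ * (h * a * h⁻¹) = h * a * h⁻¹ * (h * g * h⁻¹) at e
    calc g * a = h⁻¹ * (h * g * h⁻¹ * (h * a * h⁻¹)) * h := by group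
      _ = a * g := by rw [e]; group

theorem Ctx.ex_eq_or_comm (hc : Ctx p V H) (hA : IsTv p V H A) (hB : IsTv p V H B) :
    EX p H B = EX p H A ∨ Comm (EX p H B) (EX p H A) := by
  rcases hc.dichotomy hA hB with ⟨k, hk, rfl⟩ | hcm
  · exact Or.inl (hc.ex_conj hk)
  by_cases heq : EX p H B = EX p H A
  · exact Or.inl heq
  right
  have hle : EX p H A ≤ Subgroup.centralizer (EX p H B : Set G) := by
    refine iSup_le fun k => fun y hy => Subgroup.mem_centralizer_iff.mpr fun g hg => ?_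
    rcases hc.dichotomy hB (hA.conj hc (hc.K0_le k.2)) with ⟨k', hk', e⟩ | h'
    · exact absurd (by rw [← hc.ex_conj (X := A) k.2, e, hc.ex_conj hk']) heq
    · exact h' g hg y hy
  exact fun g hg g' hg' => Subgroup.mem_centralizer_iff.mp (hle hg') g hg

theorem cj_K0 {x : G} (hxH : x ∈ Subgroup.normalizer (H : Set G)) :
    x ∈ Subgroup.normalizer (K0 p H : Set G) := by
  have : (Cfsg.pPrimeCore p ↥H).Characteristic := Cores.characteristic_of_map_le fun φ =>
    le_of_eq (Cores.map_pPrimeCore_equiv φ)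
  exact Cores.normalizer_le_normalizer_map_subtype H _ hxH

theorem IsTv.cj_normalizer (hA : IsTv p V H A) {x : G}
    (hxV : x ∈ Subgroup.normalizer (V : Set G)) (hxH : x ∈ Subgroup.normalizer (H : Set G)) :
    IsTv p V H (cj x A) := by
  refine ⟨?_, (card_cj x).trans hA.card, ?_⟩
  · rintro _ ⟨a, ha, rfl⟩
    exact (Subgroup.mem_normalizer_iff.mp hxH a).mp (hA.le ha)
  · have e : V ⊓ Subgroup.centralizer ((cj x A : Subgroup G) : Set G) = cj x (Ax V A) :=
      (cj_inf_centralizer x hxV).symm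
    rw [fv, e, card_cj, card_cj]
    exact hA.fv_eq

theorem cj_ex {x : G} (hxH : x ∈ Subgroup.normalizer (H : Set G)) :
    EX p H (cj x A) = cj x (EX p H A) := by
  unfold EX
  conv_rhs => rw [cj, Subgroup.map_iSup]
  have hK := cj_K0 (p := p) hxH
  refine le_antisymm (iSup_le fun k => ?_) (iSup_le fun k => ?_)
  · refine le_iSup_of_le ⟨x⁻¹ * (k : G) * x, (Subgroup.mem_normalizer_iff''.mp hK _).mp k.2⟩ ?_
    show cj (k : G) (cj x A) ≤ cj x (cj (x⁻¹ * (k : G) * x) A)
    rw [← cj_mul, ← cj_mul, show x * (x⁻¹ * (k : G) * x) = (k : G) * x by group]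
  · refine le_iSup_of_le ⟨x * (k : G) * x⁻¹, (Subgroup.mem_normalizer_iff.mp hK _).mp k.2⟩ ?_
    show cj x (cj (k : G) A) ≤ cj (x * (k : G) * x⁻¹) (cj x A)
    rw [← cj_mul, ← cj_mul, show x * (k : G) * x⁻¹ * x = x * (k : G) by group]

theorem card_SL2 (hp3 : p = 2 ∨ p = 3) :
    Nat.card (Matrix.SpecialLinearGroup (Fin 2) (ZMod p)) = if p = 2 then 6 else 24 := by
  rw [Nat.card_eq_fintype_card]
  rcases hp3 with rfl | rfl
  · rfl
  · rfl

/-- A `q`-element, `q ≥ 5`, normalising a component centralises it. -/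
theorem Ctx.centralize_of_normalize (hc : Ctx p V H) (hA : IsTv p V H A) {q : ℕ} (hq : q.Prime)
    (hq5 : 5 ≤ q) {x : G} (hxN : x ∈ Subgroup.normalizer (EX p H A : Set G)) (hxq : x ^ q = 1) :
    ∀ g ∈ EX p H A, x * g = g * x := by
  classical
  have hp3 := hc.prime_le_three hA
  obtain ⟨k₀, hk₀, hne⟩ := hc.exists_move hA
  have hh := hc.hyp_conj hA hk₀ hne
  have hE : EX p H A = A ⊔ cj k₀ A := hc.ex_eq hA hk₀ hne
  obtain ⟨e⟩ := (hc.exists_iso hh).1
  set E := EX p H A with hEdef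
  have hcardE : Nat.card E = if p = 2 then 6 else 24 := by
    rw [hE, Nat.card_congr e.toEquiv, card_SL2 hp3]
  set φ : MulAut ↥E := E.normalizerMonoidHom ⟨x, hxN⟩ with hφ
  have hφq : φ ^ q = 1 := by
    rw [hφ, ← map_pow, show (⟨x, hxN⟩ : ↥(Subgroup.normalizer (E : Set G))) ^ q = 1 from Subtype.ext hxq,
      map_one]
  have hn4 : Nat.card (Sylow p ↥E) ≤ 4 := by
    obtain ⟨P⟩ := (inferInstance : Nonempty (Sylow p ↥E))
    have h1 := P.card_dvd_index.trans (Subgroup.index_dvd_card _)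
    have h2 := card_sylow_modEq_one p ↥E
    have h3 : Nat.card (Sylow p ↥E) ∣ Nat.card ↥E := h1
    have h4 : ¬ p ∣ Nat.card (Sylow p ↥E) := not_dvd_card_sylow p ↥E
    rw [hcardE] at h3
    rcases hp3 with rfl | rfl <;> simp at h3 <;>
      generalize Nat.card (Sylow _ ↥E) = n at h2 h3 h4 ⊢ <;>
      have := Nat.le_of_dvd (by norm_num) h3 <;>
      interval_cases n <;> simp_all [Nat.ModEq] <;> omega
  have hperm : MulAction.toPermHom (MulAut ↥E) (Sylow p ↥E) φ = 1 := by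
    have h1 := orderOf_dvd_of_pow_eq_one
      (show (MulAction.toPermHom (MulAut ↥E) (Sylow p ↥E) φ) ^ q = 1 by rw [← map_pow, hφq, map_one])
    have h2 := orderOf_dvd_natCard (MulAction.toPermHom (MulAut ↥E) (Sylow p ↥E) φ)
    rw [Nat.card_perm] at h2
    refine orderOf_eq_one_iff.mp (((Nat.dvd_prime hq).mp h1).resolve_right fun e' => ?_)
    rw [e', hq.dvd_factorial] at h2
    omega
  have key : ∀ B : Subgroup G, B ≤ E → Nat.card B = p → ∀ b ∈ B, x * b = b * x := by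
    intro B hBE hB b hb
    have hBp : IsPGroup p ↥(B.subgroupOf E) :=
      (IsPGroup.of_card (n := 1) (by rw [pow_one, hB])).of_equiv (Subgroup.subgroupOfEquivOfLe hBE).symm
    have hidx : ¬ p ∣ (B.subgroupOf E).index := by
      have h1 := Subgroup.card_mul_index (B.subgroupOf E)
      rw [Nat.card_congr (Subgroup.subgroupOfEquivOfLe hBE).toEquiv, hB, hcardE] at h1
      rcases hp3 with rfl | rfl <;> simp at h1 <;> omega
    set P : Sylow p ↥E := hBp.toSylow hidx with hP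
    have hfix : φ • P = P := Equiv.ext_iff.mp hperm P
    have hfix' : ∀ c ∈ B, x * c * x⁻¹ ∈ B := by
      intro c hc'
      have hmem : (⟨c, hBE hc'⟩ : ↥E) ∈ (P : Subgroup ↥E) := by
        rw [hP, IsPGroup.toSylow_coe, Subgroup.mem_subgroupOf]; exact hc'
      have := Subgroup.smul_mem_pointwise_smul _ φ _ hmem
      rw [← Sylow.pointwise_smul_def, hfix, hP, IsPGroup.toSylow_coe, Subgroup.mem_subgroupOf] at this
      exact this
    have hxB : x ∈ Subgroup.normalizer (B : Set G) := by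
      refine Subgroup.mem_normalizer_iff_map_conj_eq.mpr (Subgroup.eq_of_le_of_card_ge ?_ (le_of_eq ?_))
      · rintro _ ⟨c, hc', rfl⟩; exact hfix' c hc'
      · exact Nat.card_congr (B.equivMapOfInjective _ (MulAut.conj x).injective).toEquiv
    set ψ : MulAut ↥B := B.normalizerMonoidHom ⟨x, hxB⟩ with hψ
    have : IsCyclic ↥B := isCyclic_of_prime_card hB
    have h1 := orderOf_dvd_of_pow_eq_one (show ψ ^ q = 1 by
      rw [hψ, ← map_pow, show (⟨x, hxB⟩ : ↥(Subgroup.normalizer (B : Set G))) ^ q = 1 from Subtype.ext hxq,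
        map_one])
    have h2 := orderOf_dvd_natCard ψ
    rw [IsCyclic.card_mulAut, hB, Nat.totient_prime hp.out] at h2
    have h3 : ψ = 1 := by
      refine orderOf_eq_one_iff.mp (((Nat.dvd_prime hq).mp h1).resolve_right fun e' => ?_)
      rw [e'] at h2
      have := Nat.le_of_dvd (Nat.sub_pos_of_lt hp.out.one_lt) h2
      rcases hp3 with rfl | rfl <;> omega
    have h4 := congrArg (fun σ : MulAut ↥B => (σ ⟨b, hb⟩ : G)) h3
    change x * b * x⁻¹ = b at h4
    exact mul_inv_eq_iff_eq_mul.mp h4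
  have hle : E ≤ Subgroup.centralizer ({x} : Set G) := by
    rw [hE] at key ⊢
    exact sup_le (fun b hb => Subgroup.mem_centralizer_singleton_iff.mpr (key _ le_sup_left hA.card b hb).symm)
      (fun b hb => Subgroup.mem_centralizer_singleton_iff.mpr (key _ le_sup_right hh.tv₂.card b hb).symm)
  exact fun g hg => (Subgroup.mem_centralizer_singleton_iff.mp (hle hg)).symm

theorem Ctx.centralize_or_comm (hc : Ctx p V H) (hA : IsTv p V H A) {q : ℕ} (hq : q.Prime)
    (hq5 : 5 ≤ q) {x : G} (hxV : x ∈ Subgroup.normalizer (V : Set G))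
    (hxH : x ∈ Subgroup.normalizer (H : Set G)) (hxq : x ^ q = 1) :
    (∀ g ∈ EX p H A, x * g = g * x) ∨ Comm (cj x (EX p H A)) (EX p H A) := by
  rw [← cj_ex hxH]
  rcases hc.ex_eq_or_comm hA (hA.cj_normalizer hxV hxH) with h | h
  · rw [cj_ex hxH] at h
    exact Or.inl (hc.centralize_of_normalize hA hq hq5 (Subgroup.mem_normalizer_iff_map_conj_eq.mpr h) hxq)
  · exact Or.inr h

/-- `H` is generated by a Sylow-covering subgroup and the fixed points. -/
theorem Ctx.le_of_sylow_fixed (hc : Ctx p V H)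
    (hgen : ∀ T : Subgroup G, (∀ B, IsTv p V H B → B ≤ T) → H ≤ T) {q : ℕ} (hq : q.Prime)
    (hq5 : 5 ≤ q) (R : Subgroup G) (hRV : R ≤ Subgroup.normalizer (V : Set G))
    (hRH : R ≤ Subgroup.normalizer (H : Set G)) (hRq : ∀ r ∈ R, r ^ q = 1)
    (Sb : Subgroup G) (hSb : ∀ A : Subgroup G, A ≤ H → IsPGroup p A → ∃ h ∈ H, cj h A ≤ Sb)
    (T : Subgroup G) (hST : Sb ≤ T) (hfixT : H ⊓ Subgroup.centralizer (R : Set G) ≤ T) :
    H ≤ T := by
  refine hgen T fun B hB => ?_
  obtain ⟨h, hh, hle⟩ := hSb B hB.le (isPGroup_of_elem hB.elem)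
  set A := cj h B with hAdef
  have hA : IsTv p V H A := hB.conj hc hh
  refine le_trans ?_ (le_refl T)
  refine le_trans (hc.le_ex (X := B)) ?_
  rw [← hc.ex_conj_H hB hgen hh, ← hAdef]
  obtain ⟨k₀, hk₀, hne⟩ := hc.exists_move hA
  have hhyp := hc.hyp_conj hA hk₀ hne
  set E := EX p H A with hEdef
  obtain ⟨b, hb, hb1⟩ := hhyp.tv₂.exists_gen
  have hbE : b ∈ E := (le_iSup (fun k : ↥(K0 p H) => cj (k : G) A) ⟨k₀, hk₀⟩) hb
  -- `b` moves `A`
  have hmove : cj b A ≠ A := by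
    intro e
    have hbH := hhyp.tv₂.le hb
    obtain ⟨c, hc', hc1⟩ : ∃ c ∈ Ce V A, c ≠ 1 := (Ce V A).bot_or_exists_ne_one.resolve_left
      fun e0 => hp.out.ne_one (by rw [← hA.card_ce hc, e0, Subgroup.card_bot])
    have hcj : Ce V (cj b A) = cj b (Ce V A) := by
      unfold Ce cj
      rw [Subgroup.map_commutator]
      congr 1
      exact (Subgroup.mem_normalizer_iff_map_conj_eq.mp (hc.norm hbH)).symm
    rw [e] at hcj
    have hcV := hA.ce_le_V hc hc'
    have h1 : ⁅b, c⁆ ∈ Ce V A := by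
      have : b * c * b⁻¹ ∈ Ce V A := hcj ▸ ⟨c, hc', rfl⟩
      exact mul_mem this (inv_mem hc')
    have h2 : ⁅b, c⁆ = 1 :=
      Subgroup.disjoint_def.mp (hhyp.ce_disjoint hc) h1 (IsTv.bracket_mem_ce hb hcV)
    exact hhyp.not₁ (hA.le_of_mem hc hc' hc1 ((hhyp.tv₂.bracket_eq_one_iff hb hb1 hcV).mp h2))
  have hcases : ∀ r ∈ R, (∀ g ∈ E, r * g = g * r) ∨ ∀ g ∈ E, ∀ g' ∈ E, Commute (r * g * r⁻¹) g' :=
    fun r hr => (hc.centralize_or_comm hA hq hq5 (hRV hr) (hRH hr) (hRq r hr)).imp id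
      fun h g hg g' hg' => h _ ⟨g, hg, rfl⟩ g' hg'
  obtain ⟨P, hPfix, hPmem, hPc⟩ := exists_orbit_hom R E hcases
  obtain ⟨c, hPg, hcE, -⟩ := hPc ⟨b, hbE⟩
  have hPT : P ⟨b, hbE⟩ ∈ T := by
    refine hfixT ⟨hPmem H ⟨b, hbE⟩ fun r hr => ?_, Subgroup.mem_centralizer_iff.mpr fun r hr => hPfix _ r hr⟩
    exact (Subgroup.mem_normalizer_iff.mp (hRH hr) b).mp (hhyp.tv₂.le hb)
  have hAT : A ≤ T := hle.trans hST
  have hbT : cj b A ≤ T := by
    rintro _ ⟨a, ha, rfl⟩
    have := mul_mem (mul_mem hPT (hAT ha)) (inv_mem hPT)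
    show b * a * b⁻¹ ∈ T
    have e : c * a = a * c := hcE a (hc.le_ex ha)
    rwa [hPg, show b * c * a * (b * c)⁻¹ = b * (c * a) * c⁻¹ * b⁻¹ by group, e,
      show b * (a * c) * c⁻¹ * b⁻¹ = b * a * b⁻¹ by group] at this
  rcases hc.dichotomy hA (hA.conj hc (hhyp.tv₂.le hb)) with ⟨k, hk, e⟩ | hcm
  · by_cases hk' : ∀ a ∈ A, a * k = k * a
    · exact absurd (e.trans (hc.eq_of_not_move hk')) hmove
    · push_neg at hk'
      rw [hEdef, hc.ex_eq hA hk hk', ← e]
      exact sup_le hAT hbT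
  · refine absurd (fun g hg a ha => ?_) (hc.not_central hA)
    have hconj : b * g * b⁻¹ ∈ E := mul_mem (mul_mem hbE hg) (inv_mem hbE)
    have e := hcm _ hconj _ ⟨a, ha, rfl⟩
    change b * g * b⁻¹ * (b * a * b⁻¹) = b * a * b⁻¹ * (b * g * b⁻¹) at e
    calc g * a = b⁻¹ * (b * g * b⁻¹ * (b * a * b⁻¹)) * b := by group
      _ = a * g := by rw [e]; group

/-- A diagonal `SL₂(p)` acting on a plane in the fixed points. -/
theorem Ctx.exists_fixed_plane (hc : Ctx p V H) (hA : IsTv p V H A)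
    (hgen : ∀ T : Subgroup G, (∀ B, IsTv p V H B → B ≤ T) → H ≤ T) {q : ℕ} (hq : q.Prime)
    (hq5 : 5 ≤ q) (R : Subgroup G) (hRV : R ≤ Subgroup.normalizer (V : Set G))
    (hRH : R ≤ Subgroup.normalizer (H : Set G)) (hRq : ∀ r ∈ R, r ^ q = 1) :
    ∃ W D : Subgroup G, W ≤ V ⊓ Subgroup.centralizer (R : Set G) ∧
      D ≤ H ⊓ Subgroup.centralizer (R : Set G) ∧ Nat.card W = p ^ 2 ∧
      D ≤ Subgroup.normalizer (W : Set G) ∧ D ⊓ Subgroup.centralizer (W : Set G) = ⊥ ∧
      Nonempty (↥D ≃* Matrix.SpecialLinearGroup (Fin 2) (ZMod p)) := by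
  classical
  obtain ⟨k₀, hk₀, hne⟩ := hc.exists_move hA
  have hh := hc.hyp_conj hA hk₀ hne
  have hE : EX p H A = A ⊔ cj k₀ A := hc.ex_eq hA hk₀ hne
  obtain ⟨hiso, hcardW, hWU, -, -, hfaith, -, -, hcentB⟩ := hc.ex_facts hA hgen
  set E := EX p H A with hEdef
  set W₀ : Subgroup G := ⁅V, E⁆ with hW₀
  set U := W₀ ⊔ E with hU
  have hEH : E ≤ H := hc.ex_le hA
  have hW₀V : W₀ ≤ V := Subgroup.le_normalizer_iff_commutator_le_left.mp (hEH.trans hc.norm)
  have hEW : E ≤ Subgroup.normalizer (W₀ : Set G) := Subgroup.normalizer_commutator_ge_right V _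
  -- distinct conjugates of `U` commute
  have hmove : ∀ r ∈ R, Comm (cj r E) E → (∀ a ∈ cj r E, ∀ w ∈ W₀, a * w = w * a) ∧
      ∀ a ∈ E, ∀ w ∈ cj r W₀, a * w = w * a := by
    intro r hr hcm
    have h1 : ∀ s ∈ R, Comm (cj s E) E → ∀ a ∈ cj s E, ∀ w ∈ W₀, a * w = w * a := by
      intro s hs hs' a ha w hw
      have hle : cj s E ≤ Subgroup.centralizer (W₀ : Set G) := by
        rw [hEdef, ← cj_ex (hRH hs)]
        refine iSup_le fun k => ?_
        have hB := (hA.cj_normalizer (hRV hs) (hRH hs)).conj hc (hc.K0_le k.2)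
        refine hcentB _ hB fun g hg b hb => (hs' b ?_ g hg).symm
        rw [hEdef, ← cj_ex (hRH hs)]
        exact (le_iSup (fun k : ↥(K0 p H) => cj (k : G) (cj s A)) k) hb
      exact (Subgroup.mem_centralizer_iff.mp (hle ha) w hw).symm
    refine ⟨h1 r hr hcm, fun a ha w hw => ?_⟩
    have hcm' : Comm (cj r⁻¹ E) E := by
      rintro _ ⟨g, hg, rfl⟩ g' hg'
      have e := hcm (r * g' * r⁻¹) ⟨g', hg', rfl⟩ g hg
      show r⁻¹ * g * r⁻¹⁻¹ * g' = g' * (r⁻¹ * g * r⁻¹⁻¹)
      calc r⁻¹ * g * r⁻¹⁻¹ * g' = r⁻¹ * (g * (r * g' * r⁻¹)) * r := by group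
        _ = r⁻¹ * (r * g' * r⁻¹ * g) * r := by rw [e]
        _ = g' * (r⁻¹ * g * r⁻¹⁻¹) := by group
    obtain ⟨w', hw', rfl⟩ := hw
    have e := h1 r⁻¹ (inv_mem hr) hcm' _ ⟨a, ha, rfl⟩ w' hw'
    change r⁻¹ * a * r⁻¹⁻¹ * w' = w' * (r⁻¹ * a * r⁻¹⁻¹) at e
    show a * (r * w' * r⁻¹) = r * w' * r⁻¹ * a
    calc a * (r * w' * r⁻¹) = r * (r⁻¹ * a * r⁻¹⁻¹ * w') * r⁻¹ := by group
      _ = r * (w' * (r⁻¹ * a * r⁻¹⁻¹)) * r⁻¹ := by rw [e]
      _ = r * w' * r⁻¹ * a := by group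
  have hcases : ∀ r ∈ R, (∀ g ∈ U, r * g = g * r) ∨ ∀ g ∈ U, ∀ g' ∈ U, Commute (r * g * r⁻¹) g' := by
    intro r hr
    rcases hc.centralize_or_comm hA hq hq5 (hRV hr) (hRH hr) (hRq r hr) with h | h
    · left
      -- `r` fixes the centres, hence the plane
      have hle : U ≤ Subgroup.centralizer ({r} : Set G) := by
        refine sup_le ?_ fun g hg => Subgroup.mem_centralizer_singleton_iff.mpr (h g hg).symm
        rw [hW₀, hE, hc.commutator_eq_plane hh]
        have key : ∀ B : Subgroup G, IsTv p V H B → B ≤ E → Ce V B ≤ Subgroup.centralizer ({r} : Set G) := by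
          intro B hB hBE
          have hrB : cj r B = B := hc.eq_of_not_move fun a ha => (h a (hBE ha)).symm
          have hcj : Ce V (cj r B) = cj r (Ce V B) := by
            unfold Ce cj
            rw [Subgroup.map_commutator]
            congr 1
            exact (Subgroup.mem_normalizer_iff_map_conj_eq.mp (hRV hr)).symm
          rw [hrB] at hcj
          have hrN : r ∈ Subgroup.normalizer (Ce V B : Set G) :=
            Subgroup.mem_normalizer_iff_map_conj_eq.mpr hcj.symm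
          intro w hw
          set ψ : MulAut ↥(Ce V B) := (Ce V B).normalizerMonoidHom ⟨r, hrN⟩ with hψ
          have hcard := hB.card_ce hc
          have : IsCyclic ↥(Ce V B) := isCyclic_of_prime_card hcard
          have h1 := orderOf_dvd_of_pow_eq_one (show ψ ^ q = 1 by
            rw [hψ, ← map_pow,
              show (⟨r, hrN⟩ : ↥(Subgroup.normalizer (Ce V B : Set G))) ^ q = 1 from Subtype.ext (hRq r hr),
              map_one])
          have h2 := orderOf_dvd_natCard ψ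
          rw [IsCyclic.card_mulAut, hcard, Nat.totient_prime hp.out] at h2
          have h3 : ψ = 1 := by
            refine orderOf_eq_one_iff.mp (((Nat.dvd_prime hq).mp h1).resolve_right fun e' => ?_)
            rw [e'] at h2
            have := Nat.le_of_dvd (Nat.sub_pos_of_lt hp.out.one_lt) h2
            rcases hc.prime_le_three hA with rfl | rfl <;> omega
          have h4 := congrArg (fun σ : MulAut ↥(Ce V B) => (σ ⟨w, hw⟩ : G)) h3
          change r * w * r⁻¹ = w at h4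
          exact Subgroup.mem_centralizer_singleton_iff.mpr (mul_inv_eq_iff_eq_mul.mp h4).symm
        exact sup_le (key A hA hc.le_ex) (key _ hh.tv₂ (hE.ge.trans' le_sup_right))
      exact fun g hg => (Subgroup.mem_centralizer_singleton_iff.mp (hle hg)).symm
    · right
      obtain ⟨h1, h2⟩ := hmove r hr h
      have hle : cj r U ≤ Subgroup.centralizer (U : Set G) := by
        have hcjU : cj r U = cj r W₀ ⊔ cj r E := by rw [hU]; exact Subgroup.map_sup _ _ _
        rw [hcjU]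
        refine sup_le ?_ ?_ <;> rw [Subgroup.le_centralizer_iff] <;> refine sup_le ?_ ?_ <;>
          intro y hy <;> refine Subgroup.mem_centralizer_iff.mpr fun z hz => ?_
        · obtain ⟨z', hz', rfl⟩ := hz
          exact hc.comm_V ((Subgroup.mem_normalizer_iff.mp (hRV hr) z').mp (hW₀V hz')) (hW₀V hy)
        · exact (h2 y hy z hz).symm
        · exact h1 z hz y hy
        · exact h z hz y hy
      intro g hg g' hg'
      exact (Subgroup.mem_centralizer_iff.mp (hle ⟨g, hg, rfl⟩) g' hg').symm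
  obtain ⟨P, hPfix, hPmem, hPc⟩ := exists_orbit_hom R U hcases
  have hWle : W₀ ≤ U := le_sup_left
  have hEle : E ≤ U := le_sup_right
  set W : Subgroup G := (W₀.subgroupOf U).map P with hW
  set D : Subgroup G := (E.subgroupOf U).map P with hD
  have hinjW : ∀ w : ↥U, (w : G) ∈ W₀ → P w = 1 → w = 1 := by
    intro w hw hw1
    obtain ⟨c, hPw, -, hcT⟩ := hPc w
    refine Subtype.ext (Subgroup.mem_bot.mp ?_)
    rw [← hWU]
    refine ⟨hw, hW₀V hw, ?_⟩
    have hcE : c ∈ Subgroup.centralizer (E : Set G) := by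
      refine hcT _ fun r hr hcm => Subgroup.mem_centralizer_iff.mpr fun a ha => ?_
      exact (hcm w w.2 a (hEle ha)).symm.eq
    rw [hPw] at hw1
    rw [eq_inv_of_mul_eq_one_left hw1]
    exact (Subgroup.centralizer (E : Set G)).inv_mem hcE
  have hinjE : ∀ g : ↥U, (g : G) ∈ E → (∀ w : ↥U, (w : G) ∈ W₀ → P g * P w = P w * P g) → g = 1 := by
    intro g hg hgW
    refine Subtype.ext (Subgroup.mem_bot.mp ?_)
    rw [← hfaith]
    refine ⟨hg, hEH hg, Subgroup.mem_centralizer_iff.mpr fun w hw => ?_⟩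
    have h1 : (g : G) * w * (g : G)⁻¹ ∈ W₀ := (Subgroup.mem_normalizer_iff.mp (hEW hg) w).mp hw
    have h2 := hinjW (g * ⟨w, hWle hw⟩ * g⁻¹ * ⟨w, hWle hw⟩⁻¹) (mul_mem h1 (inv_mem hw)) (by
      rw [map_mul, map_mul, map_mul, map_inv, map_inv, hgW ⟨w, hWle hw⟩ hw]; group)
    have h3 := congrArg Subtype.val h2
    simp only [Subgroup.coe_mul, InvMemClass.coe_inv, OneMemClass.coe_one] at h3
    rw [mul_inv_eq_one, mul_inv_eq_iff_eq_mul] at h3
    exact h3.symm
  refine ⟨W, D, ?_, ?_, ?_, ?_, ?_, ?_⟩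
  · rintro _ ⟨w, hw, rfl⟩
    refine ⟨hPmem V w fun r hr => ?_, Subgroup.mem_centralizer_iff.mpr fun r hr => hPfix w r hr⟩
    exact (Subgroup.mem_normalizer_iff.mp (hRV hr) _).mp (hW₀V hw)
  · rintro _ ⟨g, hg, rfl⟩
    refine ⟨hPmem H g fun r hr => ?_, Subgroup.mem_centralizer_iff.mpr fun r hr => hPfix g r hr⟩
    exact (Subgroup.mem_normalizer_iff.mp (hRH hr) _).mp (hEH hg)
  · rw [← hcardW, ← Nat.card_congr (Subgroup.subgroupOfEquivOfLe hWle).toEquiv, hW]
    refine (Nat.card_congr (Equiv.ofBijective (fun w : ↥(W₀.subgroupOf U) =>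
      (⟨P w, ⟨w, w.2, rfl⟩⟩ : ↥((W₀.subgroupOf U).map P))) ⟨fun w w' e => ?_, ?_⟩)).symm
    · have e' := congrArg Subtype.val e
      refine Subtype.ext (mul_inv_eq_one.mp (hinjW _ (mul_mem w.2 (inv_mem w'.2)) ?_))
      rw [map_mul, map_inv, mul_inv_eq_one]
      exact e'
    · rintro ⟨_, w, hw, rfl⟩
      exact ⟨⟨w, hw⟩, rfl⟩
  · rintro _ ⟨g, hg, rfl⟩
    refine Subgroup.mem_normalizer_iff_map_conj_eq.mpr (Subgroup.eq_of_le_of_card_ge ?_ (le_of_eq ?_))
    · rintro _ ⟨_, ⟨w, hw, rfl⟩, rfl⟩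
      refine ⟨g * w * g⁻¹, (Subgroup.mem_normalizer_iff.mp (hEW hg) _).mp hw, ?_⟩
      rw [map_mul, map_mul, map_inv]
      rfl
    · exact Nat.card_congr (W.equivMapOfInjective _ (MulAut.conj (P g)).injective).toEquiv
  · refine le_bot_iff.mp ?_
    rintro _ ⟨⟨g, hg, rfl⟩, hgc⟩
    rw [hinjE g hg fun w hw => (Subgroup.mem_centralizer_iff.mp hgc _ ⟨w, hw, rfl⟩).symm, map_one]
    exact one_mem _
  · obtain ⟨e⟩ := hiso
    let ρ : ↥E →* G := P.comp (Subgroup.inclusion hEle)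
    have hρ : Function.Injective ρ := by
      refine (injective_iff_map_eq_one ρ).mpr fun g hg => ?_
      have hg' : P (Subgroup.inclusion hEle g) = 1 := hg
      have := hinjE (Subgroup.inclusion hEle g) g.2 fun w _ => by rw [hg', one_mul, mul_one]
      exact Subgroup.inclusion_injective hEle (this.trans (map_one _).symm)
    have hrange : ρ.range = D := by
      rw [hD, MonoidHom.range_comp, Subgroup.inclusion_range]
    exact ⟨((MulEquiv.subgroupCongr hrange.symm).trans (MonoidHom.ofInjective hρ).symm).trans e⟩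

end Cfsg.Agent.Lib.FusionControl.CoprimeOffender
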