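import Cfsg.Agent.Lib.FusionControl.Basic
import Cfsg.Agent.Lib.Transfer.Frobenius
import Cfsg.Prelude.Def_ConjugacyFunctors

/-! Conjugation families: Alperin's theorem in exact product form. -/

set_option autoImplicit false

namespace Cfsg.Agent.Lib.FusionControl

variable {G : Type*} [Group G]

/-- `N_S(U)` -/
abbrev nS (S U : Subgroup G) : Subgroup G := S ⊓ Subgroup.normalizer (U : Set G)

/-- `N_S(U)` has index prime to `p` in `N_G(U)` -/
def Extr (p : ℕ) (S U : Subgroup G) : Prop :=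
  U ≤ S ∧ ¬ p ∣ (nS S U).relIndex (Subgroup.normalizer (U : Set G))

lemma le_nS {S U : Subgroup G} (h : U ≤ S) : U ≤ nS S U := le_inf h Subgroup.le_normalizer

lemma cj_nS_le {g : G} {S U : Subgroup G} (h : cj g (nS S U) ≤ S) :
    cj g (nS S U) ≤ nS S (cj g U) :=
  le_inf h (le_trans (cj_le_cj inf_le_right) (cj_normalizer g U).le)

lemma nS_self (S : Subgroup G) : nS S S = S := inf_eq_left.2 Subgroup.le_normalizer

lemma extr_self [Finite G] {p : ℕ} [Fact p.Prime] (S : Sylow p G) :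
    Extr p (S : Subgroup G) (S : Subgroup G) := by
  refine ⟨le_rfl, ?_⟩
  rw [nS_self]
  exact fun h => S.not_dvd_index (h.trans (Subgroup.relIndex_dvd_index_of_le Subgroup.le_normalizer))

lemma lt_nS [Finite G] {p : ℕ} [Fact p.Prime] {S U : Subgroup G} (hS : IsPGroup p S) (h : U < S) :
    U < nS S U :=
  Cfsg.Agent.Lib.Transfer.lt_inf_normalizer hS h

lemma card_lt_of_lt [Finite G] {H K : Subgroup G} (h : H < K) : Nat.card H < Nat.card K := by
  rcases lt_or_eq_of_le (Subgroup.card_le_of_le h.le) with h' | h'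
  · exact h'
  · exact absurd (Subgroup.eq_of_le_of_card_ge h.le h'.ge) h.ne

lemma card_lt_nS [Finite G] {p : ℕ} [Fact p.Prime] {S U : Subgroup G} (hS : IsPGroup p S) (h : U < S) :
    Nat.card U < Nat.card (nS S U) := card_lt_of_lt (lt_nS hS h)

/-- any `p`-subgroup of `N_G(U)` is moved into `S` by some element sending `U` to an extremal conjugate -/
lemma exists_extr_cj [Finite G] {p : ℕ} [Fact p.Prime] (S : Sylow p G) {U : Subgroup G}
    (hU : U ≤ (S : Subgroup G)) :
    ∃ g : G, cj g (nS (S : Subgroup G) U) ≤ S ∧ Extr p (S : Subgroup G) (cj g U) := by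
  obtain ⟨T, hQT, hTN, hT, hTi⟩ := exists_sylow_in p (Subgroup.normalizer (U : Set G))
    (inf_le_right : nS (S : Subgroup G) U ≤ _) (S.2.to_le inf_le_left)
  have hSi : ¬ p ∣ (S : Subgroup G).relIndex ⊤ := by
    rw [Subgroup.relIndex_top_right]; exact S.not_dvd_index
  obtain ⟨g, -, hg⟩ := exists_cj_le_of_not_dvd le_top S.2 hSi (le_top : T ≤ ⊤) hT
  refine ⟨g, (cj_le_cj hQT).trans hg, ?_, ?_⟩
  · exact (cj_le_cj ((le_nS hU).trans hQT)).trans hg
  · intro h
    apply hTi
    rw [← relIndex_cj g T, cj_normalizer]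
    exact h.trans (Subgroup.relIndex_dvd_of_le_left _
      (le_inf hg ((cj_le_cj hTN).trans (cj_normalizer g U).le)))

/-- adjust a conjugating element so that it carries `N_S(U)` into `N_S(V)`, `V` extremal -/
lemma exists_adjust [Finite G] {p : ℕ} [Fact p.Prime] {S : Subgroup G} (hS : IsPGroup p S)
    {U V : Subgroup G} (hV : Extr p S V) {k : G} (hk : cj k U = V) :
    ∃ n ∈ Subgroup.normalizer (V : Set G), cj (n * k) (nS S U) ≤ nS S V ∧ cj (n * k) U = V := by
  have h1 : cj k (nS S U) ≤ Subgroup.normalizer (V : Set G) := by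
    rw [← hk, ← cj_normalizer]; exact cj_le_cj inf_le_right
  obtain ⟨n, hn, hle⟩ := exists_cj_le_of_not_dvd (inf_le_right : nS S V ≤ _) (hS.to_le inf_le_left) hV.2 h1
    (isPGroup_cj (hS.to_le inf_le_left))
  refine ⟨n, hn, by rwa [← cj_cj], ?_⟩
  rw [← cj_cj, hk]; exact mem_normalizer_iff_cj.1 hn

/-- left conjugate of a set -/
abbrev cs (g : G) (A : Set G) : Set G := (fun a => g * a * g⁻¹) '' A

lemma cs_cs (g h : G) (A : Set G) : cs g (cs h A) = cs (g * h) A := by
  simp only [cs, Set.image_image]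
  exact Set.image_congr' fun a => by group

lemma cs_one (A : Set G) : cs (1 : G) A = A := by simp [cs]

lemma cs_subset {g : G} {A B : Set G} (h : A ⊆ B) : cs g A ⊆ cs g B := Set.image_mono h

lemma cs_subgroup (g : G) (H : Subgroup G) : cs g (H : Set G) = (cj g H : Set G) := rfl

/-- a conjugation performed step by step in normalizers of members of `𝓕` -/
inductive Chain (𝓕 : Set (Subgroup G)) : Set G → G → Prop
  | step {A : Set G} {x : G} (T : Subgroup G) (hT : T ∈ 𝓕) (hA : A ⊆ T)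
      (hx : x ∈ Subgroup.normalizer (T : Set G)) : Chain 𝓕 A x
  | comp {A : Set G} {x y : G} : Chain 𝓕 A x → Chain 𝓕 (cs x A) y → Chain 𝓕 A (y * x)

lemma Chain.mono {𝓕 : Set (Subgroup G)} {B : Set G} {g : G} (h : Chain 𝓕 B g) :
    ∀ {A : Set G}, A ⊆ B → Chain 𝓕 A g := by
  induction h with
  | step T hT hA hx => exact fun hAB => .step T hT (hAB.trans hA) hx
  | comp _ _ ih1 ih2 => exact fun hAB => .comp (ih1 hAB) (ih2 (cs_subset hAB))

lemma Chain.mono_family {𝓕 𝓕' : Set (Subgroup G)} (hs : 𝓕 ⊆ 𝓕') {A : Set G} {g : G}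
    (h : Chain 𝓕 A g) : Chain 𝓕' A g := by
  induction h with
  | step T hT hA hx => exact .step T (hs hT) hA hx
  | comp _ _ ih1 ih2 => exact .comp ih1 ih2

/-- Alperin's criterion, exact product form -/
theorem chain_of_extr [Finite G] {p : ℕ} [Fact p.Prime] (S : Sylow p G) (𝓕 : Set (Subgroup G))
    (h : ∀ T : Subgroup G, T ≤ (S : Subgroup G) →
      ∃ U ∈ 𝓕, ∃ g : G, cj g T = U ∧ Extr p (S : Subgroup G) U) :
    ∀ (T : Subgroup G) (g : G), T ≤ (S : Subgroup G) → cj g T ≤ (S : Subgroup G) →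
      Chain 𝓕 (T : Set G) g := by
  suffices H : ∀ (k : ℕ) (T : Subgroup G) (g : G), Nat.card (S : Subgroup G) - Nat.card T = k →
      T ≤ (S : Subgroup G) → cj g T ≤ (S : Subgroup G) → Chain 𝓕 (T : Set G) g from
    fun T g => H _ T g rfl
  intro k
  induction k using Nat.strong_induction_on with
  | _ k ih =>
    intro T g hk hT hgT
    obtain ⟨U, hU, k0, hk0, hext⟩ := h T hT
    by_cases hTS : T = (S : Subgroup G)
    · subst hTS
      have hgN : g ∈ Subgroup.normalizer ((S : Subgroup G) : Set G) := mem_normalizer_of_cj_le hgT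
      have hUS : U = (S : Subgroup G) :=
        Subgroup.eq_of_le_of_card_ge hext.1 (by rw [← hk0, card_cj])
      exact .step (S : Subgroup G) (hUS ▸ hU) (subset_rfl) hgN
    · have hlt : T < (S : Subgroup G) := lt_of_le_of_ne hT hTS
      obtain ⟨n, hn, hle, heq⟩ := exists_adjust S.2 hext hk0
      have hk1 : cj (k0 * g⁻¹) (cj g T) = U := by rw [cj_cj, inv_mul_cancel_right, hk0]
      obtain ⟨m, hm, hle', heq'⟩ := exists_adjust S.2 hext hk1
      set a := n * k0 with ha
      set b := m * (k0 * g⁻¹) with hb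
      have hlt' : cj g T < (S : Subgroup G) := lt_of_le_of_ne hgT (fun e => by
        have := card_cj g T
        rw [e] at this
        exact hTS (Subgroup.eq_of_le_of_card_ge hT this.le))
      have hgrow := card_lt_nS S.2 hlt
      have hgrow' := card_lt_nS S.2 hlt'
      rw [card_cj] at hgrow'
      have hx : b * g * a⁻¹ ∈ Subgroup.normalizer (U : Set G) := by
        rw [mem_normalizer_iff_cj]
        conv_lhs => rw [← heq]
        rw [cj_cj, inv_mul_cancel_right, ← cj_cj, heq']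
      have hTle : Nat.card T ≤ Nat.card (S : Subgroup G) := Subgroup.card_le_of_le hT
      have c1 : Chain 𝓕 (T : Set G) a := by
        refine (ih _ ?_ _ a rfl inf_le_left (hle.trans inf_le_left)).mono (le_nS hT)
        have := Subgroup.card_le_of_le (inf_le_left : nS (S : Subgroup G) T ≤ S)
        simp only [nS] at *
        omega
      have c3 : Chain 𝓕 (U : Set G) b⁻¹ := by
        have hR : cj b (nS (S : Subgroup G) (cj g T)) ≤ (S : Subgroup G) := hle'.trans inf_le_left
        refine (ih _ ?_ _ b⁻¹ rfl hR ?_).mono ?_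
        · have := Subgroup.card_le_of_le hR
          rw [card_cj] at this ⊢
          omega
        · rw [cj_inv_cj]; exact inf_le_left
        · have : U ≤ cj b (nS (S : Subgroup G) (cj g T)) := by
            rw [← heq']; exact cj_le_cj (le_nS hgT)
          exact this
      have e1 : cs a (T : Set G) = (U : Set G) := by rw [cs_subgroup, heq]
      have c2 : Chain 𝓕 (cs a (T : Set G)) (b * g * a⁻¹) := .step U hU (e1 ▸ subset_rfl) hx
      have e2 : cs (b * g * a⁻¹ * a) (T : Set G) = (U : Set G) := by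
        rw [← cs_cs, e1, cs_subgroup, mem_normalizer_iff_cj.1 hx]
      have c12 := Chain.comp c1 c2
      have : g = b⁻¹ * (b * g * a⁻¹ * a) := by group
      rw [this]
      exact .comp c12 (by rw [e2]; exact c3)

theorem chain_of_extr_set [Finite G] {p : ℕ} [Fact p.Prime] (S : Sylow p G) (𝓕 : Set (Subgroup G))
    (h : ∀ T : Subgroup G, T ≤ (S : Subgroup G) →
      ∃ U ∈ 𝓕, ∃ g : G, cj g T = U ∧ Extr p (S : Subgroup G) U)
    (A : Set G) (g : G) (hA : A ⊆ (S : Subgroup G)) (hgA : cs g A ⊆ (S : Subgroup G)) :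
    Chain 𝓕 A g := by
  refine (chain_of_extr S 𝓕 h (Subgroup.closure A) g ((Subgroup.closure_le _).2 hA) ?_).mono
    Subgroup.subset_closure
  rw [cj, MonoidHom.map_closure]
  exact (Subgroup.closure_le _).2 hgA

/-- a path of right conjugations -/
def RPath : Set G → List (Subgroup G × G) → Prop
  | _, [] => True
  | A, p :: L => A ⊆ p.1 ∧ RPath (cs p.2⁻¹ A) L

lemma rpath_append {L M : List (Subgroup G × G)} : ∀ {A : Set G},
    RPath A (L ++ M) ↔ RPath A L ∧ RPath (cs ((L.map Prod.snd).prod)⁻¹ A) M := by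
  induction L with
  | nil => intro A; simp [RPath, cs]
  | cons p L ih => intro A; simp [RPath, ih, cs_cs, and_assoc]

lemma Chain.exists_list {𝓕 : Set (Subgroup G)} {A : Set G} {g : G} (h : Chain 𝓕 A g) :
    ∃ L : List (Subgroup G × G), L ≠ [] ∧ (L.map Prod.snd).prod = g⁻¹ ∧
      (∀ q ∈ L, q.1 ∈ 𝓕 ∧ q.2 ∈ Subgroup.normalizer (q.1 : Set G)) ∧ RPath A L := by
  induction h with
  | @step A x T hT hA hx =>
    refine ⟨[(T, x⁻¹)], by simp, by simp, ?_, hA, trivial⟩
    intro q hq
    obtain rfl := List.mem_singleton.1 hq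
    exact ⟨hT, inv_mem hx⟩
  | @comp A x y _ _ ih1 ih2 =>
    obtain ⟨L, hL0, hL, hLm, hLp⟩ := ih1
    obtain ⟨M, _, hM, hMm, hMp⟩ := ih2
    refine ⟨L ++ M, by simp [hL0], by simp [hL, hM], ?_, ?_⟩
    · intro q hq
      rcases List.mem_append.1 hq with hq | hq
      · exact hLm q hq
      · exact hMm q hq
    · rw [rpath_append]
      refine ⟨hLp, ?_⟩
      rw [hL, inv_inv]; exact hMp

lemma rpath_get {L : List (Subgroup G × G)} : ∀ {A : Set G}, RPath A L → ∀ (i : ℕ) (hi : i < L.length),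
    cs (((L.map Prod.snd).take i).prod)⁻¹ A ⊆ (L[i]).1 := by
  induction L with
  | nil => intro A _ i hi; simp at hi
  | cons p L ih =>
    intro A h i hi
    cases i with
    | zero => simpa [cs_one] using h.1
    | succ i =>
      have := ih h.2 i (by simpa using hi)
      simpa [cs_cs] using this

/-- the shape used by `Cfsg.IsConjugationFamily` -/
theorem Chain.exists_fin {𝓕 : Set (Subgroup G)} {A : Set G} {g : G} (h : Chain 𝓕 A g⁻¹) :
    ∃ (n : ℕ) (T : Fin n → Subgroup G) (x : Fin n → G), 0 < n ∧ (List.ofFn x).prod = g ∧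
      (∀ i, T i ∈ 𝓕) ∧ (∀ i, x i ∈ Subgroup.normalizer ((T i : Subgroup G) : Set G)) ∧
      (∀ h : 0 < n, A ⊆ T ⟨0, h⟩) ∧
      ∀ (i : Fin n) (h : i.val + 1 < n),
        (fun a => (((List.ofFn x).take (i.val + 1)).prod)⁻¹ * a * ((List.ofFn x).take (i.val + 1)).prod) '' A ⊆
          T ⟨i.val + 1, h⟩ := by
  obtain ⟨L, hL0, hLg, hLm, hLp⟩ := h.exists_list
  have he : List.ofFn (fun i : Fin L.length => L[i.1].2) = L.map Prod.snd :=
    List.ext_getElem (by simp) (fun i h1 h2 => by simp)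
  refine ⟨L.length, fun i => L[i.1].1, fun i => L[i.1].2, List.length_pos_iff.2 hL0, ?_,
    fun i => (hLm _ (List.getElem_mem _)).1, fun i => (hLm _ (List.getElem_mem _)).2, ?_, ?_⟩
  · rw [he, hLg, inv_inv]
  · intro h
    simpa [cs_one] using rpath_get hLp 0 h
  · intro i h
    rw [he]
    have := rpath_get hLp _ h
    simpa [cs] using this

theorem isConjugationFamily_of_chain {𝓕 : Set (Subgroup G)} {S : Subgroup G}
    (h𝓕 : ∀ T ∈ 𝓕, T ≤ S)
    (h : ∀ (A : Set G) (g : G), A.Nonempty → A ⊆ S → cs g A ⊆ S → Chain 𝓕 A g) :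
    Cfsg.IsConjugationFamily 𝓕 S := by
  refine ⟨h𝓕, fun A g hne hA hgA => ?_⟩
  obtain ⟨n, T, x, _, h1, h2, h3, h4, h5⟩ := (h A g⁻¹ hne hA (by simpa [cs] using hgA)).exists_fin
  exact ⟨n, T, x, h1, h2, h3, h4, h5⟩

theorem chain_of_fin {𝓕 : Set (Subgroup G)} :
    ∀ (n : ℕ) (T : Fin (n + 1) → Subgroup G) (x : Fin (n + 1) → G) (A : Set G),
      (∀ i, T i ∈ 𝓕) → (∀ i, x i ∈ Subgroup.normalizer ((T i : Subgroup G) : Set G)) →
      (∀ (i : ℕ) (h : i < n + 1), cs (((List.ofFn x).take i).prod)⁻¹ A ⊆ T ⟨i, h⟩) →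
      Chain 𝓕 A ((List.ofFn x).prod)⁻¹ := by
  intro n
  induction n with
  | zero =>
    intro T x A hT hx hA
    simpa using Chain.step (T 0) (hT 0) (by simpa [cs_one] using hA 0 Nat.one_pos) (inv_mem (hx 0))
  | succ n ih =>
    intro T x A hT hx hA
    rw [List.ofFn_succ, List.prod_cons, mul_inv_rev]
    refine .comp (.step (T 0) (hT 0) (by simpa [cs_one] using hA 0 (Nat.succ_pos _)) (inv_mem (hx 0))) ?_
    refine ih (fun i => T i.succ) (fun i => x i.succ) _ (fun i => hT _) (fun i => hx _) ?_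
    intro i hi
    have := hA (i + 1) (by omega)
    rw [List.ofFn_succ, List.take_succ_cons, List.prod_cons, mul_inv_rev, ← cs_cs] at this
    exact this

theorem chain_of_isConjugationFamily {𝓕 : Set (Subgroup G)} {S : Subgroup G}
    (h : Cfsg.IsConjugationFamily 𝓕 S) {T₀ : Subgroup G} (hT₀ : T₀ ∈ 𝓕)
    {A : Set G} {g : G} (hne : A.Nonempty) (hA : A ⊆ S) (hgA : cs g A ⊆ S)
    (h0 : g = 1 → A ⊆ T₀) : Chain 𝓕 A g := by
  obtain ⟨n, T, x, hp, hT, hx, hA0, hstep⟩ := h.2 A g⁻¹ hne hA (by simpa [cs] using hgA)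
  cases n with
  | zero =>
    have : g = 1 := by simpa using hp.symm
    rw [this]
    exact .step T₀ hT₀ (h0 this) (one_mem _)
  | succ n =>
    have := chain_of_fin n T x A hT hx (by
      intro i hi
      cases i with
      | zero => simpa [cs_one] using hA0 hi
      | succ i => simpa [cs] using hstep ⟨i, by omega⟩ hi)
    rwa [hp, inv_inv] at this

end Cfsg.Agent.Lib.FusionControl
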