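import Cfsg.Agent.Lib.OddLocal.Coprime
import Cfsg.Agent.Lib.Cores.Frattini
import Mathlib.GroupTheory.Frattini
import Mathlib.GroupTheory.Nilpotent
import Mathlib.GroupTheory.PGroup

/-! A fixed-point-free element of order `p` with a small centralizer on a `p`-group. -/

set_option autoImplicit false

open scoped commutatorElement
open Finset

namespace Cfsg.Agent.Lib.FusionControl

variable {R K : Type*} [Group R] [Finite R] [Group K] {p : ℕ} [hp : Fact p.Prime]

lemma commute_of_commute_pow {G : Type*} [Group G] {b d : G} (hb : b ^ p = 1) {i : ℕ} (hi0 : i ≠ 0) (hi : i < p)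
    (h : Commute (b ^ i) d) : Commute b d := by
  have hco : i.Coprime (orderOf b) :=
    (((Fact.out : p.Prime).coprime_iff_not_dvd.2 (fun hd => hi.not_ge (Nat.le_of_dvd (Nat.pos_of_ne_zero hi0) hd))).symm).coprime_dvd_right
      (orderOf_dvd_of_pow_eq_one hb)
  obtain ⟨m, hm⟩ := exists_pow_eq_self_of_coprime hco
  rw [← hm]
  exact h.pow_left m

lemma eq_one_of_pow_coprime {G : Type*} [Group G] {x : G} {n m : ℕ} (h : n.Coprime m) (hn : x ^ n = 1) (hm : x ^ m = 1) :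
    x = 1 :=
  orderOf_eq_one_iff.1 (Nat.eq_one_of_dvd_coprimes h (orderOf_dvd_of_pow_eq_one hn) (orderOf_dvd_of_pow_eq_one hm))

/-- the core configuration: every proper invariant subgroup is fixed by `D` -/
theorem fixed_of_minimal (hp2 : p ≠ 2) (hR : IsPGroup p R) (c : K →* MulAut R) (D : Subgroup K) [Finite D]
    (hDc : ∀ d ∈ D, ∀ e ∈ D, d * e = e * d) (hDp : (Nat.card D).Coprime p) (b : K) (hb : b ^ p = 1)
    (hbD : b ∈ Subgroup.normalizer (D : Set K)) (hfpf : ∀ d ∈ D, Commute b d → d = 1)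
    (hmin : ∀ U : Subgroup R, U ≠ ⊤ → (∀ d ∈ D, ∀ x ∈ U, c d x ∈ U) → (∀ x ∈ U, c b x ∈ U) →
      ∀ d ∈ D, ∀ x ∈ U, c d x = x)
    (I : Subgroup R) (hI : Nat.card I ≤ p) (hID : ∀ d ∈ D, ∀ x ∈ I, c d x = x)
    (hIb : ∀ x : R, x ^ p = 1 → c b x = x → x ∈ I) : ∀ d ∈ D, ∀ x : R, c d x = x := by
  classical
  by_contra hcon
  push Not at hcon
  obtain ⟨d₀, hd₀, r₀, hr₀⟩ := hcon
  have hRnt : Nontrivial R := ⟨⟨c d₀ r₀, r₀, hr₀⟩⟩
  have hnil : Group.IsNilpotent R := hR.isNilpotent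
  have cmul : ∀ (g h : K) (x : R), c (g * h) x = c g (c h x) := fun g h x => by rw [map_mul]; rfl
  have c1 : ∀ x : R, c 1 x = x := fun x => by rw [map_one]; rfl
  have hDb : ∀ {d : K}, d ∈ D → b * d * b⁻¹ ∈ D := fun {d} hd => (Subgroup.mem_normalizer_iff.1 hbD d).1 hd
  have hord : ∀ {d : K}, d ∈ D → d ^ Nat.card D = 1 := fun {d} hd => by
    have := pow_card_eq_one' (G := D) (x := ⟨d, hd⟩)
    exact congrArg Subtype.val this
  -- the commutators generate
  set Wset : Set R := {w | ∃ d ∈ D, ∃ r : R, w = c d r * r⁻¹} with hWset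
  have hW : Subgroup.closure Wset = ⊤ := by
    by_contra hne
    have hinvD : ∀ d ∈ D, ∀ x ∈ Subgroup.closure Wset, c d x ∈ Subgroup.closure Wset := by
      intro e he x hx
      refine (?_ : Subgroup.closure Wset ≤ (Subgroup.closure Wset).comap (c e).toMonoidHom) hx
      rw [Subgroup.closure_le]
      rintro _ ⟨d, hd, r, rfl⟩
      refine Subgroup.subset_closure ⟨d, hd, c e r, ?_⟩
      show c e (c d r * r⁻¹) = _
      rw [map_mul, map_inv, ← cmul, ← cmul, hDc e he d hd]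
    have hinvb : ∀ x ∈ Subgroup.closure Wset, c b x ∈ Subgroup.closure Wset := by
      intro x hx
      refine (?_ : Subgroup.closure Wset ≤ (Subgroup.closure Wset).comap (c b).toMonoidHom) hx
      rw [Subgroup.closure_le]
      rintro _ ⟨d, hd, r, rfl⟩
      refine Subgroup.subset_closure ⟨b * d * b⁻¹, hDb hd, c b r, ?_⟩
      show c b (c d r * r⁻¹) = _
      rw [map_mul, map_inv, ← cmul, ← cmul, inv_mul_cancel_right]
    have hfix := hmin _ hne hinvD hinvb
    have hz : c d₀ (c d₀ r₀ * r₀⁻¹) = c d₀ r₀ * r₀⁻¹ := hfix d₀ hd₀ _ (Subgroup.subset_closure ⟨d₀, hd₀, r₀, rfl⟩)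
    obtain ⟨z, hz'⟩ : ∃ z, z = c d₀ r₀ * r₀⁻¹ := ⟨_, rfl⟩
    rw [← hz'] at hz
    have hn : ∀ n : ℕ, c (d₀ ^ n) r₀ = z ^ n * r₀ := by
      intro n
      induction n with
      | zero => rw [pow_zero, c1, pow_zero, one_mul]
      | succ n ih =>
        rw [pow_succ', cmul, ih, map_mul, map_pow, hz, pow_succ, hz']
        group
    have h1 : z ^ Nat.card D = 1 := by
      have := hn (Nat.card D)
      rw [hord hd₀, c1] at this
      exact mul_eq_right.1 this.symm
    obtain ⟨k, hk⟩ := hR z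
    have := eq_one_of_pow_coprime (hDp.pow_right k) h1 hk
    rw [hz'] at this
    exact hr₀ (mul_inv_eq_one.1 this)
  -- fixed parts
  have hcharfix : ∀ U : Subgroup R, U.Characteristic → U ≠ ⊤ → ∀ d ∈ D, ∀ x ∈ U, c d x = x := by
    intro U hU hne
    refine hmin U hne (fun d _ x hx => ?_) (fun x hx => ?_)
    · have := Subgroup.characteristic_iff_le_comap.1 hU (c d)
      exact this hx
    · have := Subgroup.characteristic_iff_le_comap.1 hU (c b)
      exact this hx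
  have hfrat : frattini R ≠ ⊤ := by
    intro h
    obtain ⟨M, hM, -⟩ := (eq_top_or_exists_le_coatom (⊥ : Subgroup R)).resolve_left bot_ne_top
    exact hM.1 (top_le_iff.1 (h ▸ frattini_le_coatom hM))
  have hFfix := hcharfix (frattini R) inferInstance hfrat
  set Φ := commutator R with hΦ
  have hΦF : Φ ≤ frattini R := Cfsg.Agent.Lib.Cores.commutator_le_frattini
  have hΦfix : ∀ d ∈ D, ∀ x ∈ Φ, c d x = x := fun d hd x hx => hFfix d hd x (hΦF hx)
  have hcen : frattini R ≤ Subgroup.center R := by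
    intro x hx
    rw [Subgroup.mem_center_iff]
    intro g
    have hle : Subgroup.closure Wset ≤ Subgroup.centralizer ((frattini R : Subgroup R) : Set R) := by
      rw [Subgroup.closure_le]
      rintro _ ⟨d, hd, r, rfl⟩
      rw [SetLike.mem_coe, Subgroup.mem_centralizer_iff]
      intro y hy
      have hy' : r⁻¹ * y * r ∈ frattini R := by
        simpa using (inferInstance : (frattini R).Normal).conj_mem y hy r⁻¹
      have h1 := hFfix d hd _ hy'
      rw [map_mul, map_mul, map_inv, hFfix d hd y hy] at h1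
      obtain ⟨s, hs⟩ : ∃ s, s = c d r := ⟨_, rfl⟩
      rw [← hs] at h1 ⊢
      calc y * (s * r⁻¹) = s * (s⁻¹ * y * s) * r⁻¹ := by group
        _ = s * (r⁻¹ * y * r) * r⁻¹ := by rw [h1]
        _ = _ := by group
    rw [hW] at hle
    exact (Subgroup.mem_centralizer_iff.1 (hle (Subgroup.mem_top g)) x hx).symm
  -- exponent
  have hpF : ∀ x : R, x ^ p ∈ frattini R := Cfsg.Agent.Lib.Cores.pow_mem_frattini hR
  have hcomm_central : ∀ x y : R, ∀ z : R, Commute ⁅x, y⁆ z := fun x y z =>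
    (Subgroup.mem_center_iff.1 (hcen (hΦF (Subgroup.commutator_mem_commutator (Subgroup.mem_top x) (Subgroup.mem_top y)))) z).symm
  have hcpow : ∀ x y : R, ⁅x, y⁆ ^ p = 1 := by
    intro x y
    have h1 : ∀ n : ℕ, x ^ n * y * (x ^ n)⁻¹ = ⁅x, y⁆ ^ n * y := by
      intro n
      induction n with
      | zero => simp
      | succ n ih =>
        calc x ^ (n + 1) * y * (x ^ (n + 1))⁻¹ = x * (x ^ n * y * (x ^ n)⁻¹) * x⁻¹ := by rw [pow_succ']; group
          _ = (x * ⁅x, y⁆ ^ n) * y * x⁻¹ := by rw [ih]; group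
          _ = ⁅x, y⁆ ^ n * (x * y * x⁻¹) := by rw [← ((hcomm_central x y x).pow_left n).eq]; group
          _ = _ := by rw [pow_succ, commutatorElement_def]; group
    have h2 := h1 p
    rw [← Subgroup.mem_center_iff.1 (hcen (hpF x)) y, mul_inv_cancel_right] at h2
    exact mul_eq_right.1 h2.symm
  have hmulp : ∀ x y : R, (x * y) ^ p = x ^ p * y ^ p := by
    intro x y
    rw [OddLocal.mul_pow_of_central_commutator (z := x) (x := y) (c := ⁅y, x⁆) (hcomm_central y x x).symm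
      (hcomm_central y x y).symm (by rw [commutatorElement_def]; group) p]
    obtain ⟨k, hk⟩ : p ∣ p.choose 2 := (Fact.out : p.Prime).dvd_choose_self two_ne_zero
      (lt_of_le_of_ne (Fact.out : p.Prime).two_le (Ne.symm hp2))
    rw [hk, pow_mul, hcpow, one_pow, one_mul]
  let powp : R →* R := MonoidHom.mk' (fun x => x ^ p) hmulp
  have hexp : ∀ x : R, x ^ p = 1 := by
    intro x
    have hle : Subgroup.closure Wset ≤ powp.ker := by
      rw [Subgroup.closure_le]
      rintro _ ⟨d, hd, r, rfl⟩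
      show (c d r * r⁻¹) ^ p = 1
      rw [hmulp, ← map_pow, hFfix d hd _ (hpF r), inv_pow, mul_inv_cancel]
    rw [hW] at hle
    exact hle (Subgroup.mem_top x)
  -- the quotient by the derived group
  letI : CommGroup (R ⧸ Φ) := { (inferInstance : Group (R ⧸ Φ)) with
    mul_comm := fun u v => by
      obtain ⟨x, rfl⟩ := QuotientGroup.mk'_surjective Φ u
      obtain ⟨y, rfl⟩ := QuotientGroup.mk'_surjective Φ v
      refine commutatorElement_eq_one_iff_mul_comm.1 ?_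
      rw [← map_commutatorElement]
      exact (QuotientGroup.eq_one_iff _).2 (Subgroup.commutator_mem_commutator (Subgroup.mem_top x) (Subgroup.mem_top y)) }
  set π := QuotientGroup.mk' Φ with hπ
  have hπs : Function.Surjective π := QuotientGroup.mk'_surjective Φ
  obtain ⟨ρ, hρ⟩ : ∃ ρ : K → ((R ⧸ Φ) →* (R ⧸ Φ)), ∀ g x, ρ g (π x) = π (c g x) :=
    ⟨fun g => QuotientGroup.map Φ Φ (c g).toMonoidHom
      (Subgroup.characteristic_iff_le_comap.1 inferInstance (c g)), fun g x => rfl⟩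
  have ρmul : ∀ g h v, ρ (g * h) v = ρ g (ρ h v) := fun g h v => by
    obtain ⟨x, rfl⟩ := hπs v
    rw [hρ, hρ, hρ, cmul]
  have hVp : ∀ v : R ⧸ Φ, v ^ p = 1 := fun v => by
    obtain ⟨x, rfl⟩ := hπs v
    rw [← map_pow, hexp, map_one]
  let := Fintype.ofFinite D
  obtain ⟨e, he⟩ : ∃ e : (R ⧸ Φ) →* (R ⧸ Φ), ∀ v, e v = ∏ d : D, ρ (d : K) v :=
    ⟨∏ d : D, ρ (d : K), fun v => MonoidHom.finset_prod_apply _ _ _⟩
  have he1 : ∀ v, e v = 1 := by
    have hle : Subgroup.closure Wset ≤ (e.comp π).ker := by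
      rw [Subgroup.closure_le]
      rintro _ ⟨d, hd, r, rfl⟩
      show e (π (c d r * r⁻¹)) = 1
      have h1 : e (π (c d r)) = e (π r) := by
        rw [← hρ, he, he]
        exact (Fintype.prod_congr _ _ fun (a : D) => (ρmul (a : K) d (π r)).symm).trans
          (Equiv.prod_comp (Equiv.mulRight (⟨d, hd⟩ : D)) (fun a : D => ρ (a : K) (π r)))
      rw [map_mul, map_mul, map_inv, map_inv, h1, mul_inv_cancel]
    rw [hW] at hle
    intro v
    obtain ⟨x, rfl⟩ := hπs v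
    exact hle (Subgroup.mem_top x)
  have hDcard : ∀ v : R ⧸ Φ, v ^ Nat.card D = 1 → v = 1 := fun v hv => eq_one_of_pow_coprime hDp hv (hVp v)
  have hVfix : ∀ v : R ⧸ Φ, (∀ d ∈ D, ρ d v = v) → v = 1 := fun v hv => hDcard v (by
    have := he1 v
    rwa [he, prod_congr rfl (fun (d : D) _ => hv d d.2), prod_const, card_univ, ← Nat.card_eq_fintype_card] at this)
  have hΦne : Φ ≠ ⊤ := fun h => hfrat (top_le_iff.1 (h ▸ hΦF))
  -- the norm of `b` is not trivial
  obtain ⟨v₀, hv₀⟩ : ∃ v₀, ∏ i ∈ range p, ρ (b ^ i) v₀ ≠ 1 := by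
    by_contra h
    push Not at h
    refine hΦne (eq_top_iff.2 fun x _ => (QuotientGroup.eq_one_iff x).1 (hDcard (π x) ?_))
    have hp0 : 0 < p := (Fact.out : p.Prime).pos
    have h1 : ∏ d : D, ∏ i ∈ range p, ρ ((d : K) * b ^ i * (d : K)⁻¹) (π x) = 1 := by
      refine prod_eq_one fun d _ => ?_
      rw [prod_congr rfl (fun i _ => by rw [ρmul, ρmul]), ← map_prod, h, map_one]
    rw [prod_comm, ← Finset.mul_prod_erase (range p) _ (mem_range.2 hp0)] at h1
    have h2 : ∀ i ∈ (range p).erase 0, ∏ d : D, ρ ((d : K) * b ^ i * (d : K)⁻¹) (π x) = 1 := by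
      intro i hi
      obtain ⟨hi0, hip⟩ := mem_erase.1 hi
      have hbi : b ^ i ∈ Subgroup.normalizer (D : Set K) := pow_mem hbD i
      let φ : D → D := fun d => ⟨(d : K) * (b ^ i * (d : K)⁻¹ * (b ^ i)⁻¹),
        mul_mem d.2 ((Subgroup.mem_normalizer_iff.1 hbi _).1 (inv_mem d.2))⟩
      have hφ : Function.Injective φ := by
        intro d d' hdd
        have h3 : (d : K) * (b ^ i * (d : K)⁻¹ * (b ^ i)⁻¹) = (d' : K) * (b ^ i * (d' : K)⁻¹ * (b ^ i)⁻¹) :=
          congrArg Subtype.val hdd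
        obtain ⟨q, hq⟩ : ∃ q, q = (d' : K)⁻¹ * d := ⟨_, rfl⟩
        have hqD : q ∈ D := hq ▸ mul_mem (inv_mem d'.2) d.2
        have h4 : Commute (b ^ i) q := by
          have h5 : q = b ^ i * ((d' : K)⁻¹ * d) * (b ^ i)⁻¹ := by
            calc q = (d' : K)⁻¹ * ((d : K) * (b ^ i * (d : K)⁻¹ * (b ^ i)⁻¹)) * (b ^ i * d * (b ^ i)⁻¹) := by
                  rw [hq]; group
              _ = _ := by rw [h3]; group
          rw [← hq] at h5
          exact (mul_inv_eq_iff_eq_mul.1 h5.symm)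
        have := hfpf q hqD (commute_of_commute_pow hb hi0 (mem_range.1 hip) h4)
        rw [hq, inv_mul_eq_one] at this
        exact Subtype.ext this.symm
      have h3 := Equiv.prod_comp (Equiv.ofBijective φ (Finite.injective_iff_bijective.1 hφ))
        (fun d : D => ρ (d : K) (ρ (b ^ i) (π x)))
      rw [← he, he1] at h3
      refine Eq.trans (prod_congr rfl fun d _ => ?_) h3
      rw [← ρmul]
      refine congrFun (congrArg DFunLike.coe (congrArg ρ ?_)) _
      show _ = (d : K) * (b ^ i * (d : K)⁻¹ * (b ^ i)⁻¹) * b ^ i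
      group
    rw [prod_eq_one h2, mul_one] at h1
    rw [prod_congr rfl (fun (d : D) _ => by rw [pow_zero, mul_one, mul_inv_cancel]), prod_const, card_univ,
      ← Nat.card_eq_fintype_card] at h1
    rwa [show ρ 1 (π x) = π x by rw [hρ, c1]] at h1
  -- the fixed points of `b` on the quotient form a group of order `p`
  let β : (R ⧸ Φ) →* (R ⧸ Φ) := MonoidHom.mk' (fun v => v * (ρ b v)⁻¹) fun u v => by
    rw [map_mul, mul_inv, mul_mul_mul_comm]
  have hker : Nat.card β.ker ≤ p := by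
    refine le_trans ?_ hI
    let val : R → ↥(β.range.comap π) := fun r => ⟨r * (c b r)⁻¹, ⟨π r, by
      show π r * (ρ b (π r))⁻¹ = π (r * (c b r)⁻¹)
      rw [hρ, map_mul, map_inv]⟩⟩
    have hrep : ∀ r : R, ∃ r' : R, val r' = val r := fun r => ⟨r, rfl⟩
    let rep : ↥(β.range.comap π) → R := fun k => if h : ∃ r', val r' = k then h.choose else 1
    have hrep' : ∀ r, val (rep (val r)) = val r := fun r => by
      show val (dite _ _ _) = _
      rw [dif_pos (hrep r)]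
      exact (hrep r).choose_spec
    have hmemI : ∀ r, (rep (val r))⁻¹ * r ∈ I := fun r => by
      refine hIb _ (hexp _) ?_
      have h1 : rep (val r) * (c b (rep (val r)))⁻¹ = r * (c b r)⁻¹ := congrArg Subtype.val (hrep' r)
      rw [map_mul, map_inv]
      calc (c b (rep (val r)))⁻¹ * c b r
          = (rep (val r))⁻¹ * (rep (val r) * (c b (rep (val r)))⁻¹) * c b r := by group
        _ = _ := by rw [h1]; group
    let f : R → ↥(β.range.comap π) × I := fun r => (val r, ⟨_, hmemI r⟩)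
    have hf : Function.Injective f := fun r r' h => by
      have h1 := congrArg Prod.fst h
      have h2 := congrArg (fun z => (z.2 : R)) h
      simp only [f] at h1 h2
      rw [h1] at h2
      exact mul_left_cancel h2
    have hcard := Nat.card_le_card_of_injective f hf
    rw [Nat.card_prod] at hcard
    have h1 : Nat.card ↥(β.range.comap π) * (β.range.index) = Nat.card R := by
      rw [← Subgroup.index_comap_of_surjective β.range hπs, Subgroup.card_mul_index]
    have h2 : Nat.card β.range * Nat.card β.ker = Nat.card (R ⧸ Φ) := by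
      rw [← Nat.card_congr (QuotientGroup.quotientKerEquivRange β).toEquiv, mul_comm]
      exact Subgroup.card_mul_index β.ker
    have h3 : Nat.card β.range * β.range.index = Nat.card (R ⧸ Φ) := Subgroup.card_mul_index _
    have h4 : β.range.index = Nat.card β.ker :=
      Nat.eq_of_mul_eq_mul_left (Nat.card_pos (α := β.range)) (h3.trans h2.symm)
    rw [← h1, h4] at hcard
    exact Nat.le_of_mul_le_mul_left hcard Nat.card_pos
  obtain ⟨c₀, hc₀⟩ : ∃ c₀, c₀ = ∏ i ∈ range p, ρ (b ^ i) v₀ := ⟨_, rfl⟩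
  have hnorm : ∀ v, ∏ i ∈ range p, ρ (b ^ i) v ∈ β.ker := by
    intro v
    show (∏ i ∈ range p, ρ (b ^ i) v) * (ρ b (∏ i ∈ range p, ρ (b ^ i) v))⁻¹ = 1
    rw [mul_inv_eq_one, map_prod, prod_congr rfl (fun i (_ : i ∈ range p) => (ρmul b (b ^ i) v).symm),
      prod_congr rfl (fun i (_ : i ∈ range p) => show ρ (b * b ^ i) v = ρ (b ^ (i + 1)) v by rw [← pow_succ'])]
    have h1 := Finset.prod_range_succ' (fun i => ρ (b ^ i) v) p
    have h2 := Finset.prod_range_succ (fun i => ρ (b ^ i) v) p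
    rw [h2, hb, pow_zero] at h1
    exact mul_right_cancel h1
  have hc₀ne : c₀ ≠ 1 := hc₀ ▸ hv₀
  have hker_eq : ∀ v ∈ β.ker, ∃ k : ℕ, v = c₀ ^ k := by
    intro v hv
    have h1 : Subgroup.zpowers c₀ = β.ker := Subgroup.eq_of_le_of_card_ge
      (Subgroup.zpowers_le.2 (hc₀ ▸ hnorm v₀))
      (hker.trans (by rw [Nat.card_zpowers, orderOf_eq_prime (hVp c₀) hc₀ne]))
    rw [← h1] at hv
    obtain ⟨k, hk⟩ := mem_powers_iff_mem_zpowers.2 hv
    exact ⟨k, hk.symm⟩
  have hc₀b : ρ b c₀ = c₀ := by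
    have h1 : c₀ ∈ β.ker := hc₀ ▸ hnorm v₀
    exact (mul_inv_eq_one.1 (show c₀ * (ρ b c₀)⁻¹ = 1 from h1)).symm
  -- the abelian case
  by_cases hΦ1 : Φ = ⊥
  · obtain ⟨r, hr⟩ := hπs c₀
    have h1 : c b r = r := by
      have h2 : π (c b r) = π r := by rw [← hρ, hr, hc₀b]
      have h3 := QuotientGroup.eq.1 h2
      rw [hΦ1, Subgroup.mem_bot, inv_mul_eq_one] at h3
      exact h3
    refine hc₀ne (hVfix c₀ fun d hd => ?_)
    rw [← hr, hρ, hID d hd r (hIb r (hexp r) h1)]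
  -- the form
  have hbΦ : ∀ x ∈ Φ, c b x ∈ Φ := fun x hx => Subgroup.characteristic_iff_le_comap.1 inferInstance (c b) hx
  letI : CommGroup Φ := { (inferInstance : Group Φ) with
    mul_comm := fun u v => Subtype.ext (Subgroup.mem_center_iff.1 (hcen (hΦF v.2)) u) }
  let βΦ : Φ →* Φ := MonoidHom.mk' (fun u => u * ⟨c b u, hbΦ u u.2⟩⁻¹) fun u v => by
    have : (⟨c b (u * v : Φ), hbΦ _ (u * v).2⟩ : Φ) = ⟨c b u, hbΦ u u.2⟩ * ⟨c b v, hbΦ v v.2⟩ :=
      Subtype.ext (map_mul (c b) (u : R) (v : R))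
    rw [this, mul_inv, mul_mul_mul_comm]
  obtain ⟨x₁, y₁, hxy⟩ : ∃ x y : R, ⁅x, y⁆ ∉ βΦ.range.map Φ.subtype := by
    by_contra h
    push Not at h
    have hle : Φ ≤ βΦ.range.map Φ.subtype :=
      (Subgroup.commutator_le (H₁ := (⊤ : Subgroup R)) (H₂ := ⊤)).2 fun a _ a' _ => h a a'
    have hsur : Function.Surjective βΦ := by
      intro u
      obtain ⟨u', hu', e⟩ := hle u.2
      rw [Subtype.ext e] at hu'
      exact hu'
    have hinj := Finite.injective_iff_surjective.2 hsur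
    -- a fixed point of the `p`-element `b`
    let A : Subgroup (MulAut R) := Subgroup.zpowers (c b)
    have hA : IsPGroup p A := by
      refine IsPGroup.of_card_dvd_pow (n := 1) ?_
      rw [Nat.card_zpowers, pow_one]
      exact orderOf_dvd_of_pow_eq_one (by rw [← map_pow, hb, map_one])
    let act : MulAction A Φ :=
      { smul := fun a u => ⟨(a : MulAut R) u, Subgroup.characteristic_iff_le_comap.1 inferInstance (a : MulAut R) u.2⟩
        one_smul := fun u => Subtype.ext rfl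
        mul_smul := fun a a' u => Subtype.ext rfl }
    have hdvd : p ∣ Nat.card Φ := by
      obtain ⟨k, hk⟩ := IsPGroup.iff_card.1 (hR.to_subgroup Φ)
      rw [hk]
      refine dvd_pow_self p fun h0 => hΦ1 (Subgroup.card_eq_one.1 ?_)
      rw [hk, h0, pow_zero]
    have hfp : (1 : Φ) ∈ MulAction.fixedPoints A Φ := fun a => Subtype.ext (map_one (a : MulAut R))
    obtain ⟨u, hu, hu1⟩ := hA.exists_fixed_point_of_prime_dvd_card_of_fixed_point Φ hdvd hfp
    refine hu1 (hinj ?_).symm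
    rw [map_one]
    show u * (⟨c b u, hbΦ u u.2⟩ : Φ)⁻¹ = 1
    rw [show (⟨c b u, hbΦ u u.2⟩ : Φ) = u from hu ⟨c b, Subgroup.mem_zpowers _⟩, mul_inv_cancel]
  set A₀ := βΦ.range with hA₀
  set πA := QuotientGroup.mk' A₀ with hπA
  obtain ⟨om, hom⟩ : ∃ om : R → R → (Φ ⧸ A₀), ∀ x y, ∀ h : ⁅x, y⁆ ∈ Φ, om x y = πA ⟨⁅x, y⁆, h⟩ :=
    ⟨fun x y => πA ⟨⁅x, y⁆, Subgroup.commutator_mem_commutator (Subgroup.mem_top x) (Subgroup.mem_top y)⟩,
      fun x y h => rfl⟩
  have hmemΦ : ∀ x y : R, ⁅x, y⁆ ∈ Φ := fun x y =>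
    Subgroup.commutator_mem_commutator (Subgroup.mem_top x) (Subgroup.mem_top y)
  have hadd₁ : ∀ x x' y, om (x * x') y = om x y * om x' y := fun x x' y => by
    rw [hom _ _ (hmemΦ _ _), hom _ _ (hmemΦ _ _), hom _ _ (hmemΦ _ _), ← map_mul]
    congr 1
    refine Subtype.ext ?_
    show ⁅x * x', y⁆ = ⁅x, y⁆ * ⁅x', y⁆
    calc ⁅x * x', y⁆ = x * ⁅x', y⁆ * x⁻¹ * ⁅x, y⁆ := by simp only [commutatorElement_def]; group
      _ = _ := by rw [← (hcomm_central x' y x).eq, mul_inv_cancel_right, (hcomm_central x' y _).eq]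
  have hanti : ∀ x y, om y x = (om x y)⁻¹ := fun x y => by
    rw [hom _ _ (hmemΦ _ _), hom _ _ (hmemΦ _ _), ← map_inv]
    congr 1
    exact Subtype.ext (commutatorElement_inv x y).symm
  have hadd₂ : ∀ x y y', om x (y * y') = om x y * om x y' := fun x y y' => by
    rw [hanti (y * y') x, hadd₁, mul_inv, ← hanti, ← hanti]
  have hb_inv : ∀ x y, om (c b x) (c b y) = om x y := fun x y => by
    rw [hom _ _ (hmemΦ _ _), hom _ _ (hmemΦ _ _)]
    refine (QuotientGroup.eq.2 ?_).symm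
    refine (Subgroup.inv_mem_iff _).1 ⟨⟨⁅x, y⁆, hmemΦ x y⟩, ?_⟩
    rw [mul_inv, inv_inv]
    show (⟨⁅x, y⁆, hmemΦ x y⟩ : Φ) * (⟨c b ⁅x, y⁆, _⟩ : Φ)⁻¹ = _
    congr 2
    exact Subtype.ext (map_commutatorElement (c b).toMonoidHom x y)
  have hΦ0 : ∀ z ∈ Φ, ∀ y, om z y = 1 := fun z hz y => by
    rw [hom _ _ (hmemΦ _ _)]
    refine (QuotientGroup.eq_one_iff _).2 ?_
    have : (⟨⁅z, y⁆, hmemΦ z y⟩ : Φ) = 1 := Subtype.ext
      (commutatorElement_eq_one_iff_mul_comm.2 (Subgroup.mem_center_iff.1 (hcen (hΦF hz)) y).symm)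
    rw [this]; exact one_mem _
  obtain ⟨ω, hω⟩ : ∃ ω : (R ⧸ Φ) → (R ⧸ Φ) → (Φ ⧸ A₀), ∀ x y, ω (π x) (π y) = om x y := by
    refine ⟨fun u v => om u.out v.out, fun x y => ?_⟩
    have h1 : ∀ z : R, ∃ f ∈ Φ, (π z).out = z * f := fun z => ⟨z⁻¹ * (π z).out, by
      refine QuotientGroup.eq.1 ?_
      rw [QuotientGroup.out_eq']; rfl, by group⟩
    obtain ⟨f, hf, ef⟩ := h1 x
    obtain ⟨g, hg, eg⟩ := h1 y
    show om (π x).out (π y).out = _
    rw [ef, eg, hadd₁, hΦ0 f hf, mul_one, hadd₂, hanti g x, hΦ0 g hg, inv_one, mul_one]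
  have ω₁ : ∀ u u' v, ω (u * u') v = ω u v * ω u' v := fun u u' v => by
    obtain ⟨x, rfl⟩ := hπs u; obtain ⟨x', rfl⟩ := hπs u'; obtain ⟨y, rfl⟩ := hπs v
    rw [← map_mul, hω, hω, hω, hadd₁]
  have ω₂ : ∀ u v v', ω u (v * v') = ω u v * ω u v' := fun u v v' => by
    obtain ⟨x, rfl⟩ := hπs u; obtain ⟨y, rfl⟩ := hπs v; obtain ⟨y', rfl⟩ := hπs v'
    rw [← map_mul, hω, hω, hω, hadd₂]
  have ωanti : ∀ u v, ω v u = (ω u v)⁻¹ := fun u v => by
    obtain ⟨x, rfl⟩ := hπs u; obtain ⟨y, rfl⟩ := hπs v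
    rw [hω, hω, hanti]
  have ωb : ∀ u v, ω (ρ b u) (ρ b v) = ω u v := fun u v => by
    obtain ⟨x, rfl⟩ := hπs u; obtain ⟨y, rfl⟩ := hπs v
    rw [hρ, hρ, hω, hω, hb_inv]
  have ωbi : ∀ (i : ℕ) u v, ω (ρ (b ^ i) u) (ρ (b ^ i) v) = ω u v := fun i => by
    induction i with
    | zero => intro u v; obtain ⟨x, rfl⟩ := hπs u; obtain ⟨y, rfl⟩ := hπs v; rw [pow_zero, hρ, hρ, c1, c1]
    | succ i ih => intro u v; rw [pow_succ', ρmul, ρmul, ωb, ih]
  have ωpow : ∀ (k : ℕ) u v, ω (u ^ k) v = ω u v ^ k := fun k u v =>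
    map_pow (MonoidHom.mk' (fun z => ω z v) fun a a' => ω₁ a a' v) u k
  -- the norm is self-adjoint
  have hadj : ∀ u v, ω (∏ i ∈ range p, ρ (b ^ i) u) v = ω u (∏ i ∈ range p, ρ (b ^ i) v) := by
    intro u v
    let L : (R ⧸ Φ) →* (Φ ⧸ A₀) := MonoidHom.mk' (fun z => ω z v) fun a a' => ω₁ a a' v
    let M : (R ⧸ Φ) →* (Φ ⧸ A₀) := MonoidHom.mk' (fun z => ω u z) fun a a' => ω₂ u a a'
    show L _ = M _
    rw [map_prod, map_prod]
    have hp0 : 0 < p := (Fact.out : p.Prime).pos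
    refine Finset.prod_nbij' (fun i => (p - i) % p) (fun i => (p - i) % p)
      (fun i _ => mem_range.2 (Nat.mod_lt _ hp0)) (fun i _ => mem_range.2 (Nat.mod_lt _ hp0))
      (fun i hi => ?_) (fun i hi => ?_) (fun i hi => ?_)
    all_goals have hi' : i < p := mem_range.1 hi
    all_goals rcases Nat.eq_zero_or_pos i with rfl | hi0
    · simp
    · rw [Nat.mod_eq_of_lt (show p - i < p by omega), Nat.mod_eq_of_lt (show p - (p - i) < p by omega)]; omega
    · simp
    · rw [Nat.mod_eq_of_lt (show p - i < p by omega), Nat.mod_eq_of_lt (show p - (p - i) < p by omega)]; omega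
    · rw [Nat.sub_zero, Nat.mod_self]
      show ω (ρ (b ^ 0) u) v = ω u (ρ (b ^ 0) v)
      obtain ⟨x, rfl⟩ := hπs u; obtain ⟨y, rfl⟩ := hπs v; rw [pow_zero, hρ, hρ, c1, c1]
    · show ω (ρ (b ^ i) u) v = ω u (ρ (b ^ ((p - i) % p)) v)
      rw [Nat.mod_eq_of_lt (show p - i < p by omega)]
      conv_lhs => rw [← ωbi (p - i), ← ρmul, ← pow_add, Nat.sub_add_cancel hi'.le, hb]
      congr 1
      obtain ⟨x, rfl⟩ := hπs u
      rw [hρ, c1]
  have hsq : ω c₀ v₀ = 1 := by
    have h1 : ω c₀ v₀ = (ω c₀ v₀)⁻¹ := by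
      rw [← ωanti]
      conv_lhs => rw [hc₀, hadj, ← hc₀]
    have h2 : ω c₀ v₀ ^ 2 = 1 := by rw [pow_two]; nth_rw 1 [h1]; exact inv_mul_cancel _
    have h3 : ω c₀ v₀ ^ p = 1 := by rw [← ωpow, hVp]; exact map_one (MonoidHom.mk' (fun z => ω z v₀) fun a a' => ω₁ a a' v₀)
    exact eq_one_of_pow_coprime ((Nat.coprime_primes Nat.prime_two (Fact.out : p.Prime)).2 (Ne.symm hp2)) h2 h3
  have hrad : ∀ v, ω v c₀ = 1 := by
    intro v
    obtain ⟨k, hk⟩ := hker_eq _ (hnorm v)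
    rw [hc₀, ← hadj, hk, ωpow, hsq, one_pow]
  -- the radical is a proper invariant subgroup
  let U : Subgroup R :=
    { carrier := {x | ∀ y, om x y = 1}
      one_mem' := fun y => hΦ0 1 (one_mem _) y
      mul_mem' := fun {x x'} hx hx' y => by rw [hadd₁, hx y, hx' y, one_mul]
      inv_mem' := fun {x} hx y => by
        have := hadd₁ x⁻¹ x y
        rwa [inv_mul_cancel, hΦ0 1 (one_mem _), hx y, mul_one, eq_comm] at this }
  have hUne : U ≠ ⊤ := by
    intro h
    refine hxy ⟨⟨⁅x₁, y₁⁆, hmemΦ _ _⟩, ?_, rfl⟩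
    refine (QuotientGroup.eq_one_iff _).1 ?_
    exact (hom _ _ (hmemΦ _ _)).symm.trans ((h.symm ▸ Subgroup.mem_top x₁ : x₁ ∈ U) y₁)
  have hUinv : ∀ g : K, (∀ x y, om (c g x) (c g y) = om x y) → ∀ x ∈ U, c g x ∈ U := fun g hg x hx y => by
    rw [← (c g).apply_symm_apply y, hg]
    exact hx _
  have hdom : ∀ d ∈ D, ∀ x y, om (c d x) (c d y) = om x y := fun d hd x y => by
    rw [hom _ _ (hmemΦ _ _), hom _ _ (hmemΦ _ _)]
    congr 1
    refine Subtype.ext ?_
    show ⁅c d x, c d y⁆ = ⁅x, y⁆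
    exact (map_commutatorElement (c d).toMonoidHom x y).symm.trans (hΦfix d hd _ (hmemΦ x y))
  obtain ⟨r, hr⟩ := hπs c₀
  have hrU : r ∈ U := fun y => by rw [← hω, hr, ωanti, hrad, inv_one]
  refine hc₀ne (hVfix c₀ fun d hd => ?_)
  rw [← hr, hρ, hmin U hUne (fun e he => hUinv e (hdom e he)) (hUinv b hb_inv) d hd r hrU]

end Cfsg.Agent.Lib.FusionControl
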