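import Cfsg.Prelude.Def_Transfer
import Cfsg.Prelude.Def_Solvable
import Mathlib

/-! Groups of shape 3^(1+2):SL(2,3) with an elementary abelian subgroup of order 27. -/

set_option autoImplicit false

namespace Cfsg.Agent.HeisSL

open scoped commutatorElement

abbrev SL3 : Type := Matrix.SpecialLinearGroup (Fin 2) (ZMod 3)

/-- coordinates -/
@[ext] structure W where
  /-- first coordinate -/
  a : ZMod 3
  /-- second coordinate -/
  b : ZMod 3
  /-- central coordinate -/
  c : ZMod 3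
  /-- linear part -/
  A : SL3

/-- as a product -/
def wEquiv : (ZMod 3 × ZMod 3 × ZMod 3) × SL3 ≃ W :=
  ⟨fun p => ⟨p.1.1, p.1.2.1, p.1.2.2, p.2⟩, fun w => ((w.a, w.b, w.c), w.A), fun _ => rfl, fun _ => rfl⟩

instance : Fintype W := Fintype.ofEquiv _ wEquiv

instance : DecidableEq W := wEquiv.symm.decidableEq

/-- the image of the first coordinate -/
def imA (A : SL3) (a b : ZMod 3) : ZMod 3 := A.1 0 0 * a + A.1 0 1 * b

/-- the image of the second coordinate -/
def imB (A : SL3) (a b : ZMod 3) : ZMod 3 := A.1 1 0 * a + A.1 1 1 * b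

/-- the product -/
def wmul (g h : W) : W :=
  ⟨g.a + imA g.A h.a h.b, g.b + imB g.A h.a h.b,
    g.c + h.c + 2 * (g.a * imB g.A h.a h.b - g.b * imA g.A h.a h.b), g.A * h.A⟩

theorem card_W : Nat.card W = 648 := by
  rw [← Nat.card_congr wEquiv, Nat.card_eq_fintype_card]
  decide +kernel

/-! ### Facts about SL(2,3) -/

theorem card_SL3 : Nat.card SL3 = 24 := by rw [Nat.card_eq_fintype_card]; decide +kernel

theorem sl_invol : ∀ A : SL3, A * A = 1 → A = 1 ∨ A = -1 := by decide +kernel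

theorem sl_gen : ∀ A : SL3, ∃ B C : SL3, B * B * B = 1 ∧ C * C * C = 1 ∧ ∃ D : SL3, D * D * D = 1 ∧ A = B * C * D := by
  decide +kernel

theorem sl_noncomm : ∀ A B : SL3, A ^ 4 = 1 → B ^ 4 = 1 → A * B = B * A ∨ A * B * A⁻¹ = B⁻¹ := by
  decide +kernel

theorem sl_mul_four : ∀ A B : SL3, A ^ 4 = 1 → B ^ 4 = 1 → (A * B) ^ 4 = 1 := by decide +kernel

theorem sl_qpart : ∀ Y : SL3, Y ^ 3 = 1 → Y ≠ 1 → ∀ A : SL3, ∃ i : Fin 3, (A * (Y ^ i.val)⁻¹) ^ 4 = 1 := by
  decide +kernel

theorem sl_qpart_unique : ∀ Y : SL3, Y ^ 3 = 1 → Y ≠ 1 → ∀ A : SL3, ∀ i j : Fin 3,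
    (A * (Y ^ i.val)⁻¹) ^ 4 = 1 → (A * (Y ^ j.val)⁻¹) ^ 4 = 1 → i = j := by
  decide +kernel

set_option synthInstance.maxSize 2000 in
theorem fixed_line : ∀ A : SL3, A ≠ 1 → ∀ v₀ v₁ w₀ w₁ : ZMod 3, (w₀ ≠ 0 ∨ w₁ ≠ 0) →
    imA A w₀ w₁ = w₀ → imB A w₀ w₁ = w₁ → v₀ * w₁ - v₁ * w₀ = 0 → imA A v₀ v₁ = v₀ ∧ imB A v₀ v₁ = v₁ := by
  decide +kernel

theorem dbl_aux : ∀ a b : ZMod 3, -a + -a = a ∧ 0 + -0 + 2 * (-a * -b - -b * -a) = 0 := by decide

theorem ne_aux : ¬ (-1 : ZMod 3) = 1 := by decide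

theorem ne_aux' : ¬ (0 + 0 + 2 * (1 * 1 - 0 * 0) : ZMod 3) = 0 + 0 + 2 * (0 * 0 - 1 * 1) := by decide

theorem hom_two_trivial {G : Type*} [Group G] {R : Subgroup G} (e : G → SL3) (he : Function.Surjective e)
    (hmul : ∀ x y, e (x * y) = e x * e y) (hker : ∀ x, e x = 1 → x ∈ R) (d : G →* ℤˣ)
    (hd : ∀ r ∈ R, d r = 1) (x : G) : d x = 1 := by
  have h1 : e 1 = 1 := by
    have := hmul 1 1
    rw [mul_one] at this
    exact left_eq_mul.1 this
  have h3 : ∀ y : G, e y * e y * e y = 1 → d y = 1 := fun y hy => by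
    have h := hd (y * y * y) (hker _ (by rw [hmul, hmul, hy]))
    rw [map_mul, map_mul] at h
    rcases Int.units_eq_one_or (d y) with e | e
    · exact e
    · rw [e] at h; simp at h
  obtain ⟨B, C, hB, hC, D, hD, hA⟩ := sl_gen (e x)
  obtain ⟨b, rfl⟩ := he B
  obtain ⟨c, rfl⟩ := he C
  obtain ⟨dd, rfl⟩ := he D
  have hmem : x * (b * c * dd)⁻¹ ∈ R := hker _ (by
    have h := hmul (x * (b * c * dd)⁻¹) (b * c * dd)
    rw [inv_mul_cancel_right, hmul (b * c), hmul b, ← hA] at h
    exact right_eq_mul.1 h)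
  have h := hd _ hmem
  rw [map_mul, map_inv, map_mul, map_mul, h3 b hB, h3 c hC, h3 dd hD] at h
  simpa using h

theorem zpow3_eq {G : Type*} [Group G] {x : G} (hx : x ^ 3 = 1) (i j : ℕ) (h : (i : ZMod 3) = j) :
    x ^ i = x ^ j := by
  rw [ZMod.natCast_eq_natCast_iff'] at h
  rw [← Nat.div_add_mod i 3, ← Nat.div_add_mod j 3, pow_add, pow_add, pow_mul, pow_mul, hx, one_pow,
    one_pow, h]

theorem swap_pows {G : Type*} [Group G] {a b z : G} (hab : b * a = a * b * z) (hza : a * z = z * a)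
    (hzb : b * z = z * b) (j k : ℕ) : b ^ j * a ^ k = a ^ k * b ^ j * z ^ (j * k) := by
  have h1 : ∀ k : ℕ, b * a ^ k = a ^ k * b * z ^ k := by
    intro k
    induction k with
    | zero => simp
    | succ k ih =>
      have hc : Commute (z ^ k) a := ((show Commute a z from hza).pow_right k).symm
      calc b * a ^ (k + 1) = b * a ^ k * a := by rw [pow_succ, mul_assoc]
        _ = a ^ k * b * (z ^ k * a) := by rw [ih, mul_assoc]
        _ = a ^ k * b * (a * z ^ k) := by rw [hc.eq]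
        _ = a ^ k * (b * a) * z ^ k := by simp only [mul_assoc]
        _ = a ^ k * (a * b * z) * z ^ k := by rw [hab]
        _ = a ^ (k + 1) * b * z ^ (k + 1) := by rw [pow_succ a, pow_succ' z]; simp only [mul_assoc]
  induction j with
  | zero => simp
  | succ j ih =>
    have hc : Commute (z ^ (j * k)) b := ((show Commute b z from hzb).pow_right _).symm
    calc b ^ (j + 1) * a ^ k = b ^ j * (b * a ^ k) := by rw [pow_succ, mul_assoc]
      _ = b ^ j * a ^ k * b * z ^ k := by rw [h1]; simp only [mul_assoc]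
      _ = a ^ k * b ^ j * (z ^ (j * k) * b) * z ^ k := by rw [ih]; simp only [mul_assoc]
      _ = a ^ k * b ^ (j + 1) * z ^ ((j + 1) * k) := by
        rw [hc.eq, pow_succ, add_mul, one_mul, pow_add]; simp only [mul_assoc]

theorem h_inj {G : Type*} [Group G] {g k z : G} (hzc : ∀ y : G, y * z = z * y) (hz3 : z ^ 3 = 1)
    (hz1 : z ≠ 1) (hgk : g * k ≠ k * g) (hg3 : g ^ 3 = 1) (hk3 : k ^ 3 = 1) :
    Function.Injective fun p : ZMod 3 × ZMod 3 × ZMod 3 =>
      g ^ p.1.val * k ^ p.2.1.val * z ^ (p.2.2 + p.1 * p.2.1).val := by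
  rintro ⟨a, b, c⟩ ⟨a', b', c'⟩ heq
  simp only at heq
  have hzp : ∀ (n : ℕ) (y : G), Commute y (z ^ n) := fun n y => (show Commute y z from hzc y).pow_right n
  have ha : a = a' := by
    by_contra hne
    apply hgk
    -- `g ^ (a - a')` commutes with `k`
    have h1 : Commute (k ^ b.val * z ^ (c + a * b).val) k := ((Commute.refl k).pow_left _).mul_left (hzp _ k).symm
    have h2 : Commute (k ^ b'.val * z ^ (c' + a' * b').val) k := ((Commute.refl k).pow_left _).mul_left (hzp _ k).symm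
    have h3 : Commute (g ^ (a - a').val) k := by
      have e : g ^ (a - a').val = (k ^ b'.val * z ^ (c' + a' * b').val) * (k ^ b.val * z ^ (c + a * b).val)⁻¹ := by
        have e1 : g ^ a.val = g ^ a'.val * g ^ (a - a').val := by
          rw [← pow_add]
          exact zpow3_eq hg3 _ _ (by simp)
        rw [eq_mul_inv_iff_mul_eq]
        refine mul_left_cancel (a := g ^ a'.val) ?_
        rw [← mul_assoc, ← e1, ← mul_assoc, ← mul_assoc]
        exact heq
      rw [e]
      exact h2.mul_left h1.inv_left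
    have hv : (a - a').val = 1 ∨ (a - a').val = 2 := by
      have := ZMod.val_lt (a - a')
      have : (a - a').val ≠ 0 := fun h => hne (sub_eq_zero.1 ((ZMod.val_eq_zero _).1 h))
      omega
    rcases hv with e | e <;> rw [e] at h3
    · simpa using h3.eq
    · have h4 := h3.mul_left h3
      rw [← pow_add, show 2 + 2 = 3 + 1 from rfl, pow_add, hg3, one_mul, pow_one] at h4
      exact h4.eq
  subst ha
  have hb : b = b' := by
    by_contra hne
    apply hgk
    rw [mul_assoc, mul_assoc] at heq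
    have heq' := mul_left_cancel heq
    have h3 : Commute g (k ^ (b - b').val) := by
      have e : k ^ (b - b').val = z ^ (c' + a * b').val * (z ^ (c + a * b).val)⁻¹ := by
        have e1 : k ^ b.val = k ^ b'.val * k ^ (b - b').val := by
          rw [← pow_add]
          exact zpow3_eq hk3 _ _ (by simp)
        rw [eq_mul_inv_iff_mul_eq]
        refine mul_left_cancel (a := k ^ b'.val) ?_
        rw [← mul_assoc, ← e1]
        exact heq'
      rw [e]
      exact (hzp _ g).mul_right (hzp _ g).inv_right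
    have hv : (b - b').val = 1 ∨ (b - b').val = 2 := by
      have := ZMod.val_lt (b - b')
      have : (b - b').val ≠ 0 := fun h => hne (sub_eq_zero.1 ((ZMod.val_eq_zero _).1 h))
      omega
    rcases hv with e | e <;> rw [e] at h3
    · simpa using h3.eq
    · have h4 := h3.mul_right h3
      rw [← pow_add, show 2 + 2 = 3 + 1 from rfl, pow_add, hk3, one_mul, pow_one] at h4
      exact h4.eq
  subst hb
  have h1 := mul_left_cancel heq
  have : Fact (Nat.Prime 3) := ⟨Nat.prime_three⟩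
  have hord : orderOf z = 3 := orderOf_eq_prime hz3 hz1
  rw [pow_eq_pow_iff_modEq, hord, ← ZMod.natCast_eq_natCast_iff, ZMod.natCast_zmod_val, ZMod.natCast_zmod_val,
    add_left_inj] at h1
  rw [h1]

/-- coordinates on the core together with an inverting involution -/
def IsCoord {X : Type*} [Group X] (R : Subgroup X) (t : X) (h : ZMod 3 → ZMod 3 → ZMod 3 → X) : Prop :=
  (∀ a b c a' b' c', h a b c * h a' b' c' = h (a + a') (b + b') (c + c' + 2 * (a * b' - b * a'))) ∧
  (∀ a b c, t * h a b c * t⁻¹ = h (-a) (-b) c) ∧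
  (∀ x, x ∈ R ↔ ∃ a b c, h a b c = x) ∧
  (∀ a b c a' b' c', h a b c = h a' b' c' → a = a' ∧ b = b' ∧ c = c') ∧
  (∀ (x : X) (c : ZMod 3), x * h 0 0 c = h 0 0 c * x)

set_option maxHeartbeats 2000000 in
theorem coords {X : Type*} [Group X] [Finite X]
    (hR : Cfsg.IsExtraspecial 3 (Cfsg.pCore 3 X)) (hRcard : Nat.card (Cfsg.pCore 3 X) = 27)
    (hRexp : ∀ r ∈ Cfsg.pCore 3 X, r ^ 3 = 1) (hO2 : Cfsg.pCore 2 X = ⊥)
    [(Cfsg.pCore 3 X).Normal]
    (e : X ⧸ Cfsg.pCore 3 X ≃* SL3) :
    ∃ t : X, t * t = 1 ∧ e (QuotientGroup.mk t) = -1 ∧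
      ∃ h : ZMod 3 → ZMod 3 → ZMod 3 → X, IsCoord (Cfsg.pCore 3 X) t h := by
  classical
  set R := Cfsg.pCore 3 X with hRdef
  have hRn : R.Normal := inferInstance
  -- the involution
  obtain ⟨t₀, ht₀⟩ : ∃ t₀ : X, e (QuotientGroup.mk t₀) = -1 := by
    obtain ⟨y, hy⟩ := e.surjective (-1)
    obtain ⟨x, rfl⟩ := QuotientGroup.mk_surjective y
    exact ⟨x, hy⟩
  have hneg : (-1 : SL3) * -1 = 1 := by decide +kernel
  have htt : t₀ * t₀ ∈ R := by
    rw [← QuotientGroup.eq_one_iff (N := R)]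
    apply e.injective
    rw [QuotientGroup.mk_mul, map_mul, ht₀, hneg, map_one]
  set t := t₀ ^ 3 with htdef
  have ht2 : t * t = 1 := by
    have := hRexp _ htt
    rw [htdef, ← (Commute.refl t₀).mul_pow 3]
    exact this
  have hte : e (QuotientGroup.mk t) = -1 := by
    rw [htdef, QuotientGroup.mk_pow, map_pow, ht₀]
    decide +kernel
  -- the centre
  obtain ⟨⟨-, hfr, hcom⟩, hZ⟩ := hR
  set Z := Subgroup.center ↥R with hZdef
  obtain ⟨a₀, b₀, hab⟩ : ∃ a b : ↥R, ⁅a, b⁆ ≠ 1 := by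
    by_contra hcon
    push Not at hcon
    have htop : Z = ⊤ := by
      rw [eq_top_iff]
      intro x _
      rw [hZdef, Subgroup.mem_center_iff]
      exact fun y => commutatorElement_eq_one_iff_mul_comm.1 (hcon y x)
    rw [htop, Subgroup.card_top, hRcard] at hZ
    omega
  have hZn : ∀ x : X, ∀ r : ↥R, r ∈ Z → ∀ r' : ↥R, (r' : X) = x * r * x⁻¹ → r' ∈ Z := by
    intro x r hr r' hr'
    rw [hZdef, Subgroup.mem_center_iff]
    intro y
    have := congrArg Subtype.val (Subgroup.mem_center_iff.1 hr ⟨x⁻¹ * y * x, by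
      simpa using hRn.conj_mem y.1 y.2 x⁻¹⟩)
    refine Subtype.ext ?_
    simp only [Subgroup.coe_mul] at this ⊢
    rw [hr']
    calc (y : X) * (x * r * x⁻¹) = x * (x⁻¹ * y * x * r) * x⁻¹ := by group
      _ = x * (r * (x⁻¹ * y * x)) * x⁻¹ := by rw [this]
      _ = _ := by group
  have hzZ : ⁅a₀, b₀⁆ ∈ Z := by
    rw [← hcom, commutator_def]
    exact Subgroup.commutator_mem_commutator (Subgroup.mem_top _) (Subgroup.mem_top _)
  -- conjugation by the involution
  let τ : ↥R → ↥R := fun r => ⟨t * r * t⁻¹, hRn.conj_mem r.1 r.2 t⟩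
  have hτmul : ∀ r s : ↥R, τ (r * s) = τ r * τ s := fun r s => Subtype.ext (by
    change t * ((r : X) * s) * t⁻¹ = t * r * t⁻¹ * (t * s * t⁻¹); group)
  have hτinv : ∀ r : ↥R, τ r⁻¹ = (τ r)⁻¹ := fun r => Subtype.ext (by
    change t * (r : X)⁻¹ * t⁻¹ = (t * r * t⁻¹)⁻¹; group)
  have hττ : ∀ r : ↥R, τ (τ r) = r := fun r => Subtype.ext (by
    change t * (t * r * t⁻¹) * t⁻¹ = r
    calc t * (t * (r : X) * t⁻¹) * t⁻¹ = (t * t) * r * (t * t)⁻¹ := by group
      _ = r := by rw [ht2]; group)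
  have hr3 : ∀ r : ↥R, r ^ 3 = 1 := fun r => Subtype.ext (hRexp r r.2)
  -- the involution does not centralise the core
  have hmove : ∃ r : ↥R, τ r ≠ r := by
    by_contra hall
    push Not at hall
    have hcm : ∀ r ∈ R, t * r = r * t := fun r hr =>
      mul_inv_eq_iff_eq_mul.1 (congrArg Subtype.val (hall ⟨r, hr⟩))
    have hconj : ∀ x : X, x * t * x⁻¹ = t := by
      intro x
      have hm : t⁻¹ * (x * t * x⁻¹) ∈ R := by
        rw [← QuotientGroup.eq_one_iff (N := R)]
        apply e.injective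
        simp only [QuotientGroup.mk_mul, QuotientGroup.mk_inv, map_mul, map_inv]
        rw [hte, map_one]
        generalize e (QuotientGroup.mk x) = A
        exact (show ∀ A : SL3, (-1 : SL3)⁻¹ * (A * -1 * A⁻¹) = 1 by decide +kernel) A
      set r := t⁻¹ * (x * t * x⁻¹) with hr
      have h2r : r * r = 1 := by
        have e1 : x * t * x⁻¹ = t * r := by rw [hr]; group
        have e2 : (t * r) * (t * r) = 1 := by
          rw [← e1]
          calc x * t * x⁻¹ * (x * t * x⁻¹) = x * (t * t) * x⁻¹ := by group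
            _ = 1 := by rw [ht2]; group
        rw [mul_assoc, ← mul_assoc r t, ← hcm r hm, mul_assoc t r, ← mul_assoc t t, ht2, one_mul] at e2
        exact e2
      have h1 : r = 1 := by
        have := hRexp r hm
        rw [pow_succ, sq, h2r, one_mul] at this
        exact this
      rw [hr, inv_mul_eq_one] at h1
      exact h1.symm
    have hN : (Subgroup.zpowers t).Normal := ⟨fun n hn x => by
      obtain ⟨k, rfl⟩ := Subgroup.mem_zpowers_iff.1 hn
      exact Subgroup.mem_zpowers_iff.2 ⟨k, by rw [← conj_zpow, hconj]⟩⟩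
    have hP : IsPGroup 2 (Subgroup.zpowers t) := by
      intro g
      obtain ⟨k, hk⟩ := Subgroup.mem_zpowers_iff.1 g.2
      refine ⟨1, Subtype.ext ?_⟩
      simp only [pow_one, SubgroupClass.coe_pow, OneMemClass.coe_one, ← hk]
      rw [pow_two, ← zpow_add, ← two_mul, zpow_mul, zpow_two, ht2, one_zpow]
    have hle : Subgroup.zpowers t ≤ Cfsg.pCore 2 X := le_sSup ⟨hN, hP⟩
    rw [hO2] at hle
    have : t = 1 := Subgroup.mem_bot.1 (hle (Subgroup.mem_zpowers t))
    rw [this, QuotientGroup.mk_one, map_one] at hte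
    exact absurd hte (by decide +kernel)
  -- a central element of the whole group
  have hZcard : Nat.card Z = 3 := hZ
  have hzne : (⁅a₀, b₀⁆ : ↥R) ≠ 1 := hab
  have hZeq : ∀ y : ↥R, y ∈ Z → y ≠ 1 → ∀ y' : ↥R, y' ∈ Z → y' = 1 ∨ y' = y ∨ y' = y * y := by
    intro y hy hy1 y' hy'
    have : Fact (Nat.Prime 3) := ⟨Nat.prime_three⟩
    have hm := Subgroup.mem_zpowers_iff.1 (show (⟨y', hy'⟩ : Z) ∈ Subgroup.zpowers (⟨y, hy⟩ : Z) from
      mem_zpowers_of_prime_card hZcard (fun h => hy1 (congrArg Subtype.val h)))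
    obtain ⟨k, hk⟩ := hm
    have hk' : y ^ k = y' := congrArg Subtype.val hk
    rw [← Int.emod_add_mul_ediv k 3, zpow_add, zpow_mul, show y ^ (3 : ℤ) = 1 by
      rw [show (3 : ℤ) = ((3 : ℕ) : ℤ) from rfl, zpow_natCast, hr3], one_zpow, mul_one] at hk'
    have h0 := Int.emod_nonneg k (show (3 : ℤ) ≠ 0 by norm_num)
    have h1 := Int.emod_lt_of_pos k (show (0 : ℤ) < 3 by norm_num)
    rcases (show k % 3 = 0 ∨ k % 3 = 1 ∨ k % 3 = 2 by omega) with e | e | e <;> rw [e] at hk'
    · left; simpa using hk'.symm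
    · right; left; simpa using hk'.symm
    · right; right; rw [← hk', zpow_two]
  have hcentral : ∀ r : ↥R, r ∈ Z → ∀ x : X, x * r = r * x := by
    intro r hr x
    by_cases hr1 : r = 1
    · subst hr1; simp
    have two : ∀ x : X, x * r * x⁻¹ = r ∨ x * r * x⁻¹ = (r : X) * r := by
      intro x
      rcases hZeq r hr hr1 ⟨x * r * x⁻¹, hRn.conj_mem r.1 r.2 x⟩ (hZn x r hr _ rfl) with h | h | h
      · exfalso
        apply hr1
        have h' : x * (r : X) * x⁻¹ = 1 := congrArg Subtype.val h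
        exact Subtype.ext (conj_eq_one_iff.1 h')
      · exact Or.inl (congrArg Subtype.val h)
      · exact Or.inr (congrArg Subtype.val h)
    have hrr : (r : X) * r ≠ r := fun h => hr1 (Subtype.ext (mul_eq_left.1 h))
    have h4 : (r : X) * r * ((r : X) * r) = r := by
      have := hRexp r r.2
      calc (r : X) * r * ((r : X) * r) = (r : X) ^ 3 * r := by simp only [pow_succ, pow_zero, one_mul, mul_assoc]
        _ = r := by rw [this, one_mul]
    let d : X →* ℤˣ :=
      { toFun := fun x => if x * (r : X) * x⁻¹ = r then 1 else -1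
        map_one' := by simp
        map_mul' := fun x y => by
          have hxy : x * y * (r : X) * (x * y)⁻¹ = x * (y * r * y⁻¹) * x⁻¹ := by group
          have hx2 : x * ((r : X) * r) * x⁻¹ = (x * r * x⁻¹) * (x * r * x⁻¹) := by group
          rw [hxy]
          rcases two x with hx | hx <;> rcases two y with hy | hy
          · simp [hx, hy]
          · rw [hy, hx2, hx]; simp [hrr]
          · rw [hy, hx]; simp [hrr]
          · rw [hy, hx2, hx, h4]; simp [hrr] }
    have hd := hom_two_trivial (R := R) (fun x => e (QuotientGroup.mk x))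
      (fun A => (e.surjective A).elim fun y hy => (QuotientGroup.mk_surjective y).elim
        fun x hx => ⟨x, by simp only [hx, hy]⟩)
      (fun a b => by simp only [QuotientGroup.mk_mul, map_mul])
      (fun a ha => (QuotientGroup.eq_one_iff a).1 (e.injective (by rw [ha, map_one])))
      d (fun q hq => by
        change (if q * (r : X) * q⁻¹ = r then (1 : ℤˣ) else -1) = 1
        rw [if_pos]
        exact mul_inv_eq_iff_eq_mul.2 (congrArg Subtype.val (Subgroup.mem_center_iff.1 hr ⟨q, hq⟩)))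
      x
    rcases two x with hx | hx
    · exact mul_inv_eq_iff_eq_mul.1 hx
    · exfalso
      change (if x * (r : X) * x⁻¹ = r then (1 : ℤˣ) else -1) = 1 at hd
      rw [if_neg (by rw [hx]; exact hrr)] at hd
      simp at hd
  have hτZ : ∀ r : ↥R, r ∈ Z → τ r = r := fun r hr =>
    Subtype.ext (mul_inv_eq_iff_eq_mul.2 (hcentral r hr t))
  have hcommZ : ∀ r s : ↥R, ⁅r, s⁆ ∈ Z := fun r s => by
    rw [← hcom, commutator_def]
    exact Subgroup.commutator_mem_commutator (Subgroup.mem_top _) (Subgroup.mem_top _)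
  have hswap : ∀ r s : ↥R, ∃ z ∈ Z, r * s = z * (s * r) := fun r s =>
    ⟨⁅r, s⁆, hcommZ r s, by rw [commutatorElement_def]; group⟩
  -- the first inverted element
  obtain ⟨g, hg, hgZ⟩ : ∃ g : ↥R, τ g = g⁻¹ ∧ g ∉ Z := by
    obtain ⟨r, hr⟩ := hmove
    refine ⟨r * (τ r)⁻¹, by rw [hτmul, hτinv, hττ, mul_inv_rev, inv_inv], fun hz => hr ?_⟩
    have h := hτZ _ hz
    rw [hτmul, hτinv, hττ] at h
    have h2 : (r * (τ r)⁻¹) * (r * (τ r)⁻¹) = 1 := by
      nth_rw 2 [← h]
      group
    have h3 := hr3 (r * (τ r)⁻¹)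
    rw [pow_succ, sq, h2, one_mul, mul_inv_eq_one] at h3
    exact h3.symm
  obtain ⟨s, hs⟩ : ∃ s : ↥R, g * s ≠ s * g := by
    by_contra hcon
    push Not at hcon
    exact hgZ (by rw [hZdef, Subgroup.mem_center_iff]; exact fun y => (hcon y).symm)
  set k := s * (τ s)⁻¹ with hk
  have hkinv : τ k = k⁻¹ := by rw [hk, hτmul, hτinv, hττ, mul_inv_rev, inv_inv]
  -- commutation with a fixed element
  have hfixcomm : ∀ w : ↥R, (∃ z ∈ Z, τ w = z * w) → g * w = w * g := by
    intro w hw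
    obtain ⟨z, hz, hzw⟩ := hw
    have hzc : ∀ y : ↥R, y * z = z * y := fun y => Subgroup.mem_center_iff.1 hz y
    obtain ⟨c, hc, hgw⟩ := hswap g w
    have hcc : ∀ y : ↥R, y * c = c * y := fun y => Subgroup.mem_center_iff.1 hc y
    have h1 := congrArg τ hgw
    rw [hτmul, hτmul, hτmul, hg, hzw, hτZ c hc] at h1
    have h2 : g⁻¹ * w = c * (w * g⁻¹) := by
      rw [← mul_assoc g⁻¹ z w, hzc g⁻¹, mul_assoc z, mul_assoc z w, ← mul_assoc c z, hcc z |>.symm,
        mul_assoc z c] at h1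
      exact mul_left_cancel h1
    have h3 : w * g = c * (g * w) := by
      calc w * g = g * (g⁻¹ * w) * g := by group
        _ = g * (c * (w * g⁻¹)) * g := by rw [h2]
        _ = g * c * w := by group
        _ = c * (g * w) := by rw [hcc g, mul_assoc]
    rw [h3, ← mul_assoc] at hgw
    have hcc1 : c * c = 1 := right_eq_mul.1 hgw
    have hc1 : c = 1 := by
      have := hr3 c
      rw [pow_succ, sq, hcc1, one_mul] at this
      exact this
    rw [hc1, one_mul] at h3
    exact h3.symm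
  have hgk : g * k ≠ k * g := by
    intro hcm
    have hw : g * (s * τ s) = s * τ s * g := by
      refine hfixcomm _ ?_
      obtain ⟨z, hz, h⟩ := hswap (τ s) s
      exact ⟨z, hz, by rw [hτmul, hττ, h]⟩
    obtain ⟨c, hc, hsw⟩ := hswap (τ s)⁻¹ s
    have hcc : ∀ y : ↥R, y * c = c * y := fun y => Subgroup.mem_center_iff.1 hc y
    have hs2 : k * (s * τ s) = c * (s * s) := by
      calc k * (s * τ s) = s * ((τ s)⁻¹ * s) * τ s := by rw [hk]; group
        _ = s * (c * (s * (τ s)⁻¹)) * τ s := by rw [hsw]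
        _ = s * c * s := by group
        _ = c * (s * s) := by rw [hcc s, mul_assoc]
    have h1 : g * (c * (s * s)) = c * (s * s) * g := by
      rw [← hs2]
      calc g * (k * (s * τ s)) = k * (g * (s * τ s)) := by rw [← mul_assoc, hcm, mul_assoc]
        _ = k * (s * τ s) * g := by rw [hw]; simp only [mul_assoc]
    rw [← mul_assoc, hcc g, mul_assoc, mul_assoc c] at h1
    have h2 : Commute g (s * s) := mul_left_cancel h1
    have h4 : s * s * (s * s) = s := by
      calc s * s * (s * s) = s ^ 3 * s := by simp only [pow_succ, pow_zero, one_mul, mul_assoc]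
        _ = s := by rw [hr3, one_mul]
    apply hs
    have := (h2.mul_right h2).eq
    rwa [h4] at this
  set z := ⁅g, k⁆ with hz
  have hzmem : z ∈ Z := hcommZ g k
  have hz1 : z ≠ 1 := fun h => hgk (commutatorElement_eq_one_iff_mul_comm.1 h)
  have hzc : ∀ y : ↥R, y * z = z * y := fun y => Subgroup.mem_center_iff.1 hzmem y
  have hz3 := hr3 z
  have hkg : k * g = g * k * (z * z) := by
    have h : g * k = z * (k * g) := by rw [hz, commutatorElement_def]; group
    calc k * g = z ^ 3 * (k * g) := by rw [hz3, one_mul]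
      _ = z * z * (z * (k * g)) := by simp only [pow_succ, pow_zero, one_mul, mul_assoc]
      _ = z * z * (g * k) := by rw [← h]
      _ = g * k * (z * z) := ((show Commute (g * k) z from hzc _).mul_right (hzc _)).eq.symm
  have hz2c : ∀ y : ↥R, y * (z * z) = z * z * y := fun y => by
    rw [← mul_assoc, hzc y, mul_assoc, hzc y, ← mul_assoc]
  let h : ZMod 3 → ZMod 3 → ZMod 3 → ↥R := fun a b c => g ^ a.val * k ^ b.val * z ^ (c + a * b).val
  refine ⟨t, ht2, hte, fun a b c => (h a b c : X), ?_, ?_, ?_, ?_, ?_⟩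
  · intro a b c a' b' c'
    rw [← Subgroup.coe_mul]
    refine congrArg Subtype.val ?_
    have hsw := swap_pows hkg (hz2c g) (hz2c k) b.val a'.val
    have hzp : ∀ (n : ℕ) (y : ↥R), y * z ^ n = z ^ n * y := fun n y =>
      ((show Commute y z from hzc y).pow_right n).eq
    simp only [h]
    calc g ^ a.val * k ^ b.val * z ^ (c + a * b).val * (g ^ a'.val * k ^ b'.val * z ^ (c' + a' * b').val)
        = g ^ a.val * (k ^ b.val * g ^ a'.val) * k ^ b'.val *
            (z ^ (c + a * b).val * z ^ (c' + a' * b').val) := by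
          rw [mul_assoc _ (z ^ (c + a * b).val), ← mul_assoc (z ^ (c + a * b).val), ← hzp]
          simp only [mul_assoc]
      _ = g ^ a.val * g ^ a'.val * (k ^ b.val * k ^ b'.val) *
            ((z * z) ^ (b.val * a'.val) * (z ^ (c + a * b).val * z ^ (c' + a' * b').val)) := by
          rw [hsw]
          have := ((show Commute (k ^ b'.val) (z * z) from hz2c _).pow_right (b.val * a'.val)).eq
          simp only [mul_assoc]
          rw [← mul_assoc ((z * z) ^ (b.val * a'.val)) (k ^ b'.val), ← this]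
          simp only [mul_assoc]
      _ = _ := by
          rw [← pow_add, ← pow_add, ← pow_two, ← pow_mul, ← pow_add, ← pow_add]
          rw [zpow3_eq (hr3 g) (a.val + a'.val) (a + a').val (by simp),
            zpow3_eq (hr3 k) (b.val + b'.val) (b + b').val (by simp),
            zpow3_eq hz3 (2 * (b.val * a'.val) + ((c + a * b).val + (c' + a' * b').val))
              (c + c' + 2 * (a * b' - b * a') + (a + a') * (b + b')).val (by
                simp only [Nat.cast_add, Nat.cast_mul, Nat.cast_ofNat, ZMod.natCast_zmod_val]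
                have h3 : (3 : ZMod 3) = 0 := rfl
                linear_combination (b * a' - a * b') * h3)]
  · intro a b c
    have hτpow : ∀ (y : ↥R) (n : ℕ), τ (y ^ n) = (τ y) ^ n := fun y n => by
      induction n with
      | zero => rw [pow_zero, pow_zero]; exact Subtype.ext (by change t * (1 : X) * t⁻¹ = 1; group)
      | succ n ih => rw [pow_succ, pow_succ, hτmul, ih]
    have e1 : τ (h a b c) = h (-a) (-b) c := by
      simp only [h]
      rw [hτmul, hτmul, hτpow, hτpow, hτpow, hg, hkinv, hτZ z hzmem, neg_mul_neg]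
      congr 2
      · rw [show g⁻¹ = g ^ 2 from (eq_inv_of_mul_eq_one_left (by rw [← pow_succ]; exact hr3 g)).symm,
          ← pow_mul]
        exact zpow3_eq (hr3 g) _ _ (by
          simp only [Nat.cast_mul, Nat.cast_ofNat, ZMod.natCast_zmod_val]
          have h3 : (3 : ZMod 3) = 0 := rfl
          linear_combination a * h3)
      · rw [show k⁻¹ = k ^ 2 from (eq_inv_of_mul_eq_one_left (by rw [← pow_succ]; exact hr3 k)).symm,
          ← pow_mul]
        exact zpow3_eq (hr3 k) _ _ (by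
          simp only [Nat.cast_mul, Nat.cast_ofNat, ZMod.natCast_zmod_val]
          have h3 : (3 : ZMod 3) = 0 := rfl
          linear_combination b * h3)
    exact congrArg Subtype.val e1
  · have hinj : Function.Injective fun p : ZMod 3 × ZMod 3 × ZMod 3 => h p.1 p.2.1 p.2.2 :=
      h_inj hzc hz3 hz1 hgk (hr3 g) (hr3 k)
    have hsurj := ((Nat.bijective_iff_injective_and_card _).2 ⟨hinj, by
      rw [hRcard, Nat.card_eq_fintype_card]; decide⟩).2
    intro x
    constructor
    · intro hx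
      obtain ⟨⟨a, b, c⟩, habc⟩ := hsurj ⟨x, hx⟩
      exact ⟨a, b, c, congrArg Subtype.val habc⟩
    · rintro ⟨a, b, c, rfl⟩
      exact (h a b c).2
  · intro a b c a' b' c' heq
    have := h_inj hzc hz3 hz1 hgk (hr3 g) (hr3 k) (a₁ := (a, b, c)) (a₂ := (a', b', c')) (Subtype.ext heq)
    simp only [Prod.mk.injEq] at this
    exact this
  · intro x c
    refine hcentral _ ?_ x
    simp only [h, ZMod.val_zero, pow_zero, one_mul]
    exact pow_mem hzmem _

/-- the matrix with given columns -/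
def colMat (p q r s : ZMod 3) : Matrix (Fin 2) (Fin 2) (ZMod 3) := !![p, r; q, s]

theorem sl_normal_neg : ∀ A : SL3, A ≠ 1 → A = -1 ∨ A * A = -1 ∨ A * A * A = -1 ∨
    ∃ B : SL3, A * (B * A⁻¹ * B⁻¹) * (A * (B * A⁻¹ * B⁻¹)) = -1 := by
  decide +kernel

set_option maxHeartbeats 2000000 in
/-- Every such group has coordinates. -/
theorem exists_coords {X : Type*} [Group X] [Finite X]
    (hR : Cfsg.IsExtraspecial 3 (Cfsg.pCore 3 X)) (hRcard : Nat.card (Cfsg.pCore 3 X) = 27)
    (hRexp : ∀ r ∈ Cfsg.pCore 3 X, r ^ 3 = 1) (hO2 : Cfsg.pCore 2 X = ⊥)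
    [(Cfsg.pCore 3 X).Normal]
    (e : X ⧸ Cfsg.pCore 3 X ≃* SL3)
    (hE : ∃ E : Subgroup X, IsMulCommutative E ∧ (∀ a ∈ E, a ^ 3 = 1) ∧ Nat.card E = 27) :
    ∃ f : W → X, Function.Bijective f ∧ ∀ g g', f (wmul g g') = f g * f g' := by
  classical
  obtain ⟨t, ht2, hte, h, hmul, hinv, hmem, hinj, hcen⟩ := coords hR hRcard hRexp hO2 e
  set R := Cfsg.pCore 3 X with hRdef
  have hRn : R.Normal := inferInstance
  have hhR : ∀ a b c, h a b c ∈ R := fun a b c => (hmem _).2 ⟨a, b, c, rfl⟩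
  have h0 : h 0 0 0 = 1 := by
    have := hmul 0 0 0 0 0 0
    simp only [add_zero, mul_zero, sub_zero] at this
    exact left_eq_mul.1 this.symm
  have hneg : ∀ a b c, (h a b c)⁻¹ = h (-a) (-b) (-c) := fun a b c =>
    (eq_inv_of_mul_eq_one_right (by
      rw [hmul, add_neg_cancel, add_neg_cancel, add_neg_cancel,
        show a * -b - b * -a = 0 by ring, mul_zero, add_zero, h0])).symm
  have ht' : t⁻¹ = t := inv_eq_of_mul_eq_one_right ht2
  have hz2 : ∀ a : ZMod 3, -a = a → a = 0 := by decide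
  -- elements of the core commuting with the involution
  have hRK : ∀ a b c, t * h a b c = h a b c * t → a = 0 ∧ b = 0 := by
    intro a b c hc
    have := hinv a b c
    rw [mul_inv_eq_iff_eq_mul.2 hc] at this
    obtain ⟨h1, h2, -⟩ := hinj _ _ _ _ _ _ this
    exact ⟨hz2 a h1.symm, hz2 b h2.symm⟩
  -- the centraliser of the involution covers the quotient
  have hcover : ∀ x : X, ∃ a b, t * ((h a b 0)⁻¹ * x) = (h a b 0)⁻¹ * x * t := by
    intro x
    have hm : t⁻¹ * (x * t * x⁻¹) ∈ R := by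
      rw [← QuotientGroup.eq_one_iff (N := R)]
      apply e.injective
      simp only [QuotientGroup.mk_mul, QuotientGroup.mk_inv, map_mul, map_inv]
      rw [hte, map_one]
      generalize e (QuotientGroup.mk x) = A
      exact (show ∀ A : SL3, (-1 : SL3)⁻¹ * (A * -1 * A⁻¹) = 1 by decide +kernel) A
    obtain ⟨a, b, c, habc⟩ := (hmem _).1 hm
    have hx : x * t * x⁻¹ = t * h a b c := by rw [habc]; group
    have hc0 : c = 0 := by
      have h1 : t * h a b c * (t * h a b c) = 1 := by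
        rw [← hx]
        calc x * t * x⁻¹ * (x * t * x⁻¹) = x * (t * t) * x⁻¹ := by group
          _ = 1 := by rw [ht2]; group
      have h2 : t * h a b c * (t * h a b c) = h (-a) (-b) c * h a b c := by
        rw [← hinv, ht']; simp only [mul_assoc]
      rw [h2, hmul, ← h0] at h1
      obtain ⟨-, -, h3⟩ := hinj _ _ _ _ _ _ h1
      exact hz2 c (by
        have h3' : (3 : ZMod 3) = 0 := rfl
        linear_combination -h3 + c * 0 + (0 : ZMod 3) * h3')
    subst hc0
    refine ⟨a, b, ?_⟩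
    have hu : h a b 0 * t * (h a b 0)⁻¹ = t * h a b 0 := by
      calc h a b 0 * t * (h a b 0)⁻¹ = t * (t⁻¹ * h a b 0 * t) * (h a b 0)⁻¹ := by group
        _ = t * (h (-a) (-b) 0 * h (-a) (-b) (-0)) := by
          rw [hneg, mul_assoc]
          congr 2
          rw [← hinv, ht']
        _ = t * h a b 0 := by
          rw [hmul, (dbl_aux a b).1, (dbl_aux b a).1, (dbl_aux a b).2]
    have h4 : x * t * x⁻¹ = h a b 0 * t * (h a b 0)⁻¹ := hx.trans hu.symm
    calc t * ((h a b 0)⁻¹ * x) = (h a b 0)⁻¹ * (h a b 0 * t * (h a b 0)⁻¹) * x := by group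
      _ = (h a b 0)⁻¹ * (x * t * x⁻¹) * x := by rw [h4]
      _ = _ := by group
  let K : Subgroup X := Subgroup.centralizer {t}
  have hK : ∀ x, x ∈ K ↔ t * x = x * t := fun x => Subgroup.mem_centralizer_singleton_iff.trans ⟨Eq.symm, Eq.symm⟩
  -- the action on coordinates
  have hact : ∀ x ∈ K, ∀ a b, ∃ p q, x * h a b 0 * x⁻¹ = h p q 0 := by
    intro x hx a b
    obtain ⟨p, q, m, hm⟩ := (hmem _).1 (hRn.conj_mem _ (hhR a b 0) x)
    have h1 : t * h p q m * t⁻¹ = (h p q m)⁻¹ := by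
      have hxt := (hK x).1 hx
      have hxt' : t * x⁻¹ = x⁻¹ * t := (hK x⁻¹).1 (inv_mem hx)
      rw [hm]
      calc t * (x * h a b 0 * x⁻¹) * t⁻¹ = (t * x) * h a b 0 * (x⁻¹ * t⁻¹) := by group
        _ = x * (t * h a b 0 * t⁻¹) * x⁻¹ := by
          rw [hxt, show x⁻¹ * t⁻¹ = t⁻¹ * x⁻¹ by rw [ht', ← hxt']]; group
        _ = (x * h a b 0 * x⁻¹)⁻¹ := by rw [hinv, ← neg_zero (G := ZMod 3), ← hneg, neg_zero]; group
    rw [hinv, hneg] at h1
    obtain ⟨-, -, h3⟩ := hinj _ _ _ _ _ _ h1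
    exact ⟨p, q, by rw [← hm, hz2 m h3.symm]⟩
  choose P Q hPQ using hact
  have hc00 : ∀ c, ∀ a b, h a b c = h a b 0 * h 0 0 c := fun c a b => by
    rw [hmul]; simp
  have hlin : ∀ x (hx : x ∈ K) a b c, x * h a b c * x⁻¹ = h (P x hx a b) (Q x hx a b) c := by
    intro x hx a b c
    calc x * h a b c * x⁻¹ = x * h a b 0 * (h 0 0 c * x⁻¹) := by rw [hc00 c]; group
      _ = x * h a b 0 * (x⁻¹ * h 0 0 c) := by rw [← hcen x⁻¹ c]
      _ = h (P x hx a b) (Q x hx a b) 0 * h 0 0 c := by rw [← hPQ]; group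
      _ = _ := (hc00 c _ _).symm
  have hadd : ∀ x (hx : x ∈ K) a b a' b',
      P x hx (a + a') (b + b') = P x hx a b + P x hx a' b' ∧
      Q x hx (a + a') (b + b') = Q x hx a b + Q x hx a' b' ∧
      a * b' - b * a' = P x hx a b * Q x hx a' b' - Q x hx a b * P x hx a' b' := by
    intro x hx a b a' b'
    have h1 : x * (h a b 0 * h a' b' 0) * x⁻¹ = x * h a b 0 * x⁻¹ * (x * h a' b' 0 * x⁻¹) := by group
    rw [hmul, hlin x hx, hPQ x hx, hPQ x hx, hmul] at h1
    obtain ⟨h2, h3, h4⟩ := hinj _ _ _ _ _ _ h1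
    refine ⟨h2, h3, ?_⟩
    simp only [add_zero, zero_add] at h4
    exact mul_left_cancel₀ (show (2 : ZMod 3) ≠ 0 by decide) h4
  have : Fact (Nat.Prime 3) := ⟨Nat.prime_three⟩
  have hform : ∀ x (hx : x ∈ K) a b, P x hx a b = P x hx 1 0 * a + P x hx 0 1 * b ∧
      Q x hx a b = Q x hx 1 0 * a + Q x hx 0 1 * b := by
    intro x hx a b
    let Φ : ZMod 3 × ZMod 3 →+ ZMod 3 × ZMod 3 :=
      AddMonoidHom.mk' (fun v => (P x hx v.1 v.2, Q x hx v.1 v.2))
        (fun v w => Prod.ext (hadd x hx _ _ _ _).1 (hadd x hx _ _ _ _).2.1)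
    have e1 : ((a, b) : ZMod 3 × ZMod 3) = a • ((1 : ZMod 3), (0 : ZMod 3)) + b • ((0 : ZMod 3), (1 : ZMod 3)) := by
      simp
    have e2 : Φ (a, b) = a • Φ (1, 0) + b • Φ (0, 1) := by
      rw [e1, map_add, ZMod.map_smul, ZMod.map_smul]
    have e3 := congrArg Prod.fst e2
    have e4 := congrArg Prod.snd e2
    simp [Φ] at e3 e4
    exact ⟨by rw [e3]; ring, by rw [e4]; ring⟩
  let ρ : K → SL3 := fun x => ⟨colMat (P x x.2 1 0) (Q x x.2 1 0) (P x x.2 0 1) (Q x x.2 0 1), by
    simp only [colMat, Matrix.det_fin_two_of]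
    have := (hadd x x.2 1 0 0 1).2.2
    linear_combination -this⟩
  have hρ : ∀ (x : K) a b c, (x : X) * h a b c * (x : X)⁻¹ = h (imA (ρ x) a b) (imB (ρ x) a b) c := by
    intro x a b c
    rw [hlin x x.2, (hform x x.2 a b).1, (hform x x.2 a b).2]
    simp [imA, imB, ρ, colMat]
  have hρunique : ∀ (x : K) (A : SL3), (∀ a b, (x : X) * h a b 0 * (x : X)⁻¹ = h (imA A a b) (imB A a b) 0) → ρ x = A := by
    intro x A hA
    obtain ⟨p1, q1, -⟩ := hinj _ _ _ _ _ _ ((hρ x 1 0 0).symm.trans (hA 1 0))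
    obtain ⟨p2, q2, -⟩ := hinj _ _ _ _ _ _ ((hρ x 0 1 0).symm.trans (hA 0 1))
    simp only [imA, imB, mul_one, mul_zero, add_zero, zero_add] at p1 q1 p2 q2
    refine Subtype.ext (Matrix.ext fun i j => ?_)
    fin_cases i <;> fin_cases j <;> assumption
  have hρmul : ∀ x y : K, ρ (x * y) = ρ x * ρ y := by
    intro x y
    refine hρunique _ _ fun a b => ?_
    rw [Subgroup.coe_mul, show (x : X) * y * h a b 0 * ((x : X) * y)⁻¹ = x * (y * h a b 0 * (y : X)⁻¹) * (x : X)⁻¹ by group,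
      hρ, hρ]
    simp only [imA, imB, Matrix.SpecialLinearGroup.coe_mul, Matrix.mul_apply, Fin.sum_univ_two]
    congr 1 <;> ring
  have hρone : ρ 1 = 1 := hρunique _ _ fun a b => by simp [imA, imB]
  let ρh : K →* SL3 := { toFun := ρ, map_one' := hρone, map_mul' := hρmul }
  -- the kernel lies in the core
  have hkerR : ∀ x : K, ρ x = 1 → (x : X) ∈ R := by
    intro x hx
    by_contra hxR
    set A := e (QuotientGroup.mk (x : X)) with hA
    have hA1 : A ≠ 1 := fun h1 => hxR ((QuotientGroup.eq_one_iff _).1 (e.injective (by rw [← hA, h1, map_one])))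
    have key : ∀ y : K, ρ y = 1 → e (QuotientGroup.mk (y : X)) = -1 → False := by
      intro y hy hy2
      have hm : t⁻¹ * (y : X) ∈ R := by
        rw [← QuotientGroup.eq_one_iff (N := R)]
        apply e.injective
        simp only [QuotientGroup.mk_mul, QuotientGroup.mk_inv, map_mul, map_inv]
        rw [hte, hy2, inv_mul_cancel, map_one]
      obtain ⟨a, b, c, habc⟩ := (hmem _).1 hm
      obtain ⟨rfl, rfl⟩ := hRK a b c (by
        rw [habc, ← mul_assoc, mul_inv_cancel, one_mul, mul_assoc, ← (hK y).1 y.2, ← mul_assoc,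
          inv_mul_cancel, one_mul])
      have h1 := hρ y 1 0 0
      rw [hy, show (y : X) = t * h 0 0 c by rw [habc]; group] at h1
      have h2 : t * h 0 0 c * h 1 0 0 * (t * h 0 0 c)⁻¹ = h (-1) (-0) 0 := by
        rw [← hinv, mul_assoc t (h 0 0 c), ← hcen (h 1 0 0) c]; group
      rw [h2] at h1
      obtain ⟨h3, -, -⟩ := hinj _ _ _ _ _ _ h1
      simp [imA] at h3
      exact ne_aux (by first | exact h3 | exact h3.symm)
    have hpow : ∀ n : ℕ, ρ (x ^ n) = 1 := fun n => by
      rw [show ρ (x ^ n) = ρh (x ^ n) from rfl, map_pow, show ρh x = ρ x from rfl, hx, one_pow]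
    rcases sl_normal_neg A hA1 with h1 | h1 | h1 | ⟨B, h1⟩
    · exact key x hx h1
    · exact key (x ^ 2) (hpow 2) (by rw [SubgroupClass.coe_pow, QuotientGroup.mk_pow, map_pow, ← hA, pow_two]; exact h1)
    · exact key (x ^ 3) (hpow 3) (by
        rw [SubgroupClass.coe_pow, QuotientGroup.mk_pow, map_pow, ← hA, pow_succ, pow_two]; exact h1)
    · obtain ⟨g, hg⟩ := QuotientGroup.mk_surjective (e.symm B)
      obtain ⟨a, b, hab⟩ := hcover g
      let g' : K := ⟨(h a b 0)⁻¹ * g, (hK _).2 hab⟩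
      have hg' : e (QuotientGroup.mk (g' : X)) = B := by
        change e (QuotientGroup.mk ((h a b 0)⁻¹ * g)) = B
        rw [QuotientGroup.mk_mul, (QuotientGroup.eq_one_iff _).2 (inv_mem (hhR a b 0)), one_mul, hg,
          MulEquiv.apply_symm_apply]
      refine key (x * (g' * x⁻¹ * g'⁻¹) * (x * (g' * x⁻¹ * g'⁻¹))) ?_ ?_
      · change ρh _ = 1
        simp only [map_mul, map_inv]
        rw [show ρh x = ρ x from rfl, hx]
        group
      · simp only [Subgroup.coe_mul, Subgroup.coe_inv, QuotientGroup.mk_mul, QuotientGroup.mk_inv,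
          map_mul, map_inv, hg', ← hA]
        exact h1
  have hkerC : ∀ x : K, ρ x = 1 → ∃ c, (x : X) = h 0 0 c := by
    intro x hx
    obtain ⟨a, b, c, habc⟩ := (hmem _).1 (hkerR x hx)
    obtain ⟨rfl, rfl⟩ := hRK a b c (by rw [habc]; exact (hK x).1 x.2)
    exact ⟨c, habc.symm⟩
  -- surjectivity
  have hsurj : Function.Surjective ρ := by
    have hl : ∀ A : SL3, ∃ x : K, e (QuotientGroup.mk (x : X)) = A := by
      intro A
      obtain ⟨g, hg⟩ := QuotientGroup.mk_surjective (e.symm A)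
      obtain ⟨a, b, hab⟩ := hcover g
      refine ⟨⟨(h a b 0)⁻¹ * g, (hK _).2 hab⟩, ?_⟩
      change e (QuotientGroup.mk ((h a b 0)⁻¹ * g)) = A
      rw [QuotientGroup.mk_mul, (QuotientGroup.eq_one_iff _).2 (inv_mem (hhR a b 0)), one_mul, hg,
        MulEquiv.apply_symm_apply]
    choose l hl using hl
    have hi : Function.Injective (ρ ∘ l) := by
      intro A B hAB
      have h1 : ρh ((l A)⁻¹ * l B) = 1 := by
        rw [map_mul, map_inv]
        change (ρ (l A))⁻¹ * ρ (l B) = 1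
        rw [show ρ (l A) = ρ (l B) from hAB, inv_mul_cancel]
      have h2 := hkerR _ h1
      rw [Subgroup.coe_mul, Subgroup.coe_inv, ← QuotientGroup.eq] at h2
      rw [← hl A, ← hl B, h2]
    exact Function.Surjective.of_comp (Finite.injective_iff_surjective.1 hi)
  -- an element of order three outside the core
  obtain ⟨E, hEc, hE3, hE27⟩ := hE
  obtain ⟨y, hy3, hy1⟩ : ∃ y : K, y ^ 3 = 1 ∧ ρ y ≠ 1 := by
    let π : E →* SL3 := e.toMonoidHom.comp ((QuotientGroup.mk' R).comp E.subtype)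
    have hr : Nat.card π.range ∣ 3 := by
      have h1 : Nat.card π.range ∣ 27 := by rw [← hE27]; exact Subgroup.card_range_dvd π
      have h2 : Nat.card π.range ∣ 24 := by rw [← card_SL3]; exact Subgroup.card_subgroup_dvd_card _
      exact Nat.dvd_gcd h1 h2
    have hk : 9 ≤ Nat.card π.ker := by
      have h1 := Subgroup.card_mul_index π.ker
      rw [Subgroup.index_ker, hE27] at h1
      have := Nat.le_of_dvd (by norm_num) hr
      nlinarith
    have hkR : ∀ u : E, u ∈ π.ker ↔ (u : X) ∈ R := fun u => by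
      rw [MonoidHom.mem_ker, ← QuotientGroup.eq_one_iff (N := R)]
      exact ⟨fun h1 => e.injective (h1.trans (map_one e).symm), fun h1 => by
        change e (QuotientGroup.mk (u : X)) = 1
        rw [h1, map_one]⟩
    obtain ⟨w₀, w₁, d, hw, hwE⟩ : ∃ w₀ w₁ d, (w₀ ≠ 0 ∨ w₁ ≠ 0) ∧ h w₀ w₁ d ∈ E := by
      by_contra hcon
      push Not at hcon
      have hsel : ∀ u : π.ker, ∃ c, ((u : E) : X) = h 0 0 c := by
        intro u
        obtain ⟨a, b, c, habc⟩ := (hmem _).1 ((hkR u).1 u.2)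
        have := hcon a b c
        rw [habc] at this
        refine ⟨c, ?_⟩
        by_cases ha : a = 0
        · by_cases hb : b = 0
          · rw [← habc, ha, hb]
          · exact absurd u.1.2 (this (Or.inr hb))
        · exact absurd u.1.2 (this (Or.inl ha))
      choose cs hcs using hsel
      have hinj' : Function.Injective cs := fun u v huv =>
        Subtype.ext (Subtype.ext ((hcs u).trans ((congrArg (h 0 0) huv).trans (hcs v).symm)))
      have := Nat.card_le_card_of_injective cs hinj'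
      rw [Nat.card_zmod] at this
      omega
    obtain ⟨u, huE, huR⟩ : ∃ u ∈ E, u ∉ R := by
      by_contra hcon
      push Not at hcon
      have heq : E = R := Subgroup.eq_of_le_of_card_ge hcon (by rw [hE27, hRcard])
      have hc := congrArg Subtype.val (hEc.is_comm.comm ⟨h 1 0 0, heq ▸ hhR 1 0 0⟩ ⟨h 0 1 0, heq ▸ hhR 0 1 0⟩)
      simp only [Subgroup.coe_mul, hmul] at hc
      obtain ⟨-, -, h3⟩ := hinj _ _ _ _ _ _ hc
      exact ne_aux' h3
    obtain ⟨a, b, hab⟩ := hcover u
    let y : K := ⟨(h a b 0)⁻¹ * u, (hK _).2 hab⟩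
    have hu : u = h a b 0 * (y : X) := by simp [y]
    clear_value y
    have hy1 : ρ y ≠ 1 := fun h1 => huR (hu ▸ mul_mem (hhR a b 0) (hkerR y h1))
    have hc := congrArg Subtype.val (hEc.is_comm.comm ⟨u, huE⟩ ⟨h w₀ w₁ d, hwE⟩)
    simp only [Subgroup.coe_mul] at hc
    rw [hu, mul_assoc, show (y : X) * h w₀ w₁ d = ((y : X) * h w₀ w₁ d * (y : X)⁻¹) * y by group, hρ,
      ← mul_assoc, hmul, ← mul_assoc, hmul] at hc
    obtain ⟨c1, c2, c3⟩ := hinj _ _ _ _ _ _ (mul_right_cancel hc)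
    have e1 : imA (ρ y) w₀ w₁ = w₀ := by linear_combination c1
    have e2 : imB (ρ y) w₀ w₁ = w₁ := by linear_combination c2
    rw [e1, e2] at c3
    have e3 : a * w₁ - b * w₀ = 0 := by
      have h3 : (3 : ZMod 3) = 0 := rfl
      linear_combination c3 - (a * w₁ - b * w₀) * h3
    obtain ⟨f1, f2⟩ := fixed_line (ρ y) hy1 a b w₀ w₁ hw e1 e2 e3
    have hcom : Commute (h a b 0) (y : X) := by
      have := hρ y a b 0
      rw [f1, f2, mul_inv_eq_iff_eq_mul] at this
      exact this.symm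
    refine ⟨y, Subtype.ext ?_, hy1⟩
    have h1 := hE3 u huE
    rw [hu, hcom.mul_pow, hRexp _ (hhR a b 0), one_mul] at h1
    exact h1
  set Y := ρ y with hY
  have hY3 : Y ^ 3 = 1 := by
    change (ρh y) ^ 3 = 1
    rw [← map_pow, hy3, map_one]
  -- lifts of the elements of the quaternion part
  have hker4 : ∀ z : K, ρ z = 1 → z ^ 4 = 1 → z = 1 := by
    intro z hz h4
    have h3 : (z : X) ^ 3 = 1 := hRexp _ (hkerR z hz)
    refine Subtype.ext ?_
    have h4' : (z : X) ^ 4 = 1 := congrArg Subtype.val h4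
    rw [pow_succ, h3, one_mul] at h4'
    exact h4'
  have hcenK : ∀ z : K, ρ z = 1 → ∀ x : K, x * z = z * x := by
    intro z hz x
    obtain ⟨c, hc⟩ := hkerC z hz
    refine Subtype.ext ?_
    rw [Subgroup.coe_mul, Subgroup.coe_mul, hc, hcen]
  have hlift : ∀ A : SL3, A ^ 4 = 1 → ∃ x : K, ρ x = A ∧ x ^ 4 = 1 := by
    intro A hA
    obtain ⟨x, hx⟩ := hsurj A
    refine ⟨x ^ 9, ?_, ?_⟩
    · change ρh (x ^ 9) = A
      rw [map_pow, show ρh x = A from hx, show (9 : ℕ) = 4 + 4 + 1 from rfl, pow_succ, pow_add, hA,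
        one_mul, one_mul]
    · have h1 : ρ (x ^ 4) = 1 := by
        change ρh (x ^ 4) = 1
        rw [map_pow, show ρh x = A from hx, hA]
      have h2 : (x ^ 4) ^ 3 = 1 := Subtype.ext (hRexp _ (hkerR _ h1))
      rw [← pow_mul, show 9 * 4 = 4 * 3 * 3 from rfl, pow_mul, pow_mul, h2, one_pow]
  choose q₀ hq₀ using hlift
  have huniq : ∀ (A : SL3) (hA : A ^ 4 = 1) (x : K), ρ x = A → x ^ 4 = 1 → q₀ A hA = x := by
    intro A hA x hx hx4
    obtain ⟨hq, hq4⟩ := hq₀ A hA
    have h1 : ρ ((q₀ A hA)⁻¹ * x) = 1 := by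
      change ρh _ = 1
      rw [map_mul, map_inv]
      change (ρ _)⁻¹ * ρ x = 1
      rw [hq, hx, inv_mul_cancel]
    have h2 : Commute (q₀ A hA) ((q₀ A hA)⁻¹ * x) := hcenK _ h1 _
    have h3 : ((q₀ A hA)⁻¹ * x) ^ 4 = 1 := by
      have h4 := h2.mul_pow 4
      rw [mul_inv_cancel_left, hq4, one_mul, hx4] at h4
      exact h4.symm
    exact inv_mul_eq_one.1 (hker4 _ h1 h3)
  have hqmul : ∀ A B (hA : A ^ 4 = 1) (hB : B ^ 4 = 1),
      q₀ (A * B) (sl_mul_four A B hA hB) = q₀ A hA * q₀ B hB := by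
    intro A B hA hB
    obtain ⟨ha, ha4⟩ := hq₀ A hA
    obtain ⟨hb, hb4⟩ := hq₀ B hB
    set a := q₀ A hA
    set b := q₀ B hB
    refine huniq _ _ _ (by rw [hρmul, ha, hb]) ?_
    have hconj : ρ (a * b * a⁻¹) = A * B * A⁻¹ := by
      change ρh _ = _
      rw [map_mul, map_mul, map_inv]
      change ρ a * ρ b * (ρ a)⁻¹ = _
      rw [ha, hb]
    have hc4 : (a * b * a⁻¹) ^ 4 = 1 := by rw [conj_pow, hb4, mul_one, mul_inv_cancel]
    rcases sl_noncomm A B hA hB with hc | hc
    · have e1 : q₀ B hB = a * b * a⁻¹ := huniq _ _ _ (by rw [hconj, hc, mul_inv_cancel_right]) hc4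
      have hcomm : Commute a b := mul_inv_eq_iff_eq_mul.1 e1.symm
      rw [hcomm.mul_pow, ha4, hb4, one_mul]
    · have e1 : q₀ B hB = (a * b * a⁻¹)⁻¹ := huniq _ _ _ (by
        change ρh _ = B
        rw [map_inv]
        change (ρ (a * b * a⁻¹))⁻¹ = B
        rw [hconj, hc, inv_inv]) (by rw [inv_pow, hc4, inv_one])
      have e2 : b⁻¹ = a * b * a⁻¹ := inv_eq_iff_eq_inv.mpr e1
      have e3 : a * b = b⁻¹ * a := by rw [e2, inv_mul_cancel_right]
      have e4 : a * b * (a * b) = a ^ 2 := by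
        calc a * b * (a * b) = a * b * (b⁻¹ * a) := by rw [← e3]
          _ = a ^ 2 := by rw [mul_assoc, mul_inv_cancel_left, pow_two]
      rw [show (4 : ℕ) = 2 * 2 from rfl, pow_mul, pow_two (a * b), e4, ← pow_mul]
      exact ha4
  choose idx hidx using fun A => sl_qpart Y hY3 hy1 A
  let s : SL3 → K := fun A => q₀ (A * (Y ^ (idx A).val)⁻¹) (hidx A) * y ^ (idx A).val
  have hypow : ∀ n, ρ (y ^ n) = Y ^ n := fun n => by
    change ρh (y ^ n) = _
    rw [map_pow]; rfl
  have hs_eq : ∀ A (i : Fin 3) (hi : (A * (Y ^ i.val)⁻¹) ^ 4 = 1),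
      s A = q₀ (A * (Y ^ i.val)⁻¹) hi * y ^ i.val := by
    intro A i hi
    obtain rfl : idx A = i := sl_qpart_unique Y hY3 hy1 A _ _ (hidx A) hi
    rfl
  have hsρ : ∀ A, ρ (s A) = A := fun A => by
    rw [hρmul, (hq₀ _ _).1, hypow, inv_mul_cancel_right]
  have hsmul : ∀ A B, s (A * B) = s A * s B := by
    intro A B
    set P := A * (Y ^ (idx A).val)⁻¹ with hP
    set Q' := B * (Y ^ (idx B).val)⁻¹ with hQ
    set i := (idx A).val
    set j := (idx B).val
    have hQc : (Y ^ i * Q' * (Y ^ i)⁻¹) ^ 4 = 1 := by rw [conj_pow, hidx B, mul_one, mul_inv_cancel]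
    have hk : Y ^ ((idx A + idx B : Fin 3).val) = Y ^ (i + j) ∧ y ^ ((idx A + idx B : Fin 3).val) = y ^ (i + j) := by
      rw [Fin.val_add]
      constructor
      · conv_rhs => rw [← Nat.div_add_mod (i + j) 3, pow_add, pow_mul, hY3, one_pow, one_mul]
      · conv_rhs => rw [← Nat.div_add_mod (i + j) 3, pow_add, pow_mul, hy3, one_pow, one_mul]
    have hdec : A * B * (Y ^ ((idx A + idx B : Fin 3).val))⁻¹ = P * (Y ^ i * Q' * (Y ^ i)⁻¹) := by
      rw [hk.1, pow_add, hP, hQ]; group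
    have h4 : (A * B * (Y ^ ((idx A + idx B : Fin 3).val))⁻¹) ^ 4 = 1 := by
      rw [hdec]; exact sl_mul_four _ _ (hidx A) hQc
    rw [hs_eq (A * B) _ h4, hk.2]
    have e1 : q₀ _ h4 = q₀ P (hidx A) * q₀ _ hQc := by
      rw [← hqmul _ _ (hidx A) hQc]
      congr 1
    have e2 : q₀ _ hQc = y ^ i * q₀ Q' (hidx B) * (y ^ i)⁻¹ := huniq _ _ _ (by
        change ρh _ = _
        rw [map_mul, map_mul, map_inv]
        change ρ (y ^ i) * ρ (q₀ Q' (hidx B)) * (ρ (y ^ i))⁻¹ = _
        rw [hypow, (hq₀ _ _).1]) (by rw [conj_pow, (hq₀ _ _).2, mul_one, mul_inv_cancel])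
    rw [e1, e2, pow_add]
    change _ = q₀ P (hidx A) * y ^ i * (q₀ Q' (hidx B) * y ^ j)
    group
  refine ⟨fun w => h w.a w.b w.c * (s w.A : X), ?_, ?_⟩
  · have hinjf : Function.Injective fun w : W => h w.a w.b w.c * (s w.A : X) := by
      rintro ⟨a, b, c, A⟩ ⟨a', b', c', A'⟩ heq
      simp only at heq
      have h1 : (h a' b' c')⁻¹ * h a b c = (((s A') * (s A)⁻¹ : K) : X) := by
        rw [Subgroup.coe_mul, Subgroup.coe_inv, eq_mul_inv_iff_mul_eq, mul_assoc, heq, inv_mul_cancel_left]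
      rw [hneg, hmul] at h1
      have hm := (hK _).1 ((s A') * (s A)⁻¹).2
      rw [← h1] at hm
      obtain ⟨ha, hb⟩ := hRK _ _ _ hm
      have ha' : a = a' := by linear_combination ha
      have hb' : b = b' := by linear_combination hb
      have hAA : A = A' := by
        have h2 : ρ (s A' * (s A)⁻¹) = 1 := hρunique _ _ fun p r => by
          rw [← h1, ha, hb, ← hcen (h p r 0)]
          simp [imA, imB]
        change ρh _ = 1 at h2
        rw [map_mul, map_inv] at h2
        change ρ (s A') * (ρ (s A))⁻¹ = 1 at h2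
        rw [hsρ, hsρ, mul_inv_eq_one] at h2
        exact h2.symm
      subst hAA ha' hb'
      obtain ⟨-, -, hc⟩ := hinj _ _ _ _ _ _ (mul_right_cancel heq)
      rw [hc]
    refine (Nat.bijective_iff_injective_and_card _).2 ⟨hinjf, ?_⟩
    rw [card_W, Subgroup.card_eq_card_quotient_mul_card_subgroup R, Nat.card_congr e.toEquiv, card_SL3, hRcard]
  · intro g g'
    simp only [wmul]
    rw [hsmul, Subgroup.coe_mul, ← hmul, ← hsρ g.A, ← hρ, hsρ]
    group

end Cfsg.Agent.HeisSL
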