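import Cfsg.Prelude.Def_Classical
import Cfsg.Agent.Lib.Classical.SympGroup
import Cfsg.Agent.Lib.Classical.SympCard
import Cfsg.Agent.Lib.FusionControl.HeisSL
import Mathlib

/-! The centralizer of a long root element of `PSp₄(3)` in the coordinates of `HeisSL`. -/

set_option autoImplicit false

namespace Cfsg.Agent.HeisSLModel

open Cfsg.Agent.HeisSL Matrix

abbrev Ix : Type := Fin 2 ⊕ Fin 2

abbrev M4 : Type := Matrix Ix Ix (ZMod 3)

abbrev Sp : Type := Matrix.symplecticGroup (Fin 2) (ZMod 3)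

abbrev P4 : Type := Cfsg.PSp 2 (ZMod 3)

/-- the matrix with given coordinates -/
def M (w : W) : M4 :=
  Matrix.fromBlocks !![1, -w.b * w.A.1 0 0 + w.a * w.A.1 1 0; 0, w.A.1 0 0]
    !![-w.c, -w.b * w.A.1 0 1 + w.a * w.A.1 1 1; w.a, w.A.1 0 1]
    !![0, 0; 0, w.A.1 1 0] !![1, 0; w.b, w.A.1 1 1]

/-- unipotent part -/
def U (a b c : ZMod 3) : M4 := M ⟨a, b, c, 1⟩

/-- Levi part -/
def L (A : SL3) : M4 := M ⟨0, 0, 0, A⟩

theorem M_symp : ∀ w : W, M w * J (Fin 2) (ZMod 3) * (M w)ᵀ = J (Fin 2) (ZMod 3) := by decide +kernel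

theorem M_split : ∀ w : W, M w = U w.a w.b w.c * L w.A := by decide +kernel

set_option synthInstance.maxSize 2000 in
theorem U_mul : ∀ a b c a' b' c' : ZMod 3,
    U a b c * U a' b' c' = U (a + a') (b + b') (c + c' + 2 * (a * b' - b * a')) := by decide +kernel

theorem L_mul : ∀ A B : SL3, L A * L B = L (A * B) := by decide +kernel

theorem L_U : ∀ A : SL3, ∀ a b c : ZMod 3, L A * U a b c = U (imA A a b) (imB A a b) c * L A := by
  decide +kernel

theorem M_mul (g h : W) : M (wmul g h) = M g * M h := by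
  rw [M_split (wmul g h), M_split g, M_split h]
  simp only [wmul]
  rw [← U_mul, ← L_mul]
  simp only [Matrix.mul_assoc]
  rw [← Matrix.mul_assoc (L g.A) (U h.a h.b h.c), L_U]
  simp only [Matrix.mul_assoc]

/-- the symplectic matrix with given coordinates -/
def MS (w : W) : Sp := ⟨M w, SymplecticGroup.mem_iff.2 (M_symp w)⟩

/-- the projective class -/
def k (w : W) : P4 := QuotientGroup.mk (MS w)

theorem k_mul (g h : W) : k (wmul g h) = k g * k h := by
  rw [k, k, k, ← QuotientGroup.mk_mul]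
  congr 1
  exact Subtype.ext (M_mul g h)

theorem mk_eq_iff (x y : Sp) : (QuotientGroup.mk x : P4) = QuotientGroup.mk y ↔ y.1 = x.1 ∨ y.1 = -x.1 := by
  rw [QuotientGroup.eq, Cfsg.Agent.Lib.Classical.mem_center_sp_iff (by norm_num)]
  have hxy : x.1 * (x⁻¹ * y : Sp).1 = y.1 := by
    rw [← Submonoid.coe_mul, mul_inv_cancel_left]
  have hxx : (x⁻¹ : Sp).1 * x.1 = 1 := by
    rw [← Submonoid.coe_mul, inv_mul_cancel]; rfl
  constructor
  · rintro (h | h) <;> rw [h] at hxy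
    · exact Or.inl (by rw [← hxy, Matrix.mul_one])
    · exact Or.inr (by rw [← hxy, Matrix.mul_neg, Matrix.mul_one])
  · rintro (h | h) <;> rw [Submonoid.coe_mul, h]
    · exact Or.inl hxx
    · exact Or.inr (by rw [Matrix.mul_neg, hxx])

theorem k_injective : Function.Injective k := by
  intro v w h
  rcases (mk_eq_iff _ _).1 h with h | h
  · have e : ∀ i j, M w i j = M v i j := fun i j => congrFun (congrFun h i) j
    have e02 := e (Sum.inl 0) (Sum.inr 0)
    have e12 := e (Sum.inl 1) (Sum.inr 0)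
    have e32 := e (Sum.inr 1) (Sum.inr 0)
    have e11 := e (Sum.inl 1) (Sum.inl 1)
    have e13 := e (Sum.inl 1) (Sum.inr 1)
    have e31 := e (Sum.inr 1) (Sum.inl 1)
    have e33 := e (Sum.inr 1) (Sum.inr 1)
    simp [M] at e02 e12 e32 e11 e13 e31 e33
    refine W.ext e12.symm e32.symm e02.symm (Subtype.ext (Matrix.ext fun i j => ?_))
    fin_cases i <;> fin_cases j <;> first | exact e11.symm | exact e13.symm | exact e31.symm | exact e33.symm
  · have e := congrFun (congrFun h (Sum.inl 0)) (Sum.inl 0)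
    simp [MS, M] at e
    exact absurd e (by decide)

/-- the central element -/
def c₀ : W := ⟨0, 0, 1, 1⟩

/-- its matrix -/
def C₀ : M4 := M c₀

theorem C0_row : ∀ i j : Ix, C₀ i j =
    if i = Sum.inl 0 ∧ j = Sum.inr 0 then (-1 : ZMod 3) else if i = j then (1 : ZMod 3) else 0 := by
  rintro (i|i) (j|j) <;> fin_cases i <;> fin_cases j <;> simp [C₀, c₀, M]

theorem c0_central : ∀ w : W, wmul c₀ w = wmul w c₀ := by decide +kernel

theorem self_neg_eq_zero : ∀ x : ZMod 3, x = -x → x = 0 := by decide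

theorem normal_form (g : M4) (hg : g * J (Fin 2) (ZMod 3) * gᵀ = J (Fin 2) (ZMod 3))
    (hc : g * C₀ = C₀ * g) (h1 : g (Sum.inl 0) (Sum.inl 0) = 1) : ∃ w : W, g = M w := by
  have e : ∀ i j, (g * C₀) i j = (C₀ * g) i j := fun i j => congrFun (congrFun hc i) j
  have s : ∀ i j, (g * J (Fin 2) (ZMod 3) * gᵀ) i j = J (Fin 2) (ZMod 3) i j := fun i j =>
    congrFun (congrFun hg i) j
  have z20 := e (Sum.inr 0) (Sum.inr 0)
  have z21 := e (Sum.inl 0) (Sum.inl 1)
  have z23 := e (Sum.inl 0) (Sum.inr 1)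
  have z22 := e (Sum.inl 0) (Sum.inr 0)
  have z10 := e (Sum.inl 1) (Sum.inr 0)
  have z30 := e (Sum.inr 1) (Sum.inr 0)
  simp [Matrix.mul_apply, C0_row, Fintype.sum_sum_type, Fin.sum_univ_two] at z20 z21 z23 z22 z10 z30
  have s02 := s (Sum.inl 0) (Sum.inr 0)
  have s01 := s (Sum.inl 0) (Sum.inl 1)
  have s03 := s (Sum.inl 0) (Sum.inr 1)
  have s13 := s (Sum.inl 1) (Sum.inr 1)
  simp [Matrix.mul_apply, J, Fintype.sum_sum_type, Fin.sum_univ_two, h1, z20, z21, z23, z10, z30]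
    at s02 s01 s03 s13
  have z22' : g (Sum.inr 0) (Sum.inr 0) = 1 := by linear_combination z22 + h1
  have hdet : g (Sum.inl 1) (Sum.inl 1) * g (Sum.inr 1) (Sum.inr 1) -
      g (Sum.inl 1) (Sum.inr 1) * g (Sum.inr 1) (Sum.inl 1) = 1 := by linear_combination -s13
  refine ⟨⟨g (Sum.inl 1) (Sum.inr 0), g (Sum.inr 1) (Sum.inr 0), -g (Sum.inl 0) (Sum.inr 0),
    ⟨!![g (Sum.inl 1) (Sum.inl 1), g (Sum.inl 1) (Sum.inr 1); g (Sum.inr 1) (Sum.inl 1), g (Sum.inr 1) (Sum.inr 1)],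
      by rw [Matrix.det_fin_two_of]; exact hdet⟩⟩, Matrix.ext fun i j => ?_⟩
  have u1 : g (Sum.inl 0) (Sum.inl 1) = -g (Sum.inr 1) (Sum.inr 0) * g (Sum.inl 1) (Sum.inl 1) +
      g (Sum.inl 1) (Sum.inr 0) * g (Sum.inr 1) (Sum.inl 1) := by
    linear_combination -g (Sum.inl 1) (Sum.inl 1) * s03 + g (Sum.inr 1) (Sum.inl 1) * s01 -
      g (Sum.inl 0) (Sum.inl 1) * hdet
  have u3 : g (Sum.inl 0) (Sum.inr 1) = -g (Sum.inr 1) (Sum.inr 0) * g (Sum.inl 1) (Sum.inr 1) +
      g (Sum.inl 1) (Sum.inr 0) * g (Sum.inr 1) (Sum.inr 1) := by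
    linear_combination -g (Sum.inl 1) (Sum.inr 1) * s03 + g (Sum.inr 1) (Sum.inr 1) * s01 -
      g (Sum.inl 0) (Sum.inr 1) * hdet
  rcases i with i | i <;> rcases j with j | j <;> fin_cases i <;> fin_cases j <;>
    simp [M, h1, z20, z21, z23, z22', z10, z30, u1, u3]

theorem surj (g : Sp) (hc : g.1 * C₀ = C₀ * g.1 ∨ g.1 * C₀ = -(C₀ * g.1)) :
    ∃ w : W, k w = QuotientGroup.mk g := by
  have hg := SymplecticGroup.mem_iff.1 g.2
  rcases hc with hc | hc
  · have e : ∀ i j, (g.1 * C₀) i j = (C₀ * g.1) i j := fun i j => congrFun (congrFun hc i) j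
    have z20 := e (Sum.inr 0) (Sum.inr 0)
    have z21 := e (Sum.inl 0) (Sum.inl 1)
    have z23 := e (Sum.inl 0) (Sum.inr 1)
    have z22 := e (Sum.inl 0) (Sum.inr 0)
    simp [Matrix.mul_apply, C0_row, Fintype.sum_sum_type, Fin.sum_univ_two] at z20 z21 z23 z22
    have s02 := congrFun (congrFun hg (Sum.inl 0)) (Sum.inr 0)
    simp [Matrix.mul_apply, J, Fintype.sum_sum_type, Fin.sum_univ_two, z20, z21, z23] at s02
    have hsq : g.1 (Sum.inl 0) (Sum.inl 0) * g.1 (Sum.inl 0) (Sum.inl 0) = 1 := by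
      linear_combination s02 - g.1 (Sum.inl 0) (Sum.inl 0) * z22
    rcases mul_self_eq_one_iff.1 hsq with h1 | h1
    · obtain ⟨w, hw⟩ := normal_form g.1 hg hc h1
      exact ⟨w, (mk_eq_iff _ _).2 (Or.inl hw)⟩
    · obtain ⟨w, hw⟩ := normal_form (-g.1)
        (by rw [Matrix.transpose_neg, Matrix.neg_mul, Matrix.neg_mul, Matrix.mul_neg, neg_neg, hg])
        (by rw [Matrix.neg_mul, Matrix.mul_neg, hc]) (by rw [Matrix.neg_apply, h1, neg_neg])
      refine ⟨w, (mk_eq_iff _ _).2 (Or.inr ?_)⟩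
      show g.1 = -M w
      rw [← hw, neg_neg]
  · exfalso
    have e : ∀ i j, (g.1 * C₀) i j = -(C₀ * g.1) i j := fun i j => congrFun (congrFun hc i) j
    have z20 := e (Sum.inr 0) (Sum.inl 0)
    have z21 := e (Sum.inr 0) (Sum.inl 1)
    have z22 := e (Sum.inr 0) (Sum.inr 0)
    have z23 := e (Sum.inr 0) (Sum.inr 1)
    simp [Matrix.mul_apply, C0_row, Fintype.sum_sum_type, Fin.sum_univ_two] at z20 z21 z22 z23
    have a20 := self_neg_eq_zero _ z20
    have a21 := self_neg_eq_zero _ z21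
    have a23 := self_neg_eq_zero _ z23
    have a22 := self_neg_eq_zero (g.1 (Sum.inr 0) (Sum.inr 0)) (by rw [a20] at z22; simpa using z22)
    have s := congrFun (congrFun hg (Sum.inr 0)) (Sum.inl 0)
    simp [Matrix.mul_apply, J, Fintype.sum_sum_type, Fin.sum_univ_two, a20, a21, a22, a23] at s

theorem card_P4 : Nat.card P4 = 25920 := by
  have h := Cfsg.Agent.Lib.Classical.card_psp_mul (F := ZMod 3) (m := 2) (by norm_num)
  rw [ZMod.card, show Nat.gcd 2 (3 - 1) = 2 from rfl, Finset.prod_range_succ, Finset.prod_range_succ, Finset.prod_range_zero] at h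
  norm_num at h
  show Nat.card (Cfsg.PSp 2 (ZMod 3)) = 25920
  omega

theorem card_lower : Nat.card {w : W // w.A.1 1 0 = 0 ∧ w.A.1 0 0 = 1} = 81 := by
  rw [Nat.card_eq_fintype_card]; decide +kernel

theorem lower_mul : ∀ A B : SL3, A.1 1 0 = 0 ∧ A.1 0 0 = 1 → B.1 1 0 = 0 ∧ B.1 0 0 = 1 →
    (A * B).1 1 0 = 0 ∧ (A * B).1 0 0 = 1 := by decide +kernel

theorem c0_cube : wmul (wmul c₀ c₀) c₀ = ⟨0, 0, 0, 1⟩ := by decide +kernel

theorem k_one : k ⟨0, 0, 0, 1⟩ = 1 := by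
  have h := k_mul ⟨0, 0, 0, 1⟩ ⟨0, 0, 0, 1⟩
  rw [show wmul ⟨0, 0, 0, 1⟩ ⟨0, 0, 0, 1⟩ = ⟨0, 0, 0, 1⟩ by decide +kernel] at h
  exact left_eq_mul.1 h

theorem model : ∃ (c : P4) (S : Sylow 3 P4), orderOf c = 3 ∧ c ∈ (S : Subgroup P4) ∧
    c ∈ Subgroup.centralizer ((S : Subgroup P4) : Set P4) ∧
    ∃ f : W → Subgroup.centralizer ({c} : Set P4), Function.Bijective f ∧
      ∀ g g', f (wmul g g') = f g * f g' := by
  have : Fact (Nat.Prime 3) := ⟨Nat.prime_three⟩
  have hcent : ∀ w, k c₀ * k w = k w * k c₀ := fun w => by rw [← k_mul, ← k_mul, c0_central]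
  let Pm : Submonoid P4 :=
    { carrier := k '' {w | w.A.1 1 0 = 0 ∧ w.A.1 0 0 = 1}
      one_mem' := ⟨⟨0, 0, 0, 1⟩, by simp, k_one⟩
      mul_mem' := by
        rintro _ _ ⟨v, hv, rfl⟩ ⟨w, hw, rfl⟩
        exact ⟨wmul v w, lower_mul _ _ hv hw, k_mul v w⟩ }
  let P : Subgroup P4 :=
    { Pm with
      inv_mem' := by
        intro x hx
        rw [← (isOfFinOrder_of_finite x).mem_powers_iff_mem_zpowers.2 (inv_mem (Subgroup.mem_zpowers x)) |>.choose_spec]
        exact pow_mem (S := Pm) hx _ }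
  have hPcard : Nat.card P = 81 :=
    (Nat.card_image_of_injective k_injective _).trans card_lower
  have hP : IsPGroup 3 P := IsPGroup.of_card (n := 4) (by rw [hPcard]; norm_num)
  have hidx : ¬ 3 ∣ P.index := by
    have h := P.card_mul_index
    rw [hPcard, card_P4] at h
    omega
  refine ⟨k c₀, hP.toSylow hidx, ?_, ⟨c₀, by simp [c₀], rfl⟩, ?_, ?_⟩
  · refine orderOf_eq_prime ?_ ?_
    · rw [pow_succ, pow_two, ← k_mul, ← k_mul, c0_cube, k_one]
    · intro h
      have h' := k_injective (h.trans k_one.symm)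
      exact absurd (congrArg W.c h') (by decide)
  · rw [Subgroup.mem_centralizer_iff]
    rintro _ ⟨w, -, rfl⟩
    exact (hcent w).symm
  · refine ⟨fun w => ⟨k w, Subgroup.mem_centralizer_singleton_iff.2 (hcent w).symm⟩,
      ⟨fun v w h => k_injective (congrArg Subtype.val h), ?_⟩, fun g g' => Subtype.ext (k_mul g g')⟩
    rintro ⟨x, hx⟩
    obtain ⟨g, rfl⟩ := QuotientGroup.mk_surjective x
    have h := Subgroup.mem_centralizer_singleton_iff.1 hx
    rw [k, ← QuotientGroup.mk_mul, ← QuotientGroup.mk_mul, mk_eq_iff] at h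
    have h' : g.1 * C₀ = C₀ * g.1 ∨ g.1 * C₀ = -(C₀ * g.1) := by
      simp only [Submonoid.coe_mul] at h
      rcases h with h | h
      · exact Or.inl h.symm
      · exact Or.inr (by rw [show C₀ * g.1 = -(g.1 * C₀) from h, neg_neg])
    obtain ⟨w, hw⟩ := surj g h'
    exact ⟨w, Subtype.ext hw⟩

theorem map_mem {K K' : Type*} [Field K] [Field K'] {m : ℕ} (ψ : K →+* K')
    (A : Matrix.symplecticGroup (Fin m) K) : ψ.mapMatrix A.1 ∈ Matrix.symplecticGroup (Fin m) K' := by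
  have hA := SymplecticGroup.mem_iff.1 A.2
  rw [SymplecticGroup.mem_iff, RingHom.mapMatrix_apply, ← Matrix.transpose_map, ← Matrix.map_J (Fin m) ψ,
    ← Matrix.map_mul, ← Matrix.map_mul, hA]

/-- change of the ground field -/
noncomputable def mapSp {F F' : Type*} [Field F] [Field F'] (m : ℕ) (φ : F ≃+* F') :
    Matrix.symplecticGroup (Fin m) F ≃* Matrix.symplecticGroup (Fin m) F' :=
  { toFun := fun A => ⟨φ.toRingHom.mapMatrix A.1, map_mem φ.toRingHom A⟩
    invFun := fun A => ⟨φ.symm.toRingHom.mapMatrix A.1, map_mem φ.symm.toRingHom A⟩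
    left_inv := fun A => Subtype.ext (Matrix.ext fun i j => φ.symm_apply_apply _)
    right_inv := fun A => Subtype.ext (Matrix.ext fun i j => φ.apply_symm_apply _)
    map_mul' := fun A B => Subtype.ext (map_mul φ.toRingHom.mapMatrix A.1 B.1) }

end Cfsg.Agent.HeisSLModel
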