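import Cfsg.Agent.Lib.FusionControl.KControl

/-! Normal subgroups of index `p` from a small Sylow normalizer, `p ≥ 5`. -/

set_option autoImplicit false

universe u

open scoped commutatorElement

namespace Cfsg.Agent.Lib.FusionControl

variable {p : ℕ} [hp : Fact p.Prime]

/-- every `p'`-element normalizing `S` centralizes it -/
def SmallNormalizer {G : Type*} [Group G] (p : ℕ) (S : Subgroup G) : Prop :=
  ∀ g ∈ Subgroup.normalizer (S : Set G), (orderOf g).Coprime p → g ∈ Subgroup.centralizer (S : Set G)

lemma sylow_inf_commutator_ne {G : Type*} [Group G] [Finite G] (S : Sylow p G) (hS : (S : Subgroup G) ≠ ⊥) :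
    ⁅(S : Subgroup G), (S : Subgroup G)⁆ ≠ (S : Subgroup G) := by
  intro h
  have hsol : Group.IsNilpotent (S : Subgroup G) := S.2.isNilpotent
  have hnt : Nontrivial (S : Subgroup G) := (Subgroup.nontrivial_iff_ne_bot _).2 hS
  have h1 : (commutator (S : Subgroup G)).map (S : Subgroup G).subtype = (S : Subgroup G) := by
    rw [Subgroup.map_subtype_commutator]; exact h
  have h2 : commutator (S : Subgroup G) = ⊤ := by
    refine Subgroup.map_injective (S : Subgroup G).subtype_injective ?_
    rw [h1, ← MonoidHom.range_eq_map, Subgroup.range_subtype]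
  exact Cfsg.Agent.Lib.Cores.frattini_ne_top (G := (S : Subgroup G))
    (eq_top_iff.2 (h2 ▸ Cfsg.Agent.Lib.Cores.commutator_le_frattini))

theorem sylow_not_le_commutator (hp5 : 5 ≤ p) : ∀ (n : ℕ) (G : Type u) [Group G] [Finite G], Nat.card G = n →
    ∀ S : Sylow p G, (S : Subgroup G) ≠ ⊥ → SmallNormalizer p (S : Subgroup G) →
      ¬ (S : Subgroup G) ≤ commutator G := by
  intro n
  induction n using Nat.strong_induction_on with
  | _ n ih =>
  intro G _ _ hn S hS hsm hle
  set K := Cfsg.inducedFunctor Cfsg.kInfUpper (S : Subgroup G) with hK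
  set N := Subgroup.normalizer (K : Set G) with hN
  have hW := isConjugacyFunctor_inducedFunctor (isCharPFunctor_kInfUpper (p := p)) (X := G)
  obtain ⟨hKS, hKne, -⟩ := hW (S : Subgroup G) S.2
  have hctl := kInfUpper_controlsTransfer hp5 S
  have hSN : (S : Subgroup G) ≤ N := le_normalizer_inducedFunctor isCharPFunctor_kInfUpper S.2
  rw [← hK, ← hN, inf_eq_left.2 hle] at hctl
  by_cases hNtop : N = ⊤
  · have hKn : K.Normal := Subgroup.normalizer_eq_top_iff.1 hNtop
    by_cases hKeq : (S : Subgroup G) = K
    · -- the Sylow subgroup is normal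
      have hSn : (S : Subgroup G).Normal := by rw [hKeq]; exact hKn
      have h1 : (S : Subgroup G) ⊓ ⁅(⊤ : Subgroup G), ⊤⁆ ≤ ⁅(S : Subgroup G), (S : Subgroup G)⁆ := by
        refine inf_commutator_le le_top S.2 (sylow_relIndex_top S) fun x _ s hs _ => ?_
        obtain ⟨a, b, -, -, ha, ⟨k, hk⟩, rfl⟩ := Cfsg.Agent.Lib.Transfer.exists_pPart_decomp (p := p) x
        have hb : b ∈ (S : Subgroup G) :=
          Cfsg.Agent.Lib.Transfer.mem_of_isPGroup_zpowers_of_mem_normalizer S (k := k) hk
            (by rw [Subgroup.normalizer_eq_top]; trivial)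
        have haC := hsm a (by rw [Subgroup.normalizer_eq_top]; trivial) ha
        have hmem : b * s * b⁻¹ ∈ (S : Subgroup G) := mul_mem (mul_mem hb hs) (inv_mem hb)
        have e := Subgroup.mem_centralizer_iff.1 haC _ hmem
        have e2 : a * b * s * (a * b)⁻¹ = b * s * b⁻¹ := by
          calc a * b * s * (a * b)⁻¹ = a * (b * s * b⁻¹) * a⁻¹ := by group
            _ = _ := by rw [← e, mul_inv_cancel_right]
        rw [e2]
        exact mem_commutator_of_conj hb hs
      rw [← commutator_def, inf_eq_left.2 hle] at h1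
      exact sylow_inf_commutator_ne S hS (le_antisymm (commutator_self_le _) h1)
    · -- pass to the quotient
      set f := QuotientGroup.mk' K with hf
      have hfs : Function.Surjective f := QuotientGroup.mk'_surjective K
      set S' := S.mapSurjective hfs with hS'
      have hcoe : (S' : Subgroup (G ⧸ K)) = (S : Subgroup G).map f := Sylow.coe_mapSurjective hfs S
      have hS'ne : (S' : Subgroup (G ⧸ K)) ≠ ⊥ := by
        rw [hcoe, Ne, Subgroup.map_eq_bot_iff, QuotientGroup.ker_mk']
        exact fun h => hKeq (le_antisymm h hKS)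
      have hcard : Nat.card (G ⧸ K) < n := by
        rw [← hn, Subgroup.card_eq_card_quotient_mul_card_subgroup K]
        exact lt_mul_of_one_lt_right Nat.card_pos (Subgroup.one_lt_card_iff_ne_bot K |>.2 (hKne hS))
      refine ih _ hcard (G ⧸ K) rfl S' hS'ne ?_ ?_
      · intro y hy hord
        obtain ⟨x, rfl⟩ := hfs y
        have hcomap : ((S : Subgroup G).map f).comap f = (S : Subgroup G) := by
          rw [Subgroup.comap_map_eq, QuotientGroup.ker_mk', sup_eq_left.2 hKS]
        have hxN : x ∈ Subgroup.normalizer ((S : Subgroup G) : Set G) := by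
          rw [hcoe] at hy
          rw [Subgroup.mem_normalizer_iff]
          intro s
          have := Subgroup.mem_normalizer_iff.1 hy (f s)
          rw [← map_inv, ← map_mul, ← map_mul, ← Subgroup.mem_comap, ← Subgroup.mem_comap, hcomap] at this
          exact this
        obtain ⟨a, b, ha', hb', ha, ⟨k, hk⟩, hab⟩ := Cfsg.Agent.Lib.Transfer.exists_pPart_decomp (p := p) x
        have hbN : b ∈ Subgroup.normalizer ((S : Subgroup G) : Set G) := Subgroup.zpowers_le.2 hxN hb'
        have haN : a ∈ Subgroup.normalizer ((S : Subgroup G) : Set G) := Subgroup.zpowers_le.2 hxN ha'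
        have hb1 : f b = 1 := by
          refine orderOf_eq_one_iff.1 (Nat.eq_one_of_dvd_coprimes
            (Nat.Coprime.pow_right k hord) ?_ ?_)
          · obtain ⟨i, rfl⟩ := Subgroup.mem_zpowers_iff.1 hb'
            rw [map_zpow]
            exact orderOf_dvd_of_mem_zpowers ⟨i, rfl⟩
          · exact (orderOf_map_dvd f b).trans (hk ▸ dvd_rfl)
        have hfa : f x = f a := by rw [hab, map_mul, hb1, mul_one]
        rw [hfa, hcoe, Subgroup.mem_centralizer_iff]
        rintro _ ⟨s, hs, rfl⟩
        rw [← map_mul, ← map_mul, Subgroup.mem_centralizer_iff.1 (hsm a haN ha) s hs]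
      · rw [hcoe, commutator_def, ← Subgroup.map_top_of_surjective f hfs, ← Subgroup.map_commutator,
          ← commutator_def]
        exact Subgroup.map_mono hle
  · -- descend to the normalizer
    set S' : Sylow p N := S.subtype hSN with hS'
    have hcoe : (S' : Subgroup N) = (S : Subgroup G).subgroupOf N := S.coe_subtype hSN
    have hmap : (S' : Subgroup N).map N.subtype = (S : Subgroup G) := by
      rw [hcoe, Subgroup.subgroupOf_map_subtype, inf_eq_left.2 hSN]
    refine ih _ (hn ▸ card_lt_of_ne_top hNtop) N rfl S' ?_ ?_ ?_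
    · intro h
      rw [h, Subgroup.map_bot] at hmap
      exact hS hmap.symm
    · intro g hg hord
      have hgN : (g : G) ∈ Subgroup.normalizer ((S : Subgroup G) : Set G) := by
        rw [← hmap]; exact Subgroup.le_normalizer_map N.subtype ⟨g, hg, rfl⟩
      have := hsm g hgN (by rwa [Subgroup.orderOf_coe])
      rw [Subgroup.mem_centralizer_iff]
      intro s hs
      refine Subtype.ext (Subgroup.mem_centralizer_iff.1 this _ ?_)
      rw [← hmap]; exact ⟨s, hs, rfl⟩
    · rw [← Subgroup.map_le_map_iff_of_injective N.subtype_injective, hmap, Subgroup.map_subtype_commutator]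
      exact hctl.le.trans inf_le_right

/-- a normal subgroup of index `p` from `S ⊄ G'` -/
theorem exists_index_p {G : Type*} [Group G] [Finite G] (S : Sylow p G)
    (h : ¬ (S : Subgroup G) ≤ commutator G) : ∃ N : Subgroup G, N.Normal ∧ N.index = p := by
  let ab : G →* Abelianization G := Abelianization.of
  let pw : Abelianization G →* Abelianization G := powMonoidHom p
  have hne : pw.range ≠ ⊤ := by
    intro htop
    have hinj : Function.Injective pw := Finite.injective_iff_surjective.2 (MonoidHom.range_eq_top.1 htop)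
    obtain ⟨s, hs, hsc⟩ := SetLike.not_le_iff_exists.1 h
    have hne1 : ab s ≠ 1 := fun e => hsc ((QuotientGroup.eq_one_iff s).1 e)
    obtain ⟨j, hj⟩ := S.2 ⟨s, hs⟩
    have hj' : ab s ^ p ^ j = 1 := by
      rw [← map_pow, show s ^ p ^ j = 1 from congrArg Subtype.val hj, map_one]
    clear hj
    induction j with
    | zero => exact hne1 (by simpa using hj')
    | succ j ihj =>
      refine ihj (hinj ?_)
      rw [map_one]
      show (ab s ^ p ^ j) ^ p = 1
      rw [← pow_mul, ← pow_succ]; exact hj'
  obtain ⟨M, hM, hle⟩ := (eq_top_or_exists_le_coatom pw.range).resolve_left hne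
  refine ⟨M.comap ab, inferInstance, ?_⟩
  rw [Subgroup.index_comap_of_surjective M (show Function.Surjective ab from QuotientGroup.mk'_surjective _)]
  obtain ⟨x, -, hx⟩ := SetLike.exists_of_lt (lt_top_iff_ne_top.2 hM.1)
  have hcard : Nat.card (Abelianization G ⧸ M) = p := by
    have hy : (QuotientGroup.mk' M x) ^ p = 1 := by
      rw [← map_pow]; exact (QuotientGroup.eq_one_iff _).2 (hle ⟨x, rfl⟩)
    have hy1 : QuotientGroup.mk' M x ≠ 1 := fun e => hx ((QuotientGroup.eq_one_iff x).1 e)
    have hord : orderOf (QuotientGroup.mk' M x) = p := orderOf_eq_prime hy hy1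
    have hMz : M ≤ (Subgroup.zpowers (QuotientGroup.mk' M x)).comap (QuotientGroup.mk' M) := fun m hm => by
      show QuotientGroup.mk' M m ∈ Subgroup.zpowers (QuotientGroup.mk' M x)
      rw [show QuotientGroup.mk' M m = 1 from (QuotientGroup.eq_one_iff m).2 hm]; exact one_mem _
    have htop : Subgroup.zpowers (QuotientGroup.mk' M x) = ⊤ := by
      rcases hM.le_iff.1 hMz with h | h
      · rw [← Subgroup.map_comap_eq_self_of_surjective (QuotientGroup.mk'_surjective M)
          (Subgroup.zpowers (QuotientGroup.mk' M x)), h, Subgroup.map_top_of_surjective _ (QuotientGroup.mk'_surjective M)]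
      · exact absurd (h.le (show x ∈ (Subgroup.zpowers (QuotientGroup.mk' M x)).comap (QuotientGroup.mk' M) from Subgroup.mem_zpowers (QuotientGroup.mk' M x))) hx
    rw [← Subgroup.card_top, ← htop, Nat.card_zpowers, hord]
  exact hcard

end Cfsg.Agent.Lib.FusionControl
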