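import Cfsg.Agent.Lib.FusionControl.SectionHyp
import Cfsg.Agent.Lib.FusionControl.ChiefModule

/-! Minimal counterexamples to control of transfer by functors. -/

set_option autoImplicit false

universe u

open scoped commutatorElement

namespace Cfsg.Agent.Lib.FusionControl

variable {p : ℕ} [Fact p.Prime] {X : Type u} [Group X] [Finite X]
  {𝓦 : Set (∀ (Q : Type u) [Group Q], Subgroup Q)}

/-- control in the proper subgroups and in the proper quotients -/
structure ProperCtrl (p : ℕ) (X : Type u) [Group X] (𝓦 : Set (∀ (Q : Type u) [Group Q], Subgroup Q)) : Prop where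
  sub : ∀ H : Subgroup X, H ≠ ⊤ → Cfsg.FamilyControlsTransferIn p (indSet X 𝓦) H
  quot : ∀ (N : Subgroup X) [N.Normal], N ≠ ⊥ → Cfsg.FamilyControlsTransferIn p (indSet (X ⧸ N) 𝓦) ⊤

lemma properCtrl_of_involved (h𝓦 : ∀ W ∈ 𝓦, Cfsg.IsCharPFunctor.{u} p W)
    (h : ∀ (Y : Type u) [Group Y] [Finite Y], Cfsg.Involves Y X → Nat.card Y < Nat.card X →
      Cfsg.FamilyControlsTransferIn p (indSet Y 𝓦) ⊤) : ProperCtrl p X 𝓦 where
  sub H hH := family_transfer_of_subgroup h𝓦 (h H (involves_subgroup involves_self H) (card_lt_of_ne_top hH))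
  quot N _ hN := h (X ⧸ N) (involves_surjective involves_self _ (QuotientGroup.mk'_surjective N)) (by
    rw [Subgroup.card_eq_card_quotient_mul_card_subgroup N]
    exact lt_mul_of_one_lt_right Nat.card_pos (Subgroup.one_lt_card_iff_ne_bot N |>.2 hN))

variable (h𝓦 : ∀ W ∈ 𝓦, Cfsg.IsCharPFunctor.{u} p W) (hp : ProperCtrl p X 𝓦) (S : Sylow p X)

include h𝓦 hp

lemma ProperCtrl.inf_commutator_le {H : Subgroup X} (hH : H ≠ ⊤) (hle : (S : Subgroup X) ≤ H) :
    (S : Subgroup X) ⊓ ⁅H, H⁆ ≤ transferPart (indSet X 𝓦) ⊤ (S : Subgroup X) := by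
  rw [transfer_of_family (indSet_conjugacy h𝓦 X) (hp.sub H hH) hle S.2 (not_dvd_relIndex_of_le S hle)]
  exact iSup₂_mono fun F _ => inf_le_inf_left _
    (Subgroup.commutator_mono (inf_le_inf_right _ le_top) (inf_le_inf_right _ le_top))

lemma ProperCtrl.map_eq (N : Subgroup X) [N.Normal] (hN : N ≠ ⊥) :
    ((S : Subgroup X).map (QuotientGroup.mk' N)) ⊓ ⁅(⊤ : Subgroup (X ⧸ N)), ⊤⁆ =
      transferPart (indSet (X ⧸ N) 𝓦) ⊤ ((S : Subgroup X).map (QuotientGroup.mk' N)) :=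
  transfer_of_family (indSet_conjugacy h𝓦 _) (hp.quot N hN) le_top (S.2.map _) (by
    rw [Subgroup.relIndex_top_right]
    exact fun hd => S.not_dvd_index (hd.trans (Subgroup.index_map_dvd _ (QuotientGroup.mk'_surjective N))))

/-- a minimal counterexample has a self-centralizing `p`-core -/
lemma ProperCtrl.charPType (hX : ¬ Cfsg.FamilyControlsTransferIn p (indSet X 𝓦) ⊤) :
    CharPType p X ∧ Cfsg.pCore p X ≠ ⊥ := by
  obtain ⟨S⟩ : Nonempty (Sylow p X) := inferInstance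
  have hQ : Cfsg.pCore p X ≠ ⊥ := by
    intro hQ
    refine hX (transfer_local_global S (indSet_conjugacy h𝓦 X) (Extr p (S : Subgroup X)) (fun U hU => hU)
      (fun U hU => exists_extr_cj S hU) fun U hU hne => hp.sub _ fun htop => hne ?_)
    rw [eq_bot_iff, ← hQ]
    exact Cfsg.Agent.Lib.Cores.le_pCore (Subgroup.normalizer_eq_top_iff.1 htop) (S.2.to_le hU.1)
  refine ⟨?_, hQ⟩
  by_contra hC
  apply hX
  refine family_transfer_iff.2 ⟨S, le_top, S.2, sylow_relIndex_top S, ?_⟩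
  by_cases hO : Cfsg.pPrimeCore p X = ⊥
  · exact transfer_hard h𝓦 S hQ hO hC (fun H hne hle => hp.inf_commutator_le h𝓦 S hne hle)
      (hp.map_eq h𝓦 S _ hQ)
  · exact transfer_lift h𝓦 S (hp.map_eq h𝓦 S _ hO)

lemma ProperCtrl.not_normal (hne : 𝓦.Nonempty) (hX : ¬ Cfsg.FamilyControlsTransferIn p (indSet X 𝓦) ⊤) :
    ∀ W ∈ 𝓦, Subgroup.normalizer ((Cfsg.inducedFunctor W (S : Subgroup X) : Subgroup X) : Set X) ≠ ⊤ := by
  intro W hW h
  refine hX (family_transfer_iff.2 ⟨S, le_top, S.2, sylow_relIndex_top S, le_antisymm ?_ transferPart_le⟩)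
  refine le_trans ?_ (le_iSup₂ (f := fun (F : Subgroup X → Subgroup X) (_ : F ∈ indSet X 𝓦) => (S : Subgroup X) ⊓
      ⁅⊤ ⊓ Subgroup.normalizer ((F (S : Subgroup X) : Subgroup X) : Set X),
        ⊤ ⊓ Subgroup.normalizer ((F (S : Subgroup X) : Subgroup X) : Set X)⁆) _ ⟨W, hW, rfl⟩)
  rw [h, top_inf_eq]

lemma ProperCtrl.sylow_not_normal (hne : 𝓦.Nonempty) (hX : ¬ Cfsg.FamilyControlsTransferIn p (indSet X 𝓦) ⊤) :
    Subgroup.normalizer ((S : Subgroup X) : Set X) ≠ ⊤ := by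
  obtain ⟨W, hW⟩ := hne
  intro h
  refine hp.not_normal h𝓦 S ⟨W, hW⟩ hX W hW (eq_top_iff.2 ?_)
  rw [← h]
  exact normalizer_le_normalizer_functor (isConjugacyFunctor_inducedFunctor (h𝓦 W hW)) S.2

/-- modulo the `p`-core the transfer is controlled -/
lemma ProperCtrl.inf_commutator_le_sup (hne : 𝓦.Nonempty)
    (hX : ¬ Cfsg.FamilyControlsTransferIn p (indSet X 𝓦) ⊤) :
    (S : Subgroup X) ⊓ ⁅(⊤ : Subgroup X), ⊤⁆ ≤
      transferPart (indSet X 𝓦) ⊤ (S : Subgroup X) ⊔ Cfsg.pCore p X := by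
  obtain ⟨hC, hQ⟩ := hp.charPType h𝓦 hX
  set Q := Cfsg.pCore p X with hQdef
  set f := QuotientGroup.mk' Q with hf
  have hfs : Function.Surjective f := QuotientGroup.mk'_surjective Q
  have hQS : Q ≤ (S : Subgroup X) := pCore_le_S S
  intro x hx
  have h1 : f x ∈ (S : Subgroup X).map f ⊓ ⁅(⊤ : Subgroup (X ⧸ Q)), ⊤⁆ := by
    refine Subgroup.mem_inf.2 ⟨⟨x, hx.1, rfl⟩, ?_⟩
    rw [← Subgroup.map_top_of_surjective f hfs, ← Subgroup.map_commutator]
    exact ⟨x, hx.2, rfl⟩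
  rw [hp.map_eq h𝓦 S Q hQ] at h1
  suffices hh : transferPart (indSet (X ⧸ Q) 𝓦) ⊤ ((S : Subgroup X).map f) ≤
      (transferPart (indSet X 𝓦) ⊤ (S : Subgroup X) ⊔ Q).map f by
    have h2 := hh h1
    rwa [← Subgroup.mem_comap, Subgroup.comap_map_eq, QuotientGroup.ker_mk', sup_assoc, sup_idem] at h2
  refine iSup₂_le ?_
  rintro _ ⟨W, hW, rfl⟩
  rw [top_inf_eq]
  set Nb := Subgroup.normalizer ((Cfsg.inducedFunctor W ((S : Subgroup X).map f) : Subgroup (X ⧸ Q)) : Set (X ⧸ Q))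
  set N1 := Nb.comap f with hN1
  have hSN : (S : Subgroup X) ≤ N1 := Subgroup.map_le_iff_le_comap.1 (le_normalizer_inducedFunctor (h𝓦 W hW) (S.2.map f))
  have hN1ne : N1 ≠ ⊤ := by
    intro htop
    have hNb : Nb = ⊤ := by
      rw [← Subgroup.map_comap_eq_self_of_surjective hfs Nb, ← hN1, htop, Subgroup.map_top_of_surjective f hfs]
    have hT : (S : Subgroup X).map f ≠ ⊥ := by
      intro hb
      rw [Subgroup.map_eq_bot_iff, QuotientGroup.ker_mk'] at hb
      refine hp.sylow_not_normal h𝓦 S hne hX ?_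
      rw [le_antisymm hb hQS, Subgroup.normalizer_eq_top]
    obtain ⟨hle, hne', -⟩ := isConjugacyFunctor_inducedFunctor (h𝓦 W hW) _ (S.2.map f)
    refine hne' hT (le_bot_iff.1 ?_)
    rw [← Cfsg.Agent.Lib.Cores.pCore_quotient_pCore p X]
    exact Cfsg.Agent.Lib.Cores.le_pCore (Subgroup.normalizer_eq_top_iff.1 hNb) ((S.2.map f).to_le hle)
  rintro y ⟨⟨s, hs, rfl⟩, hy⟩
  rw [← Subgroup.map_comap_eq_self_of_surjective hfs Nb, ← Subgroup.map_commutator] at hy
  obtain ⟨n, hn, hne2⟩ := hy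
  have hnS : n ∈ (S : Subgroup X) := by
    have := mul_mem hs (hQS ((QuotientGroup.eq).1 hne2.symm))
    simpa using this
  exact ⟨n, Subgroup.mem_sup_left (hp.inf_commutator_le h𝓦 S hN1ne hSN (Subgroup.mem_inf.2 ⟨hnS, hn⟩)), hne2⟩

/-- what remains is the `p`-core -/
lemma ProperCtrl.pCore_not_le (hne : 𝓦.Nonempty) (hX : ¬ Cfsg.FamilyControlsTransferIn p (indSet X 𝓦) ⊤) :
    ¬ Cfsg.pCore p X ⊓ ⁅(⊤ : Subgroup X), ⊤⁆ ≤ transferPart (indSet X 𝓦) ⊤ (S : Subgroup X) := by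
  intro h
  refine hX (family_transfer_iff.2 ⟨S, le_top, S.2, sylow_relIndex_top S, le_antisymm ?_ transferPart_le⟩)
  intro x hx
  obtain ⟨t, ht, q, hq, rfl⟩ := Subgroup.mem_sup_of_normal_right.1 (hp.inf_commutator_le_sup h𝓦 S hne hX hx)
  refine mul_mem ht (h (Subgroup.mem_inf.2 ⟨hq, ?_⟩))
  have := mul_mem (inv_mem (Subgroup.mem_inf.1 (transferPart_le ht)).2) (Subgroup.mem_inf.1 hx).2
  simpa using this

lemma ProperCtrl.commutator_pCore_le {H : Subgroup X} (hH : H ≠ ⊤) (hle : (S : Subgroup X) ≤ H) :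
    ⁅Cfsg.pCore p X, H⁆ ≤ transferPart (indSet X 𝓦) ⊤ (S : Subgroup X) ⊓ Cfsg.pCore p X := by
  refine le_inf (le_trans (le_inf ?_ (Subgroup.commutator_mono ((pCore_le_S S).trans hle) le_rfl))
    (hp.inf_commutator_le h𝓦 S hH hle)) (Subgroup.commutator_le_left _ _)
  exact (Subgroup.commutator_le_left _ _).trans (pCore_le_S S)

lemma ProperCtrl.le_normalizer_inf {H : Subgroup X} (hH : H ≠ ⊤) (hle : (S : Subgroup X) ≤ H) :
    H ≤ Subgroup.normalizer ((transferPart (indSet X 𝓦) ⊤ (S : Subgroup X) ⊓ Cfsg.pCore p X : Subgroup X) : Set X) := by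
  intro g hg
  refine mem_normalizer_of_cj_le ?_
  rintro _ ⟨t, ht, rfl⟩
  have h1 := hp.commutator_pCore_le h𝓦 S hH hle (Subgroup.commutator_mem_commutator (inv_mem ht.2) hg)
  have := mul_mem ht h1
  show g * t * g⁻¹ ∈ _
  convert this using 1
  rw [commutatorElement_def]; group

lemma ProperCtrl.sylow_commutator_le (hne : 𝓦.Nonempty) :
    ⁅(S : Subgroup X), (S : Subgroup X)⁆ ≤ transferPart (indSet X 𝓦) ⊤ (S : Subgroup X) := by
  obtain ⟨W, hW⟩ := hne
  refine le_trans (le_inf (commutator_self_le _) ?_)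
    (le_iSup₂ (f := fun (F : Subgroup X → Subgroup X) (_ : F ∈ indSet X 𝓦) => (S : Subgroup X) ⊓
      ⁅⊤ ⊓ Subgroup.normalizer ((F (S : Subgroup X) : Subgroup X) : Set X),
        ⊤ ⊓ Subgroup.normalizer ((F (S : Subgroup X) : Subgroup X) : Set X)⁆) _ ⟨W, hW, rfl⟩)
  have h1 := le_normalizer_inducedFunctor (h𝓦 W hW) S.2
  exact Subgroup.commutator_mono (le_inf le_top h1) (le_inf le_top h1)

theorem ProperCtrl.normalizer_ne_top (hne : 𝓦.Nonempty) (hX : ¬ Cfsg.FamilyControlsTransferIn p (indSet X 𝓦) ⊤) :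
    Subgroup.normalizer ((transferPart (indSet X 𝓦) ⊤ (S : Subgroup X) ⊓ Cfsg.pCore p X : Subgroup X) : Set X) ≠ ⊤ := by
  intro htop
  set Q := Cfsg.pCore p X with hQdef
  set D := transferPart (indSet X 𝓦) ⊤ (S : Subgroup X) ⊓ Q with hD
  have hDn : D.Normal := Subgroup.normalizer_eq_top_iff.1 htop
  set v := QuotientGroup.mk' D with hv
  set C := (Subgroup.centralizer ((Q.map v : Subgroup (X ⧸ D)) : Set (X ⧸ D))).comap v with hC
  have : (Q.map v).Normal := (inferInstance : Q.Normal).map v (QuotientGroup.mk'_surjective D)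
  have hCn : C.Normal := inferInstance
  have hCtop : C = ⊤ := by
    have hmem : ∀ H : Subgroup X, H ≠ ⊤ → (S : Subgroup X) ≤ H → H ≤ C := by
      intro H hH hle h hh
      refine Subgroup.mem_centralizer_iff.2 ?_
      rintro _ ⟨q, hq, rfl⟩
      rw [← commutatorElement_eq_one_iff_mul_comm, ← map_commutatorElement]
      exact (QuotientGroup.eq_one_iff _).2 (hp.commutator_pCore_le h𝓦 S hH hle (Subgroup.commutator_mem_commutator hq hh))
    have hN := hp.sylow_not_normal h𝓦 S hne hX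
    have hN' := hmem _ hN Subgroup.le_normalizer
    have hSC : (S : Subgroup X) ≤ C := Subgroup.le_normalizer.trans hN'
    rw [eq_top_iff, ← Sylow.normalizer_sup_eq_top (S.subtype hSC)]
    refine sup_le ?_ le_rfl
    rw [Sylow.coe_subtype, Subgroup.subgroupOf_map_subtype, inf_eq_left.2 hSC]
    exact hN'
  refine hp.pCore_not_le h𝓦 S hne hX ?_
  rw [← commutator_def]
  refine inf_commutator_le_of_deg S (Ω := (∅ : Set X)) (Cfsg.Agent.Lib.Cores.pCore_isPGroup p X)
    (transferPart_le.trans inf_le_left) (hp.sylow_commutator_le h𝓦 S hne) (Set.empty_subset _) ?_ ?_ ?_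
  · intro g _
    rw [Subgroup.closure_empty, Subgroup.normalizer_eq_top]; trivial
  · intro n _ x hx
    have hn : n ∈ C := hCtop ▸ Subgroup.mem_top n
    have h1 := Subgroup.mem_centralizer_iff.1 hn _ ⟨x, hx, rfl⟩
    have h2 : v ⁅n, x⁆ = 1 := by
      rw [map_commutatorElement, commutatorElement_eq_one_iff_mul_comm]; exact h1.symm
    exact ((QuotientGroup.eq_one_iff _).1 h2 : ⁅n, x⁆ ∈ D).1
  · intro w hw; simp at hw

/-- no element outside the `p`-core acts with degree less than `p` on all chief factors of the core -/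
theorem ProperCtrl.not_deg (hne : 𝓦.Nonempty) (hX : ¬ Cfsg.FamilyControlsTransferIn p (indSet X 𝓦) ⊤)
    {u : X} (hu : u ∈ (S : Subgroup X)) (huQ : u ∉ Cfsg.pCore p X) :
    ∃ U V : Subgroup X, Cfsg.IsChiefFactor U V ∧ U ≤ Cfsg.pCore p X ∧ ¬ Deg (p - 1) u U V := by
  by_contra hcon
  push Not at hcon
  set Ω : Set X := {w | w ∈ (S : Subgroup X) ∧ ∀ U V : Subgroup X, Cfsg.IsChiefFactor U V →
    U ≤ Cfsg.pCore p X → Deg (p - 1) w U V} with hΩ
  have hconj : ∀ g : X, ∀ w ∈ Ω, g * w * g⁻¹ ∈ (S : Subgroup X) → g * w * g⁻¹ ∈ Ω := by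
    rintro g w ⟨-, hw⟩ hgw
    refine ⟨hgw, fun U V h hU => ?_⟩
    have := h.2.1
    have := h.2.2.1
    exact (hw U V h hU).conj g
  have hweak : ∀ g : X, cj g (Subgroup.closure Ω) ≤ (S : Subgroup X) →
      g ∈ Subgroup.normalizer ((Subgroup.closure Ω : Subgroup X) : Set X) := by
    intro g hg
    refine mem_normalizer_of_cj_le ?_
    rw [cj, MonoidHom.map_closure, Subgroup.closure_le]
    rintro _ ⟨w, hw, rfl⟩
    exact Subgroup.subset_closure (hconj g w hw (cj_le_iff.1 hg w (Subgroup.subset_closure hw)))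
  have hBS : Subgroup.closure Ω ≤ (S : Subgroup X) := (Subgroup.closure_le _).2 fun w hw => hw.1
  have hSN : (S : Subgroup X) ≤ Subgroup.normalizer ((Subgroup.closure Ω : Subgroup X) : Set X) := fun s hs =>
    hweak s ((cj_le_cj hBS).trans (mem_normalizer_iff_cj.1 (Subgroup.le_normalizer hs)).le)
  have hNne : Subgroup.normalizer ((Subgroup.closure Ω : Subgroup X) : Set X) ≠ ⊤ := fun h =>
    huQ (Cfsg.Agent.Lib.Cores.le_pCore (Subgroup.normalizer_eq_top_iff.1 h) (S.2.to_le hBS)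
      (Subgroup.subset_closure ⟨hu, hcon⟩))
  refine hp.pCore_not_le h𝓦 S hne hX ?_
  rw [← commutator_def]
  refine inf_commutator_le_of_deg S (Cfsg.Agent.Lib.Cores.pCore_isPGroup p X)
    (transferPart_le.trans inf_le_left) (hp.sylow_commutator_le h𝓦 S hne) (fun w hw => hw.1) hweak ?_
    (fun w hw => hw.2)
  intro n hn x hx
  have h1 := hp.commutator_pCore_le h𝓦 S hNne hSN (Subgroup.commutator_mem_commutator hx hn)
  rw [← commutatorElement_inv]
  exact inv_mem h1.1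

omit hp in
/-- control of transfer in all sections from the minimal configurations -/
theorem transfer_of_minimal {G : Type u} [Group G]
    (hloc : ∀ (Y : Type u) [Group Y] [Finite Y], Cfsg.Involves Y G → ProperCtrl p Y 𝓦 →
      CharPType p Y → Cfsg.FamilyControlsTransferIn p (indSet Y 𝓦) ⊤)
    (Y : Type u) [Group Y] [Finite Y] (hY : Cfsg.Involves Y G) :
    Cfsg.FamilyControlsTransferIn p (indSet Y 𝓦) ⊤ := by
  suffices ∀ (n : ℕ) (Y : Type u) [Group Y] [Finite Y], Nat.card Y = n → Cfsg.Involves Y G →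
      Cfsg.FamilyControlsTransferIn p (indSet Y 𝓦) ⊤ from this _ Y rfl hY
  intro n
  induction n using Nat.strong_induction_on with
  | _ n ih =>
    intro Y _ _ hn hY
    have hpc : ProperCtrl p Y 𝓦 :=
      ⟨fun H hH => family_transfer_of_subgroup h𝓦 (ih _ (hn ▸ card_lt_of_ne_top hH) H rfl (involves_subgroup hY H)),
        fun N _ hN => ih _ (by
          rw [← hn, Subgroup.card_eq_card_quotient_mul_card_subgroup N]
          exact lt_mul_of_one_lt_right Nat.card_pos (Subgroup.one_lt_card_iff_ne_bot N |>.2 hN))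
          (Y ⧸ N) rfl (involves_surjective hY _ (QuotientGroup.mk'_surjective N))⟩
    by_contra hX
    exact hX (hloc Y hY hpc (hpc.charPType h𝓦 hX).1)

end Cfsg.Agent.Lib.FusionControl

namespace Cfsg.Agent.Lib.FusionControl

variable {p : ℕ} [Fact p.Prime] {G : Type u} [Group G] [Finite G]
  {𝓦 : Set (∀ (Q : Type u) [Group Q], Subgroup Q)}

/-- control of transfer in all sections, by induction on the sections -/
theorem transfer_in_sections (h𝓦 : ∀ W ∈ 𝓦, Cfsg.IsCharPFunctor.{u} p W)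
    (hloc : ∀ (K R : Subgroup G) [_hR : (R.subgroupOf K).Normal], ProperCtrl p (↥K ⧸ R.subgroupOf K) 𝓦 →
      CharPType p (↥K ⧸ R.subgroupOf K) → Cfsg.FamilyControlsTransferIn p (indSet (↥K ⧸ R.subgroupOf K) 𝓦) ⊤)
    (K R : Subgroup G) [hR : (R.subgroupOf K).Normal] :
    Cfsg.FamilyControlsTransferIn p (indSet (↥K ⧸ R.subgroupOf K) 𝓦) ⊤ := by
  suffices ∀ (n : ℕ) (K R : Subgroup G) [(R.subgroupOf K).Normal], Nat.card (↥K ⧸ R.subgroupOf K) = n →
      Cfsg.FamilyControlsTransferIn p (indSet (↥K ⧸ R.subgroupOf K) 𝓦) ⊤ from this _ K R rfl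
  intro n
  induction n using Nat.strong_induction_on with
  | _ n ih =>
    intro K R _ hn
    set Z := ↥K ⧸ R.subgroupOf K with hZ
    have hpc : ProperCtrl p Z 𝓦 := properCtrl_of_involved h𝓦 (fun Y _ _ hY hcard => by
      obtain ⟨L, f, hf⟩ := exists_hom_of_involves hY
      obtain ⟨L', R', hR', ⟨e⟩⟩ := involves_surjective
        (involves_subgroup (involves_section (K := K) (R := R)) L) f hf
      refine family_transfer_equiv h𝓦 e (ih _ ?_ L' R' rfl)
      rw [Nat.card_congr e.toEquiv, ← hn]; exact hcard)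
    by_contra hX
    exact hX (hloc K R hpc (hpc.charPType h𝓦 hX).1)

lemma controlsTransferIn_iff {X : Type u} [Group X] (W : ∀ (Q : Type u) [Group Q], Subgroup Q) :
    Cfsg.ControlsTransferIn p (Cfsg.inducedFunctor (G := X) W) ⊤ ↔
      Cfsg.FamilyControlsTransferIn p (indSet X ({W} : Set (∀ (Q : Type u) [Group Q], Subgroup Q))) ⊤ := by
  rw [indSet, Set.image_singleton]
  simp [Cfsg.ControlsTransferIn, Cfsg.FamilyControlsTransferIn]

/-- an element of small degree in each bad constrained section gives control of transfer everywhere -/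
theorem transfer_of_deg {W : ∀ (Q : Type u) [Group Q], Subgroup Q} (hW : Cfsg.IsCharPFunctor.{u} p W)
    (h : ∀ (K R : Subgroup G) [_hR : (R.subgroupOf K).Normal], CharPType p (↥K ⧸ R.subgroupOf K) →
      ∀ T : Sylow p (↥K ⧸ R.subgroupOf K),
      ¬ (Cfsg.inducedFunctor W (T : Subgroup (↥K ⧸ R.subgroupOf K))).Normal →
        ∃ g ∈ (T : Subgroup (↥K ⧸ R.subgroupOf K)), g ∉ Cfsg.pCore p (↥K ⧸ R.subgroupOf K) ∧
          ∀ U V : Subgroup (↥K ⧸ R.subgroupOf K), Cfsg.IsChiefFactor U V →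
            U ≤ Cfsg.pCore p (↥K ⧸ R.subgroupOf K) → Deg (p - 1) g U V)
    (K R : Subgroup G) [(R.subgroupOf K).Normal] :
    Cfsg.ControlsTransferIn p (Cfsg.inducedFunctor (G := ↥K ⧸ R.subgroupOf K) W) ⊤ := by
  have h𝓦 : ∀ W' ∈ ({W} : Set (∀ (Q : Type u) [Group Q], Subgroup Q)), Cfsg.IsCharPFunctor.{u} p W' := by
    rintro _ rfl; exact hW
  rw [controlsTransferIn_iff]
  refine transfer_in_sections h𝓦 (fun K R _ hpc hC => ?_) K R
  by_contra hX
  obtain ⟨S⟩ : Nonempty (Sylow p (↥K ⧸ R.subgroupOf K)) := inferInstance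
  obtain ⟨g, hgS, hgQ, hg⟩ := h K R hC S (fun hn => hpc.not_normal h𝓦 S ⟨W, rfl⟩ hX W rfl
    (Subgroup.normalizer_eq_top_iff.2 hn))
  obtain ⟨U, V, hch, hU, hnd⟩ := hpc.not_deg h𝓦 S ⟨W, rfl⟩ hX hgS hgQ
  exact hnd (hg U V hch hU)

end Cfsg.Agent.Lib.FusionControl
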