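import Cfsg.Agent.Lib.FusionControl.KDegree
import Cfsg.Agent.Lib.FusionControl.TransferMinimal
import Cfsg.Agent.Lib.FusionControl.KInfMap

/-! Glauberman's theorem on the K-infinity subgroups. -/

set_option autoImplicit false

universe u

open scoped commutatorElement

namespace Cfsg.Agent.Lib.FusionControl

variable {p : ℕ} [Fact p.Prime] {X : Type u} [Group X] [Finite X]

/-- `K` acts with degree three modulo the centre of `A` and quadratically on the centre -/
def CubicOn (A K : Subgroup X) : Prop :=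
  Cfsg.iterCommutator A K 3 ≤ A ⊓ Subgroup.centralizer (A : Set X) ∧
    ⁅⁅A ⊓ Subgroup.centralizer (A : Set X), K⁆, K⁆ = ⊥

/-- `K` acts quadratically modulo the centre of `A` and on the centre -/
def QuadOn (A K : Subgroup X) : Prop :=
  ⁅⁅A, K⁆, K⁆ ≤ A ⊓ Subgroup.centralizer (A : Set X) ∧
    ⁅⁅A ⊓ Subgroup.centralizer (A : Set X), K⁆, K⁆ = ⊥

omit [Finite X] in
lemma QuadOn.cubic {A K : Subgroup X} [A.Normal] (h : QuadOn A K) : CubicOn A K := by
  refine ⟨?_, h.2⟩
  show ⁅⁅⁅A, K⁆, K⁆, K⁆ ≤ _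
  exact (Subgroup.commutator_mono h.1 le_rfl).trans (Subgroup.commutator_le_left _ _)

omit [Finite X] in
lemma QuadOn.mono {A K K' : Subgroup X} (h : QuadOn A K) (hle : K' ≤ K) : QuadOn A K' :=
  ⟨(Subgroup.commutator_mono (Subgroup.commutator_mono le_rfl hle) hle).trans h.1,
    le_bot_iff.1 ((Subgroup.commutator_mono (Subgroup.commutator_mono le_rfl hle) hle).trans h.2.le)⟩

omit [Finite X] in
lemma CubicOn.mono {A K K' : Subgroup X} (h : CubicOn A K) (hle : K' ≤ K) : CubicOn A K' :=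
  ⟨(Subgroup.commutator_mono (Subgroup.commutator_mono (Subgroup.commutator_mono le_rfl hle) hle) hle).trans h.1,
    le_bot_iff.1 ((Subgroup.commutator_mono (Subgroup.commutator_mono le_rfl hle) hle).trans h.2.le)⟩

section InS

variable {Q A S : Subgroup X}

omit [Finite X] in
lemma map_centralizer_subgroupOf (hAS : A ≤ S) :
    (A.subgroupOf S ⊓ Subgroup.centralizer (A.subgroupOf S : Set S)).map S.subtype =
      A ⊓ Subgroup.centralizer (A : Set X) := by
  rw [map_inf_centralizer, Subgroup.subgroupOf_map_subtype, inf_eq_left.2 hAS]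

omit [Finite X] [Fact p.Prime] in
lemma cubicOn_map (hAS : A ≤ S) {K : Subgroup S}
    (h1 : ⁅⁅⁅A.subgroupOf S, K⁆, K⁆, K⁆ ≤ A.subgroupOf S ⊓ Subgroup.centralizer (A.subgroupOf S : Set S))
    (h2 : ⁅⁅A.subgroupOf S ⊓ Subgroup.centralizer (A.subgroupOf S : Set S), K⁆, K⁆ = ⊥) :
    CubicOn A (K.map S.subtype) := by
  have hA : (A.subgroupOf S).map S.subtype = A := by rw [Subgroup.subgroupOf_map_subtype, inf_eq_left.2 hAS]
  refine ⟨?_, ?_⟩
  · show ⁅⁅⁅A, K.map S.subtype⁆, K.map S.subtype⁆, K.map S.subtype⁆ ≤ _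
    have := Subgroup.map_mono (f := S.subtype) h1
    rwa [Subgroup.map_commutator, Subgroup.map_commutator, Subgroup.map_commutator, hA,
      map_centralizer_subgroupOf hAS] at this
  · have := congrArg (Subgroup.map S.subtype) h2
    rwa [Subgroup.map_commutator, Subgroup.map_commutator, map_centralizer_subgroupOf hAS, Subgroup.map_bot] at this

omit [Finite X] [Fact p.Prime] in
lemma quadOn_map (hAS : A ≤ S) {K : Subgroup S}
    (h1 : ⁅⁅A.subgroupOf S, K⁆, K⁆ ≤ A.subgroupOf S ⊓ Subgroup.centralizer (A.subgroupOf S : Set S))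
    (h2 : ⁅⁅A.subgroupOf S ⊓ Subgroup.centralizer (A.subgroupOf S : Set S), K⁆, K⁆ = ⊥) :
    QuadOn A (K.map S.subtype) := by
  have hA : (A.subgroupOf S).map S.subtype = A := by rw [Subgroup.subgroupOf_map_subtype, inf_eq_left.2 hAS]
  refine ⟨?_, ?_⟩
  · have := Subgroup.map_mono (f := S.subtype) h1
    rwa [Subgroup.map_commutator, Subgroup.map_commutator, hA, map_centralizer_subgroupOf hAS] at this
  · have := congrArg (Subgroup.map S.subtype) h2
    rwa [Subgroup.map_commutator, Subgroup.map_commutator, map_centralizer_subgroupOf hAS, Subgroup.map_bot] at this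

/-- members of the lower families are cubic, and their centres quadratic -/
theorem lower_cubic (h : CoreSub p Q A) (hQS : Q ≤ S) {R B : Subgroup S} (hR : A.subgroupOf S ≤ R)
    (hB : B ∈ Cfsg.kLowerStarFamily R) :
    CubicOn A (B.map S.subtype) ∧ QuadOn A ((B ⊓ Subgroup.centralizer (B : Set S)).map S.subtype) := by
  have := h.normal
  have hAS : A ≤ S := h.le.trans hQS
  obtain ⟨hB2, hRB, hB⟩ := hB
  set As := A.subgroupOf S with hAs
  set Zs := As ⊓ Subgroup.centralizer (As : Set S) with hZs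
  set ZB := B ⊓ Subgroup.centralizer (B : Set S) with hZB
  have hZsR : Zs ≤ R := inf_le_left.trans hR
  have hZsAb : ⁅Zs, Zs⁆ = ⊥ := Subgroup.commutator_eq_bot_iff_le_centralizer.2
    (inf_le_right.trans (Subgroup.centralizer_le inf_le_left))
  have hZs2 : Zs ∈ Cfsg.classTwoSubgroups S := by
    show ⁅Zs, Zs⁆ ≤ _
    rw [hZsAb]; exact bot_le
  have hBZ : ⁅B, Zs⁆ ≤ ZB := hB Zs hZs2 hZsR (by rw [Subgroup.normalizer_eq_top]; exact le_top)
    (by rw [hZsAb, Subgroup.commutator_bot_right])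
    (le_bot_iff.1 (hZsAb ▸ Subgroup.commutator_mono (Subgroup.commutator_le_right _ Zs) le_rfl))
  have hAB : As ≤ Subgroup.normalizer (B : Set S) := hR.trans hRB
  have hABle : ⁅As, B⁆ ≤ B := Subgroup.commutator_le.2 fun a ha b hb => by
    rw [commutatorElement_def]
    exact mul_mem ((Subgroup.mem_normalizer_iff.1 (hAB ha) b).1 hb) (inv_mem hb)
  have hzero : ∀ {K : Subgroup S}, K ≤ ZB → ⁅K, B⁆ = ⊥ := fun hK =>
    Subgroup.commutator_eq_bot_iff_le_centralizer.2 (hK.trans inf_le_right)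
  have hBB : ⁅⁅As, B⁆, B⁆ ≤ ZB :=
    (Subgroup.commutator_mono hABle le_rfl).trans (le_inf (commutator_self_le B) hB2)
  have hBZ' : ⁅Zs, B⁆ ≤ ZB := by rw [Subgroup.commutator_comm]; exact hBZ
  refine ⟨cubicOn_map hAS ((hzero hBB).le.trans bot_le) (hzero hBZ'), ?_⟩
  have hAZ : ⁅As, ZB⁆ ≤ ZB := by
    rw [Subgroup.commutator_le]
    intro a ha z hz
    obtain ⟨hz1, hz2⟩ := Subgroup.mem_inf.1 hz
    have ha' := hAB ha
    refine Subgroup.mem_inf.2 ⟨hABle (Subgroup.commutator_mem_commutator ha hz1), ?_⟩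
    rw [commutatorElement_def]
    refine mul_mem (Subgroup.mem_centralizer_iff.2 fun b hb => ?_) (inv_mem hz2)
    have h1 := Subgroup.mem_centralizer_iff.1 hz2 (a⁻¹ * b * a⁻¹⁻¹)
      ((Subgroup.mem_normalizer_iff.1 (inv_mem ha') b).1 hb)
    calc b * (a * z * a⁻¹) = a * (a⁻¹ * b * a⁻¹⁻¹ * z) * a⁻¹ := by group
      _ = a * (z * (a⁻¹ * b * a⁻¹⁻¹)) * a⁻¹ := by rw [h1]
      _ = _ := by group
  refine quadOn_map hAS ?_ ?_
  · rw [le_bot_iff.1 ((Subgroup.commutator_mono hAZ (inf_le_left : ZB ≤ B)).trans (hzero le_rfl).le)]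
    exact bot_le
  · exact le_bot_iff.1 ((Subgroup.commutator_mono ((Subgroup.commutator_mono inf_le_left le_rfl).trans hAZ)
      (inf_le_left : ZB ≤ B)).trans (hzero le_rfl).le)

/-- the K-sequence lives in `Q` when quadratic elements and the lower families do -/
theorem kSeq_le (h : CoreSub p Q A) (hQS : Q ≤ S)
    (hquad : ∀ b ∈ S, QuadOn A (Subgroup.zpowers b) → b ∈ Q)
    (hlow : ∀ R B : Subgroup S, A.subgroupOf S ≤ R → B ∈ Cfsg.kLowerStarFamily R → B ≤ Q.subgroupOf S) :
    ∀ n : ℕ, Cfsg.kSeqEven S n ≤ Q.subgroupOf S ∧ Cfsg.kSeqOdd S (n + 1) ≤ Q.subgroupOf S := by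
  have := h.qnormal
  have := h.normal
  have hAS : A ≤ S := h.le.trans hQS
  set As := A.subgroupOf S with hAs
  set Qs := Q.subgroupOf S with hQs
  set Zs := As ⊓ Subgroup.centralizer (As : Set S) with hZs
  have hAQ : ⁅As, Qs⁆ ≤ Zs := Subgroup.commutator_le.2 fun a ha q hq => by
    have h1 := Subgroup.commutator_mem_commutator (show (a : X) ∈ A from ha) (show (q : X) ∈ Q from hq)
    exact Subgroup.mem_inf.2 ⟨Subgroup.commutator_le_left A Q h1, Subgroup.mem_centralizer_iff.2 fun a' ha' =>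
      Subtype.ext (Subgroup.mem_centralizer_iff.1 (h.comm h1) _ ha')⟩
  have hAs2 : As ∈ Cfsg.classTwoSubgroups S :=
    ((Subgroup.commutator_mono le_rfl (fun a ha => h.le ha : As ≤ Qs)).trans hAQ).trans inf_le_right
  have hquad' : ∀ {K : Subgroup S}, QuadOn A (K.map S.subtype) → K ≤ Qs := fun {K} hK b hb =>
    hquad b b.2 (hK.mono (by rw [Subgroup.zpowers_le]; exact ⟨b, hb, rfl⟩))
  -- `As` is in every lower family
  have hlow' : ∀ R : Subgroup S, As ∈ Cfsg.kLowerStarFamily R := by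
    intro R
    refine ⟨hAs2, by rw [Subgroup.normalizer_eq_top]; exact le_top, fun A0 hA0 _ hAN h1 h2 => ?_⟩
    refine (Subgroup.commutator_mono le_rfl (hquad' (quadOn_map hAS ?_ h2))).trans hAQ
    have hA0le : ⁅As, A0⁆ ≤ A0 := Subgroup.commutator_le.2 fun a ha b hb => by
      rw [commutatorElement_def]
      exact mul_mem ((Subgroup.mem_normalizer_iff.1 (hAN ha) b).1 hb) (inv_mem hb)
    refine le_inf ((Subgroup.commutator_mono (Subgroup.commutator_le_left As A0) le_rfl).trans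
      (Subgroup.commutator_le_left As A0)) ?_
    refine (Subgroup.commutator_mono hA0le le_rfl).trans ?_
    rw [← Subgroup.commutator_eq_bot_iff_le_centralizer, Subgroup.commutator_comm]
    exact h1
  have hupQ : ∀ K : Subgroup S, As ≤ K → ∀ B ∈ Cfsg.kUpperStarFamily K, B ≤ Qs := by
    rintro K hK B ⟨-, hB⟩
    have h1 : ⁅As, B⁆ ≤ B ⊓ Subgroup.centralizer (B : Set S) := by
      rw [Subgroup.commutator_comm]; exact (Subgroup.commutator_mono le_rfl hK).trans hB
    have h2 : ⁅⁅As, B⁆, B⁆ = ⊥ := Subgroup.commutator_eq_bot_iff_le_centralizer.2 (h1.trans inf_le_right)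
    refine hquad' (quadOn_map hAS (h2.le.trans bot_le) ?_)
    exact le_bot_iff.1 ((Subgroup.commutator_mono (Subgroup.commutator_mono inf_le_left le_rfl) le_rfl).trans h2.le)
  have hup : ∀ K : Subgroup S, K ≤ Qs → As ∈ Cfsg.kUpperStarFamily K := fun K hK =>
    ⟨hAs2, (Subgroup.commutator_mono le_rfl hK).trans hAQ⟩
  have hA_even : ∀ n, As ≤ Cfsg.kSeqEven S n := fun n => le_sSup (hlow' _)
  have hodd : ∀ n, As ≤ Cfsg.kSeqOdd S n := by
    intro n
    induction n with
    | zero => exact le_top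
    | succ n ih => exact le_sSup (hup _ (sSup_le fun B hB => hlow _ B ih hB))
  exact fun n => ⟨sSup_le fun B hB => hlow _ B (hodd n) hB, sSup_le (hupQ _ (hA_even n))⟩

end InS

/-- both K-infinity subgroups are normal once the K-sequence lives in a normal `p`-subgroup -/
theorem kInf_normal (S : Sylow p X) {Q : Subgroup X} [hQn : Q.Normal] (hQS : Q ≤ (S : Subgroup X))
    (hseq : ∀ n : ℕ, Cfsg.kSeqEven (S : Subgroup X) n ≤ Q.subgroupOf (S : Subgroup X) ∧
      Cfsg.kSeqOdd (S : Subgroup X) (n + 1) ≤ Q.subgroupOf (S : Subgroup X)) :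
    (Cfsg.inducedFunctor Cfsg.kInfLower (S : Subgroup X)).Normal ∧
      (Cfsg.inducedFunctor Cfsg.kInfUpper (S : Subgroup X)).Normal := by
  have key : ∀ W : (∀ (P : Type u) [Group P], Subgroup P), Cfsg.IsCharPFunctor.{u} p W →
      Cfsg.inducedFunctor (G := (S : Subgroup X)) W (Q.subgroupOf (S : Subgroup X)) = W (S : Subgroup X) →
      (Cfsg.inducedFunctor W (S : Subgroup X)).Normal := by
    intro W hW e1
    have hQp : IsPGroup p Q := S.2.to_le hQS
    have hQsp : IsPGroup p (Q.subgroupOf (S : Subgroup X)) :=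
      hQp.comap_of_injective _ (S : Subgroup X).subtype_injective
    have e2 := inducedFunctor_map hW (S : Subgroup X).subtype hQsp (fun t _ ht => Subtype.ext ht)
    rw [e1, Subgroup.subgroupOf_map_subtype, inf_eq_left.2 hQS] at e2
    rw [show Cfsg.inducedFunctor W (S : Subgroup X) = Cfsg.inducedFunctor W Q from e2,
      ← Subgroup.normalizer_eq_top_iff, eq_top_iff]
    refine le_trans ?_ (normalizer_le_normalizer_functor (isConjugacyFunctor_inducedFunctor hW) hQp)
    rw [Subgroup.normalizer_eq_top]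
  obtain ⟨h1, h2⟩ := kInf_subgroup hseq
  exact ⟨key _ (isCharPFunctor_kInfLower (p := p)) h1, key _ (isCharPFunctor_kInfUpper (p := p)) h2⟩

/-- an element outside the core with small action on a core subgroup, unless K-infinity is normal -/
theorem exists_cubic (S : Sylow p X) {A : Subgroup X} (h : CoreSub p (Cfsg.pCore p X) A)
    (hn : ¬ (Cfsg.inducedFunctor Cfsg.kInfLower (S : Subgroup X)).Normal ∨
      ¬ (Cfsg.inducedFunctor Cfsg.kInfUpper (S : Subgroup X)).Normal) :
    ∃ g ∈ (S : Subgroup X), g ∉ Cfsg.pCore p X ∧ CubicOn A (Subgroup.zpowers g) := by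
  by_contra hcon
  push Not at hcon
  have := h.normal
  have := h.qnormal
  have hsm : ∀ b ∈ (S : Subgroup X), CubicOn A (Subgroup.zpowers b) → b ∈ Cfsg.pCore p X := fun b hb hc => by
    by_contra hb'
    exact hcon b hb hb' hc
  have hseq := kSeq_le h (pCore_le_S S) (fun b hb hq => hsm b hb hq.cubic) (fun R B hR hB b hb =>
    hsm b b.2 ((lower_cubic h (pCore_le_S S) hR hB).1.mono (by rw [Subgroup.zpowers_le]; exact ⟨b, hb, rfl⟩)))
  have := kInf_normal S (pCore_le_S S) hseq
  rcases hn with h' | h'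
  · exact h' this.1
  · exact h' this.2

omit [Fact p.Prime] [Finite X] in
lemma CubicOn.elementwise {A : Subgroup X} {b : X} (h : CubicOn A (Subgroup.zpowers b)) :
    (∀ z ∈ A ⊓ Subgroup.centralizer (A : Set X), ⁅b, ⁅b, z⁆⁆ = 1) ∧
      ∀ a ∈ A, cit b⁻¹ 3 a ∈ A ⊓ Subgroup.centralizer (A : Set X) := by
  refine ⟨fun z hz => ?_, fun a ha => ?_⟩
  · have h1 : cit b 2 z ∈ (⊥ : Subgroup X) := by rw [← h.2]; exact iterate_mem_iterCommutator hz 2
    exact Subgroup.mem_bot.1 h1
  · have h1 := iterate_mem_iterCommutator (w := b⁻¹) ha 3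
    rw [Subgroup.zpowers_inv] at h1
    exact h.1 h1

/-- Glauberman: an element of degree four outside the core, if K-infinity is not normal -/
theorem exists_deg_four (S : Sylow p X)
    (hn : ¬ (Cfsg.inducedFunctor Cfsg.kInfLower (S : Subgroup X)).Normal ∨
      ¬ (Cfsg.inducedFunctor Cfsg.kInfUpper (S : Subgroup X)).Normal) :
    ∃ g ∈ (S : Subgroup X), g ∉ Cfsg.pCore p X ∧
      ∀ U V : Subgroup X, Cfsg.IsChiefFactor U V → U ≤ Cfsg.pCore p X → Deg 4 g U V := by
  obtain ⟨A, hA⟩ := CoreSub.exists_coreSub (Cfsg.Agent.Lib.Cores.pCore_isPGroup p X)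
  obtain ⟨g, hg, hgQ, hc⟩ := exists_cubic S hA hn
  exact ⟨g, hg, hgQ, fun U V hch hU => hA.deg_four hc.elementwise.1 hc.elementwise.2 hch hU⟩

lemma deg_mono {k l : ℕ} (hkl : k ≤ l) {w : X} {U V : Subgroup X} [hV : V.Normal] (h : Deg k w U V) :
    Deg l w U V := by
  intro x hx
  obtain ⟨d, rfl⟩ := Nat.exists_eq_add_of_le hkl
  show cit w (k + d) x ∈ V
  rw [show cit w (k + d) x = cit w d (cit w k x) from by
    rw [add_comm]; exact Function.iterate_add_apply _ d k x]
  exact cit_mem w (h x hx) d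

/-- transfer controlled in all sections gives it in the group -/
theorem controlsTransferIn_of_top {G : Type u} [Group G] [Finite G] {W : ∀ (Q : Type u) [Group Q], Subgroup Q}
    (hW : Cfsg.IsCharPFunctor.{u} p W)
    (h0 : Cfsg.ControlsTransferIn p (Cfsg.inducedFunctor
      (G := ↥(⊤ : Subgroup G) ⧸ (⊥ : Subgroup G).subgroupOf ⊤) W) ⊤) :
    Cfsg.ControlsTransferIn p (Cfsg.inducedFunctor (G := G) W) ⊤ := by
  have h𝓦 : ∀ W' ∈ ({W} : Set (∀ (Q : Type u) [Group Q], Subgroup Q)), Cfsg.IsCharPFunctor.{u} p W' := by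
    rintro _ rfl; exact hW
  rw [controlsTransferIn_iff] at h0 ⊢
  have e : ↥(⊤ : Subgroup G) ⧸ (⊥ : Subgroup G).subgroupOf ⊤ ≃* G :=
    ((QuotientGroup.quotientMulEquivOfEq (Subgroup.bot_subgroupOf _)).trans QuotientGroup.quotientBot).trans
      Subgroup.topEquiv
  exact family_transfer_equiv h𝓦 e h0

/-- for `p ≥ 5`, K-infinity controls transfer -/
theorem kInf_controlsTransferIn {G : Type u} [Group G] [Finite G] (hp : 5 ≤ p)
    {W : ∀ (Q : Type u) [Group Q], Subgroup Q} (hW : Cfsg.IsCharPFunctor.{u} p W)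
    (hWK : ∀ (Y : Type u) [Group Y] [Finite Y] (T : Sylow p Y), ¬ (Cfsg.inducedFunctor W (T : Subgroup Y)).Normal →
      ¬ (Cfsg.inducedFunctor Cfsg.kInfLower (T : Subgroup Y)).Normal ∨
        ¬ (Cfsg.inducedFunctor Cfsg.kInfUpper (T : Subgroup Y)).Normal) :
    Cfsg.ControlsTransferIn p (Cfsg.inducedFunctor (G := G) W) ⊤ :=
  controlsTransferIn_of_top hW (transfer_of_deg hW (G := G) (fun K R _ _ T hn => by
    obtain ⟨g, h1, h2, h3⟩ := exists_deg_four T (hWK _ T hn)
    exact ⟨g, h1, h2, fun U V hch hU => by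
      have := hch.2.2.1
      exact deg_mono (by omega) (h3 U V hch hU)⟩) ⊤ ⊥)

theorem kInfUpper_controlsTransfer {G : Type u} [Group G] [Finite G] (hp : 5 ≤ p) (S : Sylow p G) :
    (S : Subgroup G) ⊓ commutator G = (S : Subgroup G) ⊓
      ⁅Subgroup.normalizer ((Cfsg.inducedFunctor Cfsg.kInfUpper (S : Subgroup G) : Subgroup G) : Set G),
        Subgroup.normalizer ((Cfsg.inducedFunctor Cfsg.kInfUpper (S : Subgroup G) : Subgroup G) : Set G)⁆ := by
  have hW := isCharPFunctor_kInfUpper.{u} (p := p)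
  have h𝓦 : ∀ W ∈ ({Cfsg.kInfUpper} : Set (∀ (Q : Type u) [Group Q], Subgroup Q)),
      Cfsg.IsCharPFunctor.{u} p W := by
    rintro _ rfl; exact hW
  have h0 := kInf_controlsTransferIn (G := G) hp hW (fun _ _ _ _ h => Or.inr h)
  rw [controlsTransferIn_iff] at h0
  have h1 := transfer_of_family (indSet_conjugacy h𝓦 G) h0 le_top S.2 (sylow_relIndex_top S)
  rw [← commutator_def] at h1
  rw [h1, transferPart, indSet, iSup_image, iSup_singleton, top_inf_eq]

end Cfsg.Agent.Lib.FusionControl
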