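import Cfsg.Agent.Lib.FusionControl.ChiefModule
import Mathlib.Tactic.NoncommRing

/-! Degrees on the chief factors of the `p`-core coming from a self-centralising class two subgroup. -/

set_option autoImplicit false

universe u

open scoped commutatorElement

namespace Cfsg.Agent.Lib.FusionControl

variable {G : Type u} [Group G]

/-- iterated commutator with `b` -/
abbrev cit (b : G) (k : ℕ) (x : G) : G := (fun y : G => ⁅b, y⁆)^[k] x

lemma cit_succ (b : G) (k : ℕ) (x : G) : cit b (k + 1) x = ⁅b, cit b k x⁆ := Function.iterate_succ_apply' _ _ _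

lemma cit_one (b : G) : ∀ k : ℕ, cit b k 1 = 1 := by
  intro k; induction k with
  | zero => rfl
  | succ k ih => rw [cit_succ, ih, commutatorElement_one_right]

lemma cit_mem {N : Subgroup G} [N.Normal] (b : G) {x : G} (hx : x ∈ N) : ∀ k : ℕ, cit b k x ∈ N := by
  intro k; induction k with
  | zero => exact hx
  | succ k ih =>
    rw [cit_succ, commutatorElement_def]
    exact mul_mem (Subgroup.Normal.conj_mem ‹N.Normal› _ ih b) (inv_mem ih)

lemma cit_congr (V : Subgroup G) [V.Normal] (b : G) {x y : G}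
    (h : QuotientGroup.mk' V x = QuotientGroup.mk' V y) :
    ∀ k : ℕ, QuotientGroup.mk' V (cit b k x) = QuotientGroup.mk' V (cit b k y) := by
  intro k; induction k with
  | zero => exact h
  | succ k ih => rw [cit_succ, cit_succ, map_commutatorElement, map_commutatorElement, ih]

/-- reduce a chief factor into a smaller normal subgroup -/
lemma deg_of_reduce {k : ℕ} {b : G} {U V W W' : Subgroup G} [W.Normal] (h : Cfsg.IsChiefFactor U V)
    (hred : ∀ y ∈ U ⊓ W, cit b k y ∈ W') (hW : ¬ U ⊓ W ≤ V) (hW' : U ⊓ W' ≤ V) : Deg k b U V := by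
  obtain ⟨hVU, hUn, hVn, hmin⟩ := h
  have htop : (U ⊓ W) ⊔ V = U := by
    rcases hmin ((U ⊓ W) ⊔ V) inferInstance le_sup_right (sup_le inf_le_left hVU.le) with h | h
    · exact absurd (le_sup_left.trans h.le) hW
    · exact h
  intro x hx
  rw [← htop] at hx
  obtain ⟨y, hy, v, hv, rfl⟩ := Subgroup.mem_sup_of_normal_right.1 hx
  have h1 : cit b k y ∈ V :=
    hW' (Subgroup.mem_inf.2 ⟨cit_mem b (Subgroup.mem_inf.1 hy).1 k, hred y hy⟩)
  refine (QuotientGroup.eq_one_iff _).1 ?_
  show QuotientGroup.mk' V (cit b k (y * v)) = 1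
  rw [cit_congr V b (show QuotientGroup.mk' V (y * v) = QuotientGroup.mk' V y by
    rw [map_mul, show QuotientGroup.mk' V v = 1 from (QuotientGroup.eq_one_iff v).2 hv, mul_one]) k]
  exact (QuotientGroup.eq_one_iff _).2 h1

section Quad

variable {E : Type*} [Ring E]

/-- conjugation minus one -/
def twl (u u' f : E) : E := u * f * u' - f

lemma twl_cube {u u' : E} (h : u' * u = 1) (hq : (u - 1) * (u - 1) = 0) (f : E) :
    twl u u' (twl u u' (twl u u' f)) = 0 := by
  obtain ⟨β, rfl⟩ : ∃ β, u = 1 + β := ⟨u - 1, by rw [add_sub_cancel]⟩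
  rw [add_sub_cancel_left] at hq
  have h1 : (1 + β) * (1 - β) = 1 := by
    rw [add_mul, one_mul, mul_sub, mul_one, hq, sub_zero, sub_add_cancel]
  have hu : u' = 1 - β := by
    calc u' = u' * ((1 + β) * (1 - β)) := by rw [h1, mul_one]
      _ = _ := by rw [← mul_assoc, h, one_mul]
  have hq' : ∀ g : E, β * (β * g) = 0 := fun g => by rw [← mul_assoc, hq, zero_mul]
  subst hu
  simp only [twl]
  simp only [mul_add, add_mul, mul_sub, sub_mul, mul_one, one_mul, mul_assoc, hq, hq', mul_zero, zero_mul]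
  abel

end Quad

variable {p : ℕ} [hp : Fact p.Prime] [Finite G]

/-- a normal self-centralising subgroup of the `p`-subgroup `Q`, central modulo its centre in `Q` -/
structure CoreSub (p : ℕ) (Q A : Subgroup G) : Prop where
  pgroup : IsPGroup p Q
  qnormal : Q.Normal
  normal : A.Normal
  le : A ≤ Q
  comm : ⁅A, Q⁆ ≤ Subgroup.centralizer (A : Set G)
  cent : Q ⊓ Subgroup.centralizer (A : Set G) ≤ A

namespace CoreSub

variable {Q A : Subgroup G}

/-- existence -/
theorem exists_coreSub (hQp : IsPGroup p Q) [hQn : Q.Normal] : ∃ A : Subgroup G, CoreSub p Q A := by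
  obtain ⟨A, ⟨hAn, hAQ, hAc⟩, hmax⟩ := exists_maximal_of_wellFoundedGT
    (fun A : Subgroup G => A.Normal ∧ A ≤ Q ∧ ⁅A, Q⁆ ≤ A ⊓ Subgroup.centralizer (A : Set G))
    ⟨⊥, inferInstance, bot_le, by simp⟩
  have hCQ : Q ⊓ Subgroup.centralizer (A : Set G) ≤ A := by
    by_contra hne
    set C := Q ⊓ Subgroup.centralizer (A : Set G) with hCdef
    have hCn : C.Normal := by rw [hCdef]; infer_instance
    set Z := A ⊓ Subgroup.centralizer (A : Set G) with hZdef
    have hZn : Z.Normal := by rw [hZdef]; infer_instance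
    have hZC : Z ≤ C := le_inf (inf_le_left.trans hAQ) inf_le_right
    obtain ⟨D, ⟨hDn, hZD, hDC⟩, hDmin⟩ := exists_minimal_of_wellFoundedLT
      (fun D : Subgroup G => D.Normal ∧ Z < D ∧ D ≤ C)
      ⟨C, hCn, lt_of_le_not_ge hZC (fun h => hne (h.trans inf_le_left)), le_rfl⟩
    have hchief : Cfsg.IsChiefFactor D Z := ⟨hZD, hDn, hZn, fun N hN h1 h2 => by
      rcases h1.eq_or_lt with h | h
      · exact Or.inl h.symm
      · exact Or.inr (le_antisymm h2 (hDmin ⟨hN, h, h2.trans hDC⟩ h2))⟩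
    have hDQ := (chief_facts hQp hchief (hDC.trans inf_le_left)).1
    have hZc : Z ≤ Subgroup.centralizer ((A ⊔ D : Subgroup G) : Set G) := by
      intro z hz
      obtain ⟨hz1, hz2⟩ := Subgroup.mem_inf.1 hz
      rw [Subgroup.mem_centralizer_iff]
      intro y hy
      obtain ⟨a, ha, d, hd, rfl⟩ := Subgroup.mem_sup_of_normal_right.1 hy
      have e1 := Subgroup.mem_centralizer_iff.1 hz2 a ha
      have e2 : z * d = d * z := Subgroup.mem_centralizer_iff.1 (Subgroup.mem_inf.1 (hDC hd)).2 z hz1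
      rw [mul_assoc, ← e2, ← mul_assoc, e1, mul_assoc]
    have hnew : ⁅A ⊔ D, Q⁆ ≤ Z := by
      rw [Subgroup.commutator_le]
      intro y hy q hq
      obtain ⟨a, ha, d, hd, rfl⟩ := Subgroup.mem_sup_of_normal_right.1 hy
      have e : ⁅a * d, q⁆ = a * ⁅d, q⁆ * a⁻¹ * ⁅a, q⁆ := by
        simp only [commutatorElement_def]; group
      rw [e]
      exact mul_mem (hZn.conj_mem _ (hDQ (Subgroup.commutator_mem_commutator hd hq)) a)
        (hAc (Subgroup.commutator_mem_commutator ha hq))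
    have hle : A ⊔ D ≤ A := hmax
      ⟨inferInstance, sup_le hAQ (hDC.trans inf_le_left),
        hnew.trans (le_inf (inf_le_left.trans le_sup_left) hZc)⟩ le_sup_left
    exact hZD.not_ge (le_inf (le_sup_right.trans hle) (hDC.trans inf_le_right))
  exact ⟨A, hQp, hQn, hAn, hAQ, hAc.trans inf_le_right, hCQ⟩

omit hp in
/-- for a self-centralizing `p`-core, `A` is self-centralizing in the whole group -/
theorem centralizer_le [Fact p.Prime] (hC : CharPType p G) (h : CoreSub p (Cfsg.pCore p G) A) :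
    Subgroup.centralizer (A : Set G) ≤ A := by
  set Q := Cfsg.pCore p G with hQdef
  have hQn := h.qnormal
  have hQp := h.pgroup
  have hAn := h.normal
  have hAQ := h.le
  have hCQ := h.cent
  have hAc : ⁅A, Q⁆ ≤ A ⊓ Subgroup.centralizer (A : Set G) := le_inf (Subgroup.commutator_le_left A Q) h.comm
  have hp' : IsPGroup p (Subgroup.centralizer (A : Set G) : Subgroup G) := by
    intro c
    obtain ⟨a, b, -, -, ha, ⟨j, hj⟩, hab⟩ := Cfsg.Agent.Lib.Transfer.exists_pPart_decomp (p := p) c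
    refine ⟨j, ?_⟩
    suffices a = 1 by
      rw [hab, this, one_mul, ← hj, pow_orderOf_eq_one]
    have hacop : (orderOf (a : G)).Coprime p := by rwa [Subgroup.orderOf_coe]
    have hfix : ∀ q ∈ Q, (a : G) * q = q * a := by
      intro q hq
      set d := ⁅(a : G), q⁆ with hd
      have hdQ : d ∈ Q := by
        rw [hd, commutatorElement_def]
        exact mul_mem (hQn.conj_mem q hq _) (inv_mem hq)
      have hdA : d ∈ A := by
        refine hCQ (Subgroup.mem_inf.2 ⟨hdQ, ?_⟩)
        rw [Subgroup.mem_centralizer_iff]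
        intro x hx
        have h1 := Subgroup.mem_centralizer_iff.1 a.2
        have h2 : ⁅x, q⁆ ∈ A := Subgroup.mem_inf.1 (hAc (Subgroup.commutator_mem_commutator hx hq)) |>.1
        -- the centraliser of `A` commutes with the conjugate of `x` by `q`
        have h3 : q⁻¹ * x * q ∈ A := by simpa using hAn.conj_mem x hx q⁻¹
        rw [hd, commutatorElement_def]
        have e1 := h1 x hx
        have e2 := h1 _ h3
        have e3 : q⁻¹ * x * q * (a : G)⁻¹ = (a : G)⁻¹ * (q⁻¹ * x * q) :=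
          (show Commute (q⁻¹ * x * q) (a : G) from e2).inv_right
        calc x * ((a : G) * q * (a : G)⁻¹ * q⁻¹) = (a : G) * (x * q) * (a : G)⁻¹ * q⁻¹ := by
              rw [← mul_assoc, ← mul_assoc, ← mul_assoc, e1]; group
          _ = (a : G) * q * (q⁻¹ * x * q * (a : G)⁻¹) * q⁻¹ := by group
          _ = (a : G) * q * ((a : G)⁻¹ * (q⁻¹ * x * q)) * q⁻¹ := by rw [e3]
          _ = _ := by group
      have hcd : (a : G) * d = d * a := (Subgroup.mem_centralizer_iff.1 a.2 d hdA).symm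
      have hpow : ∀ n : ℕ, (a : G) ^ n * q * ((a : G) ^ n)⁻¹ = d ^ n * q := by
        intro n
        induction n with
        | zero => simp
        | succ n ih =>
          have hc : Commute (a : G) (d ^ n) := (show Commute (a : G) d from hcd).pow_right n
          calc (a : G) ^ (n + 1) * q * ((a : G) ^ (n + 1))⁻¹
              = (a : G) * ((a : G) ^ n * q * ((a : G) ^ n)⁻¹) * (a : G)⁻¹ := by rw [pow_succ']; group
            _ = (a : G) * d ^ n * q * (a : G)⁻¹ := by rw [ih]; group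
            _ = d ^ n * ((a : G) * q * (a : G)⁻¹) := by rw [hc.eq]; group
            _ = _ := by rw [pow_succ, hd, commutatorElement_def]; group
      have h5 := hpow (orderOf (a : G))
      rw [pow_orderOf_eq_one] at h5
      have h6 : d ^ orderOf (a : G) = 1 := by simpa using h5.symm
      have : d = 1 := by
        have h7 := Cfsg.Agent.Lib.Transfer.eq_one_of_isPGroup_of_coprime hQp hdQ
        exact h7 (Nat.Coprime.coprime_dvd_left (orderOf_dvd_of_pow_eq_one h6) hacop)
      exact commutatorElement_eq_one_iff_mul_comm.1 this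
    have hmem : (a : G) ∈ Q := hC (Subgroup.mem_centralizer_iff.2 fun q hq => (hfix q hq).symm)
    exact Subtype.ext (Cfsg.Agent.Lib.Transfer.eq_one_of_isPGroup_of_coprime hQp hmem hacop)
  exact (le_inf (Cfsg.Agent.Lib.Cores.le_pCore inferInstance hp') le_rfl).trans hCQ

omit hp [Finite G] in
lemma centralizer_comm (h : CoreSub p Q A) {z a : G} (hz : z ∈ Subgroup.centralizer (A : Set G)) (ha : a ∈ A) :
    a * z = z * a :=
  Subgroup.mem_centralizer_iff.1 hz a ha

/-- an element quadratic on the centre and of degree three modulo the centre has degree four on every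
chief factor of `Q` -/
theorem deg_four (h : CoreSub p Q A) {b : G}
    (hb2 : ∀ z ∈ A ⊓ Subgroup.centralizer (A : Set G), ⁅b, ⁅b, z⁆⁆ = 1)
    (hb3 : ∀ a ∈ A, cit b⁻¹ 3 a ∈ A ⊓ Subgroup.centralizer (A : Set G))
    {U V : Subgroup G} (hch : Cfsg.IsChiefFactor U V) (hUQ : U ≤ Q) : Deg 4 b U V := by
  have := h.qnormal
  have := h.normal
  set Z := A ⊓ Subgroup.centralizer (A : Set G) with hZdef
  have hZn : Z.Normal := by rw [hZdef]; infer_instance
  set C0 := Q ⊓ Subgroup.centralizer (Z : Set G) with hC0def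
  have hC0n : C0.Normal := by rw [hC0def]; infer_instance
  have hZA : Z ≤ A := inf_le_left
  have hZcomm : ∀ x ∈ Z, ∀ y ∈ Z, x * y = y * x := fun x hx y hy =>
    (h.centralizer_comm (Subgroup.mem_inf.1 hy).2 (hZA hx))
  letI : CommGroup Z := { (inferInstance : Group Z) with mul_comm := fun x y => Subtype.ext (hZcomm x x.2 y y.2) }
  let ρ : G →* AddMonoid.End (Additive Z) := (autToEnd Z).comp (MulAut.conjNormal (H := Z))
  let val : Additive Z → G := fun a => ((Additive.toMul a : Z) : G)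
  have val_inj : Function.Injective val := fun a a' e => Additive.toMul.injective (Subtype.ext e)
  have hρ : ∀ (g : G) (a : Additive Z), val (ρ g a) = g * val a * g⁻¹ :=
    fun g a => MulAut.conjNormal_apply g (Additive.toMul a)
  have hρ1 : ∀ (g : G) (a : Additive Z), val ((ρ g - 1) a) = ⁅g, val a⁆ := by
    intro g a
    show ((Additive.toMul (ρ g a - a) : Z) : G) = _
    rw [toMul_sub, div_eq_mul_inv, Subgroup.coe_mul, commutatorElement_def]
    exact congrArg (· * _) (hρ g a)
  have hinv : ∀ g, ρ g⁻¹ * ρ g = 1 := fun g => by rw [← map_mul, inv_mul_cancel, map_one]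
  have hβ : (ρ b - 1) * (ρ b - 1) = 0 := by
    refine DFunLike.ext _ _ fun a => val_inj ?_
    show val ((ρ b - 1) ((ρ b - 1) a)) = _
    rw [hρ1, hρ1]
    exact hb2 _ (Additive.toMul a).2
  by_cases hUZ : ¬ U ⊓ Z ≤ V
  · refine deg_of_reduce (W := Z) (W' := ⊥) hch (fun y hy => ?_) hUZ (by simp)
    rw [Subgroup.mem_bot, show cit b 4 y = cit b 2 (cit b 2 y) from Function.iterate_add_apply _ 2 2 y,
      show cit b 2 y = 1 from (by rw [cit_succ, cit_succ]; exact hb2 y (Subgroup.mem_inf.1 hy).2), cit_one]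
  rw [not_not] at hUZ
  by_cases hUC : ¬ U ⊓ C0 ≤ V
  · refine deg_of_reduce (W := C0) (W' := Z) hch (fun y hy => ?_) hUC hUZ
    obtain ⟨-, hyC⟩ := Subgroup.mem_inf.1 hy
    -- the homomorphism attached to an element of `C0`
    have hD : ∀ q ∈ C0, ∀ a ∈ A, ⁅q, a⁆ ∈ Z := fun q hq a ha => by
      rw [← commutatorElement_inv]
      have h1 := Subgroup.commutator_mem_commutator ha (Subgroup.mem_inf.1 hq).1
      exact inv_mem (Subgroup.mem_inf.2 ⟨Subgroup.commutator_le_left A Q h1, h.comm h1⟩)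
    have hD0 : ∀ q ∈ C0, ∀ z ∈ Z, ⁅q, z⁆ = 1 := fun q hq z hz =>
      commutatorElement_eq_one_iff_mul_comm.2 (Subgroup.mem_centralizer_iff.1 (Subgroup.mem_inf.1 hq).2 z hz).symm
    let D : (q : G) → q ∈ C0 → (a : G) → a ∈ A → Additive Z := fun q hq a ha => Additive.ofMul ⟨⁅q, a⁆, hD q hq a ha⟩
    have hDmul : ∀ (q : G) (hq : q ∈ C0) (a a' : G) (ha : a ∈ A) (ha' : a' ∈ A),
        D q hq (a * a') (mul_mem ha ha') = D q hq a ha + D q hq a' ha' := by
      intro q hq a a' ha ha'
      refine val_inj ?_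
      show ⁅q, a * a'⁆ = ⁅q, a⁆ * ⁅q, a'⁆
      have e := h.centralizer_comm (Subgroup.mem_inf.1 (hD q hq a' ha')).2 ha
      calc ⁅q, a * a'⁆ = ⁅q, a⁆ * (a * ⁅q, a'⁆) * a⁻¹ := by simp only [commutatorElement_def]; group
        _ = _ := by rw [e]; group
    let d : G → G := fun a => ⁅b⁻¹, a⁆
    have hdA : ∀ {a : G}, a ∈ A → ∀ i, cit b⁻¹ i a ∈ A := fun ha i => cit_mem _ ha i
    have hDstep : ∀ (q : G) (hq : q ∈ C0) (a : G) (ha : a ∈ A),
        D (cit b 1 q) (cit_mem b hq 1) a ha =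
          (ρ b) (D q hq (cit b⁻¹ 1 a) (hdA ha 1) + D q hq a ha) - D q hq a ha := by
      intro q hq a ha
      rw [← hDmul q hq _ a (hdA ha 1) ha]
      refine val_inj ?_
      have e2 : cit b⁻¹ 1 a * a = b⁻¹ * a * b := by
        show ⁅b⁻¹, a⁆ * a = _; rw [commutatorElement_def]; group
      show ⁅cit b 1 q, a⁆ = ((Additive.toMul (_ - _) : Z) : G)
      rw [toMul_sub, div_eq_mul_inv, Subgroup.coe_mul]
      refine Eq.trans ?_ (congrArg₂ (· * ·) (hρ b _).symm rfl)
      show ⁅⁅b, q⁆, a⁆ = b * ⁅q, cit b⁻¹ 1 a * a⁆ * b⁻¹ * ⁅q, a⁆⁻¹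
      rw [e2]
      have e3 : q⁻¹ * ⁅q, a⁆⁻¹ * q = ⁅q, a⁆⁻¹ := by
        have := (Subgroup.mem_centralizer_iff.1 (Subgroup.mem_inf.1 hq).2 _ (inv_mem (hD q hq a ha)))
        rw [mul_assoc, this, inv_mul_cancel_left]
      have hbq : b * q * b⁻¹ ∈ Subgroup.centralizer (Z : Set G) :=
        (inferInstance : (Subgroup.centralizer (Z : Set G)).Normal).conj_mem q (Subgroup.mem_inf.1 hq).2 b
      have e4 := Subgroup.mem_centralizer_iff.1 hbq _ (inv_mem (hD q hq a ha))
      calc ⁅⁅b, q⁆, a⁆ = b * q * b⁻¹ * (q⁻¹ * ⁅q, a⁆⁻¹ * q) * (q⁻¹ * q) * a * (b * q * b⁻¹)⁻¹ * a⁻¹ := by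
            simp only [commutatorElement_def]; group
        _ = b * q * b⁻¹ * ⁅q, a⁆⁻¹ * a * (b * q * b⁻¹)⁻¹ * a⁻¹ := by rw [e3]; group
        _ = ⁅q, a⁆⁻¹ * (b * q * b⁻¹) * a * (b * q * b⁻¹)⁻¹ * a⁻¹ := by rw [e4]
        _ = ⁅q, a⁆⁻¹ * (b * ⁅q, b⁻¹ * a * b⁆ * b⁻¹) := by simp only [commutatorElement_def]; group
        _ = _ := hZcomm _ (inv_mem (hD q hq a ha)) _
              (hZn.conj_mem _ (hD q hq _ (by simpa using h.normal.conj_mem a ha b⁻¹)) b)
    have hgen : ∀ (j : ℕ) (q : G) (hq : q ∈ C0) (a : G) (ha : a ∈ A),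
        D (cit b j q) (cit_mem b hq j) a ha = D q hq (cit b⁻¹ j a) (hdA ha j) +
          (ρ b - 1) (j • D q hq (cit b⁻¹ j a) (hdA ha j) + j • D q hq (cit b⁻¹ (j - 1) a) (hdA ha (j - 1))) := by
      intro j
      induction j with
      | zero => intro q hq a ha; simp only [zero_smul, add_zero, map_zero]; rfl
      | succ j ih =>
        intro q hq a ha
        have e1 : D (cit b (j + 1) q) (cit_mem b hq (j + 1)) a ha =
            D (cit b 1 (cit b j q)) (cit_mem b (cit_mem b hq j) 1) a ha := by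
          simp only [cit_succ]; rfl
        have e2 : ∀ (i : ℕ) (hi : cit b⁻¹ i (cit b⁻¹ 1 a) ∈ A), D q hq (cit b⁻¹ i (cit b⁻¹ 1 a)) hi =
            D q hq (cit b⁻¹ (i + 1) a) (hdA ha (i + 1)) := fun i hi => by
          simp only [cit, Function.iterate_succ_apply, Function.iterate_zero, id]
        rw [e1, hDstep (cit b j q) (cit_mem b hq j) a ha, ih q hq a ha, ih q hq _ (hdA ha 1)]
        simp only [e2]
        set P2 := D q hq (cit b⁻¹ (j + 1) a) (hdA ha (j + 1)) with hP2
        set P1 := D q hq (cit b⁻¹ j a) (hdA ha j) with hP1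
        set β := ρ b - 1 with hβdef
        have hb' : ρ b = 1 + β := by rw [hβdef, add_sub_cancel]
        have hββ : ∀ x, β (β x) = 0 := fun x => DFunLike.congr_fun hβ x
        have e3 : ∀ (hj : cit b⁻¹ (j - 1 + 1) a ∈ A), j • D q hq (cit b⁻¹ (j - 1 + 1) a) hj = j • P1 := by
          intro hj
          rcases Nat.eq_zero_or_pos j with rfl | hjpos
          · simp
          · congr 1
            simp only [hP1, Nat.sub_add_cancel hjpos]
        have happ : ∀ (f g : AddMonoid.End (Additive Z)) x, (f + g) x = f x + g x := fun _ _ _ => rfl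
        rw [hb']
        simp only [e3, Nat.add_sub_cancel, add_smul, one_smul, happ, AddMonoid.End.coe_one, id,
          map_add, map_nsmul, hββ, smul_zero, add_zero, ← hP1]
        abel
    suffices hcc : cit b 4 y ∈ Subgroup.centralizer (A : Set G) from
      Subgroup.mem_inf.2 ⟨h.cent (Subgroup.mem_inf.2 ⟨cit_mem b (Subgroup.mem_inf.1 hyC).1 4, hcc⟩), hcc⟩
    refine Subgroup.mem_centralizer_iff.2 fun a ha => (commutatorElement_eq_one_iff_mul_comm.1 ?_).symm
    have hzero : ∀ x (hx : x ∈ A), x ∈ Z → D y hyC x hx = 0 := fun x hx hxZ => val_inj (hD0 y hyC x hxZ)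
    have h4Z : cit b⁻¹ 4 a ∈ Z := by rw [cit_succ]; exact cit_mem (N := Z) b⁻¹ (hb3 a ha) 1
    have h4 := congrArg val (hgen 4 y hyC a ha)
    rw [hzero _ (hdA ha 4) h4Z, hzero _ (hdA ha (4 - 1)) (show cit b⁻¹ (4 - 1) a ∈ Z from hb3 a ha)] at h4
    simp only [smul_zero, add_zero, map_zero] at h4
    exact h4
  rw [not_not] at hUC
  -- the series of the centre
  let Zs : ℕ → Subgroup G := fun i => Cfsg.iterCommutator Z Q i
  have hZsn : ∀ i, (Zs i).Normal := by
    intro i
    induction i with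
    | zero => exact hZn
    | succ i ih => exact Subgroup.commutator_normal (Zs i) Q
  have hZs_succ : ∀ i, Zs (i + 1) ≤ Zs i := fun i => by
    have := hZsn i
    exact Subgroup.commutator_le_left _ _
  have hZs_anti : Antitone Zs := antitone_nat_of_succ_le hZs_succ
  have hZsQ : ∀ i, Zs i ≤ Q := fun i => (hZs_anti (Nat.zero_le i)).trans (hZA.trans h.le)
  obtain ⟨N, hN⟩ : ∃ N, Zs (N + 1) = Zs N := by
    obtain ⟨n, hn⟩ := WellFoundedLT.antitone_chain_condition hZs_anti
    exact ⟨n, (hn (n + 1) (Nat.le_succ n)).symm⟩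
  have hNbot : Zs N = ⊥ := by
    by_contra hne
    have := hZsn N
    obtain ⟨Y, ⟨hYn, hYlt⟩, hYmax⟩ := exists_maximal_of_wellFoundedGT
      (fun Y : Subgroup G => Y.Normal ∧ Y < Zs N) ⟨⊥, inferInstance, bot_lt_iff_ne_bot.2 hne⟩
    have hchief : Cfsg.IsChiefFactor (Zs N) Y := ⟨hYlt, this, hYn, fun M hM h1 h2 => by
      rcases h2.eq_or_lt with h | h
      · exact Or.inr h
      · exact Or.inl (le_antisymm (hYmax ⟨hM, h⟩ h1) h1)⟩
    have h1 : Zs (N + 1) ≤ Y := (chief_facts h.pgroup hchief (hZsQ N)).1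
    rw [hN] at h1
    exact hYlt.not_ge h1
  let J : ℕ → AddSubgroup (AddMonoid.End (Additive Z)) := fun k =>
    { carrier := {f | ∀ (i : ℕ) (a : Additive Z), val a ∈ Zs i → val (f a) ∈ Zs (i + k)}
      zero_mem' := fun i a _ => one_mem _
      add_mem' := fun {f g} hf hg i a ha => by
        show ((Additive.toMul (f a + g a) : Z) : G) ∈ _
        rw [toMul_add]; exact mul_mem (hf i a ha) (hg i a ha)
      neg_mem' := fun {f} hf i a ha => by
        show ((Additive.toMul (-(f a)) : Z) : G) ∈ _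
        rw [toMul_neg]; exact inv_mem (hf i a ha) }
  have hJconj : ∀ (g g' : G) (k : ℕ) f, f ∈ J k → ρ g * f * ρ g' ∈ J k := by
    intro g g' k f hf i a ha
    show val (ρ g (f (ρ g' a))) ∈ _
    rw [hρ]
    refine (hZsn _).conj_mem _ (hf i _ ?_) g
    rw [hρ]; exact (hZsn _).conj_mem _ ha g'
  have hJ1 : ∀ q ∈ Q, ρ q - 1 ∈ J 1 := by
    intro q hq i a ha
    show val ((ρ q - 1) a) ∈ _
    rw [hρ1, ← commutatorElement_inv]
    exact inv_mem (Subgroup.commutator_mem_commutator ha hq)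
  have hJmul : ∀ {k l : ℕ} {f g}, f ∈ J k → g ∈ J l → f * g ∈ J (l + k) := fun hf hg i a ha => by
    have := hf _ _ (hg i a ha)
    rwa [add_assoc] at this
  let W : ℕ → Subgroup G := fun k =>
    { carrier := {q | q ∈ Q ∧ ρ q - 1 ∈ J k}
      one_mem' := ⟨one_mem _, by rw [map_one, sub_self]; exact zero_mem _⟩
      mul_mem' := fun {x y} hx hy => ⟨mul_mem hx.1 hy.1, by
        have h1 : (ρ x - 1) * ρ y ∈ J k := by
          have := hJconj 1 y k _ hx.2
          rwa [map_one, one_mul] at this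
        have := add_mem h1 hy.2
        rw [map_mul]
        convert this using 1
        rw [sub_mul, one_mul, sub_add_sub_cancel]⟩
      inv_mem' := fun {x} hx => ⟨inv_mem hx.1, by
        have h1 : (ρ x - 1) * ρ x⁻¹ ∈ J k := by
          have := hJconj 1 x⁻¹ k _ hx.2
          rwa [map_one, one_mul] at this
        have := neg_mem h1
        convert this using 1
        rw [sub_mul, one_mul, ← map_mul, mul_inv_cancel, map_one, neg_sub]⟩ }
  have hWn : ∀ k, (W k).Normal := fun k => ⟨fun x hx g => ⟨h.qnormal.conj_mem x hx.1 g, by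
    have := hJconj g g⁻¹ k _ hx.2
    convert this using 1
    rw [mul_sub, sub_mul, mul_one, ← map_mul, ← map_mul, ← map_mul, mul_inv_cancel, map_one]⟩⟩
  have hW1 : U ≤ W 1 := fun q hq => ⟨hUQ hq, hJ1 q (hUQ hq)⟩
  have hWN : W (N + 1) ≤ C0 := by
    intro q hq
    refine Subgroup.mem_inf.2 ⟨hq.1, Subgroup.mem_centralizer_iff.2 fun z hz => ?_⟩
    have h1 := hq.2 0 (Additive.ofMul ⟨z, hz⟩) hz
    rw [Nat.zero_add, hρ1] at h1
    have h2 := hNbot ▸ (hZs_succ N h1)
    rw [Subgroup.mem_bot, commutatorElement_eq_one_iff_mul_comm] at h2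
    exact h2.symm
  have hstep : ∀ k, 1 ≤ k → ∀ q ∈ W k, cit b 3 q ∈ W (k + 1) := by
    intro k hk q hq
    have hone : ∀ x ∈ W k, ρ ⁅b, x⁆ - 1 - twl (ρ b) (ρ b⁻¹) (ρ x - 1) ∈ J (k + 1) := by
      intro x hx
      have hL : twl (ρ b) (ρ b⁻¹) (ρ x - 1) ∈ J k := sub_mem (hJconj b b⁻¹ k _ hx.2) hx.2
      have := hJmul hL (hJ1 x⁻¹ (inv_mem hx.1))
      rw [add_comm] at this
      convert this using 1
      simp only [twl, commutatorElement_def, map_mul]
      have e1 : ρ b * ρ b⁻¹ = 1 := by rw [← map_mul, mul_inv_cancel, map_one]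
      have e2 : ρ x * ρ x⁻¹ = 1 := by rw [← map_mul, mul_inv_cancel, map_one]
      simp only [mul_sub, sub_mul, mul_one, one_mul, mul_assoc, e1, e2]
      abel
    have hJL : ∀ f g, f - g ∈ J (k + 1) → twl (ρ b) (ρ b⁻¹) f - twl (ρ b) (ρ b⁻¹) g ∈ J (k + 1) := by
      intro f g hfg
      have := sub_mem (hJconj b b⁻¹ (k + 1) _ hfg) hfg
      convert this using 1
      simp only [twl, mul_sub, sub_mul]; abel
    have := hWn k
    have h1 := hone q hq
    have h2 := add_mem (hone _ (cit_mem b hq 1)) (hJL _ _ h1)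
    have h2' : ρ (cit b 2 q) - 1 - twl (ρ b) (ρ b⁻¹) (twl (ρ b) (ρ b⁻¹) (ρ q - 1)) ∈ J (k + 1) := by
      convert h2 using 1
      rw [cit_succ b 1 q]
      show _ = _ + (twl _ _ (ρ (cit b 1 q) - 1) - _)
      abel
    have h3 := add_mem (hone _ (cit_mem b hq 2)) (hJL _ _ h2')
    refine ⟨cit_mem b hq.1 3, ?_⟩
    rw [twl_cube (hinv b) hβ] at h3
    convert h3 using 1
    rw [cit_succ b 2 q]
    abel
  have hex : ∃ k, 1 ≤ k ∧ ¬ U ⊓ W k ≤ V ∧ U ⊓ W (k + 1) ≤ V := by
    by_contra hcon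
    push Not at hcon
    have : ∀ k, 1 ≤ k → ¬ U ⊓ W k ≤ V := by
      intro k hk
      induction k, hk using Nat.le_induction with
      | base => exact fun h' => hch.1.not_ge ((le_inf le_rfl hW1).trans h')
      | succ k hk ih => exact hcon k hk ih
    exact this (N + 1) (Nat.le_add_left 1 N) ((inf_le_inf_left U hWN).trans hUC)
  obtain ⟨k, hk, h1, h2⟩ := hex
  have := hWn k
  have := hWn (k + 1)
  refine deg_of_reduce hch (fun y hy => ?_) h1 h2
  rw [cit_succ, commutatorElement_def]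
  have h4 := hstep k hk y (Subgroup.mem_inf.1 hy).2
  exact mul_mem (Subgroup.Normal.conj_mem inferInstance _ h4 b) (inv_mem h4)

end CoreSub

end Cfsg.Agent.Lib.FusionControl
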