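import Cfsg.Prelude.Def_ConjugacyFunctors
import Cfsg.Agent.Lib.Solvable.Nilpotent
import Cfsg.Agent.Lib.Coprime.Basic

/-! The K-infinity subgroups. -/

set_option autoImplicit false

universe u

open scoped commutatorElement

namespace Cfsg.Agent.Lib.FusionControl

variable {P : Type u} [Group P]

lemma kLower_anti {Q Q' : Subgroup P} (h : Q' ≤ Q) : Cfsg.kLowerStarFamily Q ⊆ Cfsg.kLowerStarFamily Q' :=
  fun _ ⟨h1, h2, h3⟩ => ⟨h1, h.trans h2, fun A hA hAQ => h3 A hA (hAQ.trans h)⟩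

lemma kUpper_anti {Q Q' : Subgroup P} (h : Q' ≤ Q) : Cfsg.kUpperStarFamily Q ⊆ Cfsg.kUpperStarFamily Q' :=
  fun _ ⟨h1, h2⟩ => ⟨h1, (Subgroup.commutator_mono le_rfl h).trans h2⟩

lemma kSeq_mono (n : ℕ) :
    Cfsg.kSeqOdd P (n + 1) ≤ Cfsg.kSeqOdd P n ∧ Cfsg.kSeqEven P n ≤ Cfsg.kSeqEven P (n + 1) := by
  suffices h : ∀ n, Cfsg.kSeqOdd P (n + 1) ≤ Cfsg.kSeqOdd P n from ⟨h n, sSup_le_sSup (kLower_anti (h n))⟩
  intro n
  induction n with
  | zero => exact le_top
  | succ n ih => exact sSup_le_sSup (kUpper_anti (sSup_le_sSup (kLower_anti ih)))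

lemma kSeqEven_monotone : Monotone (Cfsg.kSeqEven P) := monotone_nat_of_le_succ fun n => (kSeq_mono n).2

lemma kSeqOdd_antitone : Antitone (Cfsg.kSeqOdd P) := antitone_nat_of_succ_le fun n => (kSeq_mono n).1

lemma exists_stable [Finite P] : ∃ n : ℕ, ∀ m : ℕ, n ≤ m →
    Cfsg.kSeqEven P m = Cfsg.kInfLower P ∧ Cfsg.kSeqOdd P m = Cfsg.kInfUpper P := by
  obtain ⟨n, hn⟩ := WellFoundedGT.monotone_chain_condition ⟨Cfsg.kSeqEven P, kSeqEven_monotone⟩
  have hn' : ∀ m, n ≤ m → Cfsg.kSeqEven P n = Cfsg.kSeqEven P m := hn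
  refine ⟨n + 1, fun m hm => ⟨?_, ?_⟩⟩
  · refine le_antisymm (le_iSup (Cfsg.kSeqEven P) m) (iSup_le fun k => ?_)
    rcases le_total k m with h | h
    · exact kSeqEven_monotone h
    · rw [← hn' m (by omega), hn' k (by omega)]
  · have hodd : ∀ k, n + 1 ≤ k → Cfsg.kSeqOdd P k = Cfsg.kSeqOdd P (n + 1) := by
      intro k hk
      obtain ⟨j, rfl⟩ : ∃ j, k = j + 1 := ⟨k - 1, by omega⟩
      show sSup (Cfsg.kUpperStarFamily (Cfsg.kSeqEven P j)) = sSup (Cfsg.kUpperStarFamily (Cfsg.kSeqEven P n))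
      rw [hn' j (by omega)]
    refine le_antisymm (le_iInf fun k => ?_) (iInf_le (Cfsg.kSeqOdd P) m)
    rcases le_total k m with h | h
    · exact kSeqOdd_antitone h
    · rw [hodd m hm, hodd k (le_trans hm h)]

lemma mem_families_of_normal_abelian (A : Subgroup P) [hA : A.Normal] (hc : IsMulCommutative A) :
    A ∈ Cfsg.classTwoSubgroups P ∧ ∀ Q : Subgroup P, A ∈ Cfsg.kLowerStarFamily Q ∧ A ∈ Cfsg.kUpperStarFamily Q := by
  have hle : A ≤ A ⊓ Subgroup.centralizer (A : Set P) := le_inf le_rfl (fun a ha => Subgroup.mem_centralizer_iff.2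
    fun b hb => congrArg Subtype.val (hc.is_comm.comm (⟨b, hb⟩ : A) ⟨a, ha⟩))
  have h2 : A ∈ Cfsg.classTwoSubgroups P := (Subgroup.commutator_le_left A A).trans (hle.trans inf_le_right)
  exact ⟨h2, fun Q => ⟨⟨h2, by rw [Subgroup.normalizer_eq_top]; exact le_top,
    fun B _ _ _ _ _ => (Subgroup.commutator_le_left A B).trans hle⟩, h2, (Subgroup.commutator_le_left A Q).trans hle⟩⟩

variable {p : ℕ} [Fact p.Prime] [Finite P]

/-- a central extension step -/
lemma exists_extend (hP : IsPGroup p P) {B Q : Subgroup P} (hQB : Q ≤ Subgroup.normalizer (B : Set P))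
    (hC : ¬ Subgroup.centralizer (B : Set P) ≤ B) :
    ∃ x ∈ Subgroup.centralizer (B : Set P), x ∉ B ∧ ∀ (i : ℤ), ∀ q ∈ Q, ⁅x ^ i, q⁆ ∈ B ⊓ Subgroup.centralizer (B : Set P) := by
  set C := Subgroup.centralizer (B : Set P) with hCdef
  set D := B ⊓ C with hD
  set H := Q ⊔ C with hH
  have hNC : Subgroup.normalizer (B : Set P) ≤ Subgroup.normalizer (C : Set P) := by
    intro y hy
    have hB : B.map (MulAut.conj y).toMonoidHom = B := by
      ext z
      constructor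
      · rintro ⟨b, hb, rfl⟩; exact (Subgroup.mem_normalizer_iff.1 hy b).1 hb
      · intro hz
        refine ⟨y⁻¹ * z * y, ?_, by simp [mul_assoc]⟩
        have := (Subgroup.mem_normalizer_iff.1 (inv_mem hy) z).1 hz
        simpa using this
    rw [Subgroup.mem_normalizer_iff]
    intro c
    simp only [hCdef, Subgroup.mem_centralizer_iff]
    constructor
    · intro h b hb
      obtain ⟨b', hb', rfl⟩ := hB.ge hb
      show y * b' * y⁻¹ * (y * c * y⁻¹) = y * c * y⁻¹ * (y * b' * y⁻¹)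
      calc y * b' * y⁻¹ * (y * c * y⁻¹) = y * (b' * c) * y⁻¹ := by group
        _ = y * (c * b') * y⁻¹ := by rw [h b' hb']
        _ = _ := by group
    · intro h b hb
      have := h _ ((Subgroup.mem_normalizer_iff.1 hy b).1 hb)
      have e : y * (b * c) * y⁻¹ = y * (c * b) * y⁻¹ := by
        calc y * (b * c) * y⁻¹ = y * b * y⁻¹ * (y * c * y⁻¹) := by group
          _ = y * c * y⁻¹ * (y * b * y⁻¹) := this
          _ = _ := by group
      exact mul_left_cancel (mul_right_cancel e)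
  have hHN : H ≤ Subgroup.normalizer (B : Set P) := sup_le hQB (Subgroup.centralizer_le_normalizer _)
  have hDn : (D.subgroupOf H).Normal := by
    refine ⟨fun z hz y => ?_⟩
    obtain ⟨h1, h2⟩ := Subgroup.mem_inf.1 (Subgroup.mem_subgroupOf.1 hz)
    exact Subgroup.mem_subgroupOf.2 (Subgroup.mem_inf.2 ⟨(Subgroup.mem_normalizer_iff.1 (hHN y.2) _).1 h1,
      (Subgroup.mem_normalizer_iff.1 (hNC (hHN y.2)) _).1 h2⟩)
  have hCn : (C.subgroupOf H).Normal :=
    ⟨fun z hz y => Subgroup.mem_subgroupOf.2 ((Subgroup.mem_normalizer_iff.1 (hNC (hHN y.2)) _).1 (Subgroup.mem_subgroupOf.1 hz))⟩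
  set f := QuotientGroup.mk' (D.subgroupOf H) with hf
  have : ((C.subgroupOf H).map f).Normal := hCn.map f (QuotientGroup.mk'_surjective _)
  have : Group.IsNilpotent (↥H ⧸ D.subgroupOf H) := ((hP.to_subgroup H).to_quotient _).isNilpotent
  have hne : (C.subgroupOf H).map f ≠ ⊥ := by
    rw [Ne, Subgroup.map_eq_bot_iff, QuotientGroup.ker_mk']
    intro h
    apply hC
    intro c hc
    exact (Subgroup.mem_inf.1 (Subgroup.mem_subgroupOf.1 (h (show (⟨c, le_sup_right (a := Q) hc⟩ : H) ∈ C.subgroupOf H from hc)))).1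
  have hne' := Cfsg.Agent.Lib.Solvable.inf_center_ne_bot hne
  obtain ⟨w, hw⟩ := Subgroup.ne_bot_iff_exists_ne_one.1 hne'
  obtain ⟨hwC, hwZ⟩ := Subgroup.mem_inf.1 w.2
  obtain ⟨x, hxC, hxw⟩ := hwC
  refine ⟨x, Subgroup.mem_subgroupOf.1 hxC, fun hxB => hw (Subtype.ext ?_), fun i q hq => ?_⟩
  · rw [Subgroup.coe_one, ← hxw]
    exact (QuotientGroup.eq_one_iff x).2 (Subgroup.mem_subgroupOf.2 (Subgroup.mem_inf.2 ⟨hxB, Subgroup.mem_subgroupOf.1 hxC⟩))
  · have h1 : f x ^ i ∈ Subgroup.center (↥H ⧸ D.subgroupOf H) := zpow_mem (hxw ▸ hwZ) i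
    have h2 : ⁅x ^ i, (⟨q, le_sup_left (b := C) hq⟩ : H)⁆ ∈ D.subgroupOf H := by
      refine (QuotientGroup.eq_one_iff _).1 ?_
      show f _ = 1
      rw [map_commutatorElement, map_zpow, commutatorElement_eq_one_iff_mul_comm]
      exact (Subgroup.mem_center_iff.1 h1 _).symm
    exact Subgroup.mem_subgroupOf.1 h2

/-- members of maximal order of the families contain their centralizers -/
theorem centralizer_le_of_maximal (hP : IsPGroup p P) (B : Subgroup P) (𝒦 : Set (Subgroup P))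
    (h𝒦 : 𝒦 = Cfsg.classTwoSubgroups P ∨ (∃ Q, 𝒦 = Cfsg.kLowerStarFamily Q) ∨ ∃ Q, 𝒦 = Cfsg.kUpperStarFamily Q)
    (hB : B ∈ 𝒦) (hmax : ∀ C ∈ 𝒦, B ≤ C → C = B) : Subgroup.centralizer (B : Set P) ≤ B := by
  by_contra hC
  obtain ⟨R, hR, hmem⟩ : ∃ R : Subgroup P, R ≤ Subgroup.normalizer (B : Set P) ∧ ∀ x ∈ Subgroup.centralizer (B : Set P),
      (∀ (i : ℤ), ∀ q ∈ R, ⁅x ^ i, q⁆ ∈ B ⊓ Subgroup.centralizer (B : Set P)) →
      B ⊔ Subgroup.zpowers x ∈ 𝒦 := by
    have key : ∀ x ∈ Subgroup.centralizer (B : Set P), B ∈ Cfsg.classTwoSubgroups P →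
        B ⊔ Subgroup.zpowers x ∈ Cfsg.classTwoSubgroups P ∧
          (B ⊓ Subgroup.centralizer (B : Set P) ≤ (B ⊔ Subgroup.zpowers x) ⊓ Subgroup.centralizer ((B ⊔ Subgroup.zpowers x : Subgroup P) : Set P)) ∧
          (∀ u ∈ B ⊔ Subgroup.zpowers x, ∃ b ∈ B, ∃ i : ℤ, u = b * x ^ i) := by
      intro x hx h2
      have hdec : ∀ u ∈ B ⊔ Subgroup.zpowers x, ∃ b ∈ B, ∃ i : ℤ, u = b * x ^ i := by
        intro u hu
        obtain ⟨b, hb, y, hy, rfl⟩ := Cfsg.Agent.Lib.Coprime.exists_mul_of_mem_sup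
          ((Subgroup.zpowers_le.2 hx).trans (Subgroup.centralizer_le_normalizer _)) hu
        obtain ⟨i, rfl⟩ := hy
        exact ⟨b, hb, i, rfl⟩
      have hcent : ∀ d ∈ Subgroup.centralizer (B : Set P), Commute d x → d ∈ Subgroup.centralizer ((B ⊔ Subgroup.zpowers x : Subgroup P) : Set P) := by
        intro d hd hdx
        rw [Subgroup.mem_centralizer_iff]
        intro u hu
        obtain ⟨b, hb, i, rfl⟩ := hdec u hu
        exact (Commute.mul_left (Subgroup.mem_centralizer_iff.1 hd b hb) ((hdx.symm).zpow_left i)).eq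
      refine ⟨?_, ?_, hdec⟩
      · show ⁅B ⊔ Subgroup.zpowers x, B ⊔ Subgroup.zpowers x⁆ ≤ _
        rw [Subgroup.commutator_le]
        intro u hu v hv
        obtain ⟨b, hb, i, rfl⟩ := hdec u hu
        obtain ⟨c, hc, j, rfl⟩ := hdec v hv
        have e1 : Commute b x := Subgroup.mem_centralizer_iff.1 hx b hb
        have e2 : Commute c x := Subgroup.mem_centralizer_iff.1 hx c hc
        have e : ⁅b * x ^ i, c * x ^ j⁆ = ⁅b, c⁆ := by
          rw [commutatorElement_def, commutatorElement_def, mul_inv_rev, mul_inv_rev]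
          calc b * x ^ i * (c * x ^ j) * ((x ^ i)⁻¹ * b⁻¹) * ((x ^ j)⁻¹ * c⁻¹)
              = b * (x ^ i * c) * (x ^ j * ((x ^ i)⁻¹ * b⁻¹) * (x ^ j)⁻¹) * c⁻¹ := by group
            _ = b * (c * x ^ i) * ((x ^ i)⁻¹ * b⁻¹) * c⁻¹ := by
                rw [(e2.symm.zpow_left i).eq]
                congr 2
                have h3 : Commute (x ^ j) ((x ^ i)⁻¹ * b⁻¹) :=
                  Commute.mul_right ((Commute.zpow_zpow_self x j i).inv_right) ((e1.symm.zpow_left j).inv_right)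
                rw [h3.eq, mul_inv_cancel_right]
            _ = _ := by group
        rw [e]
        have hbc := h2 (Subgroup.commutator_mem_commutator hb hc)
        refine hcent _ hbc ?_
        rw [commutatorElement_def]
        exact ((e1.mul_left e2).mul_left e1.inv_left).mul_left e2.inv_left
      · intro d hd
        obtain ⟨hd1, hd2⟩ := Subgroup.mem_inf.1 hd
        exact Subgroup.mem_inf.2 ⟨Subgroup.mem_sup_left hd1, hcent d hd2 (Subgroup.mem_centralizer_iff.1 hx d hd1)⟩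
    have comm_le : ∀ (R : Subgroup P) (x : P), x ∈ Subgroup.centralizer (B : Set P) → B ∈ Cfsg.classTwoSubgroups P →
        (∀ (i : ℤ), ∀ q ∈ R, ⁅x ^ i, q⁆ ∈ B ⊓ Subgroup.centralizer (B : Set P)) →
        ⁅B, R⁆ ≤ B ⊓ Subgroup.centralizer (B : Set P) →
        ⁅B ⊔ Subgroup.zpowers x, R⁆ ≤ (B ⊔ Subgroup.zpowers x) ⊓ Subgroup.centralizer ((B ⊔ Subgroup.zpowers x : Subgroup P) : Set P) := by
      intro R x hx h2 hxq hBR
      obtain ⟨-, hz, hdec⟩ := key x hx h2
      rw [Subgroup.commutator_le]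
      intro u hu q hq
      obtain ⟨b, hb, i, rfl⟩ := hdec u hu
      have h1 := hxq i q hq
      have e : ⁅b * x ^ i, q⁆ = b * ⁅x ^ i, q⁆ * b⁻¹ * ⁅b, q⁆ := by
        rw [commutatorElement_def, commutatorElement_def, commutatorElement_def]; group
      have h3 : b * ⁅x ^ i, q⁆ * b⁻¹ = ⁅x ^ i, q⁆ := by
        rw [Subgroup.mem_centralizer_iff.1 (Subgroup.mem_inf.1 h1).2 b hb, mul_inv_cancel_right]
      rw [e, h3]
      exact hz (mul_mem h1 (hBR (Subgroup.commutator_mem_commutator hb hq)))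
    rcases h𝒦 with rfl | ⟨R, rfl⟩ | ⟨R, rfl⟩
    · exact ⟨⊥, bot_le, fun x hx _ => (key x hx hB).1⟩
    · obtain ⟨h1, h2, h3⟩ := hB
      refine ⟨R, h2, fun x hx hxq => ⟨(key x hx h1).1, ?_, fun A hA hAR hAN hA1 hA2 => ?_⟩⟩
      · intro q hq
        have hxn : ∀ i : ℤ, q * x ^ i * q⁻¹ ∈ B ⊔ Subgroup.zpowers x := by
          intro i
          have h4 := (Subgroup.mem_inf.1 (hxq i q hq)).1
          have e : q * x ^ i * q⁻¹ = ⁅x ^ i, q⁆⁻¹ * x ^ i := by rw [commutatorElement_def]; group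
          rw [e]
          exact mul_mem (inv_mem (Subgroup.mem_sup_left h4)) (Subgroup.mem_sup_right ⟨i, rfl⟩)
        have hmem : ∀ q' ∈ R, ∀ u ∈ B ⊔ Subgroup.zpowers x, q' * u * q'⁻¹ ∈ B ⊔ Subgroup.zpowers x := by
          intro q' hq' u hu
          obtain ⟨b, hb, i, rfl⟩ := (key x hx h1).2.2 u hu
          have h4 := (Subgroup.mem_inf.1 (hxq i q' hq')).1
          have e : q' * (b * x ^ i) * q'⁻¹ = (q' * b * q'⁻¹) * (⁅x ^ i, q'⁆⁻¹ * x ^ i) := by rw [commutatorElement_def]; group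
          rw [e]
          exact mul_mem (Subgroup.mem_sup_left ((Subgroup.mem_normalizer_iff.1 (h2 hq') b).1 hb))
            (mul_mem (inv_mem (Subgroup.mem_sup_left h4)) (Subgroup.mem_sup_right ⟨i, rfl⟩))
        rw [Subgroup.mem_normalizer_iff]
        intro u
        refine ⟨hmem q hq u, fun hu => ?_⟩
        have := hmem q⁻¹ (inv_mem hq) _ hu
        simpa [mul_assoc] using this
      · obtain ⟨-, hz, -⟩ := key x hx h1
        refine comm_le A x hx h1 (fun i q hq => hxq i q (hAR hq)) (h3 A hA hAR (le_sup_left.trans hAN) ?_ ?_)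
        · exact le_bot_iff.1 (hA1 ▸ Subgroup.commutator_mono le_sup_left le_rfl)
        · exact le_bot_iff.1 (hA2 ▸ Subgroup.commutator_mono (Subgroup.commutator_mono hz le_rfl) le_rfl)
    · obtain ⟨h1, h2⟩ := hB
      refine ⟨R, ?_, fun x hx hxq => ⟨(key x hx h1).1, comm_le R x hx h1 hxq h2⟩⟩
      intro q hq
      have hmem : ∀ q' ∈ R, ∀ b ∈ B, q' * b * q'⁻¹ ∈ B := by
        intro q' hq' b hb
        have := (Subgroup.mem_inf.1 (h2 (Subgroup.commutator_mem_commutator hb hq'))).1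
        have e : q' * b * q'⁻¹ = ⁅b, q'⁆⁻¹ * b := by rw [commutatorElement_def]; group
        rw [e]; exact mul_mem (inv_mem this) hb
      rw [Subgroup.mem_normalizer_iff]
      intro u
      refine ⟨hmem q hq u, fun hu => ?_⟩
      have := hmem q⁻¹ (inv_mem hq) _ hu
      simpa [mul_assoc] using this
  obtain ⟨x, hx, hxB, hxR⟩ := exists_extend hP hR hC
  exact hxB ((hmax _ (hmem x hx hxR) le_sup_left).le (Subgroup.mem_sup_right (Subgroup.mem_zpowers x)))

lemma centralizer_sSup_le (hP : IsPGroup p P) (𝒦 : Set (Subgroup P))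
    (h𝒦 : (∃ Q, 𝒦 = Cfsg.kLowerStarFamily Q) ∨ ∃ Q, 𝒦 = Cfsg.kUpperStarFamily Q) :
    Subgroup.centralizer ((sSup 𝒦 : Subgroup P) : Set P) ≤ sSup 𝒦 := by
  have hne : (⊥ : Subgroup P) ∈ 𝒦 := by
    have h := (mem_families_of_normal_abelian (⊥ : Subgroup P) inferInstance).2
    rcases h𝒦 with ⟨Q, rfl⟩ | ⟨Q, rfl⟩
    · exact (h Q).1
    · exact (h Q).2
  obtain ⟨B, hB, hmax⟩ := exists_maximal_of_wellFoundedGT (fun B : Subgroup P => B ∈ 𝒦) ⟨⊥, hne⟩
  have := centralizer_le_of_maximal hP B 𝒦 (Or.inr h𝒦) hB (fun C hC hBC => le_antisymm (hmax hC hBC) hBC)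
  have hle : B ≤ sSup 𝒦 := le_sSup hB
  exact ((Subgroup.centralizer_le hle).trans this).trans hle

end Cfsg.Agent.Lib.FusionControl
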