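import Cfsg.Agent.Lib.FusionControl.KInf

/-! K-infinity of a large subgroup. -/

set_option autoImplicit false

universe u

open scoped commutatorElement

namespace Cfsg.Agent.Lib.FusionControl

variable {P : Type u} [Group P] {Q : Subgroup P}

lemma map_inf_centralizer (B : Subgroup Q) :
    (B ⊓ Subgroup.centralizer (B : Set Q)).map Q.subtype =
      B.map Q.subtype ⊓ Subgroup.centralizer (B.map Q.subtype : Set P) := by
  ext x
  constructor
  · rintro ⟨b, hb, rfl⟩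
    obtain ⟨h1, h2⟩ := Subgroup.mem_inf.1 hb
    refine Subgroup.mem_inf.2 ⟨⟨b, h1, rfl⟩, ?_⟩
    rw [Subgroup.mem_centralizer_iff]
    rintro _ ⟨c, hc, rfl⟩
    exact congrArg Subtype.val (Subgroup.mem_centralizer_iff.1 h2 c hc)
  · intro hx
    obtain ⟨h1, h2⟩ := Subgroup.mem_inf.1 hx
    obtain ⟨b, hb, rfl⟩ := h1
    refine ⟨b, Subgroup.mem_inf.2 ⟨hb, ?_⟩, rfl⟩
    rw [Subgroup.mem_centralizer_iff]
    intro c hc
    exact Subtype.ext (Subgroup.mem_centralizer_iff.1 h2 c ⟨c, hc, rfl⟩)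

lemma map_commutator_le_iff (B R C : Subgroup Q) :
    ⁅B, R⁆ ≤ C ↔ ⁅B.map Q.subtype, R.map Q.subtype⁆ ≤ C.map Q.subtype := by
  rw [← Subgroup.map_commutator, Subgroup.map_le_map_iff_of_injective Q.subtype_injective]

lemma map_normalizer_le_iff (R B : Subgroup Q) :
    R ≤ Subgroup.normalizer (B : Set Q) ↔ R.map Q.subtype ≤ Subgroup.normalizer (B.map Q.subtype : Set P) := by
  constructor
  · rintro h _ ⟨r, hr, rfl⟩
    exact Subgroup.le_normalizer_map Q.subtype ⟨r, h hr, rfl⟩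
  · intro h r hr
    rw [Subgroup.mem_normalizer_iff]
    intro b
    have h1 := Subgroup.mem_normalizer_iff.1 (h ⟨r, hr, rfl⟩) (b : P)
    have h2 : ∀ c : Q, ((c : P) ∈ B.map Q.subtype ↔ c ∈ B) := fun c =>
      ⟨fun ⟨c', hc', e⟩ => by rwa [← Subtype.ext (a1 := c') (a2 := c) e], fun hc => ⟨c, hc, rfl⟩⟩
    rw [← h2, ← h2]
    exact h1

lemma map_mem_classTwo_iff (B : Subgroup Q) :
    B ∈ Cfsg.classTwoSubgroups Q ↔ B.map Q.subtype ∈ Cfsg.classTwoSubgroups P := by
  show ⁅B, B⁆ ≤ _ ↔ ⁅B.map Q.subtype, B.map Q.subtype⁆ ≤ _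
  constructor
  · intro h
    have h1 : ⁅B, B⁆ ≤ B ⊓ Subgroup.centralizer (B : Set Q) := le_inf (Subgroup.commutator_le.2 (fun a ha b hb => by
      rw [commutatorElement_def]; exact mul_mem (mul_mem (mul_mem ha hb) (inv_mem ha)) (inv_mem hb))) h
    rw [map_commutator_le_iff, map_inf_centralizer] at h1
    exact h1.trans inf_le_right
  · intro h
    have h1 : ⁅B.map Q.subtype, B.map Q.subtype⁆ ≤ (B ⊓ Subgroup.centralizer (B : Set Q)).map Q.subtype := by
      rw [map_inf_centralizer]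
      exact le_inf (Subgroup.commutator_le.2 (fun a ha b hb => by
        rw [commutatorElement_def]; exact mul_mem (mul_mem (mul_mem ha hb) (inv_mem ha)) (inv_mem hb))) h
    rw [← map_commutator_le_iff] at h1
    exact h1.trans inf_le_right

lemma map_mem_upper_iff (B R : Subgroup Q) :
    B ∈ Cfsg.kUpperStarFamily R ↔ B.map Q.subtype ∈ Cfsg.kUpperStarFamily (R.map Q.subtype) := by
  show _ ∧ ⁅B, R⁆ ≤ _ ↔ _ ∧ ⁅B.map Q.subtype, R.map Q.subtype⁆ ≤ _
  rw [map_mem_classTwo_iff, map_commutator_le_iff, map_inf_centralizer]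

lemma map_mem_lower_iff (B R : Subgroup Q) :
    B ∈ Cfsg.kLowerStarFamily R ↔ B.map Q.subtype ∈ Cfsg.kLowerStarFamily (R.map Q.subtype) := by
  have hbot : ∀ C : Subgroup Q, C = ⊥ ↔ C.map Q.subtype = ⊥ := fun C =>
    (Subgroup.map_eq_bot_iff_of_injective C Q.subtype_injective).symm
  constructor
  · rintro ⟨h1, h2, h3⟩
    refine ⟨(map_mem_classTwo_iff B).1 h1, (map_normalizer_le_iff R B).1 h2, fun A hA hAR hAN hA1 hA2 => ?_⟩
    obtain ⟨A, rfl⟩ : ∃ A' : Subgroup Q, A = A'.map Q.subtype := ⟨A.subgroupOf Q, by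
      rw [Subgroup.subgroupOf_map_subtype, inf_eq_left.2 (hAR.trans (Subgroup.map_subtype_le R))]⟩
    rw [← map_inf_centralizer, ← map_commutator_le_iff]
    refine h3 A ((map_mem_classTwo_iff A).2 hA) ((Subgroup.map_le_map_iff_of_injective Q.subtype_injective).1 hAR)
      ((map_normalizer_le_iff B A).2 hAN) ?_ ?_
    · rw [hbot, Subgroup.map_commutator, Subgroup.map_commutator]; exact hA1
    · rw [hbot, Subgroup.map_commutator, Subgroup.map_commutator, map_inf_centralizer]; exact hA2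
  · rintro ⟨h1, h2, h3⟩
    refine ⟨(map_mem_classTwo_iff B).2 h1, (map_normalizer_le_iff R B).2 h2, fun A hA hAR hAN hA1 hA2 => ?_⟩
    rw [map_commutator_le_iff, map_inf_centralizer]
    refine h3 (A.map Q.subtype) ((map_mem_classTwo_iff A).1 hA) (Subgroup.map_mono hAR)
      ((map_normalizer_le_iff B A).1 hAN) ?_ ?_
    · rw [← Subgroup.map_commutator, ← Subgroup.map_commutator, ← hbot]; exact hA1
    · rw [← map_inf_centralizer, ← Subgroup.map_commutator, ← Subgroup.map_commutator, ← hbot]; exact hA2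

/-- the sums of the families correspond once all members lie in the subgroup -/
lemma map_sSup_eq {𝒦 : Set (Subgroup Q)} {𝒦' : Set (Subgroup P)}
    (h : ∀ B, B ∈ 𝒦 ↔ B.map Q.subtype ∈ 𝒦') (hle : sSup 𝒦' ≤ Q) :
    (sSup 𝒦).map Q.subtype = sSup 𝒦' := by
  refine le_antisymm ?_ (sSup_le fun B hB => ?_)
  · rw [Subgroup.map_le_iff_le_comap]
    refine sSup_le fun B hB => ?_
    rw [← Subgroup.map_le_iff_le_comap]
    exact le_sSup ((h B).1 hB)
  · have e : (B.subgroupOf Q).map Q.subtype = B := by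
      rw [Subgroup.subgroupOf_map_subtype, inf_eq_left.2 ((le_sSup hB).trans hle)]
    rw [← e] at hB ⊢
    exact Subgroup.map_mono (le_sSup ((h _).2 hB))

theorem kInf_subgroup [Finite P] (hQ : ∀ n : ℕ, Cfsg.kSeqEven P n ≤ Q ∧ Cfsg.kSeqOdd P (n + 1) ≤ Q) :
    (Cfsg.kInfLower Q).map Q.subtype = Cfsg.kInfLower P ∧ (Cfsg.kInfUpper Q).map Q.subtype = Cfsg.kInfUpper P := by
  have step : ∀ n, Cfsg.kSeqOdd P (n + 1) ≤ (Cfsg.kSeqOdd Q n).map Q.subtype →
      (Cfsg.kSeqEven Q n).map Q.subtype = sSup (Cfsg.kLowerStarFamily ((Cfsg.kSeqOdd Q n).map Q.subtype)) := fun n h =>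
    map_sSup_eq (fun B => map_mem_lower_iff B _) ((sSup_le_sSup (kLower_anti h)).trans (hQ (n + 1)).1)
  have main : ∀ n, Cfsg.kSeqOdd P (n + 1) ≤ (Cfsg.kSeqOdd Q n).map Q.subtype ∧
      (Cfsg.kSeqOdd Q n).map Q.subtype ≤ Cfsg.kSeqOdd P n ∧
      Cfsg.kSeqEven P n ≤ (Cfsg.kSeqEven Q n).map Q.subtype ∧
      (Cfsg.kSeqEven Q n).map Q.subtype ≤ Cfsg.kSeqEven P (n + 1) := by
    intro n
    induction n with
    | zero =>
      have h0 : Cfsg.kSeqOdd P 1 ≤ (Cfsg.kSeqOdd Q 0).map Q.subtype := by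
        show _ ≤ (⊤ : Subgroup Q).map Q.subtype
        rw [← MonoidHom.range_eq_map, Subgroup.range_subtype]
        exact (hQ 0).2
      refine ⟨h0, le_top, ?_, ?_⟩
      · rw [step 0 h0]; exact sSup_le_sSup (kLower_anti le_top)
      · rw [step 0 h0]; exact sSup_le_sSup (kLower_anti h0)
    | succ n ih =>
      obtain ⟨-, -, h3, h4⟩ := ih
      have e : (Cfsg.kSeqOdd Q (n + 1)).map Q.subtype =
          sSup (Cfsg.kUpperStarFamily ((Cfsg.kSeqEven Q n).map Q.subtype)) :=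
        map_sSup_eq (fun B => map_mem_upper_iff B _) ((sSup_le_sSup (kUpper_anti h3)).trans (hQ n).2)
      have h0 : Cfsg.kSeqOdd P (n + 2) ≤ (Cfsg.kSeqOdd Q (n + 1)).map Q.subtype := by
        rw [e]; exact sSup_le_sSup (kUpper_anti h4)
      have h1 : (Cfsg.kSeqOdd Q (n + 1)).map Q.subtype ≤ Cfsg.kSeqOdd P (n + 1) := by
        rw [e]; exact sSup_le_sSup (kUpper_anti h3)
      refine ⟨h0, h1, ?_, ?_⟩
      · rw [step _ h0]; exact sSup_le_sSup (kLower_anti h1)
      · rw [step _ h0]; exact sSup_le_sSup (kLower_anti h0)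
  obtain ⟨a, ha⟩ := exists_stable (P := P)
  obtain ⟨b, hb⟩ := exists_stable (P := Q)
  obtain ⟨h1, h2, h3, h4⟩ := main (a + b)
  rw [(hb (a + b) (by omega)).1, (ha (a + b) (by omega)).1] at h3
  rw [(hb (a + b) (by omega)).1, (ha (a + b + 1) (by omega)).1] at h4
  rw [(hb (a + b) (by omega)).2, (ha (a + b) (by omega)).2] at h2
  rw [(hb (a + b) (by omega)).2, (ha (a + b + 1) (by omega)).2] at h1
  exact ⟨le_antisymm h4 h3, le_antisymm h2 h1⟩

end Cfsg.Agent.Lib.FusionControl
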