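import Cfsg.Agent.Lib.FusionControl.SectionInduction

/-! Turning hypotheses on the sections `K / R` into hypotheses on involved groups. -/

set_option autoImplicit false

universe u

namespace Cfsg.Agent.Lib.FusionControl

variable {p : ℕ} {G : Type u} [Group G] {𝓦 : Set (∀ (Q : Type u) [Group Q], Subgroup Q)}

/-- a section with a self-centralizing `p`-core isomorphic to `Y` -/
lemma exists_section {Y : Type u} [Group Y] (hY : Cfsg.Involves Y G) (hC : CharPType p Y) :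
    ∃ (K R : Subgroup G) (hR : (R.subgroupOf K).Normal) (e : ↥K ⧸ R.subgroupOf K ≃* Y),
      CharPType p (↥K ⧸ R.subgroupOf K) := by
  obtain ⟨K, R, hR, ⟨e⟩⟩ := hY
  exact ⟨K, R, hR, e, charPType_equiv e.symm hC⟩

variable [Fact p.Prime]

lemma family_equiv (h𝓦 : ∀ W ∈ 𝓦, Cfsg.IsCharPFunctor.{u} p W) {X Y : Type u} [Group X] [Group Y] [Finite X]
    (e : X ≃* Y) (h : Cfsg.FamilyControlsStrongFusionIn p (indSet X 𝓦) ⊤) :
    Cfsg.FamilyControlsStrongFusionIn p (indSet Y 𝓦) ⊤ := by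
  rw [family_iff] at h ⊢
  obtain ⟨T, -, hT, hTi, hl⟩ := h
  refine ⟨T.map e.toMonoidHom, le_top, hT.map _, ?_, fun A g _ hA hgA => ?_⟩
  · rwa [← Subgroup.map_top_of_surjective e.toMonoidHom e.surjective,
      Subgroup.relIndex_map_map_of_injective _ _ e.injective]
  · have hsub : e.toMonoidHom '' (e.toMonoidHom ⁻¹' A) = A :=
      Set.image_preimage_eq A e.surjective
    have h1 : Reach T (stepSet (indSet X 𝓦) ⊤ T) (e.toMonoidHom ⁻¹' A) (e.symm g) := by
      refine hl _ _ (Subgroup.mem_top _) ?_ ?_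
      · intro a ha
        obtain ⟨t, ht, ee⟩ := hA ha
        rwa [← e.injective ee]
      · rintro _ ⟨a, ha, rfl⟩
        obtain ⟨t, ht, ee⟩ := hgA ⟨_, ha, rfl⟩
        have : e.symm g * a * (e.symm g)⁻¹ = t := e.injective (by simpa using ee.symm)
        show e.symm g * a * (e.symm g)⁻¹ ∈ T
        rw [this]; exact ht
    have h2 := h1.hom_map e.toMonoidHom
    rw [hsub, show e.toMonoidHom (e.symm g) = g from e.apply_symm_apply g] at h2
    refine h2.mono_steps ?_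
    rintro _ ⟨x, hx, rfl⟩
    rcases hx with rfl | ⟨_, ⟨W, hW, rfl⟩, hx⟩
    · exact Or.inl (map_one _)
    · exact Or.inr ⟨_, ⟨W, hW, rfl⟩, Subgroup.mem_top _, mem_normalizer_functor_map h𝓦 _ e.injective hT hW hx.2⟩

lemma family_transfer_equiv (h𝓦 : ∀ W ∈ 𝓦, Cfsg.IsCharPFunctor.{u} p W) {X Y : Type u} [Group X] [Group Y] [Finite X]
    (e : X ≃* Y) (h : Cfsg.FamilyControlsTransferIn p (indSet X 𝓦) ⊤) :
    Cfsg.FamilyControlsTransferIn p (indSet Y 𝓦) ⊤ := by
  have : Finite Y := Finite.of_equiv X e.toEquiv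
  rw [family_transfer_iff] at h ⊢
  obtain ⟨T, -, hT, hTi, hl⟩ := h
  have htop : (⊤ : Subgroup X).map e.toMonoidHom = ⊤ := Subgroup.map_top_of_surjective e.toMonoidHom e.surjective
  refine ⟨T.map e.toMonoidHom, le_top, hT.map _, ?_, le_antisymm ?_ transferPart_le⟩
  · rwa [← htop, Subgroup.relIndex_map_map_of_injective _ _ e.injective]
  · conv_lhs => rw [← htop, ← Subgroup.map_commutator, ← Subgroup.map_inf _ _ _ e.injective, hl,
      transferPart, Subgroup.map_iSup]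
    refine iSup_le fun F => ?_
    rw [Subgroup.map_iSup]
    refine iSup_le fun hF => ?_
    obtain ⟨W, hW, rfl⟩ := hF
    refine le_trans ?_ (le_iSup₂ (f := fun (F : Subgroup Y → Subgroup Y) (_ : F ∈ indSet Y 𝓦) => T.map e.toMonoidHom ⊓
      ⁅⊤ ⊓ Subgroup.normalizer ((F (T.map e.toMonoidHom) : Subgroup Y) : Set Y),
        ⊤ ⊓ Subgroup.normalizer ((F (T.map e.toMonoidHom) : Subgroup Y) : Set Y)⁆) _ ⟨W, hW, rfl⟩)
    rw [Subgroup.map_inf _ _ _ e.injective, Subgroup.map_commutator]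
    refine inf_le_inf_left _ ?_
    have key : ((⊤ : Subgroup X) ⊓ Subgroup.normalizer ((Cfsg.inducedFunctor W T : Subgroup X) : Set X)).map e.toMonoidHom ≤
        ⊤ ⊓ Subgroup.normalizer ((Cfsg.inducedFunctor W (T.map e.toMonoidHom) : Subgroup Y) : Set Y) := by
      rintro _ ⟨x, hx, rfl⟩
      exact ⟨Subgroup.mem_top _, mem_normalizer_functor_map h𝓦 _ e.injective hT hW hx.2⟩
    exact Subgroup.commutator_mono key key

variable [Finite G]

theorem strongFusion_of_hloc (h𝓦 : ∀ W ∈ 𝓦, Cfsg.IsCharPFunctor.{u} p W)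
    (hloc : ∀ (K R : Subgroup G) [_hR : (R.subgroupOf K).Normal], CharPType p (↥K ⧸ R.subgroupOf K) →
      Cfsg.FamilyControlsStrongFusionIn p (indSet (↥K ⧸ R.subgroupOf K) 𝓦) ⊤)
    (Y : Type u) [Group Y] [Finite Y] (hY : Cfsg.Involves Y G) :
    Cfsg.FamilyControlsStrongFusionIn p (indSet Y 𝓦) ⊤ := by
  refine strongFusion_of_sections h𝓦 (G := G) (fun Z _ _ hZ hC => ?_) _ Y rfl hY
  obtain ⟨K, R, hR, e, hK⟩ := exists_section hZ hC
  exact family_equiv h𝓦 e (hloc K R hK)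

theorem transfer_of_hloc (h𝓦 : ∀ W ∈ 𝓦, Cfsg.IsCharPFunctor.{u} p W)
    (hloc : ∀ (K R : Subgroup G) [_hR : (R.subgroupOf K).Normal], CharPType p (↥K ⧸ R.subgroupOf K) →
      Cfsg.FamilyControlsTransferIn p (indSet (↥K ⧸ R.subgroupOf K) 𝓦) ⊤)
    (Y : Type u) [Group Y] [Finite Y] (hY : Cfsg.Involves Y G) :
    Cfsg.FamilyControlsTransferIn p (indSet Y 𝓦) ⊤ := by
  refine transfer_of_sections h𝓦 (G := G) (fun Z _ _ hZ hC => ?_) _ Y rfl hY
  obtain ⟨K, R, hR, e, hK⟩ := exists_section hZ hC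
  exact family_transfer_equiv h𝓦 e (hloc K R hK)

end Cfsg.Agent.Lib.FusionControl
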