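import Cfsg.Agent.Lib.FusionControl.KWitness
import Cfsg.Agent.Lib.FusionControl.SectionHyp
import Cfsg.Prelude.Def_LocalEven

/-! K-infinity in `p`-stable groups. -/

set_option autoImplicit false

universe u

open scoped commutatorElement

namespace Cfsg.Agent.Lib.FusionControl

variable {p : ℕ}

lemma map_centralizer_le_of_hom {X Y : Type*} [Group X] [Group Y] (f : X →* Y) (P : Subgroup X) :
    (Subgroup.centralizer (P : Set X)).map f ≤ Subgroup.centralizer ((P.map f : Subgroup Y) : Set Y) := by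
  rintro _ ⟨c, hc, rfl⟩
  rw [Subgroup.mem_centralizer_iff]
  rintro _ ⟨q, hq, rfl⟩
  rw [← map_mul, ← map_mul, Subgroup.mem_centralizer_iff.1 hc q hq]

/-- `p`-stability in the normalizer form is invariant under isomorphism -/
lemma isNormalizerPStable_equiv {X Y : Type u} [Group X] [Group Y] (e : X ≃* Y)
    (h : Cfsg.IsNormalizerPStable p X) : Cfsg.IsNormalizerPStable p Y := by
  intro P hP g hg hquad
  set f := e.symm.toMonoidHom with hf
  set P' := P.map f with hP'
  have hback : ∀ y : Y, y ∈ P ↔ e.symm y ∈ P' := fun y =>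
    ⟨fun hy => ⟨y, hy, rfl⟩, fun ⟨z, hz, hze⟩ => by rwa [← e.symm.injective hze]⟩
  have hN : ∀ y : Y, y ∈ Subgroup.normalizer (P : Set Y) ↔ e.symm y ∈ Subgroup.normalizer (P' : Set X) := by
    intro y
    rw [Subgroup.mem_normalizer_iff, Subgroup.mem_normalizer_iff]
    constructor
    · intro h x
      have := h (e x)
      rw [hback, hback, map_mul, map_mul, map_inv, e.symm_apply_apply] at this
      exact this
    · intro h x
      have := h (e.symm x)
      rwa [hback, hback, map_mul, map_mul, map_inv]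
  have hq : ⁅⁅P', Subgroup.zpowers (e.symm g)⁆, Subgroup.zpowers (e.symm g)⁆ = ⊥ := by
    have := congrArg (Subgroup.map f) hquad
    rwa [Subgroup.map_commutator, Subgroup.map_commutator, MonoidHom.map_zpowers, Subgroup.map_bot] at this
  have h1 := h P' (hP.map f) (e.symm g) ((hN g).1 hg) hq
  set N := Subgroup.normalizer (P : Set Y)
  set N' := Subgroup.normalizer (P' : Set X)
  let φ : N' →* N := (e.toMonoidHom.comp N'.subtype).codRestrict N fun x =>
    (hN _).2 (by show e.symm (e (x : X)) ∈ N'; rw [e.symm_apply_apply]; exact x.2)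
  have hφs : Function.Surjective φ := fun y => ⟨⟨e.symm y, (hN y).1 y.2⟩, Subtype.ext (e.apply_symm_apply _)⟩
  have hle : (Subgroup.centralizer (P' : Set X)).subgroupOf N' ≤
      ((Subgroup.centralizer (P : Set Y)).subgroupOf N).comap φ := fun c hc => by
    have := map_centralizer_le_of_hom e.toMonoidHom P' ⟨_, hc, rfl⟩
    rw [hP', Subgroup.map_map, show e.toMonoidHom.comp f = MonoidHom.id Y from MonoidHom.ext e.apply_symm_apply,
      Subgroup.map_id] at this
    exact this
  have h2 : QuotientGroup.map _ _ φ hle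
      (QuotientGroup.mk (s := (Subgroup.centralizer (P' : Set X)).subgroupOf N') ⟨e.symm g, (hN g).1 hg⟩) =
      QuotientGroup.mk (s := (Subgroup.centralizer (P : Set Y)).subgroupOf N) ⟨g, hg⟩ :=
    congrArg QuotientGroup.mk (Subtype.ext (e.apply_symm_apply g))
  rw [← h2]
  refine Cfsg.Agent.Lib.Cores.map_pCore_le _ ?_ ⟨_, h1, rfl⟩
  intro y
  obtain ⟨y, rfl⟩ := QuotientGroup.mk_surjective y
  obtain ⟨x, rfl⟩ := hφs y
  exact ⟨QuotientGroup.mk x, rfl⟩

variable [Fact p.Prime] {X : Type u} [Group X] [Finite X]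

/-- a quadratically moved chief factor gives a quotient that is not `p`-stable -/
theorem not_stable_of_moves {A : Subgroup X} (hA : IsPGroup p A) {g : X} (hm : Moves A g) :
    ∃ (N : Subgroup X) (_ : N.Normal), ¬ Cfsg.IsNormalizerPStable p (X ⧸ N) := by
  obtain ⟨U, V, ⟨hVU, hUn, hVn, hmin⟩, hUA, hquad, hmove⟩ := hm
  refine ⟨V, hVn, fun hst => ?_⟩
  set v := QuotientGroup.mk' V with hv
  have hvs : Function.Surjective v := QuotientGroup.mk'_surjective V
  set P := U.map v with hP
  have hPn : P.Normal := hUn.map v hvs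
  have hPp : IsPGroup p P := (hA.to_le hUA).map v
  have hNP : Subgroup.normalizer (P : Set (X ⧸ V)) = ⊤ := Subgroup.normalizer_eq_top_iff.2 hPn
  have hone : ∀ {K : Subgroup X}, K ≤ V → K.map v = ⊥ := fun {K} hK => by
    rw [Subgroup.map_eq_bot_iff, QuotientGroup.ker_mk']; exact hK
  have hq : ⁅⁅P, Subgroup.zpowers (v g)⁆, Subgroup.zpowers (v g)⁆ = ⊥ := by
    rw [hP, ← MonoidHom.map_zpowers, ← Subgroup.map_commutator, ← Subgroup.map_commutator]
    exact hone hquad
  have hg : v g ∈ Subgroup.normalizer (P : Set (X ⧸ V)) := by rw [hNP]; trivial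
  have h1 := hst P hPp (v g) hg hq
  set N := Subgroup.normalizer (P : Set (X ⧸ V)) with hN
  set C := Subgroup.centralizer (P : Set (X ⧸ V)) with hC
  have hCn : C.Normal := inferInstance
  set q := QuotientGroup.mk' (C.subgroupOf N) with hq'
  set M := ((Cfsg.pCore p (↥N ⧸ C.subgroupOf N)).comap q).map N.subtype with hM
  have hMn : M.Normal := (inferInstance : ((Cfsg.pCore p (↥N ⧸ C.subgroupOf N)).comap q).Normal).map _
    (fun y => ⟨⟨y, by rw [hNP]; trivial⟩, rfl⟩)
  have hgM : v g ∈ M := ⟨⟨v g, hg⟩, h1, rfl⟩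
  have hPne : P ≠ ⊥ := by
    rw [hP, Ne, Subgroup.map_eq_bot_iff, QuotientGroup.ker_mk']; exact not_le_of_gt hVU
  have hMC : M ≤ C := by
    -- `M` acts on `P` as a `p`-group
    let ψ : M →* MulAut P := (MulAut.conjNormal (H := P)).comp M.subtype
    have hψ : IsPGroup p ψ.range := by
      rintro ⟨_, m, rfl⟩
      obtain ⟨n, hn, hnm⟩ := m.2
      obtain ⟨k, hk⟩ := Cfsg.Agent.Lib.Cores.pCore_isPGroup p _ ⟨q n, hn⟩
      refine ⟨k, Subtype.ext ?_⟩
      show ψ m ^ p ^ k = 1
      rw [← map_pow]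
      refine MulEquiv.ext fun y => Subtype.ext ?_
      show MulAut.conjNormal (((m : X ⧸ V)) ^ p ^ k) y = (y : X ⧸ V)
      have hC' : ((n ^ p ^ k : N) : X ⧸ V) ∈ C :=
        (QuotientGroup.eq_one_iff (N := C.subgroupOf N) (n ^ p ^ k)).1
          (show q (n ^ p ^ k) = 1 by rw [map_pow]; exact congrArg Subtype.val hk)
      rw [MulAut.conjNormal_apply, ← hnm, show (N.subtype n) ^ p ^ k = ((n ^ p ^ k : N) : X ⧸ V) from rfl,
        ← Subgroup.mem_centralizer_iff.1 hC' _ y.2, mul_inv_cancel_right]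
    let : MulAction ψ.range P := MulAction.compHom _ ψ.range.subtype
    have hcong := hψ.card_modEq_card_fixedPoints P
    set F := P ⊓ Subgroup.centralizer (M : Set (X ⧸ V)) with hF
    have hFn : F.Normal := inferInstance
    have hFne : F ≠ ⊥ := by
      intro hFb
      have hpd : p ∣ Nat.card P := by
        obtain ⟨e, he⟩ := hPp.exists_card_eq
        rw [he]
        refine dvd_pow_self p fun h0 => hPne (Subgroup.card_eq_one.1 ?_)
        rw [he, h0, pow_zero]
      have : Nat.card (MulAction.fixedPoints ψ.range P) = 1 := by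
        have hsub : Subsingleton (MulAction.fixedPoints ψ.range P) := by
          constructor
          intro a b
          have key : ∀ c : MulAction.fixedPoints ψ.range P, ((c : P) : X ⧸ V) = 1 := fun c => by
            have hc : ((c : P) : X ⧸ V) ∈ F := Subgroup.mem_inf.2 ⟨(c : P).2, Subgroup.mem_centralizer_iff.2 fun m hm => by
              have hfix := c.2 ⟨ψ ⟨m, hm⟩, ⟨m, hm⟩, rfl⟩
              have := congrArg Subtype.val (show (MulAut.conjNormal m) (c : P) = (c : P) from hfix)
              rw [MulAut.conjNormal_apply, mul_inv_eq_iff_eq_mul] at this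
              exact this⟩
            rw [hFb, Subgroup.mem_bot] at hc
            exact hc
          exact Subtype.ext (Subtype.ext ((key a).trans (key b).symm))
        exact Nat.card_eq_one_iff_unique.2 ⟨hsub, ⟨⟨1, fun r => map_one (r : MulAut P)⟩⟩⟩
      rw [this] at hcong
      have h0 := (hcong.dvd_iff dvd_rfl).1 hpd
      exact (Fact.out : p.Prime).one_lt.not_ge (Nat.le_of_dvd one_pos h0)
    have hFP : F = P := by
      have h1 : V ≤ F.comap v := fun y hy => by
        show v y ∈ F
        rw [show v y = 1 from (QuotientGroup.eq_one_iff y).2 hy]; exact one_mem _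
      have h2 : F.comap v ≤ U := by
        refine (Subgroup.comap_mono (inf_le_left : F ≤ P)).trans ?_
        rw [hP, Subgroup.comap_map_eq, QuotientGroup.ker_mk', sup_eq_left.2 hVU.le]
      rcases hmin _ (hFn.comap v) h1 h2 with h | h
      · exact absurd (by rw [← Subgroup.map_comap_eq_self_of_surjective hvs F, h, hv, QuotientGroup.map_mk'_self]) hFne
      · rw [← Subgroup.map_comap_eq_self_of_surjective hvs F, h]
    intro m hm
    rw [hC, Subgroup.mem_centralizer_iff]
    intro y hy
    exact (Subgroup.mem_centralizer_iff.1 (Subgroup.mem_inf.1 (hFP.ge hy)).2 m hm).symm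
  apply hmove
  rw [Subgroup.commutator_le]
  rintro u hu _ ⟨i, rfl⟩
  refine (QuotientGroup.eq_one_iff _).1 ?_
  show v _ = 1
  have hc : v g ^ i ∈ C := zpow_mem (hMC hgM) i
  rw [map_commutatorElement, map_zpow, commutatorElement_eq_one_iff_mul_comm]
  exact Subgroup.mem_centralizer_iff.1 hc _ ⟨u, hu, rfl⟩

variable {G : Type u} [Group G] [Finite G]

/-- in a constrained section of a `p`-stable group both K-infinity subgroups are normal -/
theorem kInf_normal_of_stable
    (hst : ∀ (K R : Subgroup G) [_hR : (R.subgroupOf K).Normal], Cfsg.IsNormalizerPStable p (↥K ⧸ R.subgroupOf K))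
    (hX : Cfsg.Involves X G) (hC : CharPType p X) (S : Sylow p X) :
    (Cfsg.inducedFunctor Cfsg.kInfLower (S : Subgroup X)).Normal ∧
      (Cfsg.inducedFunctor Cfsg.kInfUpper (S : Subgroup X)).Normal := by
  by_contra hn
  rw [not_and_or] at hn
  obtain ⟨A, hA⟩ := CoreSub.exists_coreSub (Cfsg.Agent.Lib.Cores.pCore_isPGroup p X)
  obtain ⟨g, -, -, -, hm⟩ := exists_cubic_moves S hC hA hn
  obtain ⟨N, hN, hns⟩ := not_stable_of_moves (hA.pgroup.to_le hA.le) hm
  obtain ⟨K, R, hR, ⟨e⟩⟩ := involves_surjective hX (QuotientGroup.mk' N) (QuotientGroup.mk'_surjective N)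
  exact hns (isNormalizerPStable_equiv e (hst K R))

/-- K-infinity controls strong fusion in `p`-stable groups -/
theorem controlsStrongFusion_of_stable
    (hst : ∀ (K R : Subgroup G) [_hR : (R.subgroupOf K).Normal], Cfsg.IsNormalizerPStable p (↥K ⧸ R.subgroupOf K))
    {W : ∀ (Q : Type u) [Group Q], Subgroup Q} (hW : Cfsg.IsCharPFunctor.{u} p W)
    (hWK : ∀ (Y : Type u) [Group Y] [Finite Y] (T : Sylow p Y),
      (Cfsg.inducedFunctor Cfsg.kInfLower (T : Subgroup Y)).Normal →
      (Cfsg.inducedFunctor Cfsg.kInfUpper (T : Subgroup Y)).Normal → (Cfsg.inducedFunctor W (T : Subgroup Y)).Normal)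
    (S : Sylow p G) : Cfsg.ControlsStrongFusion p (Cfsg.inducedFunctor W (S : Subgroup G)) := by
  have h𝓦 : ∀ W' ∈ ({W} : Set (∀ (Q : Type u) [Group Q], Subgroup Q)), Cfsg.IsCharPFunctor.{u} p W' := by
    rintro _ rfl; exact hW
  have h0 := strongFusion_of_hloc h𝓦 (G := G) (fun K R _ hC => by
    obtain ⟨T⟩ : Nonempty (Sylow p (↥K ⧸ R.subgroupOf K)) := inferInstance
    obtain ⟨h1, h2⟩ := kInf_normal_of_stable hst involves_section hC T
    refine family_iff.2 ⟨T, le_top, T.2, sylow_relIndex_top T, fun A g _ hA hgA => ?_⟩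
    refine .step (Or.inr ⟨_, ⟨W, rfl, rfl⟩, Subgroup.mem_top g, ?_⟩) hA hgA (fun a _ => rfl)
    rw [Subgroup.normalizer_eq_top_iff.2 (hWK _ T h1 h2)]; trivial) G involves_self
  have hl := localCtrl_of_family (indSet_conjugacy h𝓦 G) h0 le_top S.2 (sylow_relIndex_top S)
  refine ⟨S, Subgroup.map_subtype_le _, fun A hA => ⟨hA, fun g hgA => ?_⟩⟩
  obtain ⟨x, hx, hxe⟩ := (hl A g (Subgroup.mem_top g) hA hgA).exists_mem
    (Subgroup.normalizer ((Cfsg.inducedFunctor W (S : Subgroup G) : Subgroup G) : Set G)) (by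
      rintro y (rfl | ⟨_, ⟨W', rfl, rfl⟩, hy⟩)
      · exact one_mem _
      · exact hy.2)
  exact ⟨x, hx, fun a ha => (hxe a ha).symm⟩

end Cfsg.Agent.Lib.FusionControl
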