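import Cfsg.Agent.Lib.FusionControl.KWeakClosure
import Cfsg.Agent.Lib.FusionControl.TransferAction

/-! Weak closure of central elements from the K-infinity normalizer, odd primes. -/

set_option autoImplicit false

universe u

open MulAction Finset
open scoped commutatorElement

namespace Cfsg.Agent.Lib.FusionControl

variable {p : ℕ} [Fact p.Prime]

section Trace

variable {X : Type u} [Group X] [Finite X]

/-- the trace of a central element of `S` inside a normal abelian subgroup, read modulo `p`th powers -/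
lemma mul_pow_mem_of_trace (hp2 : p ≠ 2) (S : Sylow p X) {M : Subgroup X} [hMn : M.Normal]
    (hMc : ∀ a ∈ M, ∀ b ∈ M, a * b = b * a) (hMp : IsPGroup p M)
    {x : X} (hxM : x ∈ M) (hxS : x ∈ Subgroup.centralizer ((S : Subgroup X) : Set X))
    {Ω : Set X} (hΩS : Ω ⊆ ((S : Subgroup X) : Set X)) (hq : ∀ w ∈ Ω, ∀ y ∈ M, ⁅w, ⁅w, y⁆⁆ = 1)
    (hfix : ∀ g : X, cj g (Subgroup.closure Ω) ≤ (S : Subgroup X) → g * x * g⁻¹ = x) :
    ∀ g : X, ∃ m ∈ M, g * x * g⁻¹ = x * m ^ p := by
  classical
  letI : CommGroup M := { (inferInstance : Group M) with mul_comm := fun a b => Subtype.ext (hMc a a.2 b b.2) }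
  let P := (powMonoidHom p : M →* M).range
  let π : M →* M ⧸ P := QuotientGroup.mk' P
  have hπp : ∀ m : M, π m ^ p = 1 := fun m => by
    rw [← map_pow]; exact (QuotientGroup.eq_one_iff _).2 ⟨m, rfl⟩
  let c : X → M → M := fun g m => ⟨g * m * g⁻¹, hMn.conj_mem _ m.2 g⟩
  let x' : M := ⟨x, hxM⟩
  let f : X ⧸ (S : Subgroup X) → M ⧸ P := fun q => π (c q.out x')
  have hrep : ∀ g : X, f (g : X ⧸ (S : Subgroup X)) = π (c g x') := fun g => by
    show π (c _ x') = _
    congr 1
    refine Subtype.ext ?_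
    show ((g : X ⧸ (S : Subgroup X))).out * x * ((g : X ⧸ (S : Subgroup X))).out⁻¹ = g * x * g⁻¹
    have h1 : g⁻¹ * ((g : X ⧸ (S : Subgroup X))).out ∈ (S : Subgroup X) := by
      rw [← QuotientGroup.eq, QuotientGroup.out_eq']
    obtain ⟨s, hs, hse⟩ : ∃ s ∈ (S : Subgroup X), ((g : X ⧸ (S : Subgroup X))).out = g * s := ⟨_, h1, by group⟩
    rw [hse, mul_inv_rev]
    calc g * s * x * (s⁻¹ * g⁻¹) = g * (s * x * s⁻¹) * g⁻¹ := by group
      _ = _ := by rw [Subgroup.mem_centralizer_iff.1 hxS s hs, mul_inv_cancel_right]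
  let := Fintype.ofFinite (X ⧸ (S : Subgroup X))
  set B := Subgroup.closure Ω with hB
  have hBp : IsPGroup p B := S.2.to_le ((Subgroup.closure_le _).2 hΩS)
  have hsum := prod_eq_prod_fixed (G := X) f hBp hB (Ω := Ω) (fun w hw q => by
    obtain ⟨y, rfl⟩ := QuotientGroup.mk_surjective q
    -- the orbit segment of a quadratic element
    set m := c y x' with hm
    let dM : M := ⟨⁅w, (m : X)⁆, Subgroup.commutator_le_right ⊤ M
      (Subgroup.commutator_mem_commutator (Subgroup.mem_top w) m.2)⟩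
    have hd : ∀ i : ℕ, c (w ^ i * y) x' = m * dM ^ i := by
      intro i
      refine Subtype.ext ?_
      show w ^ i * y * x * (w ^ i * y)⁻¹ = (m : X) * ((⁅w, (m : X)⁆ : X)) ^ i
      have e : w ^ i * y * x * (w ^ i * y)⁻¹ = w ^ i * (m : X) * (w ^ i)⁻¹ := by
        show _ = w ^ i * (y * x * y⁻¹) * (w ^ i)⁻¹
        group
      rw [e]
      obtain ⟨d, hd⟩ : ∃ d, d = ⁅w, (m : X)⁆ := ⟨_, rfl⟩
      have hwd : Commute w d := commutatorElement_eq_one_iff_mul_comm.1 (by rw [hd]; exact hq w hw _ m.2)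
      have hmd : Commute (m : X) d := hMc _ m.2 _ (hd ▸ Subgroup.commutator_le_right ⊤ M
        (Subgroup.commutator_mem_commutator (Subgroup.mem_top w) m.2))
      have e2 : w * (m : X) * w⁻¹ = d * m := by rw [hd, commutatorElement_def]; group
      rw [← hd]
      induction i with
      | zero => simp
      | succ i ih =>
        calc w ^ (i + 1) * (m : X) * (w ^ (i + 1))⁻¹ = w * (w ^ i * (m : X) * (w ^ i)⁻¹) * w⁻¹ := by
              rw [pow_succ']; group
          _ = w * ((m : X) * d ^ i) * w⁻¹ := by rw [ih (by show _ = w ^ i * (y * x * y⁻¹) * (w ^ i)⁻¹; group)]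
          _ = w * (m : X) * w⁻¹ * (w * d ^ i * w⁻¹) := by group
          _ = d * (m : X) * d ^ i := by rw [e2, (hwd.pow_right i).eq, mul_inv_cancel_right]
          _ = _ := by rw [← hmd.eq, mul_assoc, ← pow_succ']
    calc ∏ i ∈ range p, f (w ^ i • ((y : X) : X ⧸ (S : Subgroup X)))
        = ∏ i ∈ range p, π (m * dM ^ i) := prod_congr rfl fun i _ => by
          rw [← hd i, ← hrep]; rfl
      _ = 1 := by
        obtain ⟨k, hk⟩ : p ∣ ∑ i ∈ range p, i := by
          have hodd := (Fact.out : p.Prime).odd_of_ne_two hp2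
          obtain ⟨r, hr⟩ := hodd
          rw [Finset.sum_range_id]
          exact ⟨r, by rw [show p - 1 = 2 * r by omega, mul_left_comm, Nat.mul_div_cancel_left _ two_pos]⟩
        rw [← map_prod, prod_mul_distrib, prod_const, card_range, prod_pow_eq_pow_sum, hk, pow_mul',
          ← mul_pow, map_pow]
        exact hπp _)
  have hfixv : ∀ q ∈ fixedPoints B (X ⧸ (S : Subgroup X)), f q = π x' := by
    intro q hq
    show π (c q.out x') = _
    congr 1
    refine Subtype.ext ?_
    show q.out * x * q.out⁻¹ = x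
    have h2 := hfix q.out⁻¹ (cj_le_iff.2 fun b hb => by
      have h1 : (b : X) • q = q := hq ⟨b, hb⟩
      rw [← QuotientGroup.out_eq' q] at h1
      have := QuotientGroup.eq.1 (show (((b * q.out : X)) : X ⧸ (S : Subgroup X)) = (q.out : X) from h1)
      have := inv_mem this
      simpa [mul_assoc] using this)
    rw [inv_inv] at h2
    calc q.out * x * q.out⁻¹ = q.out * (q.out⁻¹ * x * q.out) * q.out⁻¹ := by rw [h2]
      _ = x := by group
  erw [prod_congr rfl (fun q hq => hfixv q (mem_filter.1 hq).2), prod_const] at hsum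
  set N := (univ.filter fun q => q ∈ fixedPoints B (X ⧸ (S : Subgroup X))).card with hN
  have hNp : ¬ p ∣ N := by
    have h1 := hBp.card_modEq_card_fixedPoints (X ⧸ (S : Subgroup X))
    have h2 : Nat.card (fixedPoints B (X ⧸ (S : Subgroup X))) = N := by
      rw [hN, Nat.card_eq_fintype_card, Fintype.card_subtype]
    rw [h2] at h1
    intro hd
    apply S.not_dvd_index
    rw [Subgroup.index]
    exact (h1.dvd_iff dvd_rfl).2 hd
  intro g
  let cg : M →* M := MonoidHom.mk' (c g) fun a b => Subtype.ext (by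
    show g * ((a : X) * b) * g⁻¹ = g * a * g⁻¹ * (g * b * g⁻¹); group)
  have hPle : P ≤ P.comap cg := by
    rintro _ ⟨a, rfl⟩
    exact ⟨cg a, (map_pow cg a p).symm⟩
  let γ := QuotientGroup.map P P cg hPle
  have hγ : ∀ q, γ (f q) = f (g • q) := fun q => by
    obtain ⟨y, rfl⟩ := QuotientGroup.mk_surjective q
    show γ (f y) = f ((g * y : X) : X ⧸ (S : Subgroup X))
    rw [hrep, hrep]
    show π (c g (c y x')) = _
    congr 1
    exact Subtype.ext (by show g * (y * x * y⁻¹) * g⁻¹ = g * y * x * (g * y)⁻¹; group)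
  have h1 : γ (∏ q, f q) = ∏ q, f q := by
    rw [map_prod, prod_congr rfl (fun q _ => hγ q)]
    exact Equiv.prod_comp (MulAction.toPerm g : Equiv.Perm (X ⧸ (S : Subgroup X))) f
  rw [hsum, map_pow] at h1
  have h2 : γ (π x') = π x' := by
    set u := γ (π x') * (π x')⁻¹ with hu
    have hu1 : u ^ N = 1 := by rw [hu, mul_pow, inv_pow, h1, mul_inv_cancel]
    have hu2 : u ^ p = 1 := by
      rw [hu, mul_pow, inv_pow, show γ (π x') ^ p = 1 by rw [← map_pow, hπp, map_one], hπp]; simp
    exact mul_inv_eq_one.1 (orderOf_eq_one_iff.1 (Nat.eq_one_of_dvd_coprimes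
      ((Nat.Prime.coprime_iff_not_dvd Fact.out).2 hNp) (orderOf_dvd_of_pow_eq_one hu2) (orderOf_dvd_of_pow_eq_one hu1)))
  have h3 : x'⁻¹ * c g x' ∈ P := QuotientGroup.eq.1 h2.symm
  obtain ⟨m, hm⟩ := h3
  refine ⟨m, m.2, ?_⟩
  have h4 := congrArg Subtype.val hm
  rw [powMonoidHom_apply, Subgroup.coe_pow, Subgroup.coe_mul, Subgroup.coe_inv] at h4
  rw [h4]
  show g * x * g⁻¹ = x * (x⁻¹ * (g * x * g⁻¹))
  group

end Trace

section Top

variable {X : Type u} [Group X] [Finite X]

/-- a normal abelian `p`-subgroup generated by conjugates that agree modulo powers is cyclic -/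
lemma normalClosure_le_zpowers {x : X} (hMp : IsPGroup p (Subgroup.normalClosure ({x} : Set X)))
    (hMc : ∀ a ∈ Subgroup.normalClosure ({x} : Set X), ∀ b ∈ Subgroup.normalClosure ({x} : Set X), a * b = b * a)
    (h : ∀ g : X, ∃ m ∈ Subgroup.normalClosure ({x} : Set X), g * x * g⁻¹ = x * m ^ p) :
    Subgroup.normalClosure ({x} : Set X) ≤ Subgroup.zpowers x := by
  set M := Subgroup.normalClosure ({x} : Set X) with hM
  have hxM : x ∈ M := Subgroup.subset_normalClosure rfl
  letI : CommGroup M := { (inferInstance : Group M) with mul_comm := fun a b => Subtype.ext (hMc a a.2 b b.2) }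
  set L := Subgroup.zpowers (⟨x, hxM⟩ : M) with hL
  set π := QuotientGroup.mk' L with hπ
  -- every element of the quotient is a `p`th power
  have hsur : Function.Surjective (powMonoidHom p : M ⧸ L →* M ⧸ L) := by
    rw [← MonoidHom.range_eq_top, eq_top_iff]
    intro u _
    obtain ⟨⟨a, ha⟩, rfl⟩ := QuotientGroup.mk'_surjective L u
    set R := ((powMonoidHom p : M ⧸ L →* M ⧸ L).range.comap π).map M.subtype with hR
    have : M ≤ R := by
      rw [hM, Subgroup.normalClosure, Subgroup.closure_le]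
      intro v hv
      obtain ⟨z, hz, hcj⟩ := Group.mem_conjugatesOfSet_iff.1 hv
      obtain ⟨g, rfl⟩ := isConj_iff.1 hcj
      rw [Set.mem_singleton_iff.1 hz]
      obtain ⟨m, hm, e⟩ := h g
      refine ⟨⟨x, hxM⟩ * ⟨m, hm⟩ ^ p, ⟨π ⟨m, hm⟩, ?_⟩, by rw [e]; rfl⟩
      rw [powMonoidHom_apply, map_mul, map_pow,
        show π ⟨x, hxM⟩ = 1 from (QuotientGroup.eq_one_iff _).2 (Subgroup.mem_zpowers _), one_mul]
    obtain ⟨b, hb, hbe⟩ := this ha
    rwa [← Subtype.ext (a1 := b) (a2 := ⟨a, ha⟩) hbe]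
  have hinj := Finite.injective_iff_surjective.2 hsur
  intro a ha
  have hpQ : IsPGroup p (M ⧸ L) := hMp.to_quotient L
  have key : ∀ u : M ⧸ L, u = 1 := by
    intro u
    obtain ⟨k, hk⟩ := hpQ u
    clear ha
    induction k generalizing u with
    | zero => simpa using hk
    | succ k ih =>
      refine hinj ?_
      rw [map_one, powMonoidHom_apply]
      exact ih (u ^ p) (by rw [← pow_mul, ← pow_succ']; exact hk)
  obtain ⟨i, hi⟩ := (QuotientGroup.eq_one_iff (⟨a, ha⟩ : M)).1 (key (π ⟨a, ha⟩))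
  exact ⟨i, congrArg Subtype.val hi⟩

/-- the configuration at the top for elements -/
theorem central_of_overgroups (hp2 : p ≠ 2) (S : Sylow p X) {x : X}
    (hxS : x ∈ (S : Subgroup X) ⊓ Subgroup.centralizer ((S : Subgroup X) : Set X)) (hxQ : x ∈ Cfsg.pCore p X)
    (hK : Subgroup.normalizer ((Cfsg.inducedFunctor Cfsg.kInfLower (S : Subgroup X) : Subgroup X) : Set X) ≤
      Subgroup.centralizer ({x} : Set X))
    (hprop : ∀ M : Subgroup X, M ≠ ⊤ → (S : Subgroup X) ≤ M → M ≤ Subgroup.centralizer ({x} : Set X)) :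
    Subgroup.centralizer ({x} : Set X) = ⊤ := by
  set Cx := Subgroup.centralizer ({x} : Set X) with hCx
  by_cases hKn : (Cfsg.inducedFunctor Cfsg.kInfLower (S : Subgroup X)).Normal
  · rw [eq_top_iff]
    exact (Subgroup.normalizer_eq_top_iff.2 hKn).ge.trans hK
  have hW : Cfsg.IsCharPFunctor.{u} p Cfsg.kInfLower := isCharPFunctor_kInfLower
  set Q := Cfsg.pCore p X with hQdef
  have hQn : Q.Normal := by rw [hQdef]; infer_instance
  have hQS : Q ≤ (S : Subgroup X) := pCore_le_S S
  have frat : ∀ C : Subgroup X, C.Normal → C ≤ Cx → ∀ R : Subgroup X, R ≤ C → IsPGroup p R → ¬ p ∣ R.relIndex C →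
      Subgroup.normalizer (R : Set X) ≤ Cx → Cx = ⊤ := by
    intro C hCn hCx' R hRC hR hRi hNR
    rw [eq_top_iff]
    intro g _
    obtain ⟨k, hk, y, hy, rfl⟩ := exists_frattini_split (p := p) (K := C) (R := R) (x := g) hRC hR hRi
      (by rw [Subgroup.normalizer_eq_top]; trivial)
    exact mul_mem (hCx' hk) (hNR hy)
  by_cases hSC : (S : Subgroup X) ⊓ Subgroup.centralizer (Q : Set X) ≤ Q
  swap
  · set C := Subgroup.centralizer (Q : Set X) with hC
    refine frat C inferInstance (Subgroup.centralizer_le (by simpa using hxQ)) _ inf_le_right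
      (S.2.to_le inf_le_left) (not_dvd_relIndex_inf le_top S.2 (sylow_relIndex_top S) le_top
        (by rw [Subgroup.normalizer_eq_top])) (hprop _ (normalizer_ne_top_of_pCore (S.2.to_le inf_le_left) hSC) ?_)
    intro s hs
    rw [mem_normalizer_iff_cj, cj_inf, mem_normalizer_iff_cj.1 (Subgroup.le_normalizer hs),
      mem_normalizer_iff_cj.1 (show s ∈ Subgroup.normalizer (C : Set X) by rw [Subgroup.normalizer_eq_top]; trivial)]
  obtain ⟨B, hB⟩ := CoreSub.exists_coreSub (Cfsg.Agent.Lib.Cores.pCore_isPGroup p X)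
  have hBn := hB.normal
  set ZB := B ⊓ Subgroup.centralizer (B : Set X) with hZB
  have hZBn : ZB.Normal := by rw [hZB]; infer_instance
  set M := Subgroup.normalClosure ({x} : Set X) with hM
  have hMn : M.Normal := by rw [hM]; infer_instance
  have hxZ : x ∈ Q ⊓ Subgroup.centralizer (Q : Set X) :=
    Subgroup.mem_inf.2 ⟨hxQ, Subgroup.centralizer_le hQS (Subgroup.mem_inf.1 hxS).2⟩
  have hMB : M ≤ ZB := by
    refine Subgroup.normalClosure_le_normal (Set.singleton_subset_iff.2 ?_)
    exact Subgroup.mem_inf.2 ⟨hB.cent ((inf_le_inf le_rfl (Subgroup.centralizer_le hB.le)) hxZ),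
      Subgroup.centralizer_le hB.le (Subgroup.mem_inf.1 hxZ).2⟩
  have hMc : ∀ a ∈ M, ∀ b ∈ M, a * b = b * a := fun a ha b hb =>
    Subgroup.mem_centralizer_iff.1 (Subgroup.mem_inf.1 (hMB hb)).2 a (Subgroup.mem_inf.1 (hMB ha)).1
  have hMp : IsPGroup p M :=
    (Cfsg.Agent.Lib.Cores.pCore_isPGroup p X).to_le (hMB.trans (inf_le_left.trans hB.le))
  obtain ⟨g0, hg0S, hg0Q, hcub⟩ := exists_cubic S hB (Or.inl hKn)
  set Ω := {u : X | u ∈ (S : Subgroup X) ∧ ∀ y ∈ M, ⁅u, ⁅u, y⁆⁆ = 1} with hΩ
  have hΩS : Ω ⊆ ((S : Subgroup X) : Set X) := fun u hu => hu.1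
  have hweak : ∀ g : X, cj g (Subgroup.closure Ω) ≤ (S : Subgroup X) →
      g ∈ Subgroup.normalizer ((Subgroup.closure Ω : Subgroup X) : Set X) := by
    intro g hg
    refine mem_normalizer_of_cj_le ?_
    rw [cj, MonoidHom.map_closure, Subgroup.closure_le]
    rintro _ ⟨u, hu, rfl⟩
    refine Subgroup.subset_closure ⟨hg ⟨u, Subgroup.subset_closure hu, rfl⟩, fun y hy => ?_⟩
    have h1 := congrArg (MulAut.conj g) (hu.2 (g⁻¹ * y * g⁻¹⁻¹) (hMn.conj_mem y hy g⁻¹))
    rw [map_one, map_commutatorElement, map_commutatorElement,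
      show MulAut.conj g (g⁻¹ * y * g⁻¹⁻¹) = y by rw [MulAut.conj_apply]; group] at h1
    exact h1
  have hne : ¬ Subgroup.closure Ω ≤ Q := fun h =>
    hg0Q (h (Subgroup.subset_closure ⟨hg0S, fun y hy => hcub.elementwise.1 y (hMB hy)⟩))
  have hSN : (S : Subgroup X) ≤ Subgroup.normalizer ((Subgroup.closure Ω : Subgroup X) : Set X) := fun s hs =>
    hweak s ((cj_le_cj ((Subgroup.closure_le _).2 hΩS)).trans (mem_normalizer_iff_cj.1 (Subgroup.le_normalizer hs)).le)
  have hNle := hprop _ (normalizer_ne_top_of_pCore (S.2.to_le ((Subgroup.closure_le _).2 hΩS)) hne) hSN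
  have htr := mul_pow_mem_of_trace hp2 S hMc hMp (Subgroup.subset_normalClosure rfl) (Subgroup.mem_inf.1 hxS).2 hΩS
    (fun w hw => hw.2) (fun g hg => by
      rw [Subgroup.mem_centralizer_singleton_iff.1 (hNle (hweak g hg)), mul_inv_cancel_right])
  have hcyc := normalClosure_le_zpowers hMp hMc htr
  -- the centralizer of a normal cyclic subgroup
  set C := Subgroup.centralizer (M : Set X) with hC
  have hSC' : (S : Subgroup X) ≤ C := fun s hs => by
    rw [Subgroup.mem_centralizer_iff]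
    intro m hm
    obtain ⟨i, rfl⟩ := hcyc hm
    exact (((show Commute s x from Subgroup.mem_centralizer_iff.1 (Subgroup.mem_inf.1 hxS).2 s hs).zpow_right i).eq).symm
  exact frat C inferInstance (Subgroup.centralizer_le (Set.singleton_subset_iff.2 (Subgroup.subset_normalClosure rfl)))
    (S : Subgroup X) hSC' S.2 (not_dvd_relIndex_of_le S hSC')
    ((normalizer_le_normalizer_functor (isConjugacyFunctor_inducedFunctor hW) S.2).trans hK)

end Top

/-- central elements of the K-infinity normalizer are weakly closed -/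
theorem weaklyClosed_element (hp2 : p ≠ 2) {G : Type u} [Group G] [Finite G] (S : Sylow p G) {x : G}
    (hx : x ∈ (S : Subgroup G) ⊓ Subgroup.centralizer
      ((Subgroup.normalizer ((Cfsg.inducedFunctor Cfsg.kInfLower (S : Subgroup G) : Subgroup G) : Set G) : Subgroup G) : Set G))
    (g : G) (hg : g * x * g⁻¹ ∈ (S : Subgroup G)) : g * x * g⁻¹ = x := by
  have hSN : (S : Subgroup G) ≤ Subgroup.normalizer
      ((Cfsg.inducedFunctor Cfsg.kInfLower (S : Subgroup G) : Subgroup G) : Set G) :=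
    le_normalizer_inducedFunctor isCharPFunctor_kInfLower S.2
  obtain ⟨hx1, hx2⟩ := Subgroup.mem_inf.1 hx
  have := weakClosure_induction (p := p) 1 (fun G _ A => Subgroup.centralizer (A : Set G))
    (fun G _ A => Subgroup.centralizer_le_normalizer _) ?_ ?_ _ G rfl S (Subgroup.zpowers x) ?_ ?_ g ?_
  · rw [Subgroup.mem_centralizer_iff] at this
    rw [← this x (Subgroup.mem_zpowers x), mul_inv_cancel_right]
  · intro G _ M A hAM
    ext y
    rw [Subgroup.mem_subgroupOf, Subgroup.mem_centralizer_iff, Subgroup.mem_centralizer_iff]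
    exact ⟨fun h a ha => congrArg Subtype.val (h ⟨a, hAM ha⟩ ha), fun h a ha => Subtype.ext (h a ha)⟩
  · intro G _ _ S A hA hQ hK hprop
    rw [eq_top_iff]
    intro y _
    rw [Subgroup.mem_centralizer_iff]
    intro a ha
    have hle : Subgroup.centralizer (A : Set G) ≤ Subgroup.centralizer ({a} : Set G) :=
      Subgroup.centralizer_le (Set.singleton_subset_iff.2 ha)
    have h1 := central_of_overgroups hp2 S ((hA.trans (zPow_le _)) ha) (hQ ha) (hK.trans hle)
      (fun M h1 h2 => (hprop M h1 h2).trans hle)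
    exact (Subgroup.mem_centralizer_singleton_iff.1 (h1 ▸ Subgroup.mem_top y : y ∈ Subgroup.centralizer ({a} : Set G))).symm
  · rw [Subgroup.zpowers_le]
    exact Subgroup.subset_closure ⟨x, Subgroup.mem_inf.2 ⟨hx1, Subgroup.centralizer_le hSN hx2⟩, pow_one x⟩
  · intro y hy
    rw [Subgroup.mem_centralizer_iff]
    rintro _ ⟨i, rfl⟩
    exact ((show Commute y x from Subgroup.mem_centralizer_iff.1 hx2 y hy).zpow_right i).eq.symm
  · rw [cj, MonoidHom.map_zpowers, Subgroup.zpowers_le]; exact hg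

end Cfsg.Agent.Lib.FusionControl
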