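import Cfsg.Agent.Lib.FusionControl.KControl
import Cfsg.Agent.Lib.FusionControl.Clifford

/-! Elements acting quadratically and nontrivially on a chief factor, from K-infinity. -/

set_option autoImplicit false

universe u

open scoped commutatorElement

namespace Cfsg.Agent.Lib.FusionControl

variable {p : ℕ} [Fact p.Prime] {X : Type u} [Group X] [Finite X]

/-- elements trivial on all chief factors below `M0` -/
def chiefStab (M0 : Subgroup X) : Subgroup X where
  carrier := {x | ∀ U V : Subgroup X, Cfsg.IsChiefFactor U V → U ≤ M0 → ∀ u ∈ U, ⁅x, u⁆ ∈ V}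
  one_mem' := fun U V _ _ u _ => by rw [commutatorElement_one_left]; exact one_mem _
  mul_mem' := fun {x y} hx hy U V h hU u hu => by
    have e : ⁅x * y, u⁆ = x * ⁅y, u⁆ * x⁻¹ * ⁅x, u⁆ := by simp only [commutatorElement_def]; group
    rw [e]
    exact mul_mem (h.2.2.1.conj_mem _ (hy U V h hU u hu) x) (hx U V h hU u hu)
  inv_mem' := fun {x} hx U V h hU u hu => by
    have e : ⁅x⁻¹, u⁆ = x⁻¹ * ⁅x, u⁆⁻¹ * x⁻¹⁻¹ := by simp only [commutatorElement_def]; group
    rw [e]
    exact h.2.2.1.conj_mem _ (inv_mem (hx U V h hU u hu)) x⁻¹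

instance chiefStab_normal (M0 : Subgroup X) : (chiefStab M0).Normal := ⟨fun x hx g U V h hU u hu => by
  have e : ⁅g * x * g⁻¹, u⁆ = g * ⁅x, g⁻¹ * u * g⁻¹⁻¹⁆ * g⁻¹ := by simp only [commutatorElement_def]; group
  rw [e]
  exact h.2.2.1.conj_mem _ (hx U V h hU _ (h.2.1.conj_mem u hu g⁻¹)) g⟩

omit [Fact p.Prime] [Finite X] in
lemma exists_of_not_mem_chiefStab {M0 : Subgroup X} {g : X} (hg : g ∉ chiefStab M0) :
    ∃ U V : Subgroup X, Cfsg.IsChiefFactor U V ∧ U ≤ M0 ∧ ∃ u ∈ U, ⁅g, u⁆ ∉ V := by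
  by_contra h
  push Not at h
  exact hg h

omit [Fact p.Prime] in
/-- a `p'`-element trivial on all chief factors below a normal `p`-subgroup centralizes it -/
theorem centralizes_of_mem_chiefStab [Fact p.Prime] {M0 : Subgroup X} [hM : M0.Normal] (hM0 : IsPGroup p M0)
    {x : X} (hx : x ∈ chiefStab M0) (hord : (orderOf x).Coprime p) : x ∈ Subgroup.centralizer (M0 : Set X) := by
  by_contra hcon
  obtain ⟨U, ⟨hUn, hUM, hUc⟩, hUmin⟩ := exists_minimal_of_wellFoundedLT
    (fun U : Subgroup X => U.Normal ∧ U ≤ M0 ∧ x ∉ Subgroup.centralizer (U : Set X)) ⟨M0, hM, le_rfl, hcon⟩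
  have hUne : U ≠ ⊥ := fun h => hUc (by
    rw [h]; exact Subgroup.mem_centralizer_iff.2 fun y hy => by simp [Subgroup.mem_bot.1 hy])
  obtain ⟨V, ⟨hVn, hVU⟩, hVmax⟩ := exists_maximal_of_wellFoundedGT
    (fun V : Subgroup X => V.Normal ∧ V < U) ⟨⊥, inferInstance, bot_lt_iff_ne_bot.2 hUne⟩
  have hch : Cfsg.IsChiefFactor U V := ⟨hVU, hUn, hVn, fun N hN h1 h2 => by
    rcases h2.eq_or_lt with h | h
    · exact Or.inr h
    · exact Or.inl (le_antisymm (hVmax ⟨hN, h⟩ h1) h1)⟩
  have hV : x ∈ Subgroup.centralizer (V : Set X) := by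
    by_contra h
    exact hVU.not_ge (hUmin ⟨hVn, hVU.le.trans hUM, h⟩ hVU.le)
  refine hUc (Subgroup.mem_centralizer_iff.2 fun u hu => ?_)
  set d := ⁅x, u⁆ with hd
  have hdV : d ∈ V := hx U V hch hUM u hu
  have hxd : Commute x d := (Subgroup.mem_centralizer_iff.1 hV d hdV).symm
  have hpow : ∀ n : ℕ, x ^ n * u * (x ^ n)⁻¹ = d ^ n * u := by
    intro n
    induction n with
    | zero => simp
    | succ n ih =>
      calc x ^ (n + 1) * u * (x ^ (n + 1))⁻¹ = x * (x ^ n * u * (x ^ n)⁻¹) * x⁻¹ := by rw [pow_succ']; group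
        _ = x * d ^ n * u * x⁻¹ := by rw [ih]; group
        _ = d ^ n * (x * u * x⁻¹) := by rw [(hxd.pow_right n).eq]; group
        _ = _ := by rw [pow_succ, hd, commutatorElement_def]; group
  have h5 := hpow (orderOf x)
  rw [pow_orderOf_eq_one] at h5
  have h6 : d ^ orderOf x = 1 := by simpa using h5.symm
  have : d = 1 := Cfsg.Agent.Lib.Transfer.eq_one_of_isPGroup_of_coprime hM0 (hUM (hVU.le hdV))
    (Nat.Coprime.coprime_dvd_left (orderOf_dvd_of_pow_eq_one h6) hord)
  exact (commutatorElement_eq_one_iff_mul_comm.1 this).symm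

omit [Finite X] in
lemma commute_pow_mem {x a b : X} {N C : Subgroup X} (hN : x ∈ N) (hab : x = a * b)
    (ha : a ∈ Subgroup.zpowers x) (hb : b ∈ Subgroup.zpowers x) {k : ℕ} (hbk : b ^ p ^ k = 1)
    (haC : a ∈ N → a ∈ C) : x ^ p ^ k ∈ C := by
  have hc : Commute a b := by
    obtain ⟨i, rfl⟩ := ha
    obtain ⟨j, rfl⟩ := hb
    exact Commute.zpow_zpow_self x i j
  rw [hab, hc.mul_pow, hbk, mul_one]
  exact pow_mem (haC (Subgroup.zpowers_le.2 hN ha)) _

omit [Fact p.Prime] in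
/-- the elements trivial on the chief factors of `A` lie in the `p`-core -/
theorem chiefStab_le_pCore [Fact p.Prime] {A : Subgroup X} [A.Normal] (hA : IsPGroup p A)
    (hcent : Subgroup.centralizer (A : Set X) ≤ A) : chiefStab A ≤ Cfsg.pCore p X := by
  refine Cfsg.Agent.Lib.Cores.le_pCore inferInstance fun x => ?_
  obtain ⟨a, b, ha, hb, hac, ⟨k, hk⟩, hab⟩ := Cfsg.Agent.Lib.Transfer.exists_pPart_decomp (p := p) (x : X)
  refine ⟨k, Subtype.ext ?_⟩
  have h := commute_pow_mem (p := p) (C := (⊥ : Subgroup X)) x.2 hab ha hb (hk ▸ pow_orderOf_eq_one b) (fun haN => by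
    rw [Subgroup.mem_bot]
    exact Cfsg.Agent.Lib.Transfer.eq_one_of_isPGroup_of_coprime hA
      (hcent (centralizes_of_mem_chiefStab hA haN hac)) hac)
  simpa using h

omit [Finite X] in
/-- the `k`-fold commutator with `g` is multiplicative modulo `V` -/
lemma cit_mul_modulo {U V : Subgroup X} [U.Normal] [V.Normal] (hUU : ∀ a ∈ U, ∀ b ∈ U, ⁅a, b⁆ ∈ V)
    (g : X) {x y : X} (hx : x ∈ U) (hy : y ∈ U) : ∀ k : ℕ,
    QuotientGroup.mk' V (cit g k (x * y)) = QuotientGroup.mk' V (cit g k x) * QuotientGroup.mk' V (cit g k y) := by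
  intro k
  induction k with
  | zero => exact map_mul _ _ _
  | succ k ih =>
    set v := QuotientGroup.mk' V
    have hc : v (cit g k x) * v ⁅g, cit g k y⁆ = v ⁅g, cit g k y⁆ * v (cit g k x) := by
      rw [← commutatorElement_eq_one_iff_mul_comm, ← map_commutatorElement]
      refine (QuotientGroup.eq_one_iff _).2 (hUU _ (cit_mem g hx k) _ ?_)
      rw [← cit_succ]; exact cit_mem g hy (k + 1)
    rw [cit_succ, cit_succ, cit_succ]
    calc v ⁅g, cit g k (x * y)⁆ = ⁅v g, v (cit g k x) * v (cit g k y)⁆ := by rw [map_commutatorElement, ih]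
      _ = ⁅v g, v (cit g k x)⁆ * (v (cit g k x) * ⁅v g, v (cit g k y)⁆ * (v (cit g k x))⁻¹) := by
          simp only [commutatorElement_def]; group
      _ = _ := by rw [← map_commutatorElement, ← map_commutatorElement, hc, mul_inv_cancel_right]

omit [Finite X] in
/-- from elements to iterated commutator subgroups -/
theorem iter_le_of_deg {U V : Subgroup X} [U.Normal] [hVn : V.Normal] (hUU : ∀ a ∈ U, ∀ b ∈ U, ⁅a, b⁆ ∈ V)
    {g : X} {k : ℕ} (h : Deg k g U V) : Cfsg.iterCommutator U (Subgroup.zpowers g) k ≤ V := by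
  let M : ℕ → Subgroup X := fun m =>
    { carrier := {x | x ∈ U ∧ cit g m x ∈ V}
      one_mem' := ⟨one_mem _, by rw [cit_one]; exact one_mem _⟩
      mul_mem' := fun {x y} hx hy => ⟨mul_mem hx.1 hy.1, by
        refine (QuotientGroup.eq_one_iff _).1 ?_
        show QuotientGroup.mk' V _ = 1
        rw [cit_mul_modulo hUU g hx.1 hy.1 m,
          show QuotientGroup.mk' V (cit g m x) = 1 from (QuotientGroup.eq_one_iff _).2 hx.2,
          show QuotientGroup.mk' V (cit g m y) = 1 from (QuotientGroup.eq_one_iff _).2 hy.2, one_mul]⟩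
      inv_mem' := fun {x} hx => ⟨inv_mem hx.1, by
        refine (QuotientGroup.eq_one_iff _).1 ?_
        show QuotientGroup.mk' V _ = 1
        have := cit_mul_modulo hUU g (inv_mem hx.1) hx.1 m
        rw [inv_mul_cancel, cit_one, map_one,
          show QuotientGroup.mk' V (cit g m x) = 1 from (QuotientGroup.eq_one_iff _).2 hx.2, mul_one] at this
        exact this.symm⟩ }
  have hconj : ∀ (i : ℤ) (m : ℕ) (x : X), cit g m (g ^ i * x * (g ^ i)⁻¹) = g ^ i * cit g m x * (g ^ i)⁻¹ := by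
    intro i m x
    have := iterate_conj (g ^ i) g x m
    rwa [show g ^ i * g * (g ^ i)⁻¹ = g by rw [((Commute.refl g).zpow_left i).eq, mul_inv_cancel_right]] at this
  suffices ∀ j, j ≤ k → Cfsg.iterCommutator U (Subgroup.zpowers g) j ≤ M (k - j) by
    intro x hx
    have := this k le_rfl hx
    rw [Nat.sub_self] at this
    exact this.2
  intro j
  induction j with
  | zero => intro _ x hx; exact ⟨hx, h x hx⟩
  | succ j ih =>
    intro hj
    show ⁅_, _⁆ ≤ _
    rw [Subgroup.commutator_le]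
    rintro x hx _ ⟨i, rfl⟩
    obtain ⟨hxU, hxV⟩ := ih (by omega) hx
    set m := k - (j + 1) with hm
    rw [show k - j = m + 1 by omega, cit_succ] at hxV
    have hxU' : g ^ i * x⁻¹ * (g ^ i)⁻¹ ∈ U := Subgroup.Normal.conj_mem inferInstance _ (inv_mem hxU) _
    have e : ⁅x, g ^ i⁆ = x * (g ^ i * x⁻¹ * (g ^ i)⁻¹) := by simp only [commutatorElement_def]; group
    refine ⟨e ▸ mul_mem hxU hxU', ?_⟩
    refine (QuotientGroup.eq_one_iff _).1 ?_
    set v := QuotientGroup.mk' V
    show v _ = 1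
    rw [e, cit_mul_modulo hUU g hxU hxU' m, hconj, map_mul, map_mul, map_inv]
    have hinv : v (cit g m x⁻¹) = (v (cit g m x))⁻¹ := by
      have := cit_mul_modulo hUU g (inv_mem hxU) hxU m
      rw [inv_mul_cancel, cit_one, map_one] at this
      exact eq_inv_of_mul_eq_one_left this.symm
    have hc : Commute (v g) (v (cit g m x)) := by
      show _ = _
      rw [← commutatorElement_eq_one_iff_mul_comm, ← map_commutatorElement]
      exact (QuotientGroup.eq_one_iff _).2 hxV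
    rw [hinv, map_zpow, ((hc.zpow_left i).inv_right).eq, mul_inv_cancel_right, mul_inv_cancel]

/-- `g` acts quadratically and nontrivially on a chief factor below `A` -/
def Moves (A : Subgroup X) (g : X) : Prop :=
  ∃ U V : Subgroup X, Cfsg.IsChiefFactor U V ∧ U ≤ A ∧
    ⁅⁅U, Subgroup.zpowers g⁆, Subgroup.zpowers g⁆ ≤ V ∧ ¬ ⁅U, Subgroup.zpowers g⁆ ≤ V

lemma moves_of_deg {A U V : Subgroup X} {g u : X} [A.Normal] (hA : IsPGroup p A) (hch : Cfsg.IsChiefFactor U V)
    (hUA : U ≤ A) (hdeg : Deg 2 g U V) (hu : u ∈ U) (hgu : ⁅g, u⁆ ∉ V) : Moves A g := by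
  have := hch.2.1
  have := hch.2.2.1
  refine ⟨U, V, hch, hUA, iter_le_of_deg (chief_facts hA hch hUA).2.1 hdeg, fun h => hgu ?_⟩
  rw [← commutatorElement_inv]
  exact inv_mem (h (Subgroup.commutator_mem_commutator hu (Subgroup.mem_zpowers g)))

omit [Fact p.Prime] in
lemma deg_two_of_le_centre {A U V : Subgroup X} {g : X}
    (hg : ⁅⁅A, Subgroup.zpowers g⁆, Subgroup.zpowers g⁆ = ⊥) (hUA : U ≤ A) : Deg 2 g U V := by
  intro u hu
  have h1 : cit g 2 u ∈ (⊥ : Subgroup X) := by rw [← hg]; exact iterate_mem_iterCommutator (hUA hu) 2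
  rw [Subgroup.mem_bot] at h1
  show cit g 2 u ∈ V
  rw [h1]; exact one_mem _

omit [Fact p.Prime] in
lemma deg_two_of_quad {A U V : Subgroup X} [A.Normal] {g : X} (hq : QuadOn A (Subgroup.zpowers g))
    (hch : Cfsg.IsChiefFactor U V) (hUA : U ≤ A) : Deg 2 g U V := by
  by_cases hUZ : ¬ U ⊓ (A ⊓ Subgroup.centralizer (A : Set X)) ≤ V
  · refine deg_of_reduce (W := A ⊓ Subgroup.centralizer (A : Set X)) (W' := ⊥) hch (fun y hy => ?_) hUZ (by simp)
    rw [← hq.2]; exact iterate_mem_iterCommutator (Subgroup.mem_inf.1 hy).2 2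
  · rw [not_not] at hUZ
    refine deg_of_reduce (W := A) (W' := A ⊓ Subgroup.centralizer (A : Set X)) hch (fun y hy => ?_) ?_ hUZ
    · exact hq.1 (iterate_mem_iterCommutator (Subgroup.mem_inf.1 hy).2 2)
    · rw [inf_eq_left.2 hUA]; exact hch.1.not_ge

omit [Fact p.Prime] in
/-- between a normal subgroup and an overgroup with `p`-quotient everything is subnormal -/
lemma isSubnormal_of_pQuotient [Fact p.Prime] {L N H : Subgroup X} [L.Normal] [hN : N.Normal]
    (hq : IsPGroup p (N.map (QuotientGroup.mk' L))) (hLH : L ≤ H) (hHN : H ≤ N) : H.IsSubnormal := by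
  suffices ∀ (k : ℕ) (H : Subgroup X), L ≤ H → H ≤ N → Nat.card N - Nat.card H = k → H.IsSubnormal from
    this _ H hLH hHN rfl
  intro k
  induction k using Nat.strong_induction_on with
  | _ k ih =>
  intro H hLH hHN hk
  rcases hHN.eq_or_lt with rfl | hlt
  · exact Subgroup.IsSubnormal.step H ⊤ le_top Subgroup.IsSubnormal.top inferInstance
  set f := QuotientGroup.mk' L with hf
  have hfs : Function.Surjective f := QuotientGroup.mk'_surjective L
  have hcomap : ∀ {K : Subgroup X}, L ≤ K → (K.map f).comap f = K := fun hLK => by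
    rw [Subgroup.comap_map_eq, QuotientGroup.ker_mk', sup_eq_left.2 hLK]
  have hlt' : H.map f < N.map f := by
    refine lt_of_le_of_ne (Subgroup.map_mono hHN) fun h => hlt.ne ?_
    rw [← hcomap hLH, h, hcomap (hLH.trans hHN)]
  have hgrow := lt_nS hq hlt'
  set K := (nS (N.map f) (H.map f)).comap f with hK
  have hHK : H < K := by
    have := (Subgroup.comap_lt_comap_of_surjective hfs).2 hgrow
    rwa [hcomap hLH] at this
  have hKN : K ≤ N := by
    refine le_trans (Subgroup.comap_mono inf_le_left) (le_of_eq ?_)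
    exact hcomap (hLH.trans hHN)
  refine Subgroup.IsSubnormal.step H K hHK.le (ih _ ?_ K (hLH.trans hHK.le) hKN rfl) ?_
  · have h1 := card_lt_of_lt hHK
    have h2 := Subgroup.card_le_of_le hKN
    omega
  · rw [Subgroup.normal_subgroupOf_iff_le_normalizer hHK.le, ← hcomap hLH]
    exact (Subgroup.comap_mono inf_le_right).trans (Subgroup.le_normalizer_comap f)

variable {A : Subgroup X}

/-- the lower families act quadratically or move a chief factor -/
theorem lower_le_or_moves (S : Sylow p X) (hC : CharPType p X) (h : CoreSub p (Cfsg.pCore p X) A)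
    (hcon : ∀ g ∈ (S : Subgroup X), g ∉ Cfsg.pCore p X → CubicOn A (Subgroup.zpowers g) → ¬ Moves A g)
    (R B : Subgroup (S : Subgroup X)) (hR : A.subgroupOf (S : Subgroup X) ≤ R)
    (hB : B ∈ Cfsg.kLowerStarFamily R) : B ≤ (Cfsg.pCore p X).subgroupOf (S : Subgroup X) := by
  have := h.normal
  have := h.qnormal
  set Q := Cfsg.pCore p X with hQdef
  have hQS : Q ≤ (S : Subgroup X) := pCore_le_S S
  have hAp : IsPGroup p A := h.pgroup.to_le h.le
  have hAS : A ≤ (S : Subgroup X) := h.le.trans hQS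
  have hstab := chiefStab_le_pCore hAp (CoreSub.centralizer_le hC h)
  set Z := A ⊓ Subgroup.centralizer (A : Set X) with hZ
  -- quadratic elements lie in the core
  have hquad : ∀ g ∈ (S : Subgroup X), QuadOn A (Subgroup.zpowers g) → g ∈ Q := by
    intro g hg hq
    by_contra hgQ
    refine hcon g hg hgQ hq.cubic ?_
    have : g ∉ chiefStab A := fun h' => hgQ (hstab h')
    obtain ⟨U, V, hch, hUA, u, hu, hgu⟩ := exists_of_not_mem_chiefStab this
    exact moves_of_deg hAp hch hUA (deg_two_of_quad hq hch hUA) hu hgu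
  obtain ⟨hcub, hZq⟩ := lower_cubic h hQS hR hB
  set Bx := B.map (S : Subgroup X).subtype with hBx
  set ZB := B ⊓ Subgroup.centralizer (B : Set (S : Subgroup X)) with hZB
  have hZBQ : ∀ z ∈ ZB, (z : X) ∈ Q := fun z hz =>
    hquad z z.2 (hZq.mono (by rw [Subgroup.zpowers_le]; exact ⟨z, hz, rfl⟩))
  have hBS : ∀ b ∈ Bx, b ∈ (S : Subgroup X) := by rintro _ ⟨b, -, rfl⟩; exact b.2
  have hBc : ∀ b ∈ Bx, CubicOn A (Subgroup.zpowers b) := fun b hb => hcub.mono (Subgroup.zpowers_le.2 hb)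
  -- `B` is trivial on the chief factors in the centre
  set N := chiefStab Z with hN
  have hBN : ∀ b ∈ Bx, b ∈ N := by
    intro b hb U V hch hUZ u hu
    by_contra hbu
    have hmv : Moves A b := by
      obtain ⟨U', V', h1, h2, h3, h4⟩ := moves_of_deg (A := Z) (hAp.to_le inf_le_left) hch hUZ
        (deg_two_of_le_centre (hBc b hb).2 hUZ) hu hbu
      exact ⟨U', V', h1, h2.trans inf_le_left, h3, h4⟩
    refine hcon b (hBS b hb) (fun hbQ => hbu ?_) (hBc b hb) hmv
    have hUQ : U ≤ Q := hUZ.trans (inf_le_left.trans h.le)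
    rw [← commutatorElement_inv]
    exact inv_mem ((chief_facts h.pgroup hch hUQ).1 (Subgroup.commutator_mem_commutator hu hbQ))
  set L := N ⊓ Subgroup.centralizer (Z : Set X) with hL
  have hLn : L.Normal := by rw [hL]; infer_instance
  have hquot : IsPGroup p (N.map (QuotientGroup.mk' L)) := by
    rintro ⟨_, x, hx, rfl⟩
    obtain ⟨a, b, ha, hb, hac, ⟨k, hk⟩, hab⟩ := Cfsg.Agent.Lib.Transfer.exists_pPart_decomp (p := p) x
    refine ⟨k, Subtype.ext ?_⟩
    show (QuotientGroup.mk' L x) ^ p ^ k = 1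
    rw [← map_pow]
    exact (QuotientGroup.eq_one_iff _).2 (commute_pow_mem hx hab ha hb (hk ▸ pow_orderOf_eq_one b) (fun haN =>
      Subgroup.mem_inf.2 ⟨haN, centralizes_of_mem_chiefStab (hAp.to_le inf_le_left) haN hac⟩))
  set H := L ⊔ Bx with hH
  have hHsub : H.IsSubnormal := isSubnormal_of_pQuotient hquot le_sup_left (sup_le inf_le_left hBN)
  -- the radical
  have hωZ : ∀ a ∈ A, ∀ a' ∈ A, ⁅a, a'⁆ ∈ Z := fun a ha a' ha' => by
    have h1 := Subgroup.commutator_mem_commutator ha (h.le ha')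
    exact Subgroup.mem_inf.2 ⟨Subgroup.commutator_le_left A Q h1, h.comm h1⟩
  let R0 : Subgroup X :=
    { carrier := {a | a ∈ A ∧ ∀ a' ∈ A, ∀ b ∈ Bx, b * ⁅a, a'⁆ = ⁅a, a'⁆ * b}
      one_mem' := ⟨one_mem _, fun a' _ b _ => by simp⟩
      mul_mem' := fun {x y} hx hy => ⟨mul_mem hx.1 hy.1, fun a' ha' b hb => by
        have e : ⁅x * y, a'⁆ = ⁅y, a'⁆ * ⁅x, a'⁆ := by
          have h1 : x * ⁅y, a'⁆ = ⁅y, a'⁆ * x :=
            h.centralizer_comm (Subgroup.mem_inf.1 (hωZ y hy.1 a' ha')).2 hx.1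
          calc ⁅x * y, a'⁆ = x * ⁅y, a'⁆ * x⁻¹ * ⁅x, a'⁆ := by simp only [commutatorElement_def]; group
            _ = _ := by rw [h1, mul_inv_cancel_right]
        rw [e]
        exact ((show Commute b ⁅y, a'⁆ from hy.2 a' ha' b hb).mul_right
          (show Commute b ⁅x, a'⁆ from hx.2 a' ha' b hb)).eq⟩
      inv_mem' := fun {x} hx => ⟨inv_mem hx.1, fun a' ha' b hb => by
        have e : ⁅x⁻¹, a'⁆ = ⁅x, a'⁆⁻¹ := by
          have h1 : x⁻¹ * ⁅x, a'⁆⁻¹ = ⁅x, a'⁆⁻¹ * x⁻¹ :=
            h.centralizer_comm (inv_mem (Subgroup.mem_inf.1 (hωZ x hx.1 a' ha')).2) (inv_mem hx.1)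
          calc ⁅x⁻¹, a'⁆ = x⁻¹ * ⁅x, a'⁆⁻¹ * x := by simp only [commutatorElement_def]; group
            _ = _ := by rw [h1, inv_mul_cancel_right]
        rw [e]
        exact (show Commute b ⁅x, a'⁆ from hx.2 a' ha' b hb).inv_right.eq⟩ }
  have hR0A : R0 ≤ A := fun a ha => ha.1
  have hfix : ∀ g : X, (∀ a ∈ R0, ∀ a' ∈ A, g * ⁅a, a'⁆ * g⁻¹ = ⁅a, a'⁆) →
      g ∈ Subgroup.normalizer (R0 : Set X) := by
    intro g hg
    refine mem_normalizer_of_cj_le (cj_le_iff.2 fun a ha => ⟨h.normal.conj_mem a ha.1 g, fun a' ha' b hb => ?_⟩)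
    have ha'' : g⁻¹ * a' * g⁻¹⁻¹ ∈ A := h.normal.conj_mem a' ha' g⁻¹
    have e : ⁅g * a * g⁻¹, a'⁆ = g * ⁅a, g⁻¹ * a' * g⁻¹⁻¹⁆ * g⁻¹ := by simp only [commutatorElement_def]; group
    rw [e, hg a ha _ ha'']
    exact ha.2 _ ha'' b hb
  have hBR0 : Bx ≤ Subgroup.normalizer (R0 : Set X) := fun b hb => hfix b fun a ha a' ha' => by
    rw [ha.2 a' ha' b hb, mul_inv_cancel_right]
  have hHR0 : H ≤ Subgroup.normalizer (R0 : Set X) := sup_le (fun l hl => hfix l fun a ha a' ha' => by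
    rw [← Subgroup.mem_centralizer_iff.1 (Subgroup.mem_inf.1 hl).2 _ (hωZ a ha.1 a' ha'), mul_inv_cancel_right]) hBR0
  obtain ⟨hB2, hRB, hBfam⟩ := hB
  set R0s := R0.subgroupOf (S : Subgroup X) with hR0s
  have hR0sA : R0s ≤ A.subgroupOf (S : Subgroup X) := fun a ha => hR0A ha
  have hBR : ⁅B, R0s⁆ ≤ ZB := by
    refine hBfam R0s ?_ (hR0sA.trans hR) ?_ ?_ ?_
    · refine Subgroup.commutator_le.2 fun a ha a' ha' => Subgroup.mem_centralizer_iff.2 fun c hc => ?_
      exact Subtype.ext (h.centralizer_comm (Subgroup.mem_inf.1 (hωZ _ (hR0A ha) _ (hR0A ha'))).2 (hR0A hc))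
    · intro b hb
      refine mem_normalizer_of_cj_le (cj_le_iff.2 fun a ha => ?_)
      exact (Subgroup.mem_normalizer_iff.1 (hBR0 ⟨b, hb, rfl⟩) (a : X)).1 ha
    · rw [Subgroup.commutator_comm, Subgroup.commutator_eq_bot_iff_le_centralizer, Subgroup.commutator_le]
      intro a ha a' ha'
      refine Subgroup.mem_centralizer_iff.2 fun b hb => Subtype.ext ?_
      exact (show (a : X) ∈ R0 from ha).2 _ (hR0A ha') _ ⟨b, hb, rfl⟩
    · refine Subgroup.commutator_eq_bot_iff_le_centralizer.2 (Subgroup.commutator_le.2 fun z hz a ha => ?_)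
      refine Subgroup.mem_centralizer_iff.2 fun c hc => Subtype.ext ?_
      have h1 : ⁅(a : X), (z : X)⁆ ∈ Subgroup.centralizer (A : Set X) :=
        h.comm (Subgroup.commutator_mem_commutator (hR0A ha) (hZBQ z hz))
      have h2 : ⁅(z : X), (a : X)⁆ ∈ Subgroup.centralizer (A : Set X) := by
        rw [← commutatorElement_inv]; exact inv_mem h1
      exact h.centralizer_comm h2 (hR0A hc)
  have hAB : A.subgroupOf (S : Subgroup X) ≤ Subgroup.normalizer (B : Set (S : Subgroup X)) := hR.trans hRB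
  intro b hb
  by_contra hbQ
  have hbx : (b : X) ∈ Bx := ⟨b, hb, rfl⟩
  have hbst : (b : X) ∉ chiefStab A := fun h' => hbQ (hstab h')
  obtain ⟨U, V, hch, hUA, u0, hu0, hbu0⟩ := exists_of_not_mem_chiefStab hbst
  refine hcon b b.2 hbQ (hBc b hbx) (moves_of_deg hAp hch hUA ?_ hu0 hbu0)
  have := hch.2.1
  have := hch.2.2.1
  by_cases hUZ : ¬ U ⊓ Z ≤ V
  · refine deg_of_reduce (W := Z) (W' := ⊥) hch (fun y hy => ?_) hUZ (by simp)
    rw [← (hBc b hbx).2]; exact iterate_mem_iterCommutator (Subgroup.mem_inf.1 hy).2 2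
  -- the double commutators lie in the radical and die there
  have hdd : ∀ a ∈ A, cit (b : X) 2 a ∈ R0 := by
    intro a ha
    refine ⟨cit_mem (N := A) _ ha 2, fun a' ha' c hc => ?_⟩
    obtain ⟨c, hc, rfl⟩ := hc
    set as : (S : Subgroup X) := ⟨a, hAS ha⟩ with has
    set as' : (S : Subgroup X) := ⟨a', hAS ha'⟩ with has'
    have h1 : cit b 1 as ∈ B := by
      show ⁅b, as⁆ ∈ B
      rw [commutatorElement_def, mul_assoc, mul_assoc, ← mul_assoc as]
      exact mul_mem hb ((Subgroup.mem_normalizer_iff.1 (hAB ha) _).1 (inv_mem hb))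
    have h2 : cit b 2 as ∈ ZB := by
      rw [cit_succ]
      exact Subgroup.mem_inf.2 ⟨by
        rw [commutatorElement_def]; exact mul_mem (mul_mem (mul_mem hb h1) (inv_mem hb)) (inv_mem h1),
        hB2 (Subgroup.commutator_mem_commutator hb h1)⟩
    obtain ⟨h2a, h2b⟩ := Subgroup.mem_inf.1 h2
    have hN' := hAB (show as' ∈ A.subgroupOf (S : Subgroup X) from ha')
    have h3 : ⁅cit b 2 as, as'⁆ ∈ Subgroup.centralizer (B : Set (S : Subgroup X)) := by
      rw [commutatorElement_def, mul_assoc, mul_assoc, ← mul_assoc as']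
      refine mul_mem h2b (Subgroup.mem_centralizer_iff.2 fun y hy => ?_)
      have h4 := Subgroup.mem_centralizer_iff.1 (inv_mem h2b) (as'⁻¹ * y * as'⁻¹⁻¹)
        ((Subgroup.mem_normalizer_iff.1 (inv_mem hN') y).1 hy)
      calc y * (as' * (cit b 2 as)⁻¹ * as'⁻¹) = as' * (as'⁻¹ * y * as'⁻¹⁻¹ * (cit b 2 as)⁻¹) * as'⁻¹ := by group
        _ = as' * ((cit b 2 as)⁻¹ * (as'⁻¹ * y * as'⁻¹⁻¹)) * as'⁻¹ := by rw [h4]
        _ = _ := by group
    exact congrArg Subtype.val (Subgroup.mem_centralizer_iff.1 h3 c hc)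
  have hkill : ∀ r ∈ R0, cit (b : X) 2 r = 1 := by
    intro r hr
    have h1 := hBR (Subgroup.commutator_mem_commutator hb
      (show (⟨r, hAS (hR0A hr)⟩ : (S : Subgroup X)) ∈ R0s from hr))
    have h2 := Subgroup.mem_centralizer_iff.1 (Subgroup.mem_inf.1 h1).2 b hb
    rw [← commutatorElement_eq_one_iff_mul_comm] at h2
    exact congrArg Subtype.val h2
  -- complete reducibility on the chief factor
  set v := QuotientGroup.mk' V with hv
  have hvs : Function.Surjective v := QuotientGroup.mk'_surjective V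
  have hU1n : (U.map v).Normal := hch.2.1.map v hvs
  have hmin1 : ∀ M : Subgroup (X ⧸ V), M.Normal → M ≤ U.map v → M = ⊥ ∨ M = U.map v := by
    intro M hM hMU
    have h1 : V ≤ M.comap v := fun y hy => by
      show v y ∈ M
      rw [show v y = 1 from (QuotientGroup.eq_one_iff y).2 hy]; exact one_mem _
    have h2 : M.comap v ≤ U := by
      refine (Subgroup.comap_mono hMU).trans ?_
      rw [Subgroup.comap_map_eq, QuotientGroup.ker_mk', sup_eq_left.2 hch.1.le]
    rcases hch.2.2.2 _ (hM.comap v) h1 h2 with h | h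
    · left; rw [← Subgroup.map_comap_eq_self_of_surjective hvs M, h, hv, QuotientGroup.map_mk'_self]
    · right; rw [← Subgroup.map_comap_eq_self_of_surjective hvs M, h]
  have hUU := (chief_facts hAp hch hUA).2.1
  have hUcomm : ∀ x ∈ U.map v, ∀ y ∈ U.map v, x * y = y * x := by
    rintro _ ⟨x, hx, rfl⟩ _ ⟨y, hy, rfl⟩
    rw [← commutatorElement_eq_one_iff_mul_comm, ← map_commutatorElement]
    exact (QuotientGroup.eq_one_iff _).2 (hUU x hx y hy)
  have hMinv : H.map v ≤ Subgroup.normalizer (((R0 ⊓ U).map v : Subgroup (X ⧸ V)) : Set (X ⧸ V)) := by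
    refine (Subgroup.map_mono (fun g hg => ?_)).trans (Subgroup.le_normalizer_map v)
    rw [mem_normalizer_iff_cj, cj_inf, mem_normalizer_iff_cj.1 (hHR0 hg),
      mem_normalizer_iff_cj.1 (show g ∈ Subgroup.normalizer (U : Set X) by rw [Subgroup.normalizer_eq_top]; trivial)]
  obtain ⟨R1, hR1U, hR1N, hR1M, hR1sup⟩ := (semiSimple_of_subnormal hU1n hmin1 (hHsub.map hvs)).exists_complement
    hUcomm (Subgroup.map_mono inf_le_right) hMinv
  intro u hu
  have hvu : v u ∈ R1 ⊔ (R0 ⊓ U).map v := hR1sup.ge ⟨u, hu, rfl⟩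
  obtain ⟨r1, hr1, m, hm, hrm⟩ := Cfsg.Agent.Lib.Coprime.exists_mul_of_mem_sup
    (fun r hr => by
      refine mem_normalizer_of_cj_le (cj_le_iff.2 fun y hy => ?_)
      rwa [hUcomm r (Subgroup.map_mono inf_le_right hr) y (hR1U hy), mul_inv_cancel_right]) hvu
  obtain ⟨y, hy, rfl⟩ := hm
  obtain ⟨r, hr, rfl⟩ := hR1U hr1
  obtain ⟨hy1, hy2⟩ := Subgroup.mem_inf.1 hy
  have hcit1 : v (cit (b : X) 2 r) = 1 := by
    have h1 : v (cit (b : X) 2 r) ∈ (R0 ⊓ U).map v :=
      ⟨_, Subgroup.mem_inf.2 ⟨hdd r (hUA hr), cit_mem _ hr 2⟩, rfl⟩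
    have hbN : v (b : X) ∈ Subgroup.normalizer (R1 : Set (X ⧸ V)) :=
      hR1N ⟨b, Subgroup.mem_sup_right hbx, rfl⟩
    have hstep : ∀ z, v z ∈ R1 → v ⁅(b : X), z⁆ ∈ R1 := fun z hz => by
      rw [map_commutatorElement, commutatorElement_def]
      exact mul_mem ((Subgroup.mem_normalizer_iff.1 hbN _).1 hz) (inv_mem hz)
    have h2 : v (cit (b : X) 2 r) ∈ R1 := by
      rw [cit_succ, cit_succ]; exact hstep _ (hstep _ hr1)
    rw [← Subgroup.mem_bot, ← hR1M]
    exact Subgroup.mem_inf.2 ⟨h2, h1⟩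
  refine (QuotientGroup.eq_one_iff _).1 ?_
  show v (cit (b : X) 2 u) = 1
  rw [cit_congr V (b : X) (show v u = v (r * y) by rw [map_mul]; exact hrm) 2,
    cit_mul_modulo hUU (b : X) hr hy2 2, hcit1, hkill y hy1, map_one, mul_one]

/-- Glauberman: a cubic element moving a chief factor quadratically, unless K-infinity is normal -/
theorem exists_cubic_moves (S : Sylow p X) (hC : CharPType p X) (h : CoreSub p (Cfsg.pCore p X) A)
    (hn : ¬ (Cfsg.inducedFunctor Cfsg.kInfLower (S : Subgroup X)).Normal ∨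
      ¬ (Cfsg.inducedFunctor Cfsg.kInfUpper (S : Subgroup X)).Normal) :
    ∃ g ∈ (S : Subgroup X), g ∉ Cfsg.pCore p X ∧ CubicOn A (Subgroup.zpowers g) ∧ Moves A g := by
  by_contra hcon
  push Not at hcon
  have := h.normal
  have := h.qnormal
  have hAp : IsPGroup p A := h.pgroup.to_le h.le
  have hstab := chiefStab_le_pCore hAp (CoreSub.centralizer_le hC h)
  have hseq := kSeq_le h (pCore_le_S S) (fun b hb hq => by
    by_contra hbQ
    have : b ∉ chiefStab A := fun h' => hbQ (hstab h')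
    obtain ⟨U, V, hch, hUA, u, hu, hgu⟩ := exists_of_not_mem_chiefStab this
    exact hcon b hb hbQ hq.cubic (moves_of_deg hAp hch hUA (deg_two_of_quad hq hch hUA) hu hgu))
    (lower_le_or_moves S hC h hcon)
  have := kInf_normal S (pCore_le_S S) hseq
  rcases hn with h' | h'
  · exact h' this.1
  · exact h' this.2

end Cfsg.Agent.Lib.FusionControl
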