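import Mathlib
import Cfsg.Agent.Lib.FusionControl.BlockDiag

/-!
Monomial matrices, and the monomial Sylow 2-subgroup of `GL_n(q)` when `q ≡ 1 (mod 4)`.
-/

set_option autoImplicit false

namespace Cfsg.Agent.Lib.FusionControl.MonomialSylow

open Matrix
open Cfsg.Agent.Lib.FusionControl
open Cfsg.Agent.Lib.FusionControl.WreathSquares

variable {F : Type*} [Field F] {n : ℕ}

/-- Diagonal matrices of units. -/
def dg : (Fin n → Fˣ) →* GL (Fin n) F :=
  ((diagonalRingHom (Fin n) F).toMonoidHom.comp (MonoidHom.compLeft (Units.coeHom F) (Fin n))).toHomUnits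

theorem coe_dg (v : Fin n → Fˣ) :
    (dg v : Matrix (Fin n) (Fin n) F) = diagonal fun i => (v i : F) := rfl

/-- Permutation matrices. -/
def pg : Equiv.Perm (Fin n) →* GL (Fin n) F :=
  (MonoidHom.mk ⟨fun σ : Equiv.Perm (Fin n) => σ⁻¹.permMatrix F, by simp⟩
    (fun σ τ => by simp [_root_.mul_inv_rev, Matrix.permMatrix_mul])).toHomUnits

theorem coe_pg (σ : Equiv.Perm (Fin n)) :
    ((pg σ : GL (Fin n) F) : Matrix (Fin n) (Fin n) F) = σ⁻¹.permMatrix F := rfl

theorem pg_conj (σ : Equiv.Perm (Fin n)) (v : Fin n → Fˣ) :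
    pg σ * dg v * (pg σ : GL (Fin n) F)⁻¹ = dg (fun i => v (σ⁻¹ i)) := by
  rw [mul_inv_eq_iff_eq_mul]
  refine Units.ext ?_
  rw [Units.val_mul, Units.val_mul, coe_pg, coe_dg, coe_dg]
  exact BlockDiag.perm_mul_diagonal σ fun i => (v i : F)

theorem dg_pg_eq_one (v : Fin n → Fˣ) (σ : Equiv.Perm (Fin n)) (h : dg v * pg σ = 1) : v = 1 ∧ σ = 1 := by
  have h' : diagonal (fun i => (v i : F)) * σ⁻¹.permMatrix F = 1 := congrArg Units.val h
  have hσ : σ = 1 := by
    rw [← inv_eq_one]
    refine Equiv.ext fun i => ?_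
    by_contra hne
    have := congrFun (congrFun h' i) i
    have hne' : σ.symm i ≠ i := hne
    rw [Matrix.diagonal_mul, show σ⁻¹.permMatrix F i i = 0 by simp [PEquiv.toMatrix_apply, hne'], mul_zero,
      Matrix.one_apply_eq] at this
    exact zero_ne_one this
  subst hσ
  rw [inv_one, Matrix.permMatrix_one, mul_one] at h'
  refine ⟨funext fun i => Units.ext ?_, rfl⟩
  have := congrFun (congrFun h' i) i
  simpa using this

variable [Fintype F]

theorem val_even_of_mod_one {q : ℕ} (hq : 1 < q) (hm : q % 4 = 1) : padicValNat 2 (q + 1) = 1 := by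
  have : Fact (Nat.Prime 2) := ⟨Nat.prime_two⟩
  rw [show q + 1 = 2 * ((q + 1) / 2) by omega, padicValNat.mul (by norm_num) (by omega),
    padicValNat.self (by norm_num), padicValNat.eq_zero_of_not_dvd (by omega)]

theorem valGL_of_mod_one {q : ℕ} (hq : 1 < q) (hm : q % 4 = 1) (n : ℕ) :
    TwoPart.valGL q n = n * padicValNat 2 (q - 1) + padicValNat 2 n.factorial := by
  have : Fact (Nat.Prime 2) := ⟨Nat.prime_two⟩
  have ho : Odd q := Nat.odd_iff.mpr (by omega)
  induction n with
  | zero => simp [TwoPart.valGL]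
  | succ n ih =>
    rw [TwoPart.valGL, Finset.sum_range_succ, ← TwoPart.valGL, ih, Nat.factorial_succ,
      padicValNat.mul (by omega : n + 1 ≠ 0) n.factorial_ne_zero]
    rcases Nat.even_or_odd' (n + 1) with ⟨k, hk | hk⟩
    · rw [hk, TwoPart.val_pow_even_sub_one hq ho (by omega), val_even_of_mod_one hq hm,
        padicValNat.mul (by norm_num) (by omega), padicValNat.self (by norm_num)]
      rw [← hk]
      ring
    · rw [hk, TwoPart.val_pow_odd_sub_one hq ho,
        padicValNat.eq_zero_of_not_dvd (show ¬ 2 ∣ 2 * k + 1 by omega), ← hk]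
      ring

theorem exists_sylow_mono (hm : Fintype.card F % 4 = 1) (T : Sylow 2 Fˣ) (W : Sylow 2 (Equiv.Perm (Fin n))) :
    ∃ P : Sylow 2 (GL (Fin n) F), (P : Subgroup (GL (Fin n) F)) =
      wreath dg pg (T : Subgroup Fˣ) (W : Subgroup (Equiv.Perm (Fin n))) := by
  have hq : 1 < Fintype.card F := Fintype.one_lt_card
  have : Fact (Nat.Prime 2) := ⟨Nat.prime_two⟩
  refine exists_sylow dg pg pg_conj dg_pg_eq_one _ _
    (by rw [T.card_eq_multiplicity, Nat.factorization_def _ Nat.prime_two])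
    (by rw [W.card_eq_multiplicity, Nat.factorization_def _ Nat.prime_two]) ?_
  rw [TwoPart.val_card_GL (Nat.odd_iff.mpr (by omega)), valGL_of_mod_one hq hm, Nat.card_perm,
    Nat.card_eq_fintype_card (α := Fin n), Fintype.card_fin, Classical.natCard_units]

end Cfsg.Agent.Lib.FusionControl.MonomialSylow
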