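import Mathlib

/-!
The numbers `fTwo n` (the order of a Sylow 2-subgroup of `S_n`) and `gNil n` (the largest order of a
nilpotent subgroup of `S_n`), with their inequalities.
-/

set_option autoImplicit false

namespace Cfsg.Agent.Lib.FusionControl.NilpotentPerm

/-- The 2-part of `n!`. -/
def fTwo (n : ℕ) : ℕ := 2 ^ padicValNat 2 n.factorial

/-- The bound for nilpotent subgroups. -/
def gNil (n : ℕ) : ℕ := if n % 4 = 3 then 3 * fTwo (n - 3) else fTwo n

theorem fTwo_pos (n : ℕ) : 0 < fTwo n := Nat.two_pow_pos _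

theorem fTwo_two_mul (n : ℕ) : fTwo (2 * n) = 2 ^ n * fTwo n := by
  have : Fact (Nat.Prime 2) := ⟨Nat.prime_two⟩
  unfold fTwo
  rw [padicValNat_factorial_mul, pow_add, mul_comm]

theorem fTwo_two_mul_add_one (n : ℕ) : fTwo (2 * n + 1) = fTwo (2 * n) := by
  have : Fact (Nat.Prime 2) := ⟨Nat.prime_two⟩
  unfold fTwo
  rw [padicValNat_factorial_mul_add n (by norm_num : 1 < 2)]

theorem fTwo_zero : fTwo 0 = 1 := by simp [fTwo]

theorem fTwo_one : fTwo 1 = 1 := by simp [fTwo]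

theorem fTwo_four_mul (k : ℕ) : fTwo (4 * k) = 8 ^ k * fTwo k := by
  rw [show 4 * k = 2 * (2 * k) by ring, fTwo_two_mul, fTwo_two_mul, ← mul_assoc,
    show (8 : ℕ) = 2 ^ 3 by norm_num, ← pow_mul, ← pow_add]
  congr 2
  ring

theorem fTwo_four_mul_add_one (k : ℕ) : fTwo (4 * k + 1) = fTwo (4 * k) := by
  rw [show 4 * k = 2 * (2 * k) by ring, fTwo_two_mul_add_one]

theorem fTwo_four_mul_add_two (k : ℕ) : fTwo (4 * k + 2) = 2 * fTwo (4 * k) := by
  rw [show 4 * k + 2 = 2 * (2 * k + 1) by ring, show 4 * k = 2 * (2 * k) by ring, fTwo_two_mul,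
    fTwo_two_mul, fTwo_two_mul_add_one, pow_succ]
  ring

theorem fTwo_four_mul_add_three (k : ℕ) : fTwo (4 * k + 3) = 2 * fTwo (4 * k) := by
  rw [show 4 * k + 3 = 2 * (2 * k + 1) + 1 by ring, fTwo_two_mul_add_one,
    show 2 * (2 * k + 1) = 4 * k + 2 by ring, fTwo_four_mul_add_two]

theorem fTwo_mul_le (a b : ℕ) : fTwo a * fTwo b ≤ fTwo (a + b) := by
  have : Fact (Nat.Prime 2) := ⟨Nat.prime_two⟩
  unfold fTwo
  rw [← pow_add, ← padicValNat.mul (Nat.factorial_ne_zero a) (Nat.factorial_ne_zero b)]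
  refine Nat.pow_le_pow_right (by norm_num) ?_
  rw [← padicValNat_dvd_iff_le (Nat.factorial_ne_zero _)]
  exact pow_padicValNat_dvd.trans (Nat.factorial_mul_factorial_dvd_factorial_add a b)

theorem fTwo_mono {a b : ℕ} (h : a ≤ b) : fTwo a ≤ fTwo b := by
  obtain ⟨c, rfl⟩ := Nat.exists_eq_add_of_le h
  exact le_trans (Nat.le_mul_of_pos_right _ (fTwo_pos c)) (fTwo_mul_le a c)

theorem fTwo_two : fTwo 2 = 2 := by simpa [fTwo_zero] using fTwo_four_mul_add_two 0

theorem fTwo_three : fTwo 3 = 2 := by simpa [fTwo_zero] using fTwo_four_mul_add_three 0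

theorem fTwo_four : fTwo 4 = 8 := by simpa [fTwo_one] using fTwo_four_mul 1

theorem fTwo_five : fTwo 5 = 8 := by simpa [fTwo_four] using fTwo_four_mul_add_one 1

theorem fTwo_six : fTwo 6 = 16 := by simpa [fTwo_four] using fTwo_four_mul_add_two 1

theorem fTwo_eight : fTwo 8 = 128 := by simpa [fTwo_two] using fTwo_four_mul 2

theorem fTwo_twelve : fTwo 12 = 1024 := by simpa [fTwo_three] using fTwo_four_mul 3

theorem fTwo_sixteen : fTwo 16 = 32768 := by simpa [fTwo_four] using fTwo_four_mul 4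

theorem fTwo_twenty : fTwo 20 = 262144 := by simpa [fTwo_five] using fTwo_four_mul 5

theorem gNil_of_ne {n : ℕ} (h : n % 4 ≠ 3) : gNil n = fTwo n := by simp [gNil, h]

theorem gNil_four_mul_add_three (k : ℕ) : gNil (4 * k + 3) = 3 * fTwo (4 * k) := by
  rw [gNil, if_pos (by omega), show 4 * k + 3 - 3 = 4 * k by omega]

theorem gNil_pos (n : ℕ) : 0 < gNil n := by
  unfold gNil
  split <;> simp [fTwo_pos]

theorem fTwo_le_gNil (n : ℕ) : fTwo n ≤ gNil n := by
  by_cases h : n % 4 = 3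
  · obtain ⟨k, rfl⟩ : ∃ k, n = 4 * k + 3 := ⟨n / 4, by omega⟩
    rw [gNil_four_mul_add_three, fTwo_four_mul_add_three]
    omega
  · rw [gNil_of_ne h]

theorem gNil_mul_le_of_three (i b : ℕ) : gNil (4 * i + 3) * gNil b ≤ gNil (4 * i + 3 + b) := by
  rw [gNil_four_mul_add_three]
  obtain ⟨j, rfl | rfl | rfl | rfl⟩ : ∃ j, b = 4 * j ∨ b = 4 * j + 1 ∨ b = 4 * j + 2 ∨ b = 4 * j + 3 :=
    ⟨b / 4, by omega⟩
  · rw [gNil_of_ne (by omega), show 4 * i + 3 + 4 * j = 4 * (i + j) + 3 by ring,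
      gNil_four_mul_add_three, mul_assoc]
    refine Nat.mul_le_mul_left 3 ((fTwo_mul_le _ _).trans ?_)
    rw [show 4 * i + 4 * j = 4 * (i + j) by ring]
  · have h1 := fTwo_mul_le (4 * i) (4 * j)
    have h2 := fTwo_mul_le (4 * (i + j)) 4
    rw [show 4 * i + 4 * j = 4 * (i + j) by ring] at h1
    rw [gNil_of_ne (by omega), fTwo_four_mul_add_one, gNil_of_ne (by omega),
      show 4 * i + 3 + (4 * j + 1) = 4 * (i + j) + 4 by ring]
    rw [fTwo_four] at h2
    nlinarith
  · have h1 := fTwo_mul_le (4 * i) (4 * j)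
    have h2 := fTwo_mul_le (4 * (i + j)) 5
    rw [show 4 * i + 4 * j = 4 * (i + j) by ring] at h1
    rw [gNil_of_ne (by omega), fTwo_four_mul_add_two, gNil_of_ne (by omega),
      show 4 * i + 3 + (4 * j + 2) = 4 * (i + j) + 5 by ring]
    rw [fTwo_five] at h2
    nlinarith
  · have h1 := fTwo_mul_le (4 * i) (4 * j)
    have h2 := fTwo_mul_le (4 * (i + j)) 6
    rw [show 4 * i + 4 * j = 4 * (i + j) by ring] at h1
    rw [gNil_four_mul_add_three, gNil_of_ne (by omega),
      show 4 * i + 3 + (4 * j + 3) = 4 * (i + j) + 6 by ring]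
    rw [fTwo_six] at h2
    nlinarith

theorem gNil_mul_le (a b : ℕ) : gNil a * gNil b ≤ gNil (a + b) := by
  by_cases ha : a % 4 = 3
  · obtain ⟨i, rfl⟩ : ∃ i, a = 4 * i + 3 := ⟨a / 4, by omega⟩
    exact gNil_mul_le_of_three i b
  by_cases hb : b % 4 = 3
  · obtain ⟨i, rfl⟩ : ∃ i, b = 4 * i + 3 := ⟨b / 4, by omega⟩
    rw [mul_comm, add_comm a]
    exact gNil_mul_le_of_three i a
  rw [gNil_of_ne ha, gNil_of_ne hb]
  exact (fTwo_mul_le a b).trans (fTwo_le_gNil _)

theorem gNil_mono {a b : ℕ} (h : a ≤ b) : gNil a ≤ gNil b := by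
  obtain ⟨c, rfl⟩ := Nat.exists_eq_add_of_le h
  exact le_trans (Nat.le_mul_of_pos_right _ (gNil_pos c)) (gNil_mul_le a c)

theorem gNil_two : gNil 2 = 2 := by simp [gNil, fTwo_two]

theorem gNil_three : gNil 3 = 3 := by simp [gNil, fTwo_zero]

theorem gNil_four : gNil 4 = 8 := by simp [gNil, fTwo_four]

theorem gNil_five : gNil 5 = 8 := by simp [gNil, fTwo_five]

theorem gNil_six : gNil 6 = 16 := by simp [gNil, fTwo_six]

theorem gNil_eight : gNil 8 = 128 := by simp [gNil, fTwo_eight]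

theorem gNil_nine : gNil 9 = 128 := by
  simpa [gNil, fTwo_eight] using fTwo_four_mul_add_one 2

theorem gNil_eleven : gNil 11 = 384 := by simp [gNil, fTwo_eight]

theorem gNil_thirteen : gNil 13 = 1024 := by
  simpa [gNil, fTwo_twelve] using fTwo_four_mul_add_one 3

theorem gNil_fifteen : gNil 15 = 3072 := by simp [gNil, fTwo_twelve]

theorem gNil_seventeen : gNil 17 = 32768 := by
  simpa [gNil, fTwo_sixteen] using fTwo_four_mul_add_one 4

theorem gNil_nineteen : gNil 19 = 98304 := by simp [gNil, fTwo_sixteen]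

theorem gNil_twentyone : gNil 21 = 262144 := by
  simpa [gNil, fTwo_twenty] using fTwo_four_mul_add_one 5

theorem gNil_twentythree : gNil 23 = 786432 := by simp [gNil, fTwo_twenty]

theorem two_mul_gNil_le (n : ℕ) : 2 * gNil n ≤ gNil (n + 2) := by
  have := gNil_mul_le n 2
  rw [gNil_two] at this
  linarith

theorem self_le_gNil : ∀ n : ℕ, n ≤ gNil n
  | 0 => Nat.zero_le _
  | 1 => gNil_pos 1
  | 2 => gNil_two.ge
  | 3 => gNil_three.ge
  | n + 4 => by
    have h1 := self_le_gNil (n + 2)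
    have h2 := two_mul_gNil_le (n + 2)
    rw [show n + 2 + 2 = n + 4 by omega] at h2
    omega

theorem two_mul_self_le_gNil : ∀ n : ℕ, 7 ≤ n → 2 * n ≤ gNil n := by
    intro n h
    induction n using Nat.strong_induction_on with
    | _ n ih =>
      rcases (by omega : n = 7 ∨ n = 8 ∨ 9 ≤ n) with rfl | rfl | h9
      · have : gNil 7 = 24 := by simp [gNil, fTwo_four]
        omega
      · rw [gNil_eight]
        norm_num
      · have h1 := ih (n - 2) (by omega) (by omega)
        have h2 := two_mul_gNil_le (n - 2)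
        rw [show n - 2 + 2 = n by omega] at h2
        omega

theorem three_pow_le_gNil : ∀ s : ℕ, 4 ≤ s → 3 ^ s ≤ gNil (2 * s + 1) := by
  intro s hs
  induction s using Nat.strong_induction_on with
  | _ s ih =>
    rcases (by omega : s = 4 ∨ s = 5 ∨ s = 6 ∨ s = 7 ∨ 8 ≤ s) with rfl | rfl | rfl | rfl | h8
    · norm_num [gNil_nine]
    · norm_num [gNil_eleven]
    · norm_num [gNil_thirteen]
    · norm_num [gNil_fifteen]
    · have h1 := ih (s - 4) (by omega) (by omega)
      have h2 := gNil_mul_le (2 * (s - 4) + 1) 8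
      rw [show 2 * (s - 4) + 1 + 8 = 2 * s + 1 by omega, gNil_eight] at h2
      rw [show s = (s - 4) + 4 by omega, pow_add]
      rw [show 2 * s + 1 = 2 * ((s - 4) + 4) + 1 by omega] at h2
      nlinarith

theorem two_mul_three_pow_le_gNil : ∀ s : ℕ, 8 ≤ s → 2 * 3 ^ s ≤ gNil (2 * s + 1) := by
  intro s hs
  induction s using Nat.strong_induction_on with
  | _ s ih =>
    rcases (by omega : s = 8 ∨ s = 9 ∨ s = 10 ∨ s = 11 ∨ 12 ≤ s) with rfl | rfl | rfl | rfl | h8
    · norm_num [gNil_seventeen]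
    · norm_num [gNil_nineteen]
    · norm_num [gNil_twentyone]
    · norm_num [gNil_twentythree]
    · have h1 := ih (s - 4) (by omega) (by omega)
      have h2 := gNil_mul_le (2 * (s - 4) + 1) 8
      rw [show 2 * (s - 4) + 1 + 8 = 2 * s + 1 by omega, gNil_eight] at h2
      rw [show s = (s - 4) + 4 by omega, pow_add]
      rw [show 2 * s + 1 = 2 * ((s - 4) + 4) + 1 by omega] at h2
      nlinarith

/-- `2s+1 ≤ 3^s`. -/
theorem odd_le_three_pow (s : ℕ) : 2 * s + 1 ≤ 3 ^ s := by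
  induction s with
  | zero => simp
  | succ n ih =>
    rw [pow_succ]
    omega

/-- For an odd prime power `q = p^j` the `p`-part of `q!` is at most `3^((q-1)/2)`. -/
theorem pPart_le (p : ℕ) [hp : Fact p.Prime] (h2 : p ≠ 2) :
    ∀ j : ℕ, p ^ padicValNat p (p ^ j).factorial ≤ 3 ^ ((p ^ j - 1) / 2) := by
  obtain ⟨t, ht⟩ : Odd p := hp.out.odd_of_ne_two h2
  intro j
  induction j with
  | zero => simp
  | succ n ih =>
    have hodd : Odd (p ^ n) := Odd.pow (⟨t, ht⟩ : Odd p)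
    obtain ⟨s, hs⟩ := hodd
    rw [pow_succ', padicValNat_factorial_mul, pow_add]
    have e : (p * p ^ n - 1) / 2 = s + t * p ^ n := by
      rw [hs, ht]
      rw [show (2 * t + 1) * (2 * s + 1) - 1 = 2 * (s + t * (2 * s + 1)) by ring_nf; omega]
      omega
    rw [e, pow_add, pow_mul]
    refine Nat.mul_le_mul ?_ (Nat.pow_le_pow_left (ht ▸ odd_le_three_pow t) _)
    refine ih.trans (le_of_eq ?_)
    rw [hs]
    congr 1
    omega

end Cfsg.Agent.Lib.FusionControl.NilpotentPerm
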