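import Mathlib
import Cfsg.Agent.Lib.Solvable.Schmidt
import Cfsg.Agent.Lib.FusionControl.NilpotentPermBound

/-!
Nilpotent subgroups of symmetric groups have order at most `gNil n`; those of odd order at most half
of it outside four degrees.
-/

set_option autoImplicit false

universe u

namespace Cfsg.Agent.Lib.FusionControl.NilpotentPerm

open Equiv

/-- A finite nilpotent group is a Sylow subgroup times a complement commuting with it. -/
theorem exists_split {M : Type u} [Group M] [Finite M] [Group.IsNilpotent M] (p : ℕ) [Fact p.Prime] :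
    ∃ P H : Subgroup M, IsPGroup p P ∧ (∀ x ∈ P, ∀ y ∈ H, x * y = y * x) ∧ P.IsComplement' H ∧
      ¬ p ∣ Nat.card H := by
  obtain ⟨P⟩ : Nonempty (Sylow p M) := inferInstance
  have hPn : (P : Subgroup M).Normal :=
    Sylow.normal_of_normalizerCondition Group.normalizerCondition_of_isNilpotent P
  obtain ⟨H, hH⟩ := Subgroup.exists_right_complement'_of_coprime (N := (P : Subgroup M)) P.card_coprime_index
  have hHp : ¬ p ∣ Nat.card H := by
    rw [← hH.symm.index_eq_card]
    exact P.not_dvd_index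
  refine ⟨P, H, P.2, fun x hx y hy => ?_, hH, hHp⟩
  set C := Subgroup.centralizer ((P : Subgroup M) : Set M) with hC
  have hCn : C.Normal := Subgroup.normal_centralizer
  have hidx : ∀ r : ℕ, r.Prime → r ∣ C.index → r = p := by
    intro r hr hrd
    by_contra hne
    have : Fact r.Prime := ⟨hr⟩
    obtain ⟨R⟩ : Nonempty (Sylow r M) := inferInstance
    exact R.not_dvd_index (hrd.trans (Subgroup.index_dvd_of_le
      (Cfsg.Agent.Lib.Solvable.Schmidt.commute_of_coprime_orderOf hne R.2 P.2)))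
  have h1 : ((y : M) : M ⧸ C) = 1 := by
    refine orderOf_eq_one_iff.mp ?_
    have ha : orderOf ((y : M) : M ⧸ C) ∣ Nat.card H :=
      (orderOf_map_dvd (QuotientGroup.mk' C) y).trans ((Subgroup.orderOf_mk y hy).symm ▸
        orderOf_dvd_natCard (⟨y, hy⟩ : H))
    have hb : orderOf ((y : M) : M ⧸ C) ∣ C.index := orderOf_dvd_natCard _
    by_contra hne
    obtain ⟨r, hr, hrd⟩ := Nat.exists_prime_and_dvd hne
    exact hHp (hidx r hr (hrd.trans hb) ▸ hrd.trans ha)
  exact Subgroup.mem_centralizer_iff.mp ((QuotientGroup.eq_one_iff y).mp h1) x hx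

variable {α : Type u}

/-- The same, for a subgroup. -/
theorem exists_split_sub [Finite α] (N : Subgroup (Perm α)) [Group.IsNilpotent N] (p : ℕ) [Fact p.Prime] :
    ∃ P H : Subgroup (Perm α), P ≤ N ∧ H ≤ N ∧ IsPGroup p P ∧ (∀ x ∈ P, ∀ y ∈ H, x * y = y * x) ∧
      (∀ g ∈ N, ∃ x ∈ P, ∃ y ∈ H, g = x * y) ∧ Nat.card N = Nat.card P * Nat.card H ∧
      ¬ p ∣ Nat.card H ∧ Group.IsNilpotent H := by
  obtain ⟨P, H, hP, hc, hcomp, hH⟩ := exists_split (M := N) p
  have eH : Nat.card (H.map N.subtype) = Nat.card H := Subgroup.card_map_of_injective N.subtype_injective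
  refine ⟨P.map N.subtype, H.map N.subtype, Subgroup.map_subtype_le P, Subgroup.map_subtype_le H,
    hP.map _, ?_, ?_, ?_, by rwa [eH], Group.nilpotent_of_mulEquiv (H.equivMapOfInjective _ N.subtype_injective)⟩
  · rintro _ ⟨x, hx, rfl⟩ _ ⟨y, hy, rfl⟩
    simp only [← map_mul, hc x hx y hy]
  · intro g hg
    obtain ⟨⟨x, y⟩, hxy⟩ := hcomp.2 ⟨g, hg⟩
    exact ⟨_, ⟨x, x.2, rfl⟩, _, ⟨y, y.2, rfl⟩, by rw [← map_mul]; exact (congrArg Subtype.val hxy).symm⟩
  · rw [Subgroup.card_map_of_injective N.subtype_injective, eH, hcomp.card_mul_card]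

/-- Restriction to an invariant set. -/
def restr (K : Subgroup (Perm α)) (s : Set α) (hs : ∀ k ∈ K, ∀ x, x ∈ s ↔ k x ∈ s) : K →* Perm s where
  toFun k := (k : Perm α).subtypePerm (fun x => (hs k k.2 x).symm)
  map_one' := by ext; rfl
  map_mul' a b := by ext; rfl

theorem restr_apply (K : Subgroup (Perm α)) (s : Set α) (hs : ∀ k ∈ K, ∀ x, x ∈ s ↔ k x ∈ s) (k : K)
    (x : s) : (restr K s hs k x : α) = (k : Perm α) x := rfl

theorem orbit_inv (K : Subgroup (Perm α)) (a : α) : ∀ k ∈ K, ∀ x, x ∈ MulAction.orbit K a ↔ k x ∈ MulAction.orbit K a := by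
  intro k hk x
  constructor
  · rintro ⟨l, rfl⟩
    exact ⟨⟨k, hk⟩ * l, rfl⟩
  · rintro ⟨l, hl⟩
    refine ⟨⟨k, hk⟩⁻¹ * l, ?_⟩
    show k⁻¹ ((l : Perm α) a) = x
    rw [show (l : Perm α) a = k x from hl]
    simp

/-- The transitive case with an odd prime. -/
theorem transitive_split [Fintype α] (N : Subgroup (Perm α)) [Group.IsNilpotent N]
    (htr : ∀ x y : α, ∃ g ∈ N, g x = y) (p : ℕ) [hp : Fact p.Prime] (hpN : p ∣ Nat.card N) (a : α) :
    ∃ i m : ℕ, ∃ (β : Type u) (_ : Fintype β) (H : Subgroup (Perm β)), Fintype.card β = m ∧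
      Group.IsNilpotent H ∧ Nat.card H ∣ Nat.card N ∧ Fintype.card α = p ^ (i + 1) * m ∧ ¬ p ∣ m ∧
      Nat.card N ≤ p ^ padicValNat p (p ^ (i + 1)).factorial * Nat.card H := by
  classical
  obtain ⟨P, H, hPN, hHN, hP, hc, hdec, hcard, hHp, hHnil⟩ := exists_split_sub N p
  have hfix : ∀ x ∈ P, ∀ y ∈ H, (x * y) a = a → x a = a := by
    intro x hx y hy h
    have hco : (Nat.card H).Coprime (orderOf x) := by
      obtain ⟨j, hj⟩ := IsPGroup.iff_orderOf.mp hP ⟨x, hx⟩
      rw [Subgroup.orderOf_mk] at hj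
      rw [hj]
      exact ((hp.out.coprime_iff_not_dvd.mpr hHp).symm).pow_right j
    obtain ⟨k, hk⟩ := exists_pow_eq_self_of_coprime hco
    have h1 : (x * y) ^ Nat.card H = x ^ Nat.card H := by
      rw [(show Commute x y from hc x hx y hy).mul_pow,
        show y ^ Nat.card H = 1 from congrArg Subtype.val (pow_card_eq_one' (x := (⟨y, hy⟩ : H))),
        mul_one]
    have h2 : x * y ∈ MulAction.stabilizer (Perm α) a := h
    have h3 := pow_mem (pow_mem h2 (Nat.card H)) k
    rw [h1, hk] at h3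
    exact h3
  have hP' : ∀ o : MulAction.orbit P a, ∃ x ∈ P, x a = (o : α) := fun o => by
    obtain ⟨x, hx⟩ := o.2
    exact ⟨x, x.2, hx⟩
  choose cP hcP hcPa using hP'
  -- the point count
  have hbij : Function.Bijective (fun z : MulAction.orbit P a × MulAction.orbit H a => cP z.1 (z.2 : α)) := by
    constructor
    · rintro ⟨⟨o1, h1⟩, ⟨_, v1, rfl⟩⟩ ⟨⟨o2, h2⟩, ⟨_, v2, rfl⟩⟩ h
      simp only [Subgroup.smul_def, Equiv.Perm.smul_def] at h ⊢
      have e1 := hcPa ⟨o1, h1⟩
      have e2 := hcPa ⟨o2, h2⟩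
      have hu1 := hcP ⟨o1, h1⟩
      have hu2 := hcP ⟨o2, h2⟩
      simp only at e1 e2
      generalize cP ⟨o1, h1⟩ = u1 at e1 hu1 h
      generalize cP ⟨o2, h2⟩ = u2 at e2 hu2 h
      have hw : (u2⁻¹ * u1 * ((v2 : Perm α)⁻¹ * v1)) a = a := by
        have hcm : u1 * ((v2 : Perm α)⁻¹ * v1) = (v2 : Perm α)⁻¹ * (u1 * v1) := by
          rw [← mul_assoc, hc u1 hu1 _ (inv_mem v2.2), mul_assoc]
        have hcm2 : u2 * ((v2 : Perm α)⁻¹) = (v2 : Perm α)⁻¹ * u2 := hc u2 hu2 _ (inv_mem v2.2)
        rw [mul_assoc, hcm, ← mul_assoc]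
        have : u2⁻¹ * (v2 : Perm α)⁻¹ = (v2 : Perm α)⁻¹ * u2⁻¹ := hc _ (inv_mem hu2) _ (inv_mem v2.2)
        rw [this]
        simp only [Equiv.Perm.mul_apply]
        rw [h]
        simp
      have hx := hfix _ (mul_mem (inv_mem hu2) hu1) _ (mul_mem (inv_mem v2.2) v1.2) hw
      have hu : u1 a = u2 a := by
        rw [Equiv.Perm.mul_apply] at hx
        simpa using congrArg u2 hx
      have hoo : o1 = o2 := by rw [← e1, ← e2, hu]
      subst hoo
      have hv : (v1 : Perm α) a = (v2 : Perm α) a := by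
        have h5 : ((v2 : Perm α)⁻¹ * v1) a = a := by
          rw [Equiv.Perm.mul_apply, Equiv.Perm.mul_apply] at hw
          rw [Equiv.Perm.mul_apply] at hx ⊢
          exact (u2⁻¹ * u1).injective (by simpa [Equiv.Perm.mul_apply, hx] using hw)
        simpa using congrArg (v2 : Perm α) h5
      simp [hv]
    · intro z
      obtain ⟨g, hg, rfl⟩ := htr a z
      obtain ⟨x, hx, y, hy, rfl⟩ := hdec g hg
      refine ⟨(⟨x a, ⟨x, hx⟩, rfl⟩, ⟨y a, ⟨y, hy⟩, rfl⟩), ?_⟩
      have e1 := hcPa ⟨x a, ⟨x, hx⟩, rfl⟩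
      simp only at e1
      show cP _ (y a) = (x * y) a
      rw [show cP ⟨x a, ⟨x, hx⟩, rfl⟩ (y a) = (cP ⟨x a, ⟨x, hx⟩, rfl⟩ * y) a from rfl,
        hc _ (hcP _) y hy, Equiv.Perm.mul_apply, e1, ← Equiv.Perm.mul_apply, ← hc x hx y hy]
  have hn : Fintype.card α = (MulAction.orbit P a).ncard * (MulAction.orbit H a).ncard := by
    rw [← Nat.card_eq_fintype_card, ← Nat.card_congr (Equiv.ofBijective _ hbij), Nat.card_prod,
      Nat.card_coe_set_eq, Nat.card_coe_set_eq]
  -- faithfulness
  have hfaithP : Function.Injective (restr P (MulAction.orbit P a) (orbit_inv P a)) := by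
    refine (injective_iff_map_eq_one _).mpr fun u hu => Subtype.ext (Equiv.ext fun z => ?_)
    obtain ⟨g, hg, rfl⟩ := htr a z
    obtain ⟨x, hx, y, hy, rfl⟩ := hdec g hg
    have h1 : (u : Perm α) (x a) = x a := by
      have := Equiv.congr_fun hu ⟨x a, ⟨x, hx⟩, rfl⟩
      exact congrArg Subtype.val this
    show (u : Perm α) ((x * y) a) = (x * y) a
    rw [hc x hx y hy, Equiv.Perm.mul_apply, ← Equiv.Perm.mul_apply, hc u u.2 y hy, Equiv.Perm.mul_apply, h1]
  have hfaithH : Function.Injective (restr H (MulAction.orbit H a) (orbit_inv H a)) := by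
    refine (injective_iff_map_eq_one _).mpr fun u hu => Subtype.ext (Equiv.ext fun z => ?_)
    obtain ⟨g, hg, rfl⟩ := htr a z
    obtain ⟨x, hx, y, hy, rfl⟩ := hdec g hg
    have h1 : (u : Perm α) (y a) = y a := by
      have := Equiv.congr_fun hu ⟨y a, ⟨y, hy⟩, rfl⟩
      exact congrArg Subtype.val this
    show (u : Perm α) ((x * y) a) = (x * y) a
    rw [Equiv.Perm.mul_apply, ← Equiv.Perm.mul_apply, ← hc x hx u u.2, Equiv.Perm.mul_apply, h1]
  obtain ⟨j, hj⟩ := IsPGroup.iff_card.mp hP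
  obtain ⟨i, -, hi⟩ := (Nat.dvd_prime_pow hp.out).mp
    (hj ▸ (MulAction.index_stabilizer P a ▸ Subgroup.index_dvd_card _) : (MulAction.orbit P a).ncard ∣ p ^ j)
  have hPcard : Nat.card P ≤ p ^ padicValNat p ((MulAction.orbit P a).ncard).factorial := by
    have h1 : Nat.card P ∣ ((MulAction.orbit P a).ncard).factorial := by
      rw [← Nat.card_coe_set_eq, ← Nat.card_perm]
      rw [Nat.card_congr (MonoidHom.ofInjective hfaithP).toEquiv]
      exact Subgroup.card_subgroup_dvd_card _
    rw [hj] at h1 ⊢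
    exact Nat.pow_le_pow_right hp.out.pos ((padicValNat_dvd_iff_le (Nat.factorial_ne_zero _)).mp h1)
  have hi0 : i ≠ 0 := by
    rintro rfl
    rw [hi, pow_zero, Nat.factorial_one, padicValNat_one_right, pow_zero] at hPcard
    exact hHp (by rwa [hcard, le_antisymm hPcard Nat.card_pos, one_mul] at hpN)
  obtain ⟨i, rfl⟩ := Nat.exists_eq_succ_of_ne_zero hi0
  have hm : ¬ p ∣ (MulAction.orbit H a).ncard := fun h =>
    hHp (h.trans (MulAction.index_stabilizer H a ▸ Subgroup.index_dvd_card _))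
  refine ⟨i, (MulAction.orbit H a).ncard, MulAction.orbit H a, inferInstance,
    (restr H _ (orbit_inv H a)).range, ?_, ?_, ?_, ?_, hm, ?_⟩
  · rw [← Nat.card_eq_fintype_card, Nat.card_coe_set_eq]
  · exact Group.nilpotent_of_surjective _ (MonoidHom.rangeRestrict_surjective _)
  · rw [← Nat.card_congr (MonoidHom.ofInjective hfaithH).toEquiv, hcard]
    exact dvd_mul_left _ _
  · rw [hn, hi]
  · rw [← Nat.card_congr (MonoidHom.ofInjective hfaithH).toEquiv, hcard]
    rw [hi] at hPcard
    exact Nat.mul_le_mul_right _ hPcard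

/-- Splitting along an invariant set. -/
theorem card_le_mul [Fintype α] (N : Subgroup (Perm α)) (s : Set α) (hs : ∀ k ∈ N, ∀ x, x ∈ s ↔ k x ∈ s) :
    Nat.card N ≤ Nat.card (restr N s hs).range *
      Nat.card (restr N sᶜ (fun k hk x => not_congr (hs k hk x))).range := by
  rw [← Nat.card_prod]
  refine Nat.card_le_card_of_injective (fun k => ((restr N s hs).rangeRestrict k,
    (restr N sᶜ (fun k hk x => not_congr (hs k hk x))).rangeRestrict k)) ?_
  intro k l h
  simp only [Prod.mk.injEq] at h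
  refine Subtype.ext (Equiv.ext fun x => ?_)
  by_cases hx : x ∈ s
  · exact congrArg Subtype.val (Equiv.congr_fun (congrArg Subtype.val h.1) ⟨x, hx⟩)
  · exact congrArg Subtype.val (Equiv.congr_fun (congrArg Subtype.val h.2) ⟨x, hx⟩)

theorem card_compl_eq [Fintype α] (s : Set α) [Fintype s] [Fintype (sᶜ : Set α)] :
    Fintype.card s + Fintype.card (sᶜ : Set α) = Fintype.card α := by
  classical
  rw [← Fintype.card_sum]
  exact Fintype.card_congr (Equiv.Set.sumCompl s)

theorem orbit_ne_univ [Fintype α] (N : Subgroup (Perm α)) (a : α) (h : ¬ ∀ x y : α, ∃ g ∈ N, g x = y) :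
    MulAction.orbit N a ≠ Set.univ := by
  intro e
  apply h
  intro x y
  obtain ⟨k, hk⟩ := (e ▸ Set.mem_univ x : x ∈ MulAction.orbit N a)
  obtain ⟨l, hl⟩ := (e ▸ Set.mem_univ y : y ∈ MulAction.orbit N a)
  refine ⟨(l : Perm α) * (k : Perm α)⁻¹, mul_mem l.2 (inv_mem k.2), ?_⟩
  rw [← show (k : Perm α) a = x from hk, ← show (l : Perm α) a = y from hl]
  simp

theorem pPart_prime (p : ℕ) [hp : Fact p.Prime] : p ^ padicValNat p (p ^ (0 + 1)).factorial = p := by
  have := padicValNat_factorial_mul (p := p) 1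
  rw [mul_one, Nat.factorial_one, padicValNat_one_right, zero_add] at this
  rw [zero_add, pow_one, this, pow_one]

theorem pPart_le_gNil (p i : ℕ) [hp : Fact p.Prime] (h2 : p ≠ 2) :
    p ^ padicValNat p (p ^ (i + 1)).factorial ≤ gNil (p ^ (i + 1)) := by
  rcases i with _ | i
  · rw [pPart_prime, zero_add, pow_one]
    exact self_le_gNil p
  · refine (pPart_le p h2 _).trans ?_
    obtain ⟨s, hs⟩ : Odd (p ^ (i + 1 + 1)) := (hp.out.odd_of_ne_two h2).pow
    have h9 : 3 ^ (1 + 1) ≤ p ^ (i + 1 + 1) :=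
      le_trans (Nat.pow_le_pow_left (by have := hp.out.two_le; omega) _)
        (Nat.pow_le_pow_right hp.out.pos (by omega))
    rw [hs] at h9 ⊢
    rw [show (2 * s + 1 - 1) / 2 = s by omega]
    exact three_pow_le_gNil s (by omega)

/-- **The bound.** -/
theorem card_le_gNil : ∀ (n : ℕ) {α : Type u} [Fintype α] (N : Subgroup (Perm α)) [Group.IsNilpotent N],
    Fintype.card α = n → Nat.card N ≤ gNil n := by
  intro n
  induction n using Nat.strong_induction_on with
  | _ n ih =>
    intro α _ N _ hn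
    classical
    by_cases hodd : ∃ p : ℕ, p.Prime ∧ p ≠ 2 ∧ p ∣ Nat.card N
    · obtain ⟨p, hp, hp2, hpN⟩ := hodd
      have : Fact p.Prime := ⟨hp⟩
      rcases isEmpty_or_nonempty α with he | ⟨⟨a⟩⟩
      · have h1 : Nat.card N = 1 := Nat.card_unique
        exact absurd (h1 ▸ hpN) hp.not_dvd_one
      by_cases htr : ∀ x y : α, ∃ g ∈ N, g x = y
      · obtain ⟨i, m, β, hβ, H, hm, hH, -, hnm, hpm, hle⟩ := transitive_split N htr p hpN a
        rw [← hn, hnm]
        have hm0 : 0 < m := Nat.pos_of_ne_zero fun h => hpm (h ▸ dvd_zero p)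
        have hq : 2 ≤ p ^ (i + 1) := le_trans hp.two_le (Nat.le_self_pow (by omega) p)
        have hlt : m < n := by
          rw [← hn, hnm]
          exact lt_of_lt_of_le (by omega) (Nat.mul_le_mul_right m hq)
        have h1 := hle.trans (Nat.mul_le_mul (pPart_le_gNil p i hp2) (ih m hlt H hm))
        rcases (by omega : m = 1 ∨ 2 ≤ m) with rfl | hm2
        · rw [mul_one]
          refine hle.trans ?_
          have : Subsingleton β := Fintype.card_le_one_iff_subsingleton.mp hm.le
          rw [Nat.card_unique, mul_one]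
          exact pPart_le_gNil p i hp2
        · exact (h1.trans (gNil_mul_le _ _)).trans (gNil_mono (Nat.add_le_mul hq hm2))
      · have hne := orbit_ne_univ N a htr
        have hsum := card_compl_eq (MulAction.orbit N a)
        have h1 : 0 < Fintype.card (MulAction.orbit N a) := Fintype.card_pos_iff.mpr ⟨⟨a, MulAction.mem_orbit_self a⟩⟩
        have h2 : 0 < Fintype.card ((MulAction.orbit N a)ᶜ : Set α) := by
          obtain ⟨x, hx⟩ := (Set.ne_univ_iff_exists_notMem _).mp hne
          exact Fintype.card_pos_iff.mpr ⟨⟨x, hx⟩⟩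
        set s := MulAction.orbit N a with hs
        have hsinv : ∀ k ∈ N, ∀ x, x ∈ sᶜ ↔ k x ∈ sᶜ := fun k hk x => not_congr (orbit_inv N a k hk x)
        have hr1 : Group.IsNilpotent (restr N s (orbit_inv N a)).range :=
          Group.nilpotent_of_surjective _ (MonoidHom.rangeRestrict_surjective _)
        have hr2 : Group.IsNilpotent (restr N sᶜ hsinv).range :=
          Group.nilpotent_of_surjective _ (MonoidHom.rangeRestrict_surjective _)
        have e1 := ih (Fintype.card s) (by omega) (restr N s (orbit_inv N a)).range rfl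
        have e2 := ih (Fintype.card (sᶜ : Set α)) (by omega) (restr N sᶜ hsinv).range rfl
        refine (card_le_mul N _ (orbit_inv N a)).trans ((Nat.mul_le_mul e1 e2).trans ?_)
        exact (gNil_mul_le _ _).trans (gNil_mono (by omega))
    · push Not at hodd
      have : Fact (Nat.Prime 2) := ⟨Nat.prime_two⟩
      have h1 : Nat.card N = 2 ^ (Nat.card N).primeFactorsList.length :=
        Nat.eq_prime_pow_of_unique_prime_dvd Nat.card_pos.ne' fun {d} hd hdd => by
          by_contra hd2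
          exact hodd d hd hd2 hdd
      have h2 : Nat.card N ∣ n.factorial := by
        rw [← hn, ← Nat.card_eq_fintype_card, ← Nat.card_perm]
        exact Subgroup.card_subgroup_dvd_card _
      refine le_trans ?_ (fTwo_le_gNil n)
      rw [h1] at h2 ⊢
      exact Nat.pow_le_pow_right (by norm_num) ((padicValNat_dvd_iff_le (Nat.factorial_ne_zero _)).mp h2)

end Cfsg.Agent.Lib.FusionControl.NilpotentPerm
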