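import Mathlib
import Cfsg.Agent.Lib.FusionControl.NilpotentPerm

/-!
Nilpotent subgroups of alternating groups: those of odd order, and the dichotomy reducing the others to
the symmetric groups.
-/

set_option autoImplicit false

universe u

namespace Cfsg.Agent.Lib.FusionControl.NilpotentPerm

open Equiv

variable {α : Type u}

/-- Transitive nilpotent groups of odd order. -/
theorem transitive_odd_le [Fintype α] (N : Subgroup (Perm α)) [Group.IsNilpotent N]
    (htr : ∀ x y : α, ∃ g ∈ N, g x = y) (hodd : Odd (Nat.card N)) (h2 : 2 ≤ Fintype.card α) :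
    (Fintype.card α = 3 → Nat.card N ≤ 3) ∧ (Fintype.card α = 5 → Nat.card N ≤ 5) ∧
      (Fintype.card α = 9 → Nat.card N ≤ 81) ∧
      (Fintype.card α ≠ 3 → Fintype.card α ≠ 5 → Fintype.card α ≠ 9 →
        2 * Nat.card N ≤ gNil (Fintype.card α)) := by
  classical
  obtain ⟨a, b, hab⟩ := Fintype.exists_pair_of_one_lt_card (α := α) (by omega)
  have hN1 : Nat.card N ≠ 1 := fun h => by
    obtain ⟨g, hg, e⟩ := htr a b
    have : (⟨g, hg⟩ : N) = 1 := @Subsingleton.elim _ (Nat.card_eq_one_iff_unique.mp h).1 _ _
    exact hab (by rw [← e, show g = 1 from congrArg Subtype.val this]; rfl)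
  obtain ⟨p, hp, hpN⟩ := Nat.exists_prime_and_dvd hN1
  have : Fact p.Prime := ⟨hp⟩
  have hpo : Odd p := hodd.of_dvd_nat hpN
  have hp2 : p ≠ 2 := fun e => by rw [e] at hpo; exact absurd hpo (by decide)
  obtain ⟨i, m, β, hβ, H, hm, hH, hHdvd, hnm, hpm, hle⟩ := transitive_split N htr p hpN a
  have hqo : Odd (p ^ (i + 1)) := hpo.pow
  have hp3 : 3 ≤ p := by
    have := hp.two_le
    obtain ⟨r, hr⟩ := hpo
    omega
  have hq3 : 3 ≤ p ^ (i + 1) := by
    have h1 : p ≤ p ^ (i + 1) := Nat.le_self_pow (by omega) p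
    have := hp.two_le
    obtain ⟨r, hr⟩ := hpo
    omega
  have hsmall : i = 0 → p ^ padicValNat p (p ^ (i + 1)).factorial = p := by
    rintro rfl
    exact pPart_prime p
  by_cases hm1 : m = 1
  · have : Subsingleton β := Fintype.card_le_one_iff_subsingleton.mp (hm.trans hm1).le
    rw [Nat.card_unique (α := H), mul_one] at hle
    rw [hnm, hm1, mul_one]
    have hval := pPart_le p hp2 (i + 1)
    refine ⟨fun e => ?_, fun e => ?_, fun e => ?_, fun e3 e5 e9 => ?_⟩
    · rw [e] at hle hval
      exact hle.trans (by norm_num at hval ⊢; exact hval)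
    · have hi : i = 0 := by
        by_contra hi
        have h9 : 3 ^ 2 ≤ p ^ (i + 1) :=
          le_trans (Nat.pow_le_pow_left hp3 _)
            (Nat.pow_le_pow_right hp.pos (by omega))
        omega
      have hp5 : p = 5 := by simpa [hi] using e
      exact hp5 ▸ (hsmall hi ▸ hle)
    · rw [e] at hle hval
      exact hle.trans (by norm_num at hval ⊢; exact hval)
    · by_cases hi : i = 0
      · rw [hsmall hi] at hle
        have hp7 : 7 ≤ p := by
          rw [hi, zero_add, pow_one] at e3 e5
          obtain ⟨r, hr⟩ := hpo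
          have := hp.two_le
          omega
        rw [hi, zero_add, pow_one]
        exact le_trans (Nat.mul_le_mul_left 2 hle) (two_mul_self_le_gNil p hp7)
      · obtain ⟨s, hs⟩ := hqo
        have hs8 : 8 ≤ s := by
          by_contra hlt
          obtain ⟨r, hr⟩ := hpo
          rcases (by omega : p = 3 ∨ 5 ≤ p) with e | e
          · rw [e] at e9 hs
            rcases (by omega : i = 1 ∨ 2 ≤ i) with e' | e'
            · exact e9 (by rw [e']; norm_num)
            · have h27 : 3 ^ 3 ≤ 3 ^ (i + 1) := Nat.pow_le_pow_right (by norm_num) (by omega)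
              omega
          · have h25 : 5 ^ 2 ≤ p ^ (i + 1) :=
              le_trans (Nat.pow_le_pow_left e _) (Nat.pow_le_pow_right hp.pos (by omega))
            omega
        rw [hs] at hval hle ⊢
        rw [show (2 * s + 1 - 1) / 2 = s by omega] at hval
        exact le_trans (Nat.mul_le_mul_left 2 (hle.trans hval)) (two_mul_three_pow_le_gNil s hs8)
  · have hHo : Odd (Fintype.card α) := by
      have h1 : (MulAction.orbit N a) = Set.univ := Set.eq_univ_of_forall fun x => by
        obtain ⟨g, hg, e⟩ := htr a x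
        exact ⟨⟨g, hg⟩, e⟩
      refine hodd.of_dvd_nat ?_
      rw [← Nat.card_eq_fintype_card, ← Nat.card_univ, ← h1, Nat.card_coe_set_eq,
        ← MulAction.index_stabilizer]
      exact Subgroup.index_dvd_card _
    rw [hnm] at hHo
    have hmo : Odd m := (Nat.odd_mul.mp hHo).2
    have hm3 : 3 ≤ m := by
      obtain ⟨r, hr⟩ := hmo
      omega
    have hne : p ^ (i + 1) ≠ m := fun e => hpm (e ▸ dvd_pow_self p (by omega))
    have hbig : p ^ (i + 1) + m + 2 ≤ p ^ (i + 1) * m := by
      obtain ⟨x, hx⟩ := Nat.exists_eq_add_of_le hq3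
      obtain ⟨y, hy⟩ := Nat.exists_eq_add_of_le hm3
      rw [hx, hy] at hne ⊢
      nlinarith
    have h11 : 11 ≤ p ^ (i + 1) * m := by
      obtain ⟨x, hx⟩ := Nat.exists_eq_add_of_le hq3
      obtain ⟨y, hy⟩ := Nat.exists_eq_add_of_le hm3
      rw [hx, hy] at hne ⊢
      rcases (by omega : 1 ≤ x ∨ 1 ≤ y) with h | h <;> nlinarith
    rw [hnm]
    refine ⟨fun e => by omega, fun e => by omega, fun e => by omega, fun _ _ _ => ?_⟩
    have h1 := hle.trans (Nat.mul_le_mul (pPart_le_gNil p i hp2) (card_le_gNil m H hm))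
    exact ((Nat.mul_le_mul_left 2 (h1.trans (gNil_mul_le _ _))).trans (two_mul_gNil_le _)).trans
      (gNil_mono hbig)

/-- Nilpotent groups of odd order have at most half the bound, outside four degrees. -/
theorem two_mul_card_le : ∀ (n : ℕ) {α : Type u} [Fintype α] (N : Subgroup (Perm α)) [Group.IsNilpotent N],
    Fintype.card α = n → Odd (Nat.card N) → Nat.card N ≠ 1 → n ≠ 3 → n ≠ 5 → n ≠ 6 → n ≠ 9 →
      2 * Nat.card N ≤ gNil n := by
  intro n
  induction n using Nat.strong_induction_on with
  | _ n ih =>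
    intro α _ N _ hn hodd hN1 h3 h5 h6 h9
    classical
    obtain ⟨a, g, hg, hga⟩ : ∃ a : α, ∃ g ∈ N, g a ≠ a := by
      by_contra hne
      push Not at hne
      exact hN1 ((Subgroup.eq_bot_iff_forall N).mpr (fun g hg => Equiv.ext fun x => hne x g hg) ▸
        Subgroup.card_bot)
    set s := MulAction.orbit N a with hs
    have hsinv : ∀ k ∈ N, ∀ x, x ∈ sᶜ ↔ k x ∈ sᶜ := fun k hk x => not_congr (orbit_inv N a k hk x)
    have hr1 : Group.IsNilpotent (restr N s (orbit_inv N a)).range :=
      Group.nilpotent_of_surjective _ (MonoidHom.rangeRestrict_surjective _)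
    have hr2 : Group.IsNilpotent (restr N sᶜ hsinv).range :=
      Group.nilpotent_of_surjective _ (MonoidHom.rangeRestrict_surjective _)
    have ho1 : Odd (Nat.card (restr N s (orbit_inv N a)).range) := hodd.of_dvd_nat (Subgroup.card_range_dvd _)
    have ho2 : Odd (Nat.card (restr N sᶜ hsinv).range) := hodd.of_dvd_nat (Subgroup.card_range_dvd _)
    have hsum := card_compl_eq s
    have hA : 2 ≤ Fintype.card s := Fintype.one_lt_card_iff.mpr
      ⟨⟨a, MulAction.mem_orbit_self a⟩, ⟨g a, ⟨⟨g, hg⟩, rfl⟩⟩, fun e => hga (congrArg Subtype.val e).symm⟩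
    have hAo : Odd (Fintype.card s) := by
      refine hodd.of_dvd_nat ?_
      rw [← Nat.card_eq_fintype_card, Nat.card_coe_set_eq, hs, ← MulAction.index_stabilizer]
      exact Subgroup.index_dvd_card _
    have htr : ∀ x y : s, ∃ k ∈ (restr N s (orbit_inv N a)).range, k x = y := by
      rintro ⟨_, k, rfl⟩ ⟨_, l, rfl⟩
      refine ⟨restr N s (orbit_inv N a) (l * k⁻¹), ⟨_, rfl⟩, Subtype.ext ?_⟩
      rw [restr_apply]
      show ((l : Perm α) * (k : Perm α)⁻¹) ((k : Perm α) a) = (l : Perm α) a
      simp
    obtain ⟨t3, t5, t9, tgen⟩ := transitive_odd_le _ htr ho1 hA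
    have hle := card_le_mul N s (orbit_inv N a)
    have e2 := card_le_gNil (Fintype.card (sᶜ : Set α)) (restr N sᶜ hsinv).range rfl
    have hmul := gNil_mul_le (Fintype.card s) (Fintype.card (sᶜ : Set α))
    rw [hsum, hn] at hmul
    by_cases hE : Fintype.card s = 3 ∨ Fintype.card s = 5 ∨ Fintype.card s = 9
    · have e1 := card_le_gNil (Fintype.card s) (restr N s (orbit_inv N a)).range rfl
      obtain ⟨e, he, heb⟩ : ∃ e, Nat.card (restr N s (orbit_inv N a)).range ≤ e ∧
          ((Fintype.card s = 3 ∧ e = 3) ∨ (Fintype.card s = 5 ∧ e = 5) ∨ (Fintype.card s = 9 ∧ e = 81)) := by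
        rcases hE with e | e | e
        · exact ⟨3, t3 e, Or.inl ⟨e, rfl⟩⟩
        · exact ⟨5, t5 e, Or.inr (Or.inl ⟨e, rfl⟩)⟩
        · exact ⟨81, t9 e, Or.inr (Or.inr ⟨e, rfl⟩)⟩
      by_cases h1 : Nat.card (restr N sᶜ hsinv).range = 1
      · have h2 : 2 * Nat.card N ≤ 2 * e := by
          have h7 := Nat.mul_le_mul he h1.le
          omega
        refine h2.trans ?_
        rcases heb with ⟨hA3, rfl⟩ | ⟨hA5, rfl⟩ | ⟨hA9, rfl⟩
        · have := gNil_mono (show 4 ≤ n by omega)
          rw [gNil_four] at this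
          omega
        · have := gNil_mono (show 6 ≤ n by omega)
          rw [gNil_six] at this
          omega
        · have := gNil_mono (show 10 ≤ n by omega)
          have h256 : 256 ≤ gNil 10 := by
            rw [gNil_of_ne (by norm_num), show 10 = 4 * 2 + 2 by norm_num, fTwo_four_mul_add_two,
              show 4 * 2 = 8 by norm_num, fTwo_eight]
          omega
      · by_cases hB : Fintype.card (sᶜ : Set α) = 3 ∨ Fintype.card (sᶜ : Set α) = 5 ∨
            Fintype.card (sᶜ : Set α) = 6 ∨ Fintype.card (sᶜ : Set α) = 9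
        · have h7 := hle.trans (Nat.mul_le_mul he e2)
          have g8 := gNil_eight
          have g11 := gNil_eleven
          have g15 := gNil_fifteen
          have g10 : gNil 10 = 256 := by
            rw [gNil_of_ne (by norm_num), show 10 = 4 * 2 + 2 by norm_num, fTwo_four_mul_add_two,
              show 4 * 2 = 8 by norm_num, fTwo_eight]
          have g12 : gNil 12 = 1024 := by rw [gNil_of_ne (by norm_num), fTwo_twelve]
          have g14 : gNil 14 = 2048 := by
            rw [gNil_of_ne (by norm_num), show 14 = 4 * 3 + 2 by norm_num, fTwo_four_mul_add_two,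
              show 4 * 3 = 12 by norm_num, fTwo_twelve]
          have g18 : gNil 18 = 65536 := by
            rw [gNil_of_ne (by norm_num), show 18 = 4 * 4 + 2 by norm_num, fTwo_four_mul_add_two,
              show 4 * 4 = 16 by norm_num, fTwo_sixteen]
          rcases heb with ⟨hA', rfl⟩ | ⟨hA', rfl⟩ | ⟨hA', rfl⟩ <;> rcases hB with hB | hB | hB | hB <;>
            rw [hB] at h7 hsum <;> rw [hA', hn] at hsum <;> subst hsum <;>
            simp only [gNil_three, gNil_five, gNil_six, gNil_nine, Nat.reduceAdd] at h7 h6 ⊢ <;> omega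
        · push Not at hB
          have e3 := ih (Fintype.card (sᶜ : Set α)) (by omega) (restr N sᶜ hsinv).range rfl ho2 h1
            hB.1 hB.2.1 hB.2.2.1 hB.2.2.2
          calc 2 * Nat.card N ≤ Nat.card (restr N s (orbit_inv N a)).range *
                (2 * Nat.card (restr N sᶜ hsinv).range) := by
                  rw [mul_left_comm]
                  exact Nat.mul_le_mul_left 2 hle
            _ ≤ gNil (Fintype.card s) * gNil (Fintype.card (sᶜ : Set α)) := Nat.mul_le_mul e1 e3
            _ ≤ _ := hmul
    · push Not at hE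
      calc 2 * Nat.card N ≤ 2 * Nat.card (restr N s (orbit_inv N a)).range *
            Nat.card (restr N sᶜ hsinv).range := by
              rw [mul_assoc]
              exact Nat.mul_le_mul_left 2 hle
        _ ≤ gNil (Fintype.card s) * gNil (Fintype.card (sᶜ : Set α)) :=
          Nat.mul_le_mul (tgen hE.1 hE.2.1 hE.2.2) e2
        _ ≤ _ := hmul

/-- A nilpotent group of even permutations has odd order or is half of a larger nilpotent group. -/
theorem dichotomy [Fintype α] [DecidableEq α] [Nontrivial α] (N : Subgroup (Perm α)) [Group.IsNilpotent N]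
    (hN : N ≤ alternatingGroup α) :
    (∃ N' : Subgroup (Perm α), Group.IsNilpotent N' ∧ N ≤ N' ∧ 2 * Nat.card N ≤ Nat.card N' ∧
      ¬ N' ≤ alternatingGroup α) ∨ Odd (Nat.card N) := by
  classical
  have : Fact (Nat.Prime 2) := ⟨Nat.prime_two⟩
  obtain ⟨P, H, hPN, -, hP, hc, hdec, hcard, hHodd, hHnil⟩ := exists_split_sub N 2
  set C := Subgroup.centralizer (H : Set (Perm α)) with hC
  have hPC : P ≤ C := fun x hx => Subgroup.mem_centralizer_iff.mpr fun y hy => (hc x hx y hy).symm
  by_cases hCA : C ≤ alternatingGroup α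
  · -- no involution centralises `H`
    refine Or.inr ?_
    have hP1 : Nat.card P = 1 := by
      by_contra hne
      obtain ⟨j, hj⟩ := IsPGroup.iff_card.mp hP
      have h2 : 2 ∣ Nat.card P := by
        rw [hj]
        exact dvd_pow_self 2 (fun e => hne (by rw [hj, e, pow_zero]))
      obtain ⟨⟨z, hz⟩, hzo⟩ := exists_prime_orderOf_dvd_card' 2 h2
      rw [Subgroup.orderOf_mk] at hzo
      have hz2 : z ^ 2 = 1 := by rw [← hzo]; exact pow_orderOf_eq_one z
      have hzz : ∀ x, z (z x) = x := fun x => by
        rw [← Equiv.Perm.mul_apply, ← pow_two, hz2]; rfl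
      have hzc : ∀ y ∈ H, ∀ x, z (y x) = y (z x) := fun y hy x => Equiv.congr_fun (hc z hz y hy) x
      obtain ⟨x, hx⟩ : ∃ x, z x ≠ x := by
        by_contra hne'
        push Not at hne'
        exact absurd hzo (by rw [show z = 1 from Equiv.ext hne', orderOf_one]; norm_num)
      set R := MulAction.orbit H x with hR
      have hinv := orbit_inv H x
      -- `z` moves `R`
      have hzR : ∀ r ∈ R, z r ∉ R := by
        intro r hr hzr
        have hmem : ∀ y ∈ R, z y ∈ R := by
          rintro _ ⟨k, rfl⟩
          obtain ⟨l, hl⟩ := hr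
          obtain ⟨w, hw⟩ := hzr
          refine ⟨k * l⁻¹ * w, ?_⟩
          show ((k : Perm α) * (l : Perm α)⁻¹ * (w : Perm α)) x = z ((k : Perm α) x)
          rw [Equiv.Perm.mul_apply, show (w : Perm α) x = z r from hw,
            show r = (l : Perm α) x from hl.symm, hzc _ l.2, Equiv.Perm.mul_apply, hzc _ k.2]
          simp
        have hz' : ∀ y, z y ∈ R ↔ y ∈ R := fun y => ⟨fun h => hzz y ▸ hmem _ h, hmem y⟩
        let zR : Perm R := z.subtypePerm hz'
        have hRodd : ¬ 2 ∣ Fintype.card R := fun h => hHodd (h.trans (by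
          rw [← Nat.card_eq_fintype_card, Nat.card_coe_set_eq, hR, ← MulAction.index_stabilizer]
          exact Subgroup.index_dvd_card _))
        obtain ⟨⟨f, hf⟩, hfix⟩ := Equiv.Perm.exists_fixed_point_of_prime (n := 1) hRodd
          (σ := zR) (by
            rw [pow_one, pow_two]
            refine Equiv.ext fun y => Subtype.ext ?_
            show z (z y) = y
            exact hzz y)
        have hzf : z f = f := congrArg Subtype.val hfix
        obtain ⟨k, rfl⟩ := hf
        refine hx ((k : Perm α).injective ?_)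
        rw [← hzc _ k.2]
        exact hzf
      -- the odd permutation
      set S : Set α := R ∪ z '' R with hS
      have hSz : ∀ y, z y ∈ S ↔ y ∈ S := by
        intro y
        constructor
        · rintro (h | ⟨r, hr, e⟩)
          · exact Or.inr ⟨z y, h, hzz y⟩
          · exact Or.inl (z.injective e ▸ hr)
        · rintro (h | ⟨r, hr, rfl⟩)
          · exact Or.inr ⟨y, h, rfl⟩
          · exact Or.inl (by rw [hzz]; exact hr)
      set c : Perm α := Equiv.Perm.ofSubtype (z.subtypePerm hSz : Perm {y // y ∈ S}) with hc'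
      have hcapp : ∀ y, c y = if y ∈ S then z y else y := by
        intro y
        by_cases h : y ∈ S
        · rw [if_pos h, hc', Equiv.Perm.ofSubtype_apply_of_mem _ h]
          rfl
        · rw [if_neg h, hc', Equiv.Perm.ofSubtype_apply_of_not_mem _ h]
      have hcC : c ∈ C := by
        refine Subgroup.mem_centralizer_iff.mpr fun k hk => Equiv.ext fun y => ?_
        have hkS : k y ∈ S ↔ y ∈ S := by
          refine or_congr (hinv k hk y).symm ⟨?_, ?_⟩
          · rintro ⟨r, hr, e⟩
            exact ⟨k⁻¹ r, (hinv k⁻¹ (inv_mem hk) r).mp hr, by rw [hzc _ (inv_mem hk), e]; simp⟩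
          · rintro ⟨r, hr, rfl⟩
            exact ⟨k r, (hinv k hk r).mp hr, hzc k hk r⟩
        rw [Equiv.Perm.mul_apply, Equiv.Perm.mul_apply, hcapp, hcapp]
        by_cases h : y ∈ S
        · rw [if_pos h, if_pos (hkS.mpr h), hzc k hk]
        · rw [if_neg h, if_neg (fun h' => h (hkS.mp h'))]
      have hc2 : c ^ 2 = 1 := by
        rw [pow_two]
        refine Equiv.ext fun y => ?_
        rw [Equiv.Perm.mul_apply, hcapp, hcapp y]
        by_cases h : y ∈ S
        · rw [if_pos h, if_pos ((hSz y).mpr h), hzz]; rfl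
        · rw [if_neg h, if_neg h]; rfl
      have hsupp : c.support = R.toFinset ∪ R.toFinset.image z := by
        ext y
        rw [Equiv.Perm.mem_support, hcapp]
        by_cases h : y ∈ S
        · rw [if_pos h]
          rcases h with h | ⟨r, hr, rfl⟩
          · simp only [Finset.mem_union, Set.mem_toFinset, h, true_or, iff_true]
            exact fun e => hzR y h (e.symm ▸ h)
          · simp only [Finset.mem_union, Finset.mem_image, Set.mem_toFinset, hzz]
            exact ⟨fun _ => Or.inr ⟨r, hr, rfl⟩, fun _ e => hzR r hr (e ▸ hr)⟩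
        · rw [if_neg h]
          simp only [ne_eq, not_true, Finset.mem_union, Finset.mem_image, Set.mem_toFinset, false_iff]
          rintro (h' | ⟨r, hr, rfl⟩)
          · exact h (Or.inl h')
          · exact h (Or.inr ⟨r, hr, rfl⟩)
      have hk := Equiv.Perm.cycleType_of_pow_prime_eq_one hc2
      have hsum := c.sum_cycleType
      rw [hk, Multiset.sum_replicate, hsupp, Finset.card_union_of_disjoint ?_,
        Finset.card_image_of_injective _ z.injective, Set.toFinset_card, smul_eq_mul] at hsum
      swap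
      · rw [Finset.disjoint_left]
        intro y hy hy'
        simp only [Finset.mem_image, Set.mem_toFinset] at hy hy'
        obtain ⟨r, hr, rfl⟩ := hy'
        exact hzR r hr hy
      have hRodd : Odd (Fintype.card R) := by
        refine (Nat.odd_iff.mpr (by omega : Nat.card H % 2 = 1)).of_dvd_nat ?_
        rw [← Nat.card_eq_fintype_card, Nat.card_coe_set_eq, hR, ← MulAction.index_stabilizer]
        exact Subgroup.index_dvd_card _
      have hsign : Equiv.Perm.sign c = -1 := by
        rw [Equiv.Perm.sign_of_cycleType, hk, Multiset.sum_replicate, Multiset.card_replicate, smul_eq_mul]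
        refine Odd.neg_one_pow ?_
        rw [show Multiset.card c.cycleType = Fintype.card R by omega]
        obtain ⟨r, hr⟩ := hRodd
        exact ⟨3 * r + 1, by omega⟩
      exact absurd (Equiv.Perm.mem_alternatingGroup.mp (hCA hcC)) (by rw [hsign]; decide)
    rw [hcard, hP1, one_mul]
    exact Nat.odd_iff.mpr (by omega)
  · refine Or.inl ?_
    obtain ⟨c, hcC, hcA⟩ := SetLike.not_le_iff_exists.mp hCA
    have hPC' : IsPGroup 2 (P.subgroupOf C) := hP.comap_of_injective _ C.subtype_injective
    obtain ⟨Q, hQ⟩ := hPC'.exists_le_sylow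
    set Q' := (Q : Subgroup C).map C.subtype with hQ'
    have hQ'C : Q' ≤ C := Subgroup.map_subtype_le _
    have hPQ : P ≤ Q' := fun x hx => ⟨⟨x, hPC hx⟩, hQ (Subgroup.mem_subgroupOf.mpr hx), rfl⟩
    have hQA : ¬ Q' ≤ alternatingGroup α := by
      intro hle
      let χ : C →* ℤˣ := Equiv.Perm.sign.comp C.subtype
      have hker : ∀ x, x ∈ χ.ker ↔ (x : Perm α) ∈ alternatingGroup α := fun x =>
        MonoidHom.mem_ker.trans Equiv.Perm.mem_alternatingGroup.symm
      have h1 : (Q : Subgroup C) ≤ χ.ker := fun x hx => (hker x).mpr (hle ⟨x, hx, rfl⟩)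
      have h2 : χ.ker.index ∣ 2 := by
        rw [Subgroup.index_ker]
        exact (Subgroup.card_subgroup_dvd_card _).trans (by rw [Nat.card_eq_fintype_card]; rfl)
      rcases (Nat.dvd_prime Nat.prime_two).mp h2 with h | h
      · exact hcA ((hker ⟨c, hcC⟩).mp (Subgroup.index_eq_one.mp h ▸ Subgroup.mem_top _))
      · refine Q.not_dvd_index ?_
        have h3 := Subgroup.index_dvd_of_le h1
        rwa [h] at h3
    let φ : Q' × H →* Perm α := MonoidHom.noncommCoprod Q'.subtype H.subtype
      (fun x y => (Subgroup.mem_centralizer_iff.mp (hQ'C x.2) y y.2).symm)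
    have hdisj : ∀ x : Q', ∀ y : H, (x : Perm α) = y → x = 1 := by
      intro x y e
      have ho : orderOf x = orderOf y := by rw [← Subgroup.orderOf_coe, e, Subgroup.orderOf_coe]
      obtain ⟨j, hj⟩ := IsPGroup.iff_orderOf.mp (Q.2.map C.subtype) x
      rw [← orderOf_eq_one_iff]
      refine Nat.eq_one_of_dvd_coprimes (Nat.Coprime.pow_left j (Nat.prime_two.coprime_iff_not_dvd.mpr hHodd))
        (hj ▸ dvd_rfl) (ho ▸ orderOf_dvd_natCard y)
    have hφ : Function.Injective φ := by
      refine (injective_iff_map_eq_one _).mpr fun z hz => ?_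
      have h1 : (z.1 : Perm α) = ((z.2⁻¹ : H) : Perm α) := mul_eq_one_iff_eq_inv.mp hz
      have h2 := hdisj _ _ h1
      refine Prod.ext h2 ?_
      rw [h2] at h1
      exact inv_eq_one.mp (Subtype.ext h1.symm)
    have hQnil : Group.IsNilpotent Q' := (Q.2.map C.subtype).isNilpotent
    refine ⟨φ.range, Group.nilpotent_of_surjective _ φ.rangeRestrict_surjective, ?_, ?_, ?_⟩
    · intro g hg
      obtain ⟨x, hx, y, hy, rfl⟩ := hdec g hg
      exact ⟨(⟨x, hPQ hx⟩, ⟨y, hy⟩), rfl⟩
    · rw [← Nat.card_congr (MonoidHom.ofInjective hφ).toEquiv, Nat.card_prod, hcard, ← mul_assoc]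
      refine Nat.mul_le_mul_right _ ?_
      have h1 : (P.subgroupOf Q').index ≠ 1 := fun h => hQA (fun x hx =>
        hN (hPN (Subgroup.subgroupOf_eq_top.mp (Subgroup.index_eq_one.mp h) hx)))
      have h2 := (P.subgroupOf Q').card_mul_index
      rw [Nat.card_congr (Subgroup.subgroupOfEquivOfLe hPQ).toEquiv] at h2
      rw [← h2, mul_comm]
      refine Nat.mul_le_mul_left _ ?_
      have : (P.subgroupOf Q').index ≠ 0 := Subgroup.index_ne_zero_of_finite
      omega
    · intro hle
      refine hQA fun x hx => hle ⟨(⟨x, hx⟩, 1), ?_⟩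
      show x * 1 = x
      exact mul_one x

end Cfsg.Agent.Lib.FusionControl.NilpotentPerm
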