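import Mathlib
import Cfsg.Agent.Lib.FusionControl.NilpotentPermAlt

/-!
Nilpotent subgroups attaining the bound on `4k + 3` points.
-/

set_option autoImplicit false

universe u

namespace Cfsg.Agent.Lib.FusionControl.NilpotentPerm

open Equiv

variable {α : Type u} [Fintype α] [DecidableEq α]

theorem card_sylow_perm (P : Sylow 2 (Perm α)) : Nat.card P = fTwo (Fintype.card α) := by
  rw [Sylow.card_eq_multiplicity, Nat.card_perm, Nat.card_eq_fintype_card, fTwo,
    Nat.factorization_def _ Nat.prime_two]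

theorem two_mul_card_sylow_alternating [Nontrivial α] (P : Sylow 2 (alternatingGroup α)) :
    2 * Nat.card P = fTwo (Fintype.card α) := by
  have h := two_mul_nat_card_alternatingGroup (α := α)
  rw [Nat.card_perm] at h
  have h2 : Nat.card (alternatingGroup α) ≠ 0 := Nat.card_pos.ne'
  rw [Sylow.card_eq_multiplicity, Nat.factorization_def _ Nat.prime_two, fTwo, ← Nat.card_eq_fintype_card (α := α),
    ← h]
  have : Fact (Nat.Prime 2) := ⟨Nat.prime_two⟩
  rw [padicValNat.mul (by norm_num) h2, padicValNat.self (by norm_num), pow_add, pow_one]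

/-- The shape of a nilpotent subgroup of largest order. -/
theorem structure_of_eq {k : ℕ} (hn : Fintype.card α = 4 * k + 3) (N : Subgroup (Perm α))
    [Group.IsNilpotent N] (hN : Nat.card N = 3 * fTwo (4 * k)) :
    ∃ x : Perm α, x.cycleType = {3} ∧ x ∈ N ∧ ∃ P : Subgroup (Perm α), P ≤ N ∧ IsPGroup 2 P ∧
      P ≤ Subgroup.centralizer ({x} : Set (Perm α)) ∧ Nat.card P = fTwo (4 * k) ∧
      N = P ⊔ Subgroup.zpowers x := by
  have : Fact (Nat.Prime 2) := ⟨Nat.prime_two⟩
  have : Fact (Nat.Prime 3) := ⟨Nat.prime_three⟩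
  obtain ⟨P, H, hPN, hHN, hP, hc, hdec, hcard, hHodd, -⟩ := exists_split_sub N 2
  obtain ⟨j, hj⟩ := IsPGroup.iff_card.mp hP
  -- the odd part has order three
  have hH3 : Nat.card H = 3 := by
    rw [hcard, hj, fTwo] at hN
    have h1 : Nat.card H ∣ 3 := by
      refine (Nat.Coprime.dvd_of_dvd_mul_right (n := 2 ^ padicValNat 2 (4 * k).factorial) ?_ ⟨2 ^ j, by rw [← hN]; ring⟩)
      exact ((Nat.prime_two.coprime_iff_not_dvd.mpr hHodd).symm).pow_right _
    rcases (Nat.dvd_prime Nat.prime_three).mp h1 with h | h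
    · rw [h, mul_one] at hN
      have h3 : 3 ∣ 2 ^ j := ⟨_, hN⟩
      exact absurd (Nat.prime_three.dvd_of_dvd_pow h3) (by norm_num)
    · exact h
  have hPcard : Nat.card P = fTwo (4 * k) := by
    rw [hcard, hH3, mul_comm 3] at hN
    exact Nat.eq_of_mul_eq_mul_right (by norm_num) hN
  obtain ⟨⟨x, hx⟩, hxo⟩ := exists_prime_orderOf_dvd_card' (G := H) 3 (hH3 ▸ dvd_rfl)
  rw [Subgroup.orderOf_mk] at hxo
  have hHx : Subgroup.zpowers x = H :=
    Subgroup.eq_of_le_of_card_ge (Subgroup.zpowers_le.mpr hx) (by rw [Nat.card_zpowers, hxo, hH3])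
  have hPC : P ≤ Subgroup.centralizer ({x} : Set (Perm α)) := fun u hu =>
    Subgroup.mem_centralizer_singleton_iff.mpr (hc u hu x hx)
  obtain ⟨r, hr⟩ := Equiv.Perm.cycleType_prime_order (σ := x) (by rw [hxo]; exact Nat.prime_three)
  rw [hxo] at hr
  have hCcard : Nat.card (Subgroup.centralizer ({x} : Set (Perm α))) =
      (4 * k + 3 - 3 * (r + 1)).factorial * 3 ^ (r + 1) * (r + 1).factorial := by
    rw [Equiv.Perm.nat_card_centralizer, hn, hr, Multiset.sum_replicate, Multiset.prod_replicate,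
      Multiset.toFinset_replicate, if_neg (by omega), Finset.prod_singleton, Multiset.count_replicate_self,
      smul_eq_mul, mul_comm (r + 1) 3]
  have hle : 3 * (r + 1) ≤ 4 * k + 3 := by
    have := x.sum_cycleType_le
    rw [hr, Multiset.sum_replicate, smul_eq_mul, hn] at this
    omega
  have hr0 : r = 0 := by
    by_contra hr0
    have h1 : Nat.card P ∣ Nat.card (Subgroup.centralizer ({x} : Set (Perm α))) := Subgroup.card_dvd_of_le hPC
    rw [hCcard, hj] at h1
    have h2 := (padicValNat_dvd_iff_le (by positivity)).mp h1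
    rw [padicValNat.mul (by positivity) (by positivity), padicValNat.mul (by positivity) (by positivity)] at h2
    have h3 : padicValNat 2 (3 ^ (r + 1)) = 0 := padicValNat.eq_zero_of_not_dvd
      (fun h => by have := Nat.prime_two.dvd_of_dvd_pow h; omega)
    rw [h3, add_zero] at h2
    have h4 := Nat.pow_le_pow_right (n := 2) (by norm_num) h2
    rw [← hj, hPcard, pow_add] at h4
    change fTwo (4 * k) ≤ fTwo (4 * k + 3 - 3 * (r + 1)) * fTwo (r + 1) at h4
    have h5 := h4.trans ((fTwo_mul_le _ _).trans (fTwo_mono (show 4 * k + 3 - 3 * (r + 1) + (r + 1) ≤ 4 * k - 1 by omega)))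
    obtain ⟨l, rfl⟩ := Nat.exists_eq_succ_of_ne_zero (show k ≠ 0 by omega)
    rw [show 4 * (l + 1) - 1 = 4 * l + 3 by omega, fTwo_four_mul_add_three,
      show 4 * (l + 1) = 4 * l + 4 by ring] at h5
    have h6 := fTwo_mul_le (4 * l) 4
    rw [fTwo_four] at h6
    have := fTwo_pos (4 * l)
    omega
  subst hr0
  refine ⟨x, by rw [hr]; rfl, hHN hx, P, hPN, hP, hPC, hPcard, le_antisymm ?_ ?_⟩
  · intro g hg
    obtain ⟨u, hu, v, hv, rfl⟩ := hdec g hg
    exact mul_mem (Subgroup.mem_sup_left hu) (Subgroup.mem_sup_right (hHx.symm ▸ hv))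
  · exact sup_le hPN (Subgroup.zpowers_le.mpr (hHN hx))

/-- Two nilpotent subgroups of largest order are conjugate. -/
theorem conj_of_eq {k : ℕ} (hn : Fintype.card α = 4 * k + 3) (N₁ N₂ : Subgroup (Perm α))
    [Group.IsNilpotent N₁] [Group.IsNilpotent N₂] (h1 : Nat.card N₁ = 3 * fTwo (4 * k))
    (h2 : Nat.card N₂ = 3 * fTwo (4 * k)) : ∃ g : Perm α, N₂ = N₁.map (MulAut.conj g).toMonoidHom := by
  have : Fact (Nat.Prime 2) := ⟨Nat.prime_two⟩
  obtain ⟨x₁, hx₁, -, P₁, -, hP₁, hc₁, hk₁, e₁⟩ := structure_of_eq hn N₁ h1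
  obtain ⟨x₂, hx₂, -, P₂, -, hP₂, hc₂, hk₂, e₂⟩ := structure_of_eq hn N₂ h2
  obtain ⟨g, hg⟩ := isConj_iff.mp (Equiv.Perm.isConj_iff_cycleType_eq.mpr (hx₁.trans hx₂.symm))
  set C := Subgroup.centralizer ({x₂} : Set (Perm α)) with hC
  set P₀ := P₁.map (MulAut.conj g).toMonoidHom with hP₀
  have hc₀ : P₀ ≤ C := by
    rintro _ ⟨u, hu, rfl⟩
    refine Subgroup.mem_centralizer_singleton_iff.mpr ?_
    have := Subgroup.mem_centralizer_singleton_iff.mp (hc₁ hu)
    rw [← hg]
    show g * u * g⁻¹ * (g * x₁ * g⁻¹) = g * x₁ * g⁻¹ * (g * u * g⁻¹)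
    simp only [mul_assoc, inv_mul_cancel_left]
    rw [← mul_assoc u, this, mul_assoc x₁]
  have hk₀ : Nat.card P₀ = fTwo (4 * k) := by
    rw [hP₀, Subgroup.card_map_of_injective (MulAut.conj g).injective, hk₁]
  have hCv : (Nat.card C).factorization 2 = padicValNat 2 (4 * k).factorial := by
    rw [hC, Equiv.Perm.nat_card_centralizer, hn, hx₂, Multiset.sum_singleton, Multiset.prod_singleton,
      Multiset.toFinset_singleton, Finset.prod_singleton, Multiset.count_singleton_self, Nat.factorial_one,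
      mul_one, Nat.add_sub_cancel, Nat.factorization_def _ Nat.prime_two,
      padicValNat.mul (Nat.factorial_ne_zero _) (by norm_num),
      padicValNat.eq_zero_of_not_dvd (by norm_num : ¬ 2 ∣ 3), add_zero]
  have hsyl : ∀ (R : Subgroup (Perm α)), IsPGroup 2 R → R ≤ C → Nat.card R = fTwo (4 * k) →
      ∃ Q : Sylow 2 C, (Q : Subgroup C) = R.subgroupOf C := by
    intro R hR hRC hRk
    refine ⟨Sylow.ofCard (R.subgroupOf C) ?_, rfl⟩
    rw [Nat.card_congr (Subgroup.subgroupOfEquivOfLe hRC).toEquiv, hRk, hCv]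
    rfl
  obtain ⟨Q₀, hQ₀⟩ := hsyl P₀ (hP₁.map _) hc₀ hk₀
  obtain ⟨Q₂, hQ₂⟩ := hsyl P₂ hP₂ hc₂ hk₂
  obtain ⟨d, hd⟩ := MulAction.exists_smul_eq C Q₀ Q₂
  have hd' : P₀.map (MulAut.conj (d : Perm α)).toMonoidHom = P₂ := by
    refine Subgroup.eq_of_le_of_card_ge ?_ (by
      rw [Subgroup.card_map_of_injective (MulAut.conj (d : Perm α)).injective, hk₀, hk₂])
    rintro _ ⟨u, hu, rfl⟩
    have h3 : d * ⟨u, hc₀ hu⟩ * d⁻¹ ∈ (Q₂ : Subgroup C) := by
      rw [← hd, Sylow.coe_subgroup_smul]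
      exact Subgroup.smul_mem_pointwise_smul _ (MulAut.conj d) _ (hQ₀.symm ▸ (Subgroup.mem_subgroupOf.mpr hu) : (⟨u, hc₀ hu⟩ : C) ∈ (Q₀ : Subgroup C))
    rw [hQ₂] at h3
    exact Subgroup.mem_subgroupOf.mp h3
  refine ⟨(d : Perm α) * g, ?_⟩
  rw [e₁, e₂, map_mul, show ((MulAut.conj (d : Perm α) * MulAut.conj g).toMonoidHom : Perm α →* Perm α) =
    (MulAut.conj (d : Perm α)).toMonoidHom.comp (MulAut.conj g).toMonoidHom from rfl, ← Subgroup.map_map,
    Subgroup.map_sup, Subgroup.map_sup, hd', MonoidHom.map_zpowers, MonoidHom.map_zpowers]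
  congr 2
  have := Subgroup.mem_centralizer_singleton_iff.mp d.2
  show x₂ = (d : Perm α) * (g * x₁ * g⁻¹) * (d : Perm α)⁻¹
  rw [hg, this, mul_inv_cancel_right]

/-- A nilpotent subgroup of largest order. -/
theorem exists_max {k : ℕ} (hn : Fintype.card α = 4 * k + 3) (S : Subgroup (Perm (Fin (4 * k))))
    (hS : IsPGroup 2 S) :
    ∃ φ : S × Multiplicative (ZMod 3) →* Perm α, Function.Injective φ ∧
      Group.IsNilpotent φ.range ∧ (S ≤ alternatingGroup (Fin (4 * k)) → φ.range ≤ alternatingGroup α) := by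
  obtain ⟨e⟩ : Nonempty ((Fin (4 * k) ⊕ ZMod 3) ≃ α) := ⟨Fintype.equivOfCardEq (by simp [hn])⟩
  let τ : Multiplicative (ZMod 3) →* Perm (ZMod 3) :=
    { toFun := fun c => Equiv.addRight c.toAdd
      map_one' := by ext; simp
      map_mul' := fun a b => by
        refine Equiv.ext fun y => ?_
        simp [Equiv.Perm.mul_apply, add_assoc, add_comm b.toAdd] }
  let φ : S × Multiplicative (ZMod 3) →* Perm α :=
    { toFun := fun z => e.permCongr (Equiv.sumCongr (z.1 : Perm (Fin (4 * k))) (τ z.2))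
      map_one' := by
        refine Equiv.ext fun y => e.symm.injective ?_
        simp only [Equiv.permCongr_apply, Equiv.symm_apply_apply, Equiv.Perm.one_apply]
        rcases e.symm y with w | w <;> simp
      map_mul' := fun a b => by
        refine Equiv.ext fun y => ?_
        rw [Equiv.Perm.mul_apply]
        simp only [Equiv.permCongr_apply, Equiv.symm_apply_apply]
        rcases e.symm y with w | w <;> simp }
  have hφ : Function.Injective φ := by
    intro a b h
    have h' : ∀ y, (Equiv.sumCongr (a.1 : Perm (Fin (4 * k))) (τ a.2)) y =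
        (Equiv.sumCongr (b.1 : Perm (Fin (4 * k))) (τ b.2)) y := fun y => by
      have h0 := Equiv.congr_fun h (e y)
      simpa [φ, Equiv.permCongr_apply] using h0
    refine Prod.ext (Subtype.ext (Equiv.ext fun w => ?_)) ?_
    · simpa using h' (Sum.inl w)
    · have := h' (Sum.inr 0)
      simpa [τ] using this
  have : Group.IsNilpotent S := hS.isNilpotent
  have : IsMulCommutative (Multiplicative (ZMod 3)) := ⟨⟨mul_comm⟩⟩
  refine ⟨φ, hφ, Group.nilpotent_of_surjective _ φ.rangeRestrict_surjective, fun hA => ?_⟩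
  rintro _ ⟨⟨u, c⟩, rfl⟩
  rw [Equiv.Perm.mem_alternatingGroup]
  show Equiv.Perm.sign (e.permCongr _) = 1
  rw [Equiv.Perm.sign_permCongr, Equiv.Perm.sign_sumCongr,
    Equiv.Perm.mem_alternatingGroup.mp (hA u.2), one_mul]
  have h3 : (τ c) ^ 3 = 1 := by
    rw [← map_pow]
    have : c ^ 3 = 1 := by
      have := pow_card_eq_one (x := c)
      simpa using this
    rw [this, map_one]
  have := congrArg Equiv.Perm.sign h3
  rw [map_pow, map_one] at this
  rcases Int.units_eq_one_or (Equiv.Perm.sign (τ c)) with h | h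
  · exact h
  · rw [h] at this
    exact absurd this (by decide)

end Cfsg.Agent.Lib.FusionControl.NilpotentPerm
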