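import Cfsg.Agent.Lib.FusionControl.Transvection

/-!
A pair of non-commuting offenders of prime order generates `SL₂(p)`, `p ≤ 3`, acting naturally on
a plane of `V`, and is normalised by `H`.
-/

set_option autoImplicit false

open scoped IsMulCommutative commutatorElement

namespace Cfsg.Agent.Lib.FusionControl.CoprimeOffender

universe u

variable {G : Type u} [Group G] {p : ℕ} {V H X Y : Subgroup G}

/-- `⟨X^k : k ∈ K⟩` -/
def EX (p : ℕ) (H X : Subgroup G) : Subgroup G := ⨆ k : ↥(K0 p H), cj (k : G) X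

/-- coordinates with respect to a pair of elements of order `p` -/
def crd (c₁ c₂ : G) (i j : ZMod p) : G := c₁ ^ i.val * c₂ ^ j.val

/-- upper unitriangular element -/
def uel (x : ZMod p) : Matrix.SpecialLinearGroup (Fin 2) (ZMod p) :=
  ⟨!![1, x; 0, 1], by simp [Matrix.det_fin_two]⟩

/-- lower unitriangular element -/
def lel (x : ZMod p) : Matrix.SpecialLinearGroup (Fin 2) (ZMod p) :=
  ⟨!![1, 0; x, 1], by simp [Matrix.det_fin_two]⟩

theorem uel_coe (x : ZMod p) :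
    ((uel x : Matrix.SpecialLinearGroup (Fin 2) (ZMod p)) : Matrix (Fin 2) (Fin 2) (ZMod p)) = !![1, x; 0, 1] := rfl

theorem lel_coe (x : ZMod p) :
    ((lel x : Matrix.SpecialLinearGroup (Fin 2) (ZMod p)) : Matrix (Fin 2) (Fin 2) (ZMod p)) = !![1, 0; x, 1] := rfl

theorem uel_mul (x y : ZMod p) : uel x * uel y = uel (x + y) := by
  refine Subtype.ext ?_
  ext i j
  fin_cases i <;> fin_cases j <;> simp [uel_coe, Matrix.mul_apply, Fin.sum_univ_two] <;> ring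

theorem lel_mul (x y : ZMod p) : lel x * lel y = lel (x + y) := by
  refine Subtype.ext ?_
  ext i j
  fin_cases i <;> fin_cases j <;> simp [lel_coe, Matrix.mul_apply, Fin.sum_univ_two] <;> ring

theorem uel_zero : uel (0 : ZMod p) = 1 := Subtype.ext (by simp [uel, Matrix.one_fin_two])

theorem lel_zero : lel (0 : ZMod p) = 1 := Subtype.ext (by simp [lel, Matrix.one_fin_two])

theorem uel_pow (x : ZMod p) (n : ℕ) : uel x ^ n = uel ((n : ZMod p) * x) := by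
  induction n with
  | zero => simp [uel_zero]
  | succ n ih => rw [pow_succ, ih, uel_mul]; congr 1; push_cast; ring

theorem lel_pow (x : ZMod p) (n : ℕ) : lel x ^ n = lel ((n : ZMod p) * x) := by
  induction n with
  | zero => simp [lel_zero]
  | succ n ih => rw [pow_succ, ih, lel_mul]; congr 1; push_cast; ring

theorem pow_val_natCast [NeZero p] {c : G} (hcp : c ^ p = 1) (n : ℕ) :
    c ^ (n : ZMod p).val = c ^ n := by
  rw [ZMod.val_natCast, ← pow_eq_pow_mod n hcp]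

theorem pow_val_add [NeZero p] {c : G} (hcp : c ^ p = 1) (i j : ZMod p) :
    c ^ (i + j).val = c ^ i.val * c ^ j.val := by
  rw [ZMod.val_add, ← pow_eq_pow_mod _ hcp, pow_add]

variable [Finite G] [hp : Fact p.Prime]

theorem Ctx.le_normalizer_of_le_V (hc : Ctx p V H) {A B : Subgroup G} (hA : A ≤ V) (hB : B ≤ V) :
    A ≤ Subgroup.normalizer (B : Set G) := by
  intro w hw
  rw [Subgroup.mem_normalizer_iff]
  intro y
  constructor
  · intro hy
    rwa [hc.comm_V (hA hw) (hB hy), mul_inv_cancel_right]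
  · intro hy
    have e : w * y * w⁻¹ = y := by
      calc w * y * w⁻¹ = w⁻¹ * (w * (w * y * w⁻¹)) := by group
        _ = w⁻¹ * ((w * y * w⁻¹) * w) := by rw [hc.comm_V (hA hw) (hB hy)]
        _ = y := by group
    rwa [e] at hy

theorem Ctx.mem_sup_V (hc : Ctx p V H) {A B : Subgroup G} (hA : A ≤ V) (hB : B ≤ V) {x : G}
    (hx : x ∈ A ⊔ B) : ∃ a ∈ A, ∃ b ∈ B, x = a * b := by
  have hx' : x ∈ (↑(A ⊔ B) : Set G) := hx
  rw [Subgroup.coe_mul_of_left_le_normalizer_right A B (hc.le_normalizer_of_le_V hA hB)] at hx'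
  obtain ⟨a, ha, b, hb, e⟩ := hx'
  exact ⟨a, ha, b, hb, e.symm⟩

theorem Ctx.exists_move (hc : Ctx p V H) (hX : IsTv p V H X) :
    ∃ k ∈ K0 p H, ∃ a ∈ X, a * k ≠ k * a := by
  by_contra hno
  push_neg at hno
  obtain ⟨a, ha, ha1⟩ := hX.exists_gen
  exact ha1 (hc.inf_goodIn hX.le hX.elem ha fun B hB => by
    obtain ⟨k, hk, -, b, hb, hne⟩ := hB.2
    exact absurd (hno k hk b hb) hne)

/-- Data of a hyperbolic pair. -/
structure Hyp (p : ℕ) (V H X Y : Subgroup G) : Prop where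
  tv₁ : IsTv p V H X
  tv₂ : IsTv p V H Y
  not₁ : ¬ Ce V X ≤ Ax V Y
  not₂ : ¬ Ce V Y ≤ Ax V X

/-- the plane -/
def plane (V X Y : Subgroup G) : Subgroup G := Ce V X ⊔ Ce V Y

/-- the common axis -/
def fixU (V X Y : Subgroup G) : Subgroup G := Ax V X ⊓ Ax V Y

namespace Hyp

variable {hc : Ctx p V H}

theorem plane_le (h : Hyp p V H X Y) (hc : Ctx p V H) : plane V X Y ≤ V :=
  sup_le (h.tv₁.ce_le_V hc) (h.tv₂.ce_le_V hc)

theorem plane_inf_fix (h : Hyp p V H X Y) (hc : Ctx p V H) : plane V X Y ⊓ fixU V X Y = ⊥ := by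
  refine le_bot_iff.mp fun x hx => ?_
  obtain ⟨c₁, h1, c₂, h2, rfl⟩ := hc.mem_sup_V (h.tv₁.ce_le_V hc) (h.tv₂.ce_le_V hc) hx.1
  have e2 : c₂ ∈ (⊥ : Subgroup G) := h.tv₂.ce_inf_eq_bot_of_not_le hc h.not₂ ▸
    (⟨h2, by
      have := mul_mem (inv_mem (h.tv₁.ce_le_ax hc h1)) hx.2.1
      rwa [inv_mul_cancel_left] at this⟩ : c₂ ∈ Ce V Y ⊓ Ax V X)
  rw [Subgroup.mem_bot] at e2
  subst e2
  rw [mul_one] at hx ⊢
  exact h.tv₁.ce_inf_eq_bot_of_not_le hc h.not₁ ▸ (⟨h1, hx.2.2⟩ : c₁ ∈ Ce V X ⊓ Ax V Y)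

theorem ce_disjoint (h : Hyp p V H X Y) (hc : Ctx p V H) : Disjoint (Ce V X) (Ce V Y) :=
  (disjoint_iff.mpr (h.tv₁.ce_inf_eq_bot_of_not_le hc h.not₁)).mono_right (h.tv₂.ce_le_ax hc)

theorem card_plane (h : Hyp p V H X Y) (hc : Ctx p V H) : Nat.card ↥(plane V X Y) = p * p := by
  rw [show p * p = Nat.card (↥(Ce V X) × ↥(Ce V Y)) by
    rw [Nat.card_prod, h.tv₁.card_ce hc, h.tv₂.card_ce hc]]
  refine (Nat.card_congr (Equiv.ofBijective
    (fun q : ↥(Ce V X) × ↥(Ce V Y) =>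
      (⟨q.1 * q.2, Subgroup.mul_mem_sup q.1.2 q.2.2⟩ : ↥(plane V X Y))) ⟨?_, ?_⟩)).symm
  · intro q q' e
    exact Subgroup.mul_injective_of_disjoint (h.ce_disjoint hc) (congrArg Subtype.val e)
  · intro x
    obtain ⟨a, ha, b, hb, e⟩ := hc.mem_sup_V (h.tv₁.ce_le_V hc) (h.tv₂.ce_le_V hc) x.2
    exact ⟨(⟨a, ha⟩, ⟨b, hb⟩), Subtype.ext e.symm⟩

theorem plane_sup_fix (h : Hyp p V H X Y) (hc : Ctx p V H) : plane V X Y ⊔ fixU V X Y = V := by
  refine Subgroup.eq_of_le_of_card_ge (sup_le (h.plane_le hc) (inf_le_left.trans inf_le_left)) ?_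
  have h1 := Subgroup.relIndex_inf_le (H := Ax V X) (K := Ax V Y) (L := V)
  rw [h.tv₁.relIndex_ax, h.tv₂.relIndex_ax] at h1
  have h2 : Nat.card ↥(fixU V X Y) * (fixU V X Y).relIndex V = Nat.card V := by
    rw [← Subgroup.relIndex_bot_left (fixU V X Y), ← Subgroup.relIndex_bot_left V]
    exact Subgroup.relIndex_mul_relIndex ⊥ _ V bot_le (inf_le_left.trans inf_le_left)
  calc Nat.card V ≤ Nat.card ↥(fixU V X Y) * (p * p) := h2 ▸ Nat.mul_le_mul_left _ h1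
    _ = Nat.card (↥(plane V X Y) × ↥(fixU V X Y)) := by
      rw [Nat.card_prod, h.card_plane hc, mul_comm]
    _ ≤ Nat.card ↥(plane V X Y ⊔ fixU V X Y) := Nat.card_le_card_of_injective
      (fun q => ⟨q.1 * q.2, Subgroup.mul_mem_sup q.1.2 q.2.2⟩)
      fun q q' e => Subgroup.mul_injective_of_disjoint (disjoint_iff.mpr (h.plane_inf_fix hc))
        (congrArg Subtype.val e)

/-- Every point of the plane is the centre of an offender inside `X ⊔ Y`. -/
theorem exists_point (h : Hyp p V H X Y) (hc : Ctx p V H) {w : G} (hw : w ∈ plane V X Y)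
    (hw1 : w ≠ 1) : ∃ P, (P = Y ∨ ∃ b ∈ Y, P = cj b X) ∧ IsTv p V H P ∧ w ∈ Ce V P := by
  obtain ⟨c₁, h1, c₂, h2, rfl⟩ := hc.mem_sup_V (h.tv₁.ce_le_V hc) (h.tv₂.ce_le_V hc) hw
  rcases eq_or_ne c₁ 1 with rfl | hc1
  · exact ⟨Y, Or.inl rfl, h.tv₂, by rwa [one_mul]⟩
  obtain ⟨b₀, hb₀, hb₀1⟩ := h.tv₂.exists_gen
  have hc1V := h.tv₁.ce_le_V hc h1
  set e := ⁅b₀, c₁⁆ with he
  have he1 : e ≠ 1 := fun e1 => h.not₁
    (h.tv₁.le_of_mem hc h1 hc1 ((h.tv₂.bracket_eq_one_iff hb₀ hb₀1 hc1V).mp e1))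
  have heY : e ∈ Ce V Y := IsTv.bracket_mem_ce hb₀ hc1V
  obtain ⟨n, hn⟩ : ∃ n : ℕ, e ^ n = c₂ := by
    rw [← h.tv₂.zpowers_ce hc heY he1] at h2
    exact mem_powers_iff_mem_zpowers.mpr h2
  have hb : b₀ ^ n ∈ Y := pow_mem hb₀ n
  have key : ∀ m : ℕ, b₀ ^ m * c₁ * (b₀ ^ m)⁻¹ = e ^ m * c₁ := by
    intro m
    induction m with
    | zero => simp
    | succ m ih =>
      have ec : Commute b₀ (e ^ m) := Commute.pow_right (h.tv₂.commute_bracket hc hb₀ hb₀ hc1V) m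
      calc b₀ ^ (m + 1) * c₁ * (b₀ ^ (m + 1))⁻¹ = b₀ * (b₀ ^ m * c₁ * (b₀ ^ m)⁻¹) * b₀⁻¹ := by
            rw [pow_succ' b₀ m]; group
        _ = (b₀ * e ^ m) * c₁ * b₀⁻¹ := by rw [ih]; group
        _ = e ^ m * (b₀ * c₁ * b₀⁻¹ * c₁⁻¹) * c₁ := by rw [ec.eq]; group
        _ = e ^ (m + 1) * c₁ := by rw [pow_succ e m, he, commutatorElement_def]
  refine ⟨cj (b₀ ^ n) X, Or.inr ⟨_, hb, rfl⟩, h.tv₁.conj hc (h.tv₂.le hb), ?_⟩
  rw [hc.comm_V hc1V (h.tv₂.ce_le_V hc h2), ← hn, ← key n]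
  have hcm : Ce V (cj (b₀ ^ n) X) = cj (b₀ ^ n) (Ce V X) := by
    unfold Ce cj
    rw [Subgroup.map_commutator]
    congr 1
    exact (Subgroup.mem_normalizer_iff_map_conj_eq.mp (hc.norm (h.tv₂.le hb))).symm
  rw [hcm]
  exact ⟨c₁, h1, rfl⟩

/-- The plane meets every axis. -/
theorem exists_mem_ax (h : Hyp p V H X Y) (hc : Ctx p V H) {Z : Subgroup G} (hZ : IsTv p V H Z) :
    ∃ w ∈ plane V X Y, w ≠ 1 ∧ w ∈ Ax V Z := by
  obtain ⟨z, hz, hz1⟩ := hZ.exists_gen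
  obtain ⟨w₁, w₂, hne, he⟩ : ∃ w₁ w₂ : ↥(plane V X Y), w₁ ≠ w₂ ∧ ⁅z, (w₁ : G)⁆ = ⁅z, (w₂ : G)⁆ := by
    by_contra hno
    push_neg at hno
    have hinj : Function.Injective (fun w : ↥(plane V X Y) =>
        (⟨⁅z, (w : G)⁆, IsTv.bracket_mem_ce hz (h.plane_le hc w.2)⟩ : ↥(Ce V Z))) :=
      fun w₁ w₂ e => by
        by_contra hn
        exact hno w₁ w₂ hn (congrArg Subtype.val e)
    have := Nat.card_le_card_of_injective _ hinj
    rw [h.card_plane hc, hZ.card_ce hc] at this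
    have := lt_mul_of_one_lt_left hp.out.pos hp.out.one_lt
    omega
  have hV₁ := h.plane_le hc w₁.2
  have hV₂ := h.plane_le hc w₂.2
  refine ⟨(w₁ : G) * (w₂ : G)⁻¹, mul_mem w₁.2 (inv_mem w₂.2), ?_, ?_⟩
  · rw [ne_eq, mul_inv_eq_one]
    exact fun e => hne (Subtype.ext e)
  · have hV : (w₁ : G) * (w₂ : G)⁻¹ ∈ V := mul_mem hV₁ (inv_mem hV₂)
    refine (hZ.bracket_eq_one_iff hz hz1 hV).mp ?_
    have := hc.bracket_mul (hZ.le hz) hV hV₂
    rw [inv_mul_cancel_right, he] at this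
    exact mul_eq_right.mp this.symm

end Hyp

theorem Ctx.hyp_conj (hc : Ctx p V H) (hX : IsTv p V H X) {k : G} (hk : k ∈ K0 p H)
    (hne : ∃ a ∈ X, a * k ≠ k * a) : Hyp p V H X (cj k X) := by
  obtain ⟨a, ha, hne⟩ := hne
  obtain ⟨h1, h2⟩ := hc.not_le_conj hX ha hk hne
  exact ⟨hX, hX.conj hc (hc.K0_le hk), h1, h2⟩

theorem Ctx.eq_of_not_move (_hc : Ctx p V H) {k : G} (h : ∀ a ∈ X, a * k = k * a) : cj k X = X := by
  ext x
  constructor
  · rintro ⟨a, ha, rfl⟩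
    show k * a * k⁻¹ ∈ X
    rwa [← h a ha, mul_inv_cancel_right]
  · intro hx
    exact ⟨x, hx, show k * x * k⁻¹ = x by rw [← h x hx, mul_inv_cancel_right]⟩

theorem Ctx.point_conj (hc : Ctx p V H) (hX : IsTv p V H X) {k₀ : G} (hk₀ : k₀ ∈ K0 p H)
    {P : Subgroup G} (hP : P = cj k₀ X ∨ ∃ b ∈ cj k₀ X, P = cj b X) :
    ∃ k ∈ K0 p H, P = cj k X ∧ P ≤ X ⊔ cj k₀ X := by
  rcases hP with rfl | ⟨_, ⟨a, ha, rfl⟩, rfl⟩
  · exact ⟨k₀, hk₀, rfl, le_sup_right⟩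
  refine ⟨k₀ * (a * k₀⁻¹ * a⁻¹), mul_mem hk₀ (hc.K0_conj (hX.le ha) (inv_mem hk₀)), ?_, ?_⟩
  · conv_rhs => rw [← cj_of_mem ha, ← cj_mul]
    congr 1
    simp [mul_assoc]
  · rintro _ ⟨x, hx, rfl⟩
    have hb : (MulAut.conj k₀).toMonoidHom a ∈ X ⊔ cj k₀ X := Subgroup.mem_sup_right ⟨a, ha, rfl⟩
    exact mul_mem (mul_mem hb (Subgroup.mem_sup_left hx)) (inv_mem hb)

theorem Ctx.ex_eq (hc : Ctx p V H) (hX : IsTv p V H X) {k₀ : G} (hk₀ : k₀ ∈ K0 p H)
    (hne : ∃ a ∈ X, a * k₀ ≠ k₀ * a) : EX p H X = X ⊔ cj k₀ X := by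
  have hh := hc.hyp_conj hX hk₀ hne
  refine le_antisymm (iSup_le fun k => ?_) (sup_le ?_ (le_iSup_of_le ⟨k₀, hk₀⟩ le_rfl))
  · have hZ := hX.conj hc (hc.K0_le k.2)
    obtain ⟨w, hw, hw1, hwA⟩ := hh.exists_mem_ax hc hZ
    obtain ⟨P, hP, hPt, hwP⟩ := hh.exists_point hc hw hw1
    obtain ⟨k', hk', hPe, hPle⟩ := hc.point_conj hX hk₀ hP
    have hle : Ce V P ≤ Ax V (cj (k : G) X) := hPt.le_of_mem hc hwP hw1 hwA
    have hZP : cj (k : G) X = cj ((k : G) * k'⁻¹) P := by rw [hPe, ← cj_mul, inv_mul_cancel_right]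
    by_cases hmv : ∀ a ∈ P, a * ((k : G) * k'⁻¹) = ((k : G) * k'⁻¹) * a
    · rw [hZP, hc.eq_of_not_move hmv]; exact hPle
    · push_neg at hmv
      have := (hc.hyp_conj hPt (mul_mem k.2 (inv_mem hk')) hmv).not₁
      rw [← hZP] at this
      exact absurd hle this
  · exact le_iSup_of_le ⟨1, one_mem _⟩ (by rw [cj_one])

theorem Ctx.ex_conj (_hc : Ctx p V H) {k : G} (hk : k ∈ K0 p H) : EX p H (cj k X) = EX p H X := by
  refine le_antisymm (iSup_le fun k' => ?_) (iSup_le fun k' => ?_)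
  · exact le_iSup_of_le ⟨(k' : G) * k, mul_mem k'.2 hk⟩ (by rw [← cj_mul])
  · refine le_iSup_of_le ⟨(k' : G) * k⁻¹, mul_mem k'.2 (inv_mem hk)⟩ ?_
    rw [← cj_mul, inv_mul_cancel_right]

theorem Ctx.le_ex (_hc : Ctx p V H) : X ≤ EX p H X :=
  le_iSup_of_le ⟨1, one_mem _⟩ (by rw [cj_one])

theorem Ctx.ex_le (hc : Ctx p V H) (hX : IsTv p V H X) : EX p H X ≤ H :=
  iSup_le fun k => (hX.conj hc (hc.K0_le k.2)).le

/-- The dichotomy. -/
theorem Ctx.dichotomy (hc : Ctx p V H) (hX : IsTv p V H X) {B : Subgroup G} (hB : IsTv p V H B) :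
    (∃ k ∈ K0 p H, B = cj k X) ∨ ∀ g ∈ EX p H X, ∀ b ∈ B, g * b = b * g := by
  obtain ⟨k₀, hk₀, hne⟩ := hc.exists_move hX
  have hh := hc.hyp_conj hX hk₀ hne
  obtain ⟨w, hw, hw1, hwA⟩ := hh.exists_mem_ax hc hB
  obtain ⟨P, hP, hPt, hwP⟩ := hh.exists_point hc hw hw1
  obtain ⟨k', hk', hPe, -⟩ := hc.point_conj hX hk₀ hP
  have hcomm := hc.comm_of_le hB hPt (hPt.le_of_mem hc hwP hw1 hwA)
  rcases eq_or_ne P B with rfl | hne'
  · exact Or.inl ⟨k', hk', hPe⟩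
  right
  obtain ⟨-, k, hk, hkB, hkP⟩ := hc.comm_k hPt hB hcomm.symm hne'
  have hle : EX p H X ≤ Subgroup.centralizer (B : Set G) := by
    rw [← hc.ex_conj hk', ← hPe, hc.ex_eq hPt hk hkP]
    refine sup_le (fun a ha => Subgroup.mem_centralizer_iff.mpr fun b hb => hcomm b hb a ha) ?_
    rintro _ ⟨a, ha, rfl⟩
    refine Subgroup.mem_centralizer_iff.mpr fun b hb => ?_
    have c1 : Commute b k := hkB b hb
    exact ((c1.mul_right (show Commute b a from hcomm b hb a ha)).mul_right c1.inv_right).eq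
  exact fun g hg b hb => (Subgroup.mem_centralizer_iff.mp (hle hg) b hb).symm

theorem Ctx.ex_normal (hc : Ctx p V H) (hX : IsTv p V H X)
    (hgen : ∀ T : Subgroup G, (∀ B, IsTv p V H B → B ≤ T) → H ≤ T) :
    H ≤ Subgroup.normalizer (EX p H X : Set G) := by
  refine hgen _ fun B hB => ?_
  rcases hc.dichotomy hX hB with ⟨k, hk, rfl⟩ | h
  · exact (le_iSup_of_le (f := fun k : ↥(K0 p H) => cj (k : G) X) ⟨k, hk⟩ le_rfl).trans
      Subgroup.le_normalizer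
  · refine le_trans (fun b hb => ?_) (Subgroup.centralizer_le_normalizer _)
    exact Subgroup.mem_centralizer_iff.mpr fun g hg => h g hg b hb

theorem sl2_eq_top {H' : Subgroup (Matrix.SpecialLinearGroup (Fin 2) (ZMod p))}
    (hu : ∀ x : ZMod p, uel x ∈ H') (hl : ∀ x : ZMod p, lel x ∈ H') : H' = ⊤ := by
  have key : ∀ g : Matrix.SpecialLinearGroup (Fin 2) (ZMod p), g.1 1 0 ≠ 0 → g ∈ H' := by
    intro g hg
    have hdet : g.1 0 0 * g.1 1 1 - g.1 0 1 * g.1 1 0 = 1 := by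
      rw [← Matrix.det_fin_two]; exact g.2
    have e : g = uel ((g.1 0 0 - 1) / g.1 1 0) * lel (g.1 1 0) * uel ((g.1 1 1 - 1) / g.1 1 0) := by
      refine Subtype.ext ?_
      ext i j
      fin_cases i <;> fin_cases j <;> simp [uel_coe, lel_coe, Matrix.mul_apply, Fin.sum_univ_two] <;>
        field_simp <;> first | ring1 | linear_combination -hdet | linear_combination hdet
    rw [e]
    exact mul_mem (mul_mem (hu _) (hl _)) (hu _)
  rw [eq_top_iff]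
  intro g _
  by_cases hg : g.1 1 0 = 0
  · have hdet : g.1 0 0 * g.1 1 1 - g.1 0 1 * g.1 1 0 = 1 := by
      rw [← Matrix.det_fin_two]; exact g.2
    have h2 := key (lel 1 * g) (by
      simp [lel_coe, Matrix.mul_apply, Fin.sum_univ_two, hg]
      intro h0
      rw [h0, hg] at hdet
      simp at hdet)
    have := mul_mem (inv_mem (hl 1)) h2
    rwa [inv_mul_cancel_left] at this
  · exact key g hg

/-- The isomorphism with `SL₂(p)`. -/
theorem Ctx.exists_iso (hc : Ctx p V H) (h : Hyp p V H X Y) :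
    Nonempty (↥(X ⊔ Y) ≃* Matrix.SpecialLinearGroup (Fin 2) (ZMod p)) ∧
      (X ⊔ Y) ⊓ Subgroup.centralizer (plane V X Y : Set G) = ⊥ := by
  classical
  have : NeZero p := ⟨hp.out.ne_zero⟩
  obtain ⟨a, ha, ha1⟩ := h.tv₁.exists_gen
  obtain ⟨b, hb, hb1⟩ := h.tv₂.exists_gen
  have hCY : Ce V Y ≠ ⊥ := fun e => hp.out.ne_one (by
    rw [← h.tv₂.card_ce hc, e, Subgroup.card_bot])
  obtain ⟨c₂, hc₂, hc₂1⟩ := (Ce V Y).bot_or_exists_ne_one.resolve_left hCY
  have hc₂V := h.tv₂.ce_le_V hc hc₂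
  set c₁ := ⁅a, c₂⁆ with hc₁def
  have hc₁1 : c₁ ≠ 1 := fun e => h.not₂
    (h.tv₂.le_of_mem hc hc₂ hc₂1 ((h.tv₁.bracket_eq_one_iff ha ha1 hc₂V).mp e))
  have hc₁ : c₁ ∈ Ce V X := IsTv.bracket_mem_ce ha hc₂V
  have hc₁V := h.tv₁.ce_le_V hc hc₁
  have hp1 : c₁ ^ p = 1 := hc.elem.2 _ hc₁V
  have hp2 : c₂ ^ p = 1 := hc.elem.2 _ hc₂V
  let f : ZMod p → ZMod p → G := crd c₁ c₂
  have fadd : ∀ i j i' j', f (i + i') (j + j') = f i j * f i' j' := by
    intro i j i' j'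
    show c₁ ^ (i + i').val * c₂ ^ (j + j').val = c₁ ^ i.val * c₂ ^ j.val * (c₁ ^ i'.val * c₂ ^ j'.val)
    rw [pow_val_add hp1, pow_val_add hp2]
    have e := hc.comm_V (pow_mem hc₁V i'.val) (pow_mem hc₂V j.val)
    calc c₁ ^ i.val * c₁ ^ i'.val * (c₂ ^ j.val * c₂ ^ j'.val)
        = c₁ ^ i.val * (c₁ ^ i'.val * c₂ ^ j.val) * c₂ ^ j'.val := by simp only [mul_assoc]
      _ = _ := by rw [e]; simp only [mul_assoc]
  have fzero : f 0 0 = 1 := by simp [f, crd]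
  have fe1 : f 1 0 = c₁ := by simp [f, crd, ZMod.val_one]
  have fe2 : f 0 1 = c₂ := by simp [f, crd, ZMod.val_one]
  have fpow : ∀ (n : ℕ) i j, f i j ^ n = f (n * i) (n * j) := by
    intro n i j
    induction n with
    | zero => simp [fzero]
    | succ n ih => rw [pow_succ, ih, ← fadd]; congr 1 <;> push_cast <;> ring
  have hord : ∀ {c : G}, c ^ p = 1 → c ≠ 1 → ∀ i i' : ZMod p, c ^ i.val = c ^ i'.val → i = i' := by
    intro c hcp hc1 i i' e
    refine ZMod.val_injective p ?_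
    exact pow_injOn_Iio_orderOf (by rw [Set.mem_Iio, orderOf_eq_prime hcp hc1]; exact ZMod.val_lt i)
      (by rw [Set.mem_Iio, orderOf_eq_prime hcp hc1]; exact ZMod.val_lt i') e
  have finj : ∀ i j i' j', f i j = f i' j' → i = i' ∧ j = j' := by
    intro i j i' j' e
    have := Subgroup.mul_injective_of_disjoint (h.ce_disjoint hc)
      (a₁ := (⟨_, pow_mem hc₁ i.val⟩, ⟨_, pow_mem hc₂ j.val⟩))
      (a₂ := (⟨_, pow_mem hc₁ i'.val⟩, ⟨_, pow_mem hc₂ j'.val⟩)) e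
    simp only [Prod.mk.injEq, Subtype.mk.injEq] at this
    exact ⟨hord hp1 hc₁1 _ _ this.1, hord hp2 hc₂1 _ _ this.2⟩
  have fmem : ∀ i j, f i j ∈ plane V X Y := fun i j =>
    Subgroup.mul_mem_sup (pow_mem hc₁ _) (pow_mem hc₂ _)
  let Rep : G → Matrix.SpecialLinearGroup (Fin 2) (ZMod p) → Prop := fun g M =>
    g * c₁ * g⁻¹ = f (M.1 0 0) (M.1 1 0) ∧ g * c₂ * g⁻¹ = f (M.1 0 1) (M.1 1 1) ∧
      ∀ u ∈ fixU V X Y, g * u = u * g
  have happly : ∀ {g M}, Rep g M → ∀ i j, g * f i j * g⁻¹ =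
      f (M.1 0 0 * i + M.1 0 1 * j) (M.1 1 0 * i + M.1 1 1 * j) := by
    intro g M hM i j
    calc g * f i j * g⁻¹ = (g * c₁ * g⁻¹) ^ i.val * (g * c₂ * g⁻¹) ^ j.val := by
          rw [conj_pow, conj_pow]; show g * (c₁ ^ i.val * c₂ ^ j.val) * g⁻¹ = _; group
      _ = _ := by
        rw [hM.1, hM.2.1, fpow, fpow, ← fadd, ZMod.natCast_zmod_val, ZMod.natCast_zmod_val]
        congr 1 <;> ring
  have rep_one : Rep 1 1 := ⟨by simp [fe1], by simp [fe2], fun u _ => by simp⟩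
  have rep_mul : ∀ {g g' M M'}, Rep g M → Rep g' M' → Rep (g * g') (M * M') := by
    intro g g' M M' hM hM'
    refine ⟨?_, ?_, fun u hu => ?_⟩
    · rw [show g * g' * c₁ * (g * g')⁻¹ = g * (g' * c₁ * g'⁻¹) * g⁻¹ by group, hM'.1, happly hM]
      simp [Matrix.mul_apply, Fin.sum_univ_two]
    · rw [show g * g' * c₂ * (g * g')⁻¹ = g * (g' * c₂ * g'⁻¹) * g⁻¹ by group, hM'.2.1, happly hM]
      simp [Matrix.mul_apply, Fin.sum_univ_two]
    · exact (Commute.mul_left (show Commute g u from hM.2.2 u hu) (show Commute g' u from hM'.2.2 u hu)).eq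
  have rep_inv : ∀ {g M}, Rep g M → Rep g⁻¹ M⁻¹ := by
    intro g M hM
    have hmul : ∀ i k, M.1 i 0 * (M⁻¹).1 0 k + M.1 i 1 * (M⁻¹).1 1 k = (1 : Matrix (Fin 2) (Fin 2) (ZMod p)) i k := by
      intro i k
      have e := congrArg (fun N : Matrix.SpecialLinearGroup (Fin 2) (ZMod p) => N.1 i k) (mul_inv_cancel M)
      simp only [Matrix.SpecialLinearGroup.coe_mul, Matrix.mul_apply, Fin.sum_univ_two,
        Matrix.SpecialLinearGroup.coe_one] at e
      exact e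
    refine ⟨?_, ?_, fun u hu => (Commute.inv_left (show Commute g u from hM.2.2 u hu)).eq⟩
    · have e := happly hM ((M⁻¹).1 0 0) ((M⁻¹).1 1 0)
      rw [hmul, hmul] at e
      simp only [Matrix.one_apply_eq, ne_eq, one_ne_zero, not_false_eq_true, Matrix.one_apply_ne, fe1] at e
      conv_lhs => rw [← e]
      group
    · have e := happly hM ((M⁻¹).1 0 1) ((M⁻¹).1 1 1)
      rw [hmul, hmul] at e
      simp only [Matrix.one_apply_eq, ne_eq, zero_ne_one, not_false_eq_true, Matrix.one_apply_ne, fe2] at e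
      conv_lhs => rw [← e]
      group
  have runiq : ∀ {g M M'}, Rep g M → Rep g M' → M = M' := by
    intro g M M' hM hM'
    obtain ⟨e1, e2⟩ := finj _ _ _ _ (hM.1.symm.trans hM'.1)
    obtain ⟨e3, e4⟩ := finj _ _ _ _ (hM.2.1.symm.trans hM'.2.1)
    refine Subtype.ext ?_
    ext i j
    fin_cases i <;> fin_cases j <;> assumption
  set ua : Matrix.SpecialLinearGroup (Fin 2) (ZMod p) := uel 1
  obtain ⟨t, ht⟩ : ∃ t : ℕ, c₂ ^ t = ⁅b, c₁⁆ := by
    have := IsTv.bracket_mem_ce (V := V) hb hc₁V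
    rw [← h.tv₂.zpowers_ce hc hc₂ hc₂1] at this
    exact mem_powers_iff_mem_zpowers.mpr this
  have ht0 : (t : ZMod p) ≠ 0 := by
    intro e
    have e1 : ⁅b, c₁⁆ = 1 := by
      rw [← ht, ← pow_val_natCast (p := p) hp2 t, e, ZMod.val_zero, pow_zero]
    exact h.not₁ (h.tv₁.le_of_mem hc hc₁ hc₁1 ((h.tv₂.bracket_eq_one_iff hb hb1 hc₁V).mp e1))
  set lb : Matrix.SpecialLinearGroup (Fin 2) (ZMod p) := lel (t : ZMod p)
  have repa : Rep a ua := by
    refine ⟨?_, ?_, fun u hu => Subgroup.mem_centralizer_iff.mp hu.1.2 a ha⟩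
    · rw [Subgroup.mem_centralizer_iff.mp (h.tv₁.ce_le_ax hc hc₁).2 a ha, mul_inv_cancel_right]
      simp [ua, uel_coe, fe1]
    · show a * c₂ * a⁻¹ = f 1 1
      have e : f 1 1 = c₁ * c₂ := by simp [f, crd, ZMod.val_one]
      rw [e, hc₁def, commutatorElement_def]; group
  have repb : Rep b lb := by
    refine ⟨?_, ?_, fun u hu => Subgroup.mem_centralizer_iff.mp hu.2.2 b hb⟩
    · show b * c₁ * b⁻¹ = f 1 (t : ZMod p)
      have e : f 1 (t : ZMod p) = c₁ * c₂ ^ t := by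
        show c₁ ^ (1 : ZMod p).val * c₂ ^ (t : ZMod p).val = _
        rw [ZMod.val_one, pow_one, pow_val_natCast hp2]
      rw [e, hc.comm_V hc₁V (pow_mem hc₂V t), ht, commutatorElement_def]; group
    · rw [Subgroup.mem_centralizer_iff.mp (h.tv₂.ce_le_ax hc hc₂).2 b hb, mul_inv_cancel_right]
      simp [lb, lel_coe, fe2]
  have hL : X ⊔ Y = Subgroup.closure ({a, b} : Set G) := by
    rw [← h.tv₁.zpowers_eq ha ha1, ← h.tv₂.zpowers_eq hb hb1, Subgroup.zpowers_eq_closure,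
      Subgroup.zpowers_eq_closure, ← Subgroup.closure_union]
    rfl
  have hex : ∀ g ∈ X ⊔ Y, ∃ M, Rep g M := by
    rw [hL]
    intro g hg
    induction hg using Subgroup.closure_induction with
    | mem x hx =>
      rcases hx with rfl | rfl
      · exact ⟨_, repa⟩
      · exact ⟨_, repb⟩
    | one => exact ⟨1, rep_one⟩
    | mul x y _ _ ix iy =>
      obtain ⟨M, hM⟩ := ix
      obtain ⟨M', hM'⟩ := iy
      exact ⟨_, rep_mul hM hM'⟩
    | inv x _ ix =>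
      obtain ⟨M, hM⟩ := ix
      exact ⟨_, rep_inv hM⟩
  have hfaith : ∀ g ∈ X ⊔ Y, (∀ w ∈ plane V X Y, g * w = w * g) →
      (∀ u ∈ fixU V X Y, g * u = u * g) → g = 1 := by
    intro g hg hw hu
    refine hc.eq_one (sup_le h.tv₁.le h.tv₂.le hg) (Subgroup.mem_centralizer_iff.mpr fun v hv => ?_)
    rw [← h.plane_sup_fix hc] at hv
    obtain ⟨w, hw', u, hu', rfl⟩ := hc.mem_sup_V (h.plane_le hc) (inf_le_left.trans inf_le_left) hv
    exact (Commute.mul_right (show Commute g w from hw w hw') (show Commute g u from hu u hu')).eq.symm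
  choose M hM using fun g : ↥(X ⊔ Y) => hex g g.2
  let φ : ↥(X ⊔ Y) →* Matrix.SpecialLinearGroup (Fin 2) (ZMod p) :=
    MonoidHom.mk' M fun g g' => runiq (hM (g * g')) (rep_mul (hM g) (hM g'))
  have hinj : Function.Injective φ := by
    refine (injective_iff_map_eq_one φ).mpr fun g hg => Subtype.ext (hfaith g g.2 ?_ (hM g).2.2)
    intro w hw
    obtain ⟨x, hx, y, hy, rfl⟩ := hc.mem_sup_V (h.tv₁.ce_le_V hc) (h.tv₂.ce_le_V hc) hw
    have hM1 : Rep (g : G) 1 := by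
      have := hM g
      rw [show M g = 1 from hg] at this
      exact this
    have k1 : Commute (g : G) c₁ := mul_inv_eq_iff_eq_mul.mp (by
      have := hM1.1; simpa [fe1] using this)
    have k2 : Commute (g : G) c₂ := mul_inv_eq_iff_eq_mul.mp (by
      have := hM1.2.1; simpa [fe2] using this)
    rw [← h.tv₁.zpowers_ce hc hc₁ hc₁1] at hx
    rw [← h.tv₂.zpowers_ce hc hc₂ hc₂1] at hy
    obtain ⟨i, rfl⟩ := hx
    obtain ⟨j, rfl⟩ := hy
    exact ((k1.zpow_right i).mul_right (k2.zpow_right j)).eq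
  have hrange : φ.range = ⊤ := by
    have hua : ua ∈ φ.range := ⟨⟨a, Subgroup.mem_sup_left ha⟩, runiq (hM _) repa⟩
    have hlb : lb ∈ φ.range := ⟨⟨b, Subgroup.mem_sup_right hb⟩, runiq (hM _) repb⟩
    refine sl2_eq_top (fun x => ?_) (fun x => ?_)
    · convert pow_mem hua x.val using 1
      simp [ua, uel_pow, ZMod.natCast_zmod_val]
    · convert pow_mem hlb (x / (t : ZMod p)).val using 1
      simp [lb, lel_pow, ZMod.natCast_zmod_val, div_mul_cancel₀ x ht0]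
  refine ⟨⟨MulEquiv.ofBijective φ ⟨hinj, MonoidHom.range_eq_top.mp hrange⟩⟩, le_bot_iff.mp fun g hg => ?_⟩
  obtain ⟨Mg, hMg⟩ := hex g hg.1
  exact Subgroup.mem_bot.mpr (hfaith g hg.1
    (fun w hw => (Subgroup.mem_centralizer_iff.mp hg.2 w hw).symm) hMg.2.2)

/-- `p ≤ 3`. -/
theorem Ctx.prime_le_three (hc : Ctx p V H) (hX : IsTv p V H X) : p = 2 ∨ p = 3 := by
  classical
  by_contra hno
  push_neg at hno
  obtain ⟨k₀, hk₀, hne⟩ := hc.exists_move hX
  have hh := hc.hyp_conj hX hk₀ hne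
  obtain ⟨e⟩ := (hc.exists_iso hh).1
  set L := X ⊔ cj k₀ X with hL
  have hLH : L ≤ H := sup_le hX.le hh.tv₂.le
  set ψ : ↥H →* ↥H ⧸ Cfsg.pPrimeCore p ↥H := QuotientGroup.mk' _ with hψ
  obtain ⟨a, ha, ha1⟩ := hX.exists_gen
  set z := ψ ⟨a, hX.le ha⟩ with hz
  have hk₀' : ψ ⟨k₀, hc.K0_le hk₀⟩ = 1 := by
    obtain ⟨k', hk', he⟩ := hk₀
    refine (QuotientGroup.eq_one_iff _).mpr ?_
    subst he
    exact hk'
  have himg : ∀ g ∈ L, ∀ hg : g ∈ H, ψ ⟨g, hg⟩ ∈ Subgroup.zpowers z := by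
    have hle : L ≤ ((Subgroup.zpowers z).comap ψ).map H.subtype := by
      refine sup_le ?_ ?_
      · rw [← hX.zpowers_eq ha ha1, Subgroup.zpowers_le]
        exact ⟨⟨a, hX.le ha⟩, Subgroup.mem_zpowers z, rfl⟩
      · rintro _ ⟨x, hx, rfl⟩
        rw [← hX.zpowers_eq ha ha1] at hx
        obtain ⟨i, rfl⟩ := hx
        refine ⟨⟨k₀, hc.K0_le hk₀⟩ * ⟨a, hX.le ha⟩ ^ i * ⟨k₀, hc.K0_le hk₀⟩⁻¹, ?_, rfl⟩
        rw [SetLike.mem_coe, Subgroup.mem_comap, map_mul, map_mul, map_inv, hk₀', inv_one, one_mul,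
          mul_one, map_zpow]
        exact ⟨i, rfl⟩
    intro g hg hgH
    obtain ⟨g', hg', he⟩ := hle hg
    have e1 : g' = ⟨g, hgH⟩ := Subtype.ext he
    rw [← e1]
    exact hg'
  let D : Matrix.SpecialLinearGroup (Fin 2) (ZMod p) := ⟨!![2, 0; 0, 2⁻¹], by
    have h2 : (2 : ZMod p) ≠ 0 := fun e => by
      have := (ZMod.natCast_eq_zero_iff 2 p).mp (by exact_mod_cast e)
      exact hno.1 ((Nat.prime_dvd_prime_iff_eq hp.out Nat.prime_two).mp this)
    simp [Matrix.det_fin_two, mul_inv_cancel₀ h2]⟩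
  let u1 : Matrix.SpecialLinearGroup (Fin 2) (ZMod p) := uel 1
  let u3 : Matrix.SpecialLinearGroup (Fin 2) (ZMod p) := uel 3
  have h2 : (2 : ZMod p) ≠ 0 := fun e => by
    have := (ZMod.natCast_eq_zero_iff 2 p).mp (by exact_mod_cast e)
    exact hno.1 ((Nat.prime_dvd_prime_iff_eq hp.out Nat.prime_two).mp this)
  have hDu : D * u1 = u3 * u1 * D := by
    refine Subtype.ext ?_
    ext i j
    have hDc : ((D : Matrix.SpecialLinearGroup (Fin 2) (ZMod p)) : Matrix (Fin 2) (Fin 2) (ZMod p)) = !![2, 0; 0, 2⁻¹] := rfl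
    simp only [Matrix.SpecialLinearGroup.coe_mul, hDc, u1, u3, uel_coe]
    fin_cases i <;> fin_cases j <;> simp [Matrix.mul_apply, Fin.sum_univ_two]
    rw [show (1 : ZMod p) + 3 = 2 * 2 by norm_num, mul_assoc, mul_inv_cancel₀ h2, mul_one]
  set x := e.symm D with hx
  set y := e.symm u1 with hy
  set g := e.symm u3 with hg
  have hgcomm : g = ⁅x, y⁆ := by
    apply e.injective
    rw [hg, map_commutatorElement, hx, hy, e.apply_symm_apply, e.apply_symm_apply, e.apply_symm_apply,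
      commutatorElement_def, hDu]
    group
  have hψg : ψ ⟨(g : G), hLH g.2⟩ = 1 := by
    have e1 : (⟨(g : G), hLH g.2⟩ : ↥H) = ⁅(⟨(x : G), hLH x.2⟩ : ↥H), ⟨(y : G), hLH y.2⟩⁆ :=
      Subtype.ext (congrArg (fun w : ↥L => (w : G)) hgcomm)
    rw [e1, map_commutatorElement, commutatorElement_eq_one_iff_mul_comm]
    obtain ⟨i, hi⟩ := himg x x.2 (hLH x.2)
    obtain ⟨j, hj⟩ := himg y y.2 (hLH y.2)
    rw [← hi, ← hj]
    exact Commute.zpow_zpow_self z i j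
  have hgK : (g : G) ∈ K0 p H := ⟨⟨(g : G), hLH g.2⟩, (QuotientGroup.eq_one_iff _).mp hψg, rfl⟩
  have hgp : (g : G) ^ p = 1 := by
    have h1 : g ^ p = 1 := by
      apply e.injective
      rw [map_pow, map_one, hg, e.apply_symm_apply]
      simp [u3, uel_pow, uel_zero]
    have := congrArg (fun w : ↥L => (w : G)) h1
    simpa using this
  have hg1 : g = 1 := Subtype.ext (hc.eq_one_of_K0 hgK hgp)
  have h3 : u3 = 1 := by
    have := congrArg e hg1
    rwa [hg, e.apply_symm_apply, map_one] at this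
  have h30 : (3 : ZMod p) = 0 := by
    have := congrArg (fun N : Matrix.SpecialLinearGroup (Fin 2) (ZMod p) => N.1 0 1) h3
    simpa [u3, uel_coe] using this
  have := (ZMod.natCast_eq_zero_iff 3 p).mp (by exact_mod_cast h30)
  exact hno.2 ((Nat.prime_dvd_prime_iff_eq hp.out Nat.prime_three).mp this)

/-- `E = [K, X] X` -/
theorem Ctx.ex_eq_commutator (hc : Ctx p V H) (hX : IsTv p V H X) :
    ⁅K0 p H, X⁆ ⊔ X = EX p H X := by
  refine le_antisymm (sup_le (Subgroup.commutator_le.mpr fun k hk a ha => ?_) hc.le_ex)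
    (iSup_le fun k => ?_)
  · have h1 : k * a * k⁻¹ ∈ EX p H X :=
      (le_iSup (fun k : ↥(K0 p H) => cj (k : G) X) ⟨k, hk⟩) ⟨a, ha, rfl⟩
    rw [commutatorElement_def]
    exact mul_mem h1 (inv_mem (hc.le_ex ha))
  · rintro _ ⟨a, ha, rfl⟩
    have e : (k : G) * a * (k : G)⁻¹ = ⁅(k : G), a⁆ * a := by rw [commutatorElement_def]; group
    show (k : G) * a * (k : G)⁻¹ ∈ _
    rw [e]
    exact Subgroup.mul_mem_sup (Subgroup.commutator_mem_commutator k.2 ha) ha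

theorem Ctx.fix_eq (hc : Ctx p V H) (h : Hyp p V H X Y) :
    V ⊓ Subgroup.centralizer ((X ⊔ Y : Subgroup G) : Set G) = fixU V X Y := by
  refine le_antisymm (le_inf (inf_le_inf_left _ (Subgroup.centralizer_le (SetLike.coe_subset_coe.mpr le_sup_left)))
    (inf_le_inf_left _ (Subgroup.centralizer_le (SetLike.coe_subset_coe.mpr le_sup_right)))) fun u hu => ⟨hu.1.1, ?_⟩
  refine Subgroup.mem_centralizer_iff.mpr fun g hg => ?_
  have hle : X ⊔ Y ≤ Subgroup.centralizer ({u} : Set G) := by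
    refine sup_le (fun a ha => ?_) (fun b hb => ?_) <;> rw [Subgroup.mem_centralizer_singleton_iff]
    · exact Subgroup.mem_centralizer_iff.mp hu.1.2 a ha
    · exact Subgroup.mem_centralizer_iff.mp hu.2.2 b hb
  exact Subgroup.mem_centralizer_singleton_iff.mp (hle hg)

theorem Ctx.commutator_eq_plane (hc : Ctx p V H) (h : Hyp p V H X Y) :
    ⁅V, X ⊔ Y⁆ = plane V X Y := by
  refine le_antisymm (Subgroup.commutator_le.mpr fun v hv g hg => ?_)
    (sup_le (Subgroup.commutator_mono le_rfl le_sup_left) (Subgroup.commutator_mono le_rfl le_sup_right))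
  have hLW : X ⊔ Y ≤ Subgroup.normalizer (plane V X Y : Set G) := by
    refine sup_le (fun a ha => ?_) (fun a ha => ?_) <;>
    · refine Subgroup.mem_normalizer_iff_map_conj_eq.mpr (Subgroup.eq_of_le_of_card_ge ?_ (le_of_eq ?_))
      · rintro _ ⟨w, hw, rfl⟩
        show a * w * a⁻¹ ∈ plane V X Y
        have : a * w * a⁻¹ = ⁅a, w⁆ * w := by rw [commutatorElement_def]; group
        rw [this]
        first
          | exact mul_mem (Subgroup.mem_sup_left (IsTv.bracket_mem_ce ha (h.plane_le hc hw))) hw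
          | exact mul_mem (Subgroup.mem_sup_right (IsTv.bracket_mem_ce ha (h.plane_le hc hw))) hw
      · exact Nat.card_congr ((plane V X Y).equivMapOfInjective _ (MulAut.conj a).injective).toEquiv
  rw [← h.plane_sup_fix hc] at hv
  obtain ⟨w, hw, u, hu, rfl⟩ := hc.mem_sup_V (h.plane_le hc) (inf_le_left.trans inf_le_left) hv
  have e : u * g = g * u := by
    have hu' := (hc.fix_eq h).ge hu
    exact (Subgroup.mem_centralizer_iff.mp hu'.2 g hg).symm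
  have e2 : ⁅w * u, g⁆ = w * (g * w⁻¹ * g⁻¹) := by
    calc ⁅w * u, g⁆ = w * (u * g) * u⁻¹ * w⁻¹ * g⁻¹ := by rw [commutatorElement_def]; group
      _ = w * (g * w⁻¹ * g⁻¹) := by rw [e]; group
  rw [e2]
  exact mul_mem hw ((Subgroup.mem_normalizer_iff.mp (hLW hg) _).mp (inv_mem hw))

end Cfsg.Agent.Lib.FusionControl.CoprimeOffender

namespace Cfsg.Agent.Lib.FusionControl.CoprimeOffender

universe v

variable {G : Type v} [Group G] [Finite G] {p : ℕ} [hp : Fact p.Prime] {V H : Subgroup G}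

theorem Ctx.tv_of_min (hc : Ctx p V H) {A : Subgroup G} (hAH : A ≤ H)
    (hA : Cfsg.IsBestOffenderOn p V A) (hAV : ⁅V, A⁆ ≠ ⊥)
    (hmin : ∀ B : Subgroup G, B ≤ A → Cfsg.IsBestOffenderOn p V B → ⁅V, B⁆ ≠ ⊥ → B = A) :
    IsTv p V H A := by
  have hAe := hc.isElementaryAbelian hAH hA.2.1 hA.2.2
  have hfA := hc.fv_eq hAH hA
  obtain ⟨k, B, hB, -, hsup⟩ := hc.decomp hAH hAe hfA
  have hne : A ≠ ⊥ := fun h => hAV ((hc.commutator_eq_bot hAH).mpr h)
  rcases Nat.eq_zero_or_pos k with rfl | hk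
  · exact absurd (by rw [← hsup]; exact iSup_of_empty B) hne
  obtain ⟨hle, hcard, hf⟩ := hB ⟨0, hk⟩
  have hbne : B ⟨0, hk⟩ ≠ ⊥ := fun e => hp.out.ne_one (by rw [← hcard, e, Subgroup.card_bot])
  have := hmin _ hle (hc.best_of_fv (hle.trans hAH) (isElementaryAbelian_le hAe hle) hf)
    fun h => hbne ((hc.commutator_eq_bot (hle.trans hAH)).mp h)
  rw [this] at hcard
  exact ⟨hAH, hcard, hfA⟩

theorem Ctx.min_of_tv (hc : Ctx p V H) {X : Subgroup G} (hX : IsTv p V H X) :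
    Cfsg.IsBestOffenderOn p V X ∧ ⁅V, X⁆ ≠ ⊥ ∧
      ∀ B : Subgroup G, B ≤ X → Cfsg.IsBestOffenderOn p V B → ⁅V, B⁆ ≠ ⊥ → B = X := by
  refine ⟨hc.best_of_fv hX.le hX.elem hX.fv_eq, fun h => hX.ne_bot ((hc.commutator_eq_bot hX.le).mp h),
    fun B hB _ hne => ?_⟩
  have hd := Subgroup.card_dvd_of_le hB
  rw [hX.card] at hd
  rcases (Nat.dvd_prime hp.out).mp hd with h | h
  · exact absurd (by rw [Subgroup.card_eq_one.mp h, Subgroup.commutator_bot_right]) hne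
  · exact Subgroup.eq_of_le_of_card_ge hB (by rw [h, hX.card])

theorem Ctx.gen_tv (hc : Ctx p V H)
    (hS3 : H = ⨆ A : {A : Subgroup G // A ≤ H ∧ Cfsg.IsBestOffenderOn p V A}, (A : Subgroup G))
    (T : Subgroup G) (hT : ∀ B, IsTv p V H B → B ≤ T) : H ≤ T := by
  rw [hS3]
  refine iSup_le fun A => ?_
  obtain ⟨hAH, hA⟩ := A.2
  obtain ⟨k, B, hB, -, hsup⟩ :=
    hc.decomp hAH (hc.isElementaryAbelian hAH hA.2.1 hA.2.2) (hc.fv_eq hAH hA)
  rw [← hsup]
  exact iSup_le fun i => hT _ ⟨(hB i).1.trans hAH, (hB i).2.1, (hB i).2.2⟩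

/-- All facts about `E = EX p H X` used in the decomposition theorems. -/
theorem Ctx.ex_facts (hc : Ctx p V H) {X : Subgroup G} (hX : IsTv p V H X)
    (hgen : ∀ T : Subgroup G, (∀ B, IsTv p V H B → B ≤ T) → H ≤ T) :
    Nonempty (↥(EX p H X) ≃* Matrix.SpecialLinearGroup (Fin 2) (ZMod p)) ∧
    Nat.card ↥⁅V, EX p H X⁆ = p ^ 2 ∧
    ⁅V, EX p H X⁆ ⊓ (V ⊓ Subgroup.centralizer (EX p H X : Set G)) = ⊥ ∧
    ⁅V, EX p H X⁆ ⊔ (V ⊓ Subgroup.centralizer (EX p H X : Set G)) = V ∧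
    ⁅EX p H X, H ⊓ Subgroup.centralizer ((⁅V, EX p H X⁆ : Subgroup G) : Set G)⁆ = ⊥ ∧
    EX p H X ⊓ (H ⊓ Subgroup.centralizer ((⁅V, EX p H X⁆ : Subgroup G) : Set G)) = ⊥ ∧
    EX p H X ⊔ (H ⊓ Subgroup.centralizer ((⁅V, EX p H X⁆ : Subgroup G) : Set G)) = H ∧
    ⁅V, H ⊓ Subgroup.centralizer ((⁅V, EX p H X⁆ : Subgroup G) : Set G)⁆ ≤
      V ⊓ Subgroup.centralizer (EX p H X : Set G) ∧
    (∀ B, IsTv p V H B → (∀ g ∈ EX p H X, ∀ b ∈ B, g * b = b * g) →
      B ≤ Subgroup.centralizer ((⁅V, EX p H X⁆ : Subgroup G) : Set G)) := by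
  obtain ⟨k₀, hk₀, hne⟩ := hc.exists_move hX
  have hh := hc.hyp_conj hX hk₀ hne
  have hE : EX p H X = X ⊔ cj k₀ X := hc.ex_eq hX hk₀ hne
  obtain ⟨hiso, hfaith⟩ := hc.exists_iso hh
  have hN := hc.ex_normal hX hgen
  have hW := hc.commutator_eq_plane hh
  have hU := hc.fix_eq hh
  have hcentB : ∀ B, IsTv p V H B → (∀ g ∈ EX p H X, ∀ b ∈ B, g * b = b * g) →
      B ≤ Subgroup.centralizer ((⁅V, EX p H X⁆ : Subgroup G) : Set G) := by
    intro B hB hcomm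
    rw [hE, hW, Subgroup.le_centralizer_iff]
    have h1 : Comm X B := fun a ha b hb => hcomm a (hc.le_ex ha) b hb
    have h2 : Comm (cj k₀ X) B := fun a ha b hb => hcomm a (hE.ge (Subgroup.mem_sup_right ha)) b hb
    refine sup_le ?_ ?_
    · exact (hc.ce_le_ax_of_comm hX hB h1).trans inf_le_right
    · exact (hc.ce_le_ax_of_comm hh.tv₂ hB h2).trans inf_le_right
  have hDcomm : ∀ d ∈ H ⊓ Subgroup.centralizer ((⁅V, EX p H X⁆ : Subgroup G) : Set G),
      ∀ g ∈ EX p H X, g * d = d * g := by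
    intro d hd g hg
    have hg' : d * g * d⁻¹ ∈ EX p H X := (Subgroup.mem_normalizer_iff.mp (hN hd.1) g).mp hg
    have hmem : d * g * d⁻¹ * g⁻¹ ∈ (X ⊔ cj k₀ X) ⊓ Subgroup.centralizer (plane V X (cj k₀ X) : Set G) := by
      refine ⟨hE.le (mul_mem hg' (inv_mem hg)), Subgroup.mem_centralizer_iff.mpr fun w hw => ?_⟩
      have hw0 : w ∈ ⁅V, EX p H X⁆ := by rw [hE, hW]; exact hw
      have hgw : g⁻¹ * w * g ∈ ⁅V, EX p H X⁆ :=
        (Subgroup.mem_normalizer_iff''.mp (Subgroup.normalizer_commutator_ge_right V _ hg) w).mp hw0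
      have e1 : w * d = d * w := Subgroup.mem_centralizer_iff.mp hd.2 w hw0
      have e2 : (g⁻¹ * w * g) * d = d * (g⁻¹ * w * g) := Subgroup.mem_centralizer_iff.mp hd.2 _ hgw
      have c1 : d⁻¹ * w = w * d⁻¹ := (Commute.inv_left (show Commute d w from e1.symm)).eq
      have c2 : d⁻¹ * (g⁻¹ * w * g) = (g⁻¹ * w * g) * d⁻¹ :=
        (Commute.inv_left (show Commute d _ from e2.symm)).eq
      calc w * (d * g * d⁻¹ * g⁻¹) = (w * d) * g * d⁻¹ * g⁻¹ := by group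
        _ = d * g * ((g⁻¹ * w * g) * d⁻¹) * g⁻¹ := by rw [e1]; group
        _ = d * g * (d⁻¹ * (g⁻¹ * w * g)) * g⁻¹ := by rw [c2]
        _ = d * g * d⁻¹ * g⁻¹ * w := by group
    rw [hfaith, Subgroup.mem_bot, mul_inv_eq_one, mul_inv_eq_iff_eq_mul] at hmem
    exact hmem.symm
  refine ⟨by rw [hE]; exact hiso, by rw [hE, hW, hh.card_plane hc, pow_two],
    by rw [hE, hW, hU]; exact hh.plane_inf_fix hc, by rw [hE, hW, hU]; exact hh.plane_sup_fix hc,
    ?_, ?_, ?_, ?_, hcentB⟩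
  · rw [Subgroup.commutator_eq_bot_iff_le_centralizer]
    intro g hg
    exact Subgroup.mem_centralizer_iff.mpr fun d hd => (hDcomm d hd g hg).symm
  · rw [hE, hW]
    refine le_bot_iff.mp fun g hg => ?_
    rw [← hfaith]
    exact ⟨hg.1, hg.2.2⟩
  · refine le_antisymm (sup_le (hc.ex_le hX) inf_le_left) (hgen _ fun B hB => ?_)
    rcases hc.dichotomy hX hB with ⟨k, hk, rfl⟩ | h
    · exact le_sup_of_le_left (le_iSup_of_le (f := fun k : ↥(K0 p H) => cj (k : G) X) ⟨k, hk⟩ le_rfl)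
    · exact le_sup_of_le_right (le_inf hB.le (hcentB B hB h))
  · refine Subgroup.commutator_le.mpr fun v hv d hd => ?_
    rw [hE, hU]
    rw [← hh.plane_sup_fix hc] at hv
    obtain ⟨w, hw, u, hu, rfl⟩ := hc.mem_sup_V (hh.plane_le hc) (inf_le_left.trans inf_le_left) hv
    have hw0 : w ∈ ⁅V, EX p H X⁆ := by rw [hE, hW]; exact hw
    have e1 : w * d = d * w := Subgroup.mem_centralizer_iff.mp hd.2 w hw0
    have hu' : d * u * d⁻¹ ∈ fixU V X (cj k₀ X) := by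
      rw [← hU, ← hE]
      refine ⟨hc.conj_mem_V hd.1 hu.1.1, Subgroup.mem_centralizer_iff.mpr fun g hg => ?_⟩
      have hug : g * u = u * g :=
        Subgroup.mem_centralizer_iff.mp ((hU.ge hu).2) g (hE ▸ hg)
      have c1 : Commute g d := hDcomm d hd g hg
      exact ((c1.mul_right (show Commute g u from hug)).mul_right c1.inv_right).eq
    have e2 : ⁅w * u, d⁆ = u * (d * u * d⁻¹)⁻¹ := by
      have hcw : Commute w u := hc.comm_V (hh.plane_le hc hw) hu.1.1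
      have hcd : Commute w d := e1
      calc ⁅w * u, d⁆ = w * u * (d * u⁻¹ * w⁻¹ * d⁻¹) := by rw [commutatorElement_def]; group
        _ = u * (d * u⁻¹ * d⁻¹) := by
          rw [hcw.eq]
          have : Commute w (d * u⁻¹ * d⁻¹) :=
            (hcd.mul_right hcw.inv_right).mul_right hcd.inv_right
          have e : d * u⁻¹ * w⁻¹ * d⁻¹ = w⁻¹ * (d * u⁻¹ * d⁻¹) := by
            have h3 : Commute w⁻¹ (d * u⁻¹) := (hcd.mul_right hcw.inv_right).inv_left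
            rw [← h3.eq]; group
          rw [e]; group
        _ = u * (d * u * d⁻¹)⁻¹ := by group
    rw [e2]
    exact mul_mem hu (inv_mem hu')

end Cfsg.Agent.Lib.FusionControl.CoprimeOffender
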