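import Cfsg.Agent.Lib.Coprime.PxQ
import Cfsg.Agent.Lib.Coprime.Generation

/-!
An elementary abelian `2`-group acting faithfully on a group of odd order, and with it on an elementary
abelian `2`-group, is no offender there unless some involution inverts an element of order three.
-/

set_option autoImplicit false

namespace Cfsg.Agent.Lib.FusionControl

variable {Y : Type*} [Group Y] [Finite Y]

omit [Finite Y] in
/-- powers of an element moving `v` inside a coset of a normalized subgroup -/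
lemma pow_mul_shift {C : Subgroup Y} {z v : Y} (hz : ∀ x ∈ C, z * x * z⁻¹ ∈ C)
    (h : z * v * z⁻¹ * v⁻¹ ∈ C) : ∀ m : ℕ, z ^ m * v * (z ^ m)⁻¹ * v⁻¹ ∈ C := by
  intro m
  induction m with
  | zero => simp
  | succ m ih =>
    have h1 := mul_mem (hz _ ih) h
    have e : z ^ (m + 1) * v * (z ^ (m + 1))⁻¹ * v⁻¹ =
        z * (z ^ m * v * (z ^ m)⁻¹ * v⁻¹) * z⁻¹ * (z * v * z⁻¹ * v⁻¹) := by
      rw [pow_succ']; group
    rw [e]; exact h1

/-- an inverted element of prime order at least five moves more than a hyperplane -/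
theorem four_le_relIndex {V : Subgroup Y} (hVc : ∀ x ∈ V, ∀ y ∈ V, x * y = y * x) (hV2 : ∀ x ∈ V, x * x = 1)
    {a w : Y} {r : ℕ} (hr : r.Prime) (hr5 : 5 ≤ r) (hwr : orderOf w = r) (ha2 : a * a = 1)
    (haV : a ∈ Subgroup.normalizer (V : Set Y)) (hwV : w ∈ Subgroup.normalizer (V : Set Y))
    (hinv : a * w * a⁻¹ = w⁻¹) (hw : w ∉ Subgroup.centralizer (V : Set Y)) :
    4 ≤ (Subgroup.centralizer ({a} : Set Y)).relIndex V := by
  classical
  have : Fact (Nat.Prime 2) := ⟨Nat.prime_two⟩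
  by_contra hlt
  rw [not_le] at hlt
  have hVp : IsPGroup 2 V := fun v => ⟨1, Subtype.ext (by simpa [pow_two] using hV2 v v.2)⟩
  obtain ⟨n, hn⟩ := hVp.exists_card_eq
  have hi2 : (Subgroup.centralizer ({a} : Set Y)).relIndex V ≤ 2 := by
    obtain ⟨j, -, hj⟩ := (Nat.dvd_prime_pow Nat.prime_two).1
      (hn ▸ (Subgroup.centralizer ({a} : Set Y)).relIndex_dvd_card V)
    rw [hj] at hlt ⊢
    rcases j with _ | _ | j
    · norm_num
    · norm_num
    · rw [pow_add] at hlt; have := Nat.one_le_two_pow (n := j); omega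
  set b := w * a * w⁻¹ with hb
  set Ca := Subgroup.centralizer ({a} : Set Y) with hCa
  set Cb := Subgroup.centralizer ({b} : Set Y) with hCb
  have hbi : Cb.relIndex V = Ca.relIndex V := by
    have e1 : Ca.map (MulAut.conj w).toMonoidHom = Cb := by
      ext x
      rw [hCb, Subgroup.mem_centralizer_singleton_iff]
      constructor
      · rintro ⟨y, hy, rfl⟩
        rw [hCa, SetLike.mem_coe, Subgroup.mem_centralizer_singleton_iff] at hy
        show w * y * w⁻¹ * (w * a * w⁻¹) = w * a * w⁻¹ * (w * y * w⁻¹)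
        calc w * y * w⁻¹ * (w * a * w⁻¹) = w * (y * a) * w⁻¹ := by group
          _ = w * (a * y) * w⁻¹ := by rw [hy]
          _ = _ := by group
      · intro hx
        refine ⟨w⁻¹ * x * w, ?_, by show w * (w⁻¹ * x * w) * w⁻¹ = x; group⟩
        rw [hCa, SetLike.mem_coe, Subgroup.mem_centralizer_singleton_iff]
        calc w⁻¹ * x * w * a = w⁻¹ * (x * b) * w := by rw [hb]; group
          _ = w⁻¹ * (b * x) * w := by rw [hx]
          _ = _ := by rw [hb]; group
    have e2 : V.map (MulAut.conj w).toMonoidHom = V := by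
      refine le_antisymm ?_ fun x hx => ⟨w⁻¹ * x * w, ?_, by show w * (w⁻¹ * x * w) * w⁻¹ = x; group⟩
      · rintro _ ⟨x, hx, rfl⟩; exact (Subgroup.mem_normalizer_iff.1 hwV x).1 hx
      · exact (Subgroup.mem_normalizer_iff''.1 hwV x).1 hx
    rw [← e1]
    conv_lhs => rw [← e2]
    exact Subgroup.relIndex_map_map_of_injective _ _ (MulAut.conj w).injective
  set C0 := V ⊓ (Ca ⊓ Cb) with hC0
  have hC0i : C0.relIndex V ≤ 4 := by
    rw [hC0, Subgroup.inf_relIndex_left] at *
    refine Subgroup.relIndex_inf_le.trans ?_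
    rw [hbi]
    calc Ca.relIndex V * Ca.relIndex V ≤ 2 * 2 := Nat.mul_le_mul hi2 hi2
      _ = 4 := rfl
  have hwodd : ∃ m, (w ^ 2) ^ m = w := by
    refine exists_pow_eq_self_of_coprime ?_
    rw [hwr]
    exact (Nat.coprime_primes Nat.prime_two hr).2 (by omega)
  have hfix : ∀ x ∈ C0, w * x = x * w := by
    intro x hx
    obtain ⟨-, h2⟩ := Subgroup.mem_inf.1 hx
    obtain ⟨h3, h4⟩ := Subgroup.mem_inf.1 h2
    rw [hCa, Subgroup.mem_centralizer_singleton_iff] at h3
    rw [hCb, Subgroup.mem_centralizer_singleton_iff] at h4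
    have h5 : Commute x (b * a) := Commute.mul_right h4 h3
    have e : b * a = w ^ 2 := by
      have hai : a⁻¹ = a := inv_eq_of_mul_eq_one_right ha2
      have h6 : a * w⁻¹ * a = w := by
        calc a * w⁻¹ * a = a * w⁻¹ * a⁻¹ := by rw [hai]
          _ = (a * w * a⁻¹)⁻¹ := by group
          _ = w := by rw [hinv, inv_inv]
      rw [pow_two]
      calc b * a = w * (a * w⁻¹ * a) := by rw [hb]; group
        _ = w * w := by rw [h6]
    rw [e] at h5
    obtain ⟨m, hm⟩ := hwodd
    have h7 := h5.pow_right m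
    rw [hm] at h7
    exact h7.symm.eq
  apply hw
  rw [Subgroup.mem_centralizer_iff]
  intro v hv
  by_contra hne
  set f : Fin 5 → ↥V ⧸ C0.subgroupOf V := fun i =>
    QuotientGroup.mk ⟨w ^ (i : ℕ) * v * (w ^ (i : ℕ))⁻¹, (Subgroup.mem_normalizer_iff.1 (pow_mem hwV _) v).1 hv⟩
  obtain ⟨i, j, hij, hfij⟩ : ∃ i j : Fin 5, i < j ∧ f i = f j := by
    let := Fintype.ofFinite (↥V ⧸ C0.subgroupOf V)
    obtain ⟨i, j, hne', he⟩ := Fintype.exists_ne_map_eq_of_card_lt f (by
      rw [Fintype.card_fin, ← Nat.card_eq_fintype_card]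
      exact Nat.lt_succ_of_le hC0i)
    rcases lt_or_gt_of_ne hne' with h | h
    · exact ⟨i, j, h, he⟩
    · exact ⟨j, i, h, he.symm⟩
  obtain ⟨k, hk⟩ := Nat.exists_eq_add_of_lt (show (i : ℕ) < j from hij)
  set d := (w ^ (i : ℕ) * v * (w ^ (i : ℕ))⁻¹)⁻¹ * (w ^ (j : ℕ) * v * (w ^ (j : ℕ))⁻¹) with hd
  have hdC : d ∈ C0 := Subgroup.mem_subgroupOf.1 (QuotientGroup.eq.1 hfij)
  have hzC : ∀ m : ℕ, ∀ x ∈ C0, w ^ m * x * (w ^ m)⁻¹ = x := fun m x hx => by
    rw [((show Commute w x from hfix x hx).pow_left m).eq, mul_inv_cancel_right]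
  have hk1 : w ^ (k + 1) * v * (w ^ (k + 1))⁻¹ * v⁻¹ ∈ C0 := by
    have hconjd : (w ^ (i : ℕ))⁻¹ * d * w ^ (i : ℕ) = d := by
      have := hzC i d hdC
      calc (w ^ (i : ℕ))⁻¹ * d * w ^ (i : ℕ) = (w ^ (i : ℕ))⁻¹ * (w ^ (i : ℕ) * d * (w ^ (i : ℕ))⁻¹) * w ^ (i : ℕ) := by
            rw [this]
        _ = d := by group
    have e : (w ^ (i : ℕ))⁻¹ * d * w ^ (i : ℕ) = v⁻¹ * (w ^ (k + 1) * v * (w ^ (k + 1))⁻¹) := by
      rw [hd, show (j : ℕ) = i + (k + 1) by omega, pow_add]; group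
    rw [hconjd] at e
    have hc := hVc _ ((Subgroup.mem_normalizer_iff.1 (pow_mem hwV (k + 1)) v).1 hv) _ (inv_mem hv)
    rw [hc, ← e]
    exact hdC
  obtain ⟨m, hm⟩ : ∃ m, (w ^ (k + 1)) ^ m = w := by
    refine exists_pow_eq_self_of_coprime ?_
    rw [hwr, Nat.coprime_comm, hr.coprime_iff_not_dvd]
    intro h
    have := Nat.le_of_dvd (Nat.succ_pos k) h
    have := j.2
    omega
  have h1 := pow_mul_shift (fun x hx => by rw [hzC _ x hx]; exact hx) hk1 m
  rw [hm] at h1
  obtain ⟨c, hc, hce⟩ : ∃ c ∈ C0, w * v * w⁻¹ = c * v := ⟨_, h1, by group⟩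
  have hpow : ∀ m : ℕ, w ^ m * v * (w ^ m)⁻¹ = c ^ m * v := by
    intro m
    induction m with
    | zero => simp
    | succ m ih =>
      calc w ^ (m + 1) * v * (w ^ (m + 1))⁻¹ = w * (w ^ m * v * (w ^ m)⁻¹) * w⁻¹ := by rw [pow_succ']; group
        _ = w * c ^ m * v * w⁻¹ := by rw [ih]; group
        _ = c ^ m * (w * v * w⁻¹) := by rw [((show Commute w c from hfix c hc).pow_right m).eq]; group
        _ = _ := by rw [hce, pow_succ]; group
  have h2 := hpow r
  rw [← hwr, pow_orderOf_eq_one, one_mul, inv_one, mul_one, eq_comm, mul_eq_right, hwr] at h2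
  have h3 : orderOf c = 1 := Nat.eq_one_of_dvd_coprimes ((Nat.coprime_primes hr Nat.prime_two).2 (by omega))
    (orderOf_dvd_of_pow_eq_one h2) (orderOf_dvd_of_pow_eq_one (by rw [pow_two]; exact hV2 c (Subgroup.mem_inf.1 hc).1))
  rw [orderOf_eq_one_iff] at h3
  rw [h3, one_mul, mul_inv_eq_iff_eq_mul] at hce
  exact hne hce.symm

/-- no offenders: the centralizer has index at least the square of the order -/
theorem sq_card_le_relIndex {V R : Subgroup Y} (hVc : ∀ x ∈ V, ∀ y ∈ V, x * y = y * x) (hV2 : ∀ x ∈ V, x * x = 1)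
    (hRodd : Odd (Nat.card R)) (hRV : R ≤ Subgroup.normalizer (V : Set Y))
    (hRf : R ⊓ Subgroup.centralizer (V : Set Y) = ⊥) : ∀ (n : ℕ) (A : Subgroup Y), Nat.card A = n →
      (∀ x ∈ A, ∀ y ∈ A, x * y = y * x) → (∀ x ∈ A, x * x = 1) → A ≤ Subgroup.normalizer (V : Set Y) →
      A ≤ Subgroup.normalizer (R : Set Y) → A ⊓ Subgroup.centralizer (R : Set Y) = ⊥ →
      (∀ a ∈ A, ∀ u ∈ R, orderOf u = 3 → a * u * a⁻¹ ≠ u⁻¹) →
      n ^ 2 ≤ (Subgroup.centralizer (A : Set Y)).relIndex V := by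
  classical
  have : Fact (Nat.Prime 2) := ⟨Nat.prime_two⟩
  intro n
  induction n using Nat.strong_induction_on with
  | _ n ih =>
  intro A hn hAc hA2 hAV hAR hAf hS3
  have hpos : ∀ H : Subgroup Y, 1 ≤ H.relIndex V := fun H => Nat.pos_of_ne_zero Subgroup.FiniteIndex.index_ne_zero
  by_cases hA1 : A = ⊥
  · rw [← hn, hA1, Subgroup.card_bot, one_pow]; exact hpos _
  obtain ⟨B, ⟨hBA, hBR⟩, hmax⟩ := (Set.toFinite {B : Subgroup Y | B ≤ A ∧
      ¬ (R ⊓ Subgroup.centralizer (B : Set Y)) ≤ Subgroup.centralizer (A : Set Y)}).exists_maximal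
    ⟨⊥, bot_le, fun h => hA1 (by
      rw [eq_bot_iff, ← hAf]
      refine le_inf le_rfl (Subgroup.le_centralizer_iff.mp ?_)
      exact fun q hq => h (Subgroup.mem_inf.mpr ⟨hq, Subgroup.mem_centralizer_iff.mpr fun x hx => by
        rw [SetLike.mem_coe, Subgroup.mem_bot] at hx
        simp [hx]⟩))⟩
  set Q₁ := R ⊓ Subgroup.centralizer (B : Set Y) with hQ₁
  have hBne : B ≠ A := fun h => hBR (h ▸ inf_le_right)
  obtain ⟨a, ha, haB⟩ := SetLike.exists_of_lt (lt_of_le_of_ne hBA hBne)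
  have hAinv : ∀ x ∈ A, x⁻¹ = x := fun x hx => inv_eq_of_mul_eq_one_right (hA2 x hx)
  have hAQ₁ : ∀ x ∈ A, ∀ q ∈ Q₁, x * q * x⁻¹ ∈ Q₁ := by
    intro x hx q hq
    obtain ⟨hqR, hqB⟩ := Subgroup.mem_inf.1 hq
    refine Subgroup.mem_inf.2 ⟨(Subgroup.mem_normalizer_iff.1 (hAR hx) q).1 hqR,
      Subgroup.mem_centralizer_iff.2 fun z hz => ?_⟩
    have hxz : Commute z x := hAc z (hBA hz) x hx
    exact ((hxz.mul_right (Subgroup.mem_centralizer_iff.1 hqB z hz)).mul_right hxz.inv_right).eq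
  have hA2' : IsPGroup 2 A := fun x => ⟨1, Subtype.ext (by simpa [pow_two] using hA2 x x.2)⟩
  obtain ⟨kA, hkA⟩ := hA2'.exists_card_eq
  have hcopA : ∀ D : Subgroup Y, D ≤ A → ∀ K : Subgroup Y, K ≤ R → (Nat.card D).Coprime (Nat.card K) := by
    intro D hD K hK
    refine Nat.Coprime.coprime_dvd_left (Subgroup.card_dvd_of_le hD) ?_
    rw [hkA]
    exact Nat.Coprime.pow_left _ (Nat.coprime_two_left.2 (hRodd.of_dvd_nat (Subgroup.card_dvd_of_le hK)))
  have hBa : B ⊔ Subgroup.zpowers a = A := by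
    by_contra hne
    obtain ⟨b, hb, hbBa⟩ := SetLike.exists_of_lt
      (lt_of_le_of_ne (sup_le hBA (Subgroup.zpowers_le.mpr ha)) hne)
    have hab : Commute a b := hAc a ha b hb
    let D : Subgroup Y :=
      { carrier := {d | d = 1 ∨ d = a ∨ d = b ∨ d = a * b}
        one_mem' := Or.inl rfl
        mul_mem' := by
          have haa := hA2 a ha
          have hbb := hA2 b hb
          have hba : b * a = a * b := hab.symm.eq
          rintro x y (rfl | rfl | rfl | rfl) (rfl | rfl | rfl | rfl) <;>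
            simp only [Set.mem_setOf_eq, one_mul, mul_one, haa, hbb, hba, true_or, or_true]
          · right; right; left; rw [← mul_assoc, haa, one_mul]
          · right; left; rw [← mul_assoc, hba, mul_assoc, hbb, mul_one]
          · right; right; left; rw [mul_assoc, hba, ← mul_assoc, haa, one_mul]
          · right; left; rw [mul_assoc, hbb, mul_one]
          · left
            rw [mul_assoc, ← mul_assoc b, hba, mul_assoc a b, hbb, mul_one, haa]
        inv_mem' := by
          rintro x (rfl | rfl | rfl | rfl)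
          · simp
          · rw [hAinv _ ha]; simp
          · rw [hAinv _ hb]; simp
          · rw [hAinv _ (mul_mem ha hb)]; simp }
    have hDA : D ≤ A := by
      rintro x (rfl | rfl | rfl | rfl)
      exacts [one_mem _, ha, hb, mul_mem ha hb]
    have ha1 : a ≠ 1 := fun h => haB (h ▸ one_mem _)
    have hbne : b ≠ a := fun h => hbBa (Subgroup.mem_sup_right (h ▸ Subgroup.mem_zpowers b))
    have hb1 : b ≠ 1 := fun h => hbBa (h ▸ one_mem _)
    have hDB : ∀ d ∈ D, d ∈ B → d = 1 := by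
      rintro d (rfl | rfl | rfl | rfl) hdB
      · rfl
      · exact absurd hdB haB
      · exact absurd (Subgroup.mem_sup_left hdB) hbBa
      · exfalso
        apply hbBa
        have := mul_mem (Subgroup.mem_sup_right (Subgroup.mem_zpowers a) : a ∈ B ⊔ Subgroup.zpowers a)
          (Subgroup.mem_sup_left hdB : a * b ∈ B ⊔ Subgroup.zpowers a)
        rwa [← mul_assoc, hA2 a ha, one_mul] at this
    have hDc : IsMulCommutative D := ⟨⟨fun x y => Subtype.ext (hAc x (hDA x.2) y (hDA y.2))⟩⟩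
    have hDcyc : ¬ IsCyclic D := by
      intro hcyc
      obtain ⟨g, hg⟩ := hcyc.exists_generator
      have hg2 : g * g = 1 := Subtype.ext (hA2 _ (hDA g.2))
      have hall : ∀ x : D, x = 1 ∨ x = g := by
        intro x
        obtain ⟨i, hi⟩ := hg x
        rcases Int.even_or_odd i with ⟨t, ht⟩ | ⟨t, ht⟩
        · left; rw [← hi, ht]; simp only []
          rw [_root_.zpow_add, ← (Commute.refl g).mul_zpow, hg2, one_zpow]
        · right; rw [← hi, ht]; simp only []
          rw [_root_.zpow_add, zpow_one, two_mul, _root_.zpow_add, ← (Commute.refl g).mul_zpow, hg2, one_zpow,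
            one_mul]
      rcases hall ⟨a, Or.inr (Or.inl rfl)⟩ with h | h
      · exact ha1 (congrArg Subtype.val h)
      · rcases hall ⟨b, Or.inr (Or.inr (Or.inl rfl))⟩ with h' | h'
        · exact hb1 (congrArg Subtype.val h')
        · exact hbne (congrArg Subtype.val (h'.trans h.symm))
    apply hBR
    rw [← Coprime.iSup_centralizer_eq (A := D) (K := Q₁) hDcyc (fun d hd => by
      rw [Subgroup.mem_normalizer_iff]
      refine fun q => ⟨hAQ₁ d (hDA hd) q, fun h => ?_⟩
      have := hAQ₁ d⁻¹ (inv_mem (hDA hd)) _ h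
      simpa [mul_assoc] using this) (hcopA D hDA Q₁ inf_le_left)]
    refine iSup₂_le fun d hd => ?_
    have hdA : d ∈ A := hDA hd.1
    have hBd : B < B ⊔ Subgroup.zpowers d := lt_of_le_of_ne le_sup_left fun h =>
      hd.2 (hDB d hd.1 (h ▸ Subgroup.mem_sup_right (Subgroup.mem_zpowers d)))
    by_contra hnot
    refine hBd.not_ge (hmax ⟨sup_le hBA (Subgroup.zpowers_le.mpr hdA), fun h => hnot ?_⟩ hBd.le)
    refine le_trans (le_inf (inf_le_left.trans inf_le_left) ?_) h
    refine Subgroup.le_centralizer_iff.mp (sup_le ?_ (Subgroup.zpowers_le.mpr ?_))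
    · exact Subgroup.le_centralizer_iff.mp (inf_le_left.trans inf_le_right)
    · refine Subgroup.mem_centralizer_iff.mpr fun q hq => ?_
      exact Subgroup.mem_centralizer_singleton_iff.mp (Subgroup.mem_inf.mp hq).2
  have hzn : ∀ Z : Subgroup Y, Z ≤ A → Subgroup.zpowers a ≤ Subgroup.normalizer (Z : Set Y) := by
    intro Z hZ
    rw [Subgroup.le_normalizer_iff]
    intro x hx z hz
    rw [hAc x (Subgroup.zpowers_le.2 ha hx) z (hZ hz), mul_inv_cancel_right]
    exact hz
  have hcardA : Nat.card A = Nat.card B * 2 := by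
    have h := Coprime.card_sup_mul_card_inf (N := B) (H := Subgroup.zpowers a) (hzn B hBA)
    have ho : orderOf a = 2 := orderOf_eq_prime (by rw [pow_two]; exact hA2 a ha) (fun h => haB (h ▸ one_mem _))
    have hbot : B ⊓ Subgroup.zpowers a = ⊥ := by
      rw [eq_bot_iff]
      intro x hx
      obtain ⟨hxB, i, rfl⟩ := Subgroup.mem_inf.1 hx
      rw [Subgroup.mem_bot]
      rcases Int.even_or_odd i with ⟨t, ht⟩ | ⟨t, ht⟩
      · show a ^ i = 1
        rw [ht, _root_.zpow_add, ← (Commute.refl a).mul_zpow, hA2 a ha, one_zpow]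
      · exfalso
        apply haB
        have : a ^ i = a := by
          rw [ht, _root_.zpow_add, zpow_one, two_mul, _root_.zpow_add, ← (Commute.refl a).mul_zpow, hA2 a ha,
            one_zpow, one_mul]
        exact this ▸ hxB
    rw [hBa, hbot, Subgroup.card_bot, mul_one, Nat.card_zpowers, ho] at h
    exact h
  -- the inverted element
  obtain ⟨q, hq, hqa⟩ : ∃ q ∈ Q₁, a * q ≠ q * a := by
    by_contra h
    push Not at h
    apply hBR
    intro q hq
    rw [← hBa]
    refine Subgroup.le_centralizer_iff.mp (sup_le ?_ (Subgroup.zpowers_le.mpr ?_)) (Subgroup.mem_zpowers q)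
    · exact Subgroup.le_centralizer_iff.mp (Subgroup.zpowers_le.mpr (Subgroup.mem_inf.1 hq).2)
    · refine Subgroup.mem_centralizer_iff.mpr ?_
      rintro _ ⟨i, rfl⟩
      exact ((show Commute a q from h q hq).zpow_right i).eq.symm
  set u := q⁻¹ * (a * q * a⁻¹) with hu
  have huQ : u ∈ Q₁ := mul_mem (inv_mem hq) (hAQ₁ a ha q hq)
  have huinv : a * u * a⁻¹ = u⁻¹ := by
    rw [hu, mul_inv_rev, inv_inv]
    calc a * (q⁻¹ * (a * q * a⁻¹)) * a⁻¹ = (a * q⁻¹ * a⁻¹) * (a * a) * q * (a * a)⁻¹ := by group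
      _ = _ := by rw [hA2 a ha]; group
  have hu1 : u ≠ 1 := fun h => hqa (by
    rw [hu, inv_mul_eq_one, eq_mul_inv_iff_mul_eq] at h; exact h.symm)
  obtain ⟨r, hrp, hrd⟩ := Nat.exists_prime_and_dvd (fun h => hu1 (orderOf_eq_one_iff.1 h))
  set w := u ^ (orderOf u / r) with hw
  have hwQ : w ∈ Q₁ := pow_mem huQ _
  have hwr : orderOf w = r := by
    rw [hw, orderOf_pow_of_dvd (Nat.div_ne_zero_iff.2 ⟨hrp.ne_zero, Nat.le_of_dvd (orderOf_pos u) hrd⟩)
      (Nat.div_dvd_of_dvd hrd), Nat.div_div_self hrd (orderOf_pos u).ne']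
  have hwinv : a * w * a⁻¹ = w⁻¹ := by rw [hw, ← conj_pow, huinv, inv_pow]
  have hwR : w ∈ R := (Subgroup.mem_inf.1 hwQ).1
  have hr5 : 5 ≤ r := by
    have h2 : r ≠ 2 := by
      rintro rfl
      have := hRodd.of_dvd_nat (R.orderOf_dvd_natCard hwR)
      rw [hwr] at this
      exact absurd this (by decide)
    have h3 : r ≠ 3 := by rintro rfl; exact hS3 a ha w hwR hwr hwinv
    have h4 : r ≠ 4 := by rintro rfl; exact absurd hrp (by decide)
    have := hrp.two_le
    omega
  set VB := V ⊓ Subgroup.centralizer (B : Set Y) with hVB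
  have hwnV : w ∈ Subgroup.normalizer (V : Set Y) := hRV hwR
  have hnorm : ∀ g ∈ Subgroup.normalizer (V : Set Y), (∀ z ∈ B, g * z = z * g) →
      g ∈ Subgroup.normalizer (VB : Set Y) := fun g hg hgB =>
    Subgroup.inf_normalizer_le_normalizer_inf (Subgroup.mem_inf.2 ⟨hg, Subgroup.le_normalizer
      (Subgroup.mem_centralizer_iff.2 fun z hz => (hgB z hz).symm)⟩)
  have hwB : ∀ z ∈ B, w * z = z * w := fun z hz =>
    (Subgroup.mem_centralizer_iff.1 (Subgroup.mem_inf.1 hwQ).2 z hz).symm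
  have hwnc : w ∉ Subgroup.centralizer (VB : Set Y) := by
    intro h
    have hle := Coprime.le_centralizer_of_PxQ (p := 2) (P := B) (Q := Subgroup.zpowers w) (U := V)
      (hA2'.to_le hBA) (by
        rw [Nat.coprime_two_right]
        exact hRodd.of_dvd_nat (Subgroup.card_dvd_of_le (Subgroup.zpowers_le.2 hwR)))
      (fun v => ⟨1, Subtype.ext (by simpa [pow_two] using hV2 v v.2)⟩)
      (fun z hz => Subgroup.mem_centralizer_iff.2 (by
        rintro _ ⟨i, rfl⟩
        exact ((show Commute w z from hwB z hz).zpow_left i).eq))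
      (hBA.trans hAV) (Subgroup.zpowers_le.2 hwnV)
      (Subgroup.le_centralizer_iff.1 (Subgroup.zpowers_le.2 h))
    have hw1 : w = 1 := Subgroup.mem_bot.1 (hRf ▸ Subgroup.mem_inf.2 ⟨hwR, hle (Subgroup.mem_zpowers w)⟩)
    rw [hw1, orderOf_one] at hwr
    omega
  have h4 := four_le_relIndex (V := VB) (fun x hx y hy => hVc x (Subgroup.mem_inf.1 hx).1 y (Subgroup.mem_inf.1 hy).1)
    (fun x hx => hV2 x (Subgroup.mem_inf.1 hx).1) hrp hr5 hwr (hA2 a ha)
    (hnorm a (hAV ha) fun z hz => hAc a ha z (hBA hz)) (hnorm w hwnV hwB) hwinv hwnc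
  have hIH := ih _ (by rw [← hn, hcardA]; have := Nat.card_pos (α := B); omega) B rfl
    (fun x hx y hy => hAc x (hBA hx) y (hBA hy)) (fun x hx => hA2 x (hBA hx)) (hBA.trans hAV) (hBA.trans hAR)
    (le_bot_iff.1 (hAf ▸ inf_le_inf_right _ hBA)) (fun x hx => hS3 x (hBA hx))
  have hCA : Subgroup.centralizer (A : Set Y) ⊓ V = Subgroup.centralizer ({a} : Set Y) ⊓ VB := by
    ext x
    simp only [hVB, Subgroup.mem_inf]
    constructor
    · rintro ⟨h1, h2⟩
      exact ⟨Subgroup.mem_centralizer_singleton_iff.2 (Subgroup.mem_centralizer_iff.1 h1 a ha).symm, h2,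
        Subgroup.centralizer_le hBA h1⟩
    · rintro ⟨h1, h2, h3⟩
      refine ⟨?_, h2⟩
      rw [← hBa]
      refine Subgroup.le_centralizer_iff.mp (sup_le ?_ (Subgroup.zpowers_le.mpr ?_)) (Subgroup.mem_zpowers x)
      · exact Subgroup.le_centralizer_iff.mp (Subgroup.zpowers_le.mpr h3)
      · refine Subgroup.mem_centralizer_iff.mpr ?_
        rintro _ ⟨i, rfl⟩
        exact ((show Commute x a from Subgroup.mem_centralizer_singleton_iff.1 h1).zpow_left i).eq
  have hmul := Subgroup.relIndex_mul_relIndex (Subgroup.centralizer ({a} : Set Y) ⊓ VB) VB V inf_le_right inf_le_left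
  rw [← hCA, Subgroup.inf_relIndex_right, hCA, Subgroup.inf_relIndex_right] at hmul
  have hVBi : VB.relIndex V = (Subgroup.centralizer (B : Set Y)).relIndex V := by
    rw [hVB, Subgroup.inf_relIndex_left]
  rw [← hmul, hVBi, ← hn, hcardA]
  calc (Nat.card B * 2) ^ 2 = 4 * Nat.card B ^ 2 := by ring
    _ ≤ _ := Nat.mul_le_mul h4 hIH

end Cfsg.Agent.Lib.FusionControl
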