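import Cfsg.Agent.Lib.FusionControl.OrthSylowForms

/-!
The three standard forms.
-/

set_option autoImplicit false
set_option maxHeartbeats 800000

namespace Cfsg.Agent.Lib.FusionControl.OrthSylow

open QuadraticMap (polarBilin)
open Cfsg.Agent.Lib.Geometry
open Cfsg.Agent.Lib.Geometry.GraphAut (oddMatrix quadFormOdd_eq det_oddGram)
open Cfsg.Agent.Lib.FusionControl.WreathSquares
open Cfsg.Agent.Lib.Classical (card_orth_plus card_orth_minus card_orth_odd)

attribute [-simp] QuadraticMap.polarBilin_apply_apply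

variable {F : Type*} [Field F] [Fintype F]

theorem gram_eq {ι : Type} [Fintype ι] [DecidableEq ι] (M : Matrix ι ι F) :
    (Matrix.of fun i j => polarBilin (matQuad M) (Pi.single i 1) (Pi.single j 1)) = M + M.transpose :=
  Matrix.ext fun _ _ => polarBilin_matQuad_single _ _ _

/-- Even dimension: `N` is the last factor of the order. -/
theorem sqInDerived_even {ι : Type} [Fintype ι] [DecidableEq ι] (hF : Odd (Fintype.card F))
    (R : QuadraticForm F (ι → F)) (hR : (polarBilin R).Nondegenerate) {n : ℕ} (hι : Fintype.card ι = 2 * n)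
    {D : F} (hD : (Matrix.of fun i j => polarBilin R (Pi.single i 1) (Pi.single j 1)).det = D) (hD0 : D ≠ 0)
    {N : ℕ}
    (hcard : padicValNat 2 (Nat.card (Cfsg.isometryGroup F ⇑R)) = 1 + padicValNat 2 N + (n - 1) *
      (padicValNat 2 (Fintype.card F + 1) + padicValNat 2 (Fintype.card F - 1)) + padicValNat 2 (n - 1).factorial)
    (hsq : IsSquare D → 2 ≤ n ∧ padicValNat 2 N + 1 =
      padicValNat 2 (Fintype.card F + 1) + padicValNat 2 (Fintype.card F - 1) + padicValNat 2 n)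
    (hns : ¬ IsSquare D → 3 ≤ n ∧ padicValNat 2 N = 1)
    (P : Sylow 2 (Cfsg.Omega F ⇑R)) : SqInDerived ↥(P : Subgroup (Cfsg.Omega F ⇑R)) := by
  have : Fact (Nat.Prime 2) := ⟨Nat.prime_two⟩
  have h2 := two_ne_zero_of_odd_card hF
  by_cases hs : IsSquare D
  · obtain ⟨hn, hN⟩ := hsq hs
    refine sqInDerived_omega (m := n) (k := 0) ![] R h2 hR hn (fun e => e.elim0) (by omega) ?_ (val_q2 hF) ?_ P
    · rw [hD]
      obtain ⟨r, hr⟩ := hs
      exact ⟨r * 2 ^ n, by simp [hr]; ring⟩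
    · rw [hcard]
      obtain ⟨j, rfl⟩ : ∃ j, n = j + 1 := ⟨n - 1, by omega⟩
      rw [Nat.add_sub_cancel, Nat.factorial_succ, padicValNat.mul (by omega) (Nat.factorial_ne_zero _), Nat.add_mul,
        one_mul]
      omega
  · obtain ⟨hn, hN⟩ := hns hs
    refine sqInDerived_omega (m := n - 1) (k := 2) ![1, D] R h2 hR (by omega)
      (fun e => by fin_cases e <;> simp [hD0]) (by omega) ?_ (val_q2 hF) ?_ P
    · rw [hD, show 2 * (n - 1) + 2 = 2 * n by omega, Fin.prod_univ_two]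
      exact ⟨D * 2 ^ n, by simp; ring⟩
    · rw [hcard, hN]
      omega

theorem sqInDerived_oddDim (hF : Odd (Fintype.card F)) {m : ℕ} (hm : 2 ≤ m)
    (P : Sylow 2 (Cfsg.Omega F (Cfsg.quadFormOdd m F))) :
    SqInDerived ↥(P : Subgroup (Cfsg.Omega F (Cfsg.quadFormOdd m F))) := by
  have : Fact (Nat.Prime 2) := ⟨Nat.prime_two⟩
  have h2 := two_ne_zero_of_odd_card hF
  have hq : 1 < Fintype.card F := Fintype.one_lt_card
  have hcard := card_orth_odd (F := F) rfl hF m
  revert P hcard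
  rw [quadFormOdd_eq]
  intro P hcard
  refine sqInDerived_omega (m := m) (k := 1) ![(-1 : F) ^ m] _ h2 (polarBilin_matQuad_nondegenerate (by
    rw [det_oddGram]; exact mul_ne_zero h2 (pow_ne_zero _ (neg_ne_zero.mpr one_ne_zero)))) hm
    (fun e => by simp) (by simp; omega) ?_ (val_q2 hF) ?_ P
  · rw [gram_eq, det_oddGram, Fin.prod_univ_one]
    exact ⟨2 ^ (m + 1) * (-1) ^ m, by simp; ring⟩
  · have hp : ∏ i ∈ Finset.range m, (Fintype.card F ^ (2 * (i + 1)) - 1) ≠ 0 :=
      Finset.prod_ne_zero_iff.mpr fun i _ => (Nat.sub_pos_of_lt (Nat.one_lt_pow (by omega) hq)).ne'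
    rw [hcard, padicValNat.mul (Nat.mul_ne_zero (by norm_num) (pow_ne_zero _ (by omega))) hp,
      padicValNat.mul (by norm_num) (pow_ne_zero _ (by omega)), padicValNat.self (by norm_num),
      padicValNat.eq_zero_of_not_dvd (n := Fintype.card F ^ m ^ 2)
        (fun h => Nat.not_even_iff_odd.mpr hF.pow (even_iff_two_dvd.mpr h)),
      TwoPart.val_prod_even hq hF]
    omega

theorem val_card_even (hF : Odd (Fintype.card F)) {n e N : ℕ} (hN : N ≠ 0) :
    padicValNat 2 (2 * Fintype.card F ^ e * N * ∏ i ∈ Finset.range (n - 1), (Fintype.card F ^ (2 * (i + 1)) - 1)) =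
      1 + padicValNat 2 N + (n - 1) *
      (padicValNat 2 (Fintype.card F + 1) + padicValNat 2 (Fintype.card F - 1)) + padicValNat 2 (n - 1).factorial := by
  have : Fact (Nat.Prime 2) := ⟨Nat.prime_two⟩
  have hq : 1 < Fintype.card F := Fintype.one_lt_card
  have hp : ∏ i ∈ Finset.range (n - 1), (Fintype.card F ^ (2 * (i + 1)) - 1) ≠ 0 :=
    Finset.prod_ne_zero_iff.mpr fun i _ => (Nat.sub_pos_of_lt (Nat.one_lt_pow (by omega) hq)).ne'
  have hqe : Fintype.card F ^ e ≠ 0 := pow_ne_zero _ (by omega)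
  rw [padicValNat.mul (Nat.mul_ne_zero (Nat.mul_ne_zero (by norm_num) hqe) hN) hp,
    padicValNat.mul (Nat.mul_ne_zero (by norm_num) hqe) hN,
    padicValNat.mul (by norm_num) hqe, padicValNat.self (by norm_num),
    padicValNat.eq_zero_of_not_dvd (n := Fintype.card F ^ e)
      (fun h => Nat.not_even_iff_odd.mpr hF.pow (even_iff_two_dvd.mpr h)), TwoPart.val_prod_even hq hF]
  omega

theorem sqInDerived_plus (hF : Odd (Fintype.card F)) {m : ℕ} (hm : 1 ≤ m) (hm' : Even m ∨ 4 ≤ m)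
    (P : Sylow 2 (Cfsg.Omega F (Cfsg.quadFormPlus m F))) :
    SqInDerived ↥(P : Subgroup (Cfsg.Omega F (Cfsg.quadFormPlus m F))) := by
  have hq : 1 < Fintype.card F := Fintype.one_lt_card
  have hm2 : 2 ≤ m := by
    rcases hm' with ⟨r, hr⟩ | h <;> omega
  have hcard := card_orth_plus (F := F) rfl m hm
  revert P hcard
  rw [quadFormPlus_eq]
  intro P hcard
  have h0 : ((-1 : F) ^ m) ≠ 0 := pow_ne_zero _ (neg_ne_zero.mpr one_ne_zero)
  have hpm := val_pow_pm hq hF (show m ≠ 0 by omega)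
  have hmod : Fintype.card F ^ m % 4 = 1 ∨ Fintype.card F ^ m % 4 = 3 := by
    obtain ⟨r, hr⟩ := hF.pow (n := m); omega
  refine sqInDerived_even hF _ (polarBilin_matQuad_nondegenerate (by rw [det_plusGram]; exact h0))
    (n := m) (by simp; omega) (D := (-1) ^ m) (by rw [gram_eq, det_plusGram]) h0
    (N := Fintype.card F ^ m - 1) ?_ ?_ ?_ P
  · rw [hcard, val_card_even hF (Nat.sub_pos_of_lt (Nat.one_lt_pow (by omega) hq)).ne']
  · intro hs
    have h4 := (sqClass_neg_one_pow hF m).mp (sqClass_eq_one_iff.mpr hs)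
    exact ⟨hm2, (hpm.1 h4).2⟩
  · intro hs
    have h4 : Fintype.card F ^ m % 4 = 3 := by
      rcases hmod with h | h
      · exact absurd (sqClass_eq_one_iff.mp ((sqClass_neg_one_pow hF m).mpr h)) hs
      · exact h
    refine ⟨?_, (hpm.2 h4).1⟩
    rcases hm' with he | h
    · exact absurd (by rw [he.neg_one_pow]; exact IsSquare.one) hs
    · omega

theorem sqInDerived_minus (hF : Odd (Fintype.card F)) {m : ℕ} (hm : 3 ≤ m) {a b : F}
    (hab : ∀ z₁ z₂ : F, z₁ ^ 2 + a * z₁ * z₂ + b * z₂ ^ 2 = 0 → z₁ = 0 ∧ z₂ = 0)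
    (P : Sylow 2 (Cfsg.Omega F (Cfsg.quadFormMinus (m - 1) F a b))) :
    SqInDerived ↥(P : Subgroup (Cfsg.Omega F (Cfsg.quadFormMinus (m - 1) F a b))) := by
  have hq : 1 < Fintype.card F := Fintype.one_lt_card
  have h2 := two_ne_zero_of_odd_card hF
  have hcard := card_orth_minus (F := F) rfl m (by omega) a b hab
  obtain ⟨j, rfl⟩ : ∃ j, m = j + 1 := ⟨m - 1, by omega⟩
  revert P hcard
  rw [show j + 1 - 1 = j from rfl, quadFormMinus_eq]
  intro P hcard
  have hE := discr_not_isSquare h2 hab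
  have hE0 : a ^ 2 - 4 * b ≠ 0 := fun h => hE (by rw [h]; exact ⟨0, by rw [mul_zero]⟩)
  have hD0 : (-1 : F) ^ j * (4 * b - a ^ 2) ≠ 0 :=
    mul_ne_zero (pow_ne_zero _ (neg_ne_zero.mpr one_ne_zero)) fun h => hE0 (by linear_combination -h)
  have hpm := val_pow_pm hq hF (show j + 1 ≠ 0 by omega)
  have hmod : Fintype.card F ^ (j + 1) % 4 = 1 ∨ Fintype.card F ^ (j + 1) % 4 = 3 := by
    obtain ⟨r, hr⟩ := hF.pow (n := j + 1); omega
  have hDsq : sqClass ((-1 : F) ^ j * (4 * b - a ^ 2)) = sqClass ((-1 : F) ^ (j + 1)) * -1 := by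
    rw [show ((-1 : F) ^ j * (4 * b - a ^ 2)) = (-1) ^ (j + 1) * (a ^ 2 - 4 * b) by ring,
      sqClass_mul (pow_ne_zero _ (neg_ne_zero.mpr one_ne_zero)) hE0, sqClass_eq_neg_one_iff.mpr hE]
  refine sqInDerived_even hF _ (polarBilin_matQuad_nondegenerate (by rw [det_minusGram]; exact hD0))
    (n := j + 1) (by simp; omega) (D := (-1) ^ j * (4 * b - a ^ 2)) (by rw [gram_eq, det_minusGram]) hD0
    (N := Fintype.card F ^ (j + 1) + 1) ?_ ?_ ?_ P
  · rw [hcard]
    have h := val_card_even hF (n := j + 1) (e := (j + 1) * j) (Nat.succ_ne_zero (Fintype.card F ^ (j + 1)))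
    simp only [Nat.add_sub_cancel] at h ⊢
    exact h
  · intro hs
    rw [← sqClass_eq_one_iff, hDsq] at hs
    have h4 : Fintype.card F ^ (j + 1) % 4 = 3 := by
      rcases hmod with h | h
      · rw [(sqClass_neg_one_pow hF (j + 1)).mpr h] at hs
        exact absurd hs (by decide)
      · exact h
    exact ⟨by omega, (hpm.2 h4).2⟩
  · intro hs
    have hs' : sqClass ((-1 : F) ^ j * (4 * b - a ^ 2)) = -1 := sqClass_eq_neg_one_iff.mpr hs
    rw [hDsq] at hs'
    have h4 : Fintype.card F ^ (j + 1) % 4 = 1 := by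
      refine (sqClass_neg_one_pow hF (j + 1)).mp ?_
      rcases Int.units_eq_one_or (sqClass ((-1 : F) ^ (j + 1))) with h | h
      · exact h
      · rw [h] at hs'
        exact absurd hs' (by decide)
    exact ⟨hm, (hpm.1 h4).1⟩

end Cfsg.Agent.Lib.FusionControl.OrthSylow
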