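import Mathlib
import Cfsg.Agent.Lib.FusionControl.WreathSquares

/-!
The kernel of a map to an abelian group on a group generated by involutions.
-/

set_option autoImplicit false

namespace Cfsg.Agent.Lib.FusionControl.OrthSylow

open Cfsg.Agent.Lib.FusionControl.WreathSquares

variable {G A : Type*} [Group G] [CommGroup A] (χ : G →* A)

/-- An element of the group linking `x` to `a`. -/
def Link (S : Subgroup G) (x a : G) : Prop :=
  ∃ d ∈ S, d * d = 1 ∧ χ d = χ a ∧ Commute x d ∧ Commute d a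

theorem sqInDerived_ker (X : Set G) (hX : ∀ x ∈ X, x * x = 1) {a b : G}
    (haS : a ∈ Subgroup.closure X) (hbS : b ∈ Subgroup.closure X) (ha : a * a = 1) (hb : b * b = 1)
    (ha1 : χ a ≠ 1) (hb1 : χ b ≠ 1) (hab1 : χ a ≠ χ b)
    (hx : ∀ x ∈ X, χ x = 1 ∨ (χ x = χ a ∧ Link χ (Subgroup.closure X) x a) ∨
      (χ x = χ b ∧ Link χ (Subgroup.closure X) x b))
    (hd : ∃ d ∈ Subgroup.closure X, d * d = 1 ∧ χ d = χ a ∧ Commute d a ∧ Commute d b) :
    SqInDerived ↥(Subgroup.closure X ⊓ χ.ker) := by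
  set S := Subgroup.closure X with hS
  set P := S ⊓ χ.ker with hP
  set J : Set G := {g | g ∈ P ∧ g * g = 1} with hJ
  set M := Subgroup.closure J with hM
  have hMP : M ≤ P := (Subgroup.closure_le _).mpr fun g hg => hg.1
  have hinvol : ∀ g, g ∈ S → χ g = 1 → g * g = 1 → g ∈ M := fun g h1 h2 h3 =>
    Subgroup.subset_closure ⟨⟨h1, h2⟩, h3⟩
  have hconj : ∀ k ∈ S, ∀ g ∈ M, k * g * k⁻¹ ∈ M := by
    intro k hk g hg
    have hle : M ≤ M.comap (MulAut.conj k).toMonoidHom := by
      refine (Subgroup.closure_le _).mpr fun j hj => ?_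
      show k * j * k⁻¹ ∈ M
      refine hinvol _ (mul_mem (mul_mem hk hj.1.1) (inv_mem hk)) ?_ ?_
      · rw [map_mul, map_mul, show χ j = 1 from hj.1.2, mul_one, map_inv, mul_inv_cancel]
      · rw [show k * j * k⁻¹ * (k * j * k⁻¹) = k * (j * j) * k⁻¹ by group, hj.2, mul_one, mul_inv_cancel]
    exact hle hg
  have inv_self : ∀ {g : G}, g * g = 1 → g⁻¹ = g := fun h => inv_eq_of_mul_eq_one_left h
  have hlink : ∀ {x u : G}, u ∈ S → u * u = 1 → x ∈ X → χ x = χ u → Link χ S x u → u * x ∈ M := by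
    rintro x u hu huu hxX hxu ⟨d, hd1, hdd, hdu, hxd, hdc⟩
    have e : u * x = (u * d) * (d * x) := by
      rw [mul_assoc, ← mul_assoc d d x, hdd, one_mul]
    rw [e]
    have huv : χ u * χ u = 1 := by rw [← map_mul, huu, map_one]
    refine mul_mem (hinvol _ (mul_mem hu hd1) ?_ ?_)
      (hinvol _ (mul_mem hd1 (Subgroup.subset_closure hxX)) ?_ ?_)
    · rw [map_mul, hdu, huv]
    · rw [show u * d * (u * d) = u * (d * u) * d by group, hdc.eq, ← mul_assoc, huu, one_mul, hdd]
    · rw [map_mul, hdu, hxu, huv]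
    · rw [show d * x * (d * x) = d * (x * d) * x by group, hxd.eq, ← mul_assoc, hdd, one_mul,
        hX x hxX]
  have habab : a * b * (a * b) ∈ M := by
    obtain ⟨d, hd1, hdd, hda, hcda, hcdb⟩ := hd
    have e : a * b * (a * b) = (a * d) * (b * (a * d) * b) := by
      calc a * b * (a * b) = a * (d * d) * (b * (a * b)) := by rw [hdd]; group
        _ = a * d * (d * b) * (a * b) := by group
        _ = a * d * (b * (d * a) * b) := by rw [hcdb.eq]; group
        _ = a * d * (b * (a * d) * b) := by rw [hcda.eq]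
    have hadP : χ (a * d) = 1 := by rw [map_mul, hda, ← map_mul, ha, map_one]
    have hadm : a * d ∈ M := hinvol _ (mul_mem haS hd1) hadP (by
      rw [show a * d * (a * d) = a * (d * a) * d by group, hcda.eq, ← mul_assoc, ha, one_mul, hdd])
    rw [e]
    refine mul_mem hadm ?_
    have := hconj b hbS _ hadm
    rwa [inv_self hb] at this
  set K : Set G := {1, a, b, a * b} with hK
  have hKS : ∀ k ∈ K, k ∈ S := by
    rintro k (rfl | rfl | rfl | rfl)
    · exact one_mem _
    · exact haS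
    · exact hbS
    · exact mul_mem haS hbS
  have key : ∀ g ∈ S, ∃ k ∈ K, k⁻¹ * g ∈ M := by
    have step : ∀ x ∈ X, ∀ g, (∃ k ∈ K, k⁻¹ * g ∈ M) → ∃ k ∈ K, k⁻¹ * (x * g) ∈ M := by
      rintro x hxX g ⟨k, hk, hkg⟩
      have hkS := hKS k hk
      -- `x = r * m` with `r ∈ {1, a, b}`
      obtain ⟨r, hr, hrx⟩ : ∃ r, (r = 1 ∨ r = a ∨ r = b) ∧ r⁻¹ * x ∈ M := by
        rcases hx x hxX with h | ⟨h, hl⟩ | ⟨h, hl⟩
        · exact ⟨1, Or.inl rfl, by rw [inv_one, one_mul]; exact hinvol _ (Subgroup.subset_closure hxX) h (hX x hxX)⟩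
        · exact ⟨a, Or.inr (Or.inl rfl), by rw [inv_self ha]; exact hlink haS ha hxX h hl⟩
        · exact ⟨b, Or.inr (Or.inr rfl), by rw [inv_self hb]; exact hlink hbS hb hxX h hl⟩
      obtain ⟨k', hk', hkk⟩ : ∃ k' ∈ K, k'⁻¹ * (r * k) ∈ M := by
        have hbaba : b * a * (b * a) ∈ M := by
          have := inv_mem habab
          rwa [mul_inv_rev, mul_inv_rev, inv_self ha, inv_self hb] at this
        rcases hr with rfl | rfl | rfl
        · exact ⟨k, hk, by rw [one_mul, inv_mul_cancel]; exact one_mem _⟩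
        · rcases hk with rfl | rfl | rfl | rfl
          · exact ⟨_, Or.inr (Or.inl rfl), by rw [mul_one, inv_mul_cancel]; exact one_mem _⟩
          · exact ⟨1, Or.inl rfl, by rw [ha, inv_one, one_mul]; exact one_mem _⟩
          · exact ⟨_, Or.inr (Or.inr (Or.inr rfl)), by rw [inv_mul_cancel]; exact one_mem _⟩
          · exact ⟨b, Or.inr (Or.inr (Or.inl rfl)), by
              rw [← mul_assoc r r b, ha, one_mul, inv_mul_cancel]; exact one_mem _⟩
        · rcases hk with rfl | rfl | rfl | rfl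
          · exact ⟨_, Or.inr (Or.inr (Or.inl rfl)), by rw [mul_one, inv_mul_cancel]; exact one_mem _⟩
          · exact ⟨_, Or.inr (Or.inr (Or.inr rfl)), by
              rw [mul_inv_rev, inv_self ha, inv_self hb]; exact hbaba⟩
          · exact ⟨1, Or.inl rfl, by rw [hb, inv_one, one_mul]; exact one_mem _⟩
          · exact ⟨a, Or.inr (Or.inl rfl), by
              rw [inv_self ha, show a * (r * (a * r)) = a * r * (a * r) by group]; exact habab⟩
      refine ⟨k', hk', ?_⟩
      have h1 : k⁻¹ * (r⁻¹ * x) * k ∈ M := by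
        have := hconj k⁻¹ (inv_mem hkS) _ hrx
        rwa [inv_inv] at this
      have e : k'⁻¹ * (x * g) = (k'⁻¹ * (r * k)) * (k⁻¹ * (r⁻¹ * x) * k) * (k⁻¹ * g) := by group
      rw [e]
      exact mul_mem (mul_mem hkk h1) hkg
    intro g hg
    induction hg using Subgroup.closure_induction_left with
    | one => exact ⟨1, Or.inl rfl, by rw [inv_one, one_mul]; exact one_mem _⟩
    | mul_left x hxX y _ ih => exact step x hxX y ih
    | inv_mul_cancel x hxX y _ ih =>
      rw [inv_self (hX x hxX)]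
      exact step x hxX y ih
  refine sqInDerived_of_gen P J ?_ (fun g hg => hg.1) fun g hg => by rw [pow_two, hg.2]; exact one_mem _
  intro g hg
  obtain ⟨k, hk, hkg⟩ := key g hg.1
  have h1 : χ k = 1 := by
    have h2 : χ (k⁻¹ * g) = 1 := (hMP hkg).2
    rwa [map_mul, show χ g = 1 from hg.2, mul_one, map_inv, inv_eq_one] at h2
  rcases hk with rfl | rfl | rfl | rfl
  · simpa using hkg
  · exact absurd h1 ha1
  · exact absurd h1 hb1
  · exfalso
    refine hab1 ?_
    have hbb : χ b * χ b = 1 := by rw [← map_mul, hb, map_one]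
    rw [map_mul] at h1
    calc χ a = χ a * (χ b * χ b) := by rw [hbb, mul_one]
      _ = χ b := by rw [← mul_assoc, h1, one_mul]

end Cfsg.Agent.Lib.FusionControl.OrthSylow
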