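import Cfsg.Agent.Lib.FusionControl.OrthSylowMain
import Cfsg.Agent.Lib.Geometry.GraphAut.Odd

/-!
Transfer of the model to the standard forms, and the 2-parts of the orders.
-/

set_option autoImplicit false
set_option maxHeartbeats 800000

namespace Cfsg.Agent.Lib.FusionControl.OrthSylow

open QuadraticMap (polarBilin)
open Cfsg.Agent.Lib.Geometry
open Cfsg.Agent.Lib.FusionControl.WreathSquares
open Cfsg.Agent.Lib.Classical (card_quadIsometries_congr card_isometryGroup_eq card_orth_plus card_orth_minus card_orth_odd isometryMulEquiv)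

attribute [-simp] QuadraticMap.polarBilin_apply_apply

variable {F : Type*} [Field F] [Fintype F] {m k : ℕ} (c : Fin k → F)

/-- The model space as coordinates. -/
def eK : (((Fin m ⊕ Fin m) ⊕ Fin k) → F) ≃ₗ[F] VV F m k where
  toFun x := (fun i => (x (.inl (.inl i)), x (.inl (.inr i))), fun e => x (.inr e))
  map_add' _ _ := rfl
  map_smul' _ _ := rfl
  invFun p := Sum.elim (Sum.elim (fun i => (p.1 i).1) fun i => (p.1 i).2) p.2
  left_inv x := by funext t; rcases t with (i | i) | e <;> rfl
  right_inv p := rfl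

theorem polar_eK (x y : (Fin m ⊕ Fin m) ⊕ Fin k → F) :
    polarBilin (Qd c) (eK x) (eK y) = ∑ t, 2 * (Sum.elim (fun _ => (1 : F)) c t) * (x t * y t) := by
  rw [polar_Qd, Fintype.sum_sum_type, Fintype.sum_sum_type, ← Finset.sum_add_distrib]
  refine congrArg₂ (· + ·) (Finset.sum_congr rfl fun i _ => ?_) rfl
  rw [polar_q2]
  show 2 * (x (.inl (.inl i)) * y (.inl (.inl i)) + x (.inl (.inr i)) * y (.inl (.inr i))) = _
  simp
  ring

/-- The model applies to any form of the same dimension and discriminant class. -/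
theorem sqInDerived_omega {ι : Type} [Fintype ι] [DecidableEq ι] (R : QuadraticForm F (ι → F))
    (h2 : (2 : F) ≠ 0) (hR : (polarBilin R).Nondegenerate) (hm : 2 ≤ m) (hc : ∀ e, c e ≠ 0)
    (hι : Fintype.card ι = 2 * m + k)
    (hdisc : IsSquare ((Matrix.of fun i j => polarBilin R (Pi.single i 1) (Pi.single j 1)).det *
      ((2 : F) ^ (2 * m + k) * ∏ e, c e)))
    {a : ℕ} (hH : padicValNat 2 (Nat.card (quadIsometries (q2 F))) = a)
    (hG : padicValNat 2 (Nat.card (Cfsg.isometryGroup F ⇑R)) = m * a + padicValNat 2 m.factorial + k)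
    (P : Sylow 2 (Cfsg.Omega F ⇑R)) : SqInDerived ↥(P : Subgroup (Cfsg.Omega F ⇑R)) := by
  classical
  let f : (Fin m ⊕ Fin m) ⊕ Fin k ≃ ι := Fintype.equivOfCardEq (by simp [hι]; omega)
  let e0 : (ι → F) ≃ₗ[F] VV F m k := (LinearEquiv.funCongrLeft F F f).trans eK
  let B' : LinearMap.BilinForm F (ι → F) := LinearMap.BilinForm.comp (polarBilin (Qd (m := m) c)) e0.toLinearMap e0.toLinearMap
  have hB'S : B'.IsSymm := ⟨fun u v => quad_polar_comm _ _ _⟩
  have hQd := Qd_nondegenerate (m := m) c h2 hc
  have hB'N : B'.Nondegenerate := by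
    have key : ∀ u, (∀ v, B' u v = 0) → u = 0 := fun u hu => e0.map_eq_zero_iff.mp (hQd.1 (e0 u) fun y => by
      obtain ⟨z, rfl⟩ := e0.surjective y
      exact hu z)
    exact ⟨key, fun v hv => key v fun u => (quad_polar_comm _ _ _).trans (hv u)⟩
  have hdet : (LinearMap.BilinForm.toMatrix (Pi.basisFun F ι) B').det = (2 : F) ^ (2 * m + k) * ∏ e, c e := by
    have hd : LinearMap.BilinForm.toMatrix (Pi.basisFun F ι) B' =
        Matrix.diagonal fun i => 2 * Sum.elim (fun _ => (1 : F)) c (f.symm i) := by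
      ext i j
      rw [LinearMap.BilinForm.toMatrix_apply]
      show polarBilin (Qd c) (eK fun t => (Pi.basisFun F ι i) (f t)) (eK fun t => (Pi.basisFun F ι j) (f t)) = _
      rw [polar_eK, Finset.sum_eq_single (f.symm i)]
      · by_cases hij : i = j
        · subst hij; simp
        · simp [hij, Ne.symm hij]
      · intro t _ ht
        have : f t ≠ i := fun h => ht (by rw [← h, Equiv.symm_apply_apply])
        simp [Pi.single_eq_of_ne this]
      · exact fun h => absurd (Finset.mem_univ _) h
    rw [hd, Matrix.det_diagonal, Finset.prod_mul_distrib, Finset.prod_const, Finset.card_univ, hι,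
      Equiv.prod_comp f.symm (fun t => Sum.elim (fun _ => (1 : F)) c t), Fintype.prod_sum_type]
    simp
  obtain ⟨g, hg⟩ := exists_isometry_of_isSquare_det_mul h2 (polarBilin R) B' ⟨fun u v => quad_polar_comm _ _ _⟩ hB'S
    hR hB'N (Pi.basisFun F ι) (by
      rw [hdet]
      convert hdisc using 3
      ext i j
      simp [LinearMap.BilinForm.toMatrix_apply])
  have he : ∀ v, R v = Qd c ((g.trans e0) v) := fun v => by
    have h : polarBilin (Qd c) (e0 (g v)) (e0 (g v)) = polarBilin R v v := hg v v
    rw [quad_polar_self, quad_polar_self] at h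
    exact (mul_left_cancel₀ h2 h).symm
  let φ := isometryMulEquiv (g.trans e0) (⇑R) (Qd c) he
  let ψ : commutator (quadIsometries (Qd (m := m) c)) ≃* Cfsg.Omega F ⇑R :=
    (φ.subgroupMap _).trans (MulEquiv.subgroupCongr (map_commutator_of_equiv φ))
  have hG' : padicValNat 2 (Nat.card (quadIsometries (Qd (m := m) c))) = m * a + padicValNat 2 m.factorial + k := by
    rw [Nat.card_congr φ.toEquiv, hG]
  haveI : Fact (Nat.Prime 2) := ⟨Nat.prime_two⟩
  obtain ⟨P₀⟩ : Nonempty (Sylow 2 (commutator (quadIsometries (Qd (m := m) c)))) := inferInstance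
  have h := sqInDerived_model c h2 hm hc hH hG' P₀
  refine sqInDerived_of_sylow (P₀.mapSurjective (f := ψ.toMonoidHom) ψ.surjective) P ?_
  exact sqInDerived_of_equiv (ψ.subgroupMap (P₀ : Subgroup (commutator (quadIsometries (Qd (m := m) c))))) h

theorem val_two_of_mod_four {N : ℕ} (hN : N % 4 = 2) : padicValNat 2 N = 1 := by
  have : Fact (Nat.Prime 2) := ⟨Nat.prime_two⟩
  obtain ⟨r, rfl⟩ : ∃ r, N = 2 * r := ⟨N / 2, by omega⟩
  rw [padicValNat.mul (by norm_num) (by omega), padicValNat.self (by norm_num),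
    padicValNat.eq_zero_of_not_dvd (by omega)]

/-- The 2-parts of `q^m ± 1`. -/
theorem val_pow_pm {q : ℕ} (hq : 1 < q) (ho : Odd q) {m : ℕ} (hm : m ≠ 0) :
    (q ^ m % 4 = 1 → padicValNat 2 (q ^ m + 1) = 1 ∧ padicValNat 2 (q ^ m - 1) + 1 =
        padicValNat 2 (q + 1) + padicValNat 2 (q - 1) + padicValNat 2 m) ∧
    (q ^ m % 4 = 3 → padicValNat 2 (q ^ m - 1) = 1 ∧ padicValNat 2 (q ^ m + 1) + 1 =
        padicValNat 2 (q + 1) + padicValNat 2 (q - 1) + padicValNat 2 m) := by
  have : Fact (Nat.Prime 2) := ⟨Nat.prime_two⟩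
  have h := TwoPart.val_pow_even_sub_one hq ho hm
  have h1 : 1 < q ^ m := Nat.one_lt_pow hm hq
  have e : q ^ (2 * m) - 1 = (q ^ m + 1) * (q ^ m - 1) := by
    rw [← Nat.sq_sub_sq, one_pow, ← pow_mul, mul_comm 2]
  rw [e, padicValNat.mul (by omega) (by omega)] at h
  refine ⟨fun h4 => ?_, fun h4 => ?_⟩
  · have := val_two_of_mod_four (N := q ^ m + 1) (by omega)
    exact ⟨this, by omega⟩
  · have := val_two_of_mod_four (N := q ^ m - 1) (by omega)
    exact ⟨this, by omega⟩

theorem val_q2 (hF : Odd (Fintype.card F)) :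
    padicValNat 2 (Nat.card (quadIsometries (q2 F))) =
      padicValNat 2 (Fintype.card F + 1) + padicValNat 2 (Fintype.card F - 1) := by
  classical
  have : Fact (Nat.Prime 2) := ⟨Nat.prime_two⟩
  have hq : 1 < Fintype.card F := Fintype.one_lt_card
  have hpm := val_pow_pm hq hF one_ne_zero
  simp only [pow_one, padicValNat.one, add_zero] at hpm
  have h2 := two_ne_zero_of_odd_card hF
  rcases Nat.lt_or_ge 1 (Fintype.card F % 4) with h4 | h4
  · have h43 : Fintype.card F % 4 = 3 := by obtain ⟨r, hr⟩ := hF; omega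
    have hns : ¬ IsSquare (-1 : F) := fun h => by
      have := (sqClass_neg_one_pow hF 1).mp (by rw [pow_one, sqClass_eq_one_iff]; exact h)
      rw [pow_one] at this
      omega
    have hab : ∀ z₁ z₂ : F, z₁ ^ 2 + 0 * z₁ * z₂ + 1 * z₂ ^ 2 = 0 → z₁ = 0 ∧ z₂ = 0 := fun z₁ z₂ h => by
      by_cases hz : z₂ = 0
      · subst hz; simpa using h
      · exact absurd ⟨z₁ / z₂, by field_simp; linear_combination -h⟩ hns
    let e : ((Fin 0 ⊕ Fin 0) ⊕ Fin 2 → F) ≃ₗ[F] F × F :=
      { toFun := fun v => (v (.inr 0), v (.inr 1))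
        map_add' := fun _ _ => rfl
        map_smul' := fun _ _ => rfl
        invFun := fun p => Sum.elim (Sum.elim Fin.elim0 Fin.elim0) ![p.1, p.2]
        left_inv := fun v => by
          funext t
          rcases t with (i | i) | i
          · exact i.elim0
          · exact i.elim0
          · fin_cases i <;> rfl
        right_inv := fun p => rfl }
    rw [← card_isometryGroup_eq e (Cfsg.quadFormMinus 0 F 0 1) (q2 F) (fun v => by
      show Cfsg.quadFormMinus 0 F 0 1 v = q2 F (v (.inr 0), v (.inr 1))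
      rw [q2_apply]
      simp [Cfsg.quadFormMinus, pow_two]),
      card_orth_minus (F := F) rfl 1 le_rfl 0 1 hab]
    simp only [Nat.sub_self, mul_zero, pow_zero, Finset.range_zero, Finset.prod_empty, mul_one, pow_one]
    rw [padicValNat.mul (by norm_num) (by omega), padicValNat.self (by norm_num)]
    have := hpm.2 h43
    omega
  · have h41 : Fintype.card F % 4 = 1 := by obtain ⟨r, hr⟩ := hF; omega
    obtain ⟨i, hi⟩ : IsSquare (-1 : F) := by
      have := (sqClass_neg_one_pow hF 1).mpr (by rw [pow_one]; exact h41)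
      rwa [pow_one, sqClass_eq_one_iff] at this
    have hi0 : i ≠ 0 := fun h => by rw [h, mul_zero] at hi; exact neg_ne_zero.mpr one_ne_zero hi
    let e : (Fin 1 ⊕ Fin 1 → F) ≃ₗ[F] F × F :=
      { toFun := fun v => ((v (.inl 0) + v (.inr 0)) / 2, (v (.inl 0) - v (.inr 0)) / (2 * i))
        map_add' := fun x y => Prod.ext (by simp; ring) (by simp; ring)
        map_smul' := fun t x => Prod.ext (by simp; ring) (by simp; ring)
        invFun := fun p => Sum.elim (fun _ => p.1 + i * p.2) (fun _ => p.1 - i * p.2)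
        left_inv := fun v => by
          funext t
          rcases t with t | t <;> (rw [Subsingleton.elim t 0]; simp; field_simp; ring)
        right_inv := fun p => Prod.ext (by simp; field_simp; ring) (by simp; field_simp; ring) }
    rw [← card_isometryGroup_eq e (Cfsg.quadFormPlus 1 F) (q2 F) (fun v => by
      simp [Cfsg.quadFormPlus, q2_apply, e]
      field_simp
      linear_combination ((v (Sum.inl 0) - v (Sum.inr 0)) ^ 2) * hi),
      card_orth_plus (F := F) rfl 1 le_rfl]
    simp only [Nat.sub_self, mul_zero, pow_zero, Finset.range_zero, Finset.prod_empty, mul_one, pow_one]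
    rw [padicValNat.mul (by norm_num) (by omega), padicValNat.self (by norm_num)]
    have := hpm.1 h41
    omega

end Cfsg.Agent.Lib.FusionControl.OrthSylow
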