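import Cfsg.Agent.Lib.FusionControl.OrthSylowModel
import Cfsg.Agent.Lib.Geometry.OrthTransfer
import Cfsg.Agent.Lib.Geometry.SymmDiscr
import Cfsg.Agent.Lib.Geometry.OrthNegOne
import Cfsg.Agent.Lib.Classical.OrthCard
import Cfsg.Agent.Lib.Classical.OrthCenter

/-!
Sylow 2-subgroups of `Ω` in odd characteristic: squares lie in the derived subgroup.
-/

set_option autoImplicit false
set_option maxHeartbeats 800000

namespace Cfsg.Agent.Lib.FusionControl.OrthSylow

open QuadraticMap (polarBilin)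
open Cfsg.Agent.Lib.Geometry
open Cfsg.Agent.Lib.FusionControl.WreathSquares
open Cfsg.Agent.Lib.Classical (card_quadIsometries_congr card_isometryGroup_eq card_orth_plus card_orth_minus isometryMulEquiv)

attribute [-simp] QuadraticMap.polarBilin_apply_apply

variable {F : Type*} [Field F] [Fintype F]

/-- A Sylow subgroup surjects onto a 2-group quotient. -/
theorem exists_mem_of_map {H A : Type*} [Group H] [Finite H] [Group A] (χ : H →* A) (hA : IsPGroup 2 A)
    (hχ : Function.Surjective χ) (T : Sylow 2 H) (y : A) : ∃ t ∈ (T : Subgroup H), χ t = y := by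
  haveI : Fact (Nat.Prime 2) := ⟨Nat.prime_two⟩
  haveI : Finite A := Finite.of_surjective χ hχ
  have h : ((T.mapSurjective hχ : Sylow 2 A) : Subgroup A) = ⊤ :=
    ((T.mapSurjective hχ).is_maximal' (hA.to_subgroup ⊤) le_top).symm
  have hy : y ∈ ((T.mapSurjective hχ : Sylow 2 A) : Subgroup A) := h ▸ Subgroup.mem_top y
  exact hy

/-- Three commuting pieces with trivial overlap. -/
theorem card_le_of_three {G H : Type*} [Group G] [Finite G] [Group H] [Finite H] {A : Type*} [CommGroup A] [Finite A]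
    {m : ℕ} (B : (Fin m → H) →* G) (L : Equiv.Perm (Fin m) →* G) (Z : A →* G)
    (hcomm : ∀ σ s, Commute (L σ) (Z s))
    (hinj : ∀ v σ s, B v * L σ * Z s = 1 → v = 1 ∧ σ = 1 ∧ s = 1)
    (T : Subgroup H) (W : Subgroup (Equiv.Perm (Fin m))) (S : Subgroup G)
    (hB : (Subgroup.pi Set.univ fun _ : Fin m => T).map B ≤ S) (hL : W.map L ≤ S) (hZ : Z.range ≤ S) :
    Nat.card ((Fin m → ↥T) × ↥W × A) ≤ Nat.card S := by
  refine Nat.card_le_card_of_injective (fun z => (⟨B (fun i => (z.1 i : H)) * L z.2.1 * Z z.2.2,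
    mul_mem (mul_mem (hB ⟨_, fun i _ => (z.1 i).2, rfl⟩) (hL ⟨_, z.2.1.2, rfl⟩)) (hZ ⟨_, rfl⟩)⟩ : S)) ?_
  rintro ⟨v, σ, s⟩ ⟨v', σ', s'⟩ h
  have e : B (fun i => (v i : H)) * L σ * Z s = B (fun i => (v' i : H)) * L σ' * Z s' := congrArg Subtype.val h
  have e2 : B ((fun i => (v' i : H))⁻¹ * fun i => (v i : H)) *
      L ((σ : Equiv.Perm (Fin m)) * (σ' : Equiv.Perm (Fin m))⁻¹) * Z (s * s'⁻¹) = 1 := by
    have e3 : B (fun i => (v i : H)) * L σ * Z (s * s'⁻¹) = B (fun i => (v' i : H)) * L σ' := by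
      rw [map_mul, ← mul_assoc, e, map_inv, mul_inv_cancel_right]
    have c1 : Commute (L (σ' : Equiv.Perm (Fin m))⁻¹) (Z (s * s'⁻¹)) := hcomm _ _
    rw [map_mul B, map_mul L, map_inv B, map_inv L, ← map_inv L, mul_assoc, mul_assoc (L σ), c1.eq,
      ← mul_assoc (L σ), mul_assoc ((B fun i => (v' i : H))⁻¹), ← mul_assoc (B fun i => (v i : H)),
      ← mul_assoc (B fun i => (v i : H)), e3, map_inv, mul_inv_cancel_right, inv_mul_cancel]
  obtain ⟨g1, g2, g3⟩ := hinj _ _ _ e2
  refine Prod.ext (funext fun i => Subtype.ext ?_) (Prod.ext (Subtype.ext (mul_inv_eq_one.mp g2)) (mul_inv_eq_one.mp g3))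
  exact ((inv_mul_eq_one).mp (congrFun g1 i : ((v' i : H))⁻¹ * (v i : H) = 1)).symm

theorem isPGroup_signs_pair : IsPGroup 2 (ℤˣ × ℤˣ) := by
  refine IsPGroup.of_card (n := 2) ?_
  simp [Nat.card_prod, Fintype.card_units_int]

variable {m k : ℕ} (c : Fin k → F)

theorem sqInDerived_model (h2 : (2 : F) ≠ 0) (hm : 2 ≤ m) (hc : ∀ e, c e ≠ 0) {a : ℕ}
    (hH : padicValNat 2 (Nat.card (quadIsometries (q2 F))) = a)
    (hG : padicValNat 2 (Nat.card (quadIsometries (Qd (m := m) c))) = m * a + padicValNat 2 m.factorial + k)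
    (P : Sylow 2 (commutator (quadIsometries (Qd (m := m) c)))) :
    SqInDerived ↥(P : Subgroup (commutator (quadIsometries (Qd (m := m) c)))) := by
  classical
  haveI : Fact (Nat.Prime 2) := ⟨Nat.prime_two⟩
  have hq2 : (polarBilin (q2 F)).Nondegenerate := q2_nondegenerate h2
  have hQd : (polarBilin (Qd (m := m) c)).Nondegenerate := Qd_nondegenerate c h2 hc
  have hfin2 : Module.finrank F (F × F) = 2 := by simp
  have hfinV : 2 ≤ Module.finrank F (VV F m k) := by simp [Module.finrank_pi_fintype]; omega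
  let χH := dickSpinHom (q2 F) hq2 h2
  let χ : (quadIsometries (Qd (m := m) c)) →* ℤˣ × ℤˣ := dickSpinHom (Qd c) hQd h2
  have hA1 : ∀ x : ℤˣ × ℤˣ, x * x = 1 := fun x => Prod.ext (Int.units_mul_self _) (Int.units_mul_self _)
  obtain ⟨T⟩ : Nonempty (Sylow 2 (quadIsometries (q2 F))) := inferInstance
  have hsurj : Function.Surjective χH := dickSpinHom_surjective (q2 F) hq2 h2 (by rw [hfin2])
  obtain ⟨tA, htA, hA⟩ := exists_mem_of_map χH isPGroup_signs_pair hsurj T (-1, 1)
  obtain ⟨tB, htB, hB⟩ := exists_mem_of_map χH isPGroup_signs_pair hsurj T (-1, -1)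
  obtain ⟨W, Sg, hWS, hSg⟩ := BlockDiag.exists_sylow_perm m
  set R : Set (quadIsometries (q2 F)) := {t | t ∈ (T : Subgroup (quadIsometries (q2 F))) ∧ (χH t).1 = -1} with hR
  have hreflect : ∀ t ∈ R, t * t = 1 ∧ ∀ i : Fin m, χ (bl c (Pi.mulSingle i t)) = χH t := by
    intro t ht
    obtain ⟨v, hv, rfl⟩ := exists_refl_of_dickson_neg (q2 F) hq2 hfin2 t ht.2
    refine ⟨refl_mul_self _ v, fun i => ?_⟩
    rw [bl_refl]
    have hQ : Qd c ((Pi.single i v, 0) : VV F m k) = q2 F v := by
      rw [Qd_apply, Finset.sum_eq_single i (fun j _ hj => by simp [hj]) (fun h' => absurd (Finset.mem_univ i) h')]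
      simp
    show dickSpinHom _ _ _ _ = dickSpinHom _ _ _ _
    rw [dickSpinHom_refl _ _ _ (by rw [hQ]; exact hv), dickSpinHom_refl _ _ _ hv, hQ]
  have htAR : tA ∈ R := ⟨htA, by rw [hA]⟩
  have htBR : tB ∈ R := ⟨htB, by rw [hB]⟩
  have hTgen : (T : Subgroup (quadIsometries (q2 F))) ≤ Subgroup.closure R := by
    intro t ht
    rcases Int.units_eq_one_or (χH t).1 with h | h
    · have : t * tA ∈ R := ⟨mul_mem ht htA, by rw [map_mul, Prod.fst_mul, h, hA, one_mul]⟩
      have e : t = t * tA * tA := by rw [mul_assoc, (hreflect tA htAR).1, mul_one]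
      rw [e]
      exact mul_mem (Subgroup.subset_closure this) (Subgroup.subset_closure htAR)
    · exact Subgroup.subset_closure ⟨ht, h⟩
  let single : Fin m → quadIsometries (q2 F) →* (quadIsometries (Qd (m := m) c)) := fun i =>
    (bl c).comp (MonoidHom.mulSingle (fun _ : Fin m => quadIsometries (q2 F)) i)
  set X : Set (quadIsometries (Qd (m := m) c)) := (⋃ i, single i '' R) ∪ (pl c '' Sg) ∪ Set.range (fun e : Fin k => sg c (Pi.mulSingle e (-1))) with hX
  set S := Subgroup.closure X with hS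
  have hXR : ∀ i, ∀ t ∈ R, single i t ∈ X := fun i t ht =>
    Or.inl (Or.inl (Set.mem_iUnion.mpr ⟨i, ⟨t, ht, rfl⟩⟩))
  -- `S` contains the three pieces
  have hSbl : (Subgroup.pi Set.univ fun _ : Fin m => (T : Subgroup (quadIsometries (q2 F)))).map (bl c) ≤ S := by
    refine Subgroup.map_le_iff_le_comap.mpr (Subgroup.pi_le_iff.mpr fun i => ?_)
    rintro _ ⟨t, ht, rfl⟩
    have hle : Subgroup.closure R ≤ S.comap (single i) :=
      (Subgroup.closure_le _).mpr fun t ht => Subgroup.subset_closure (hXR i t ht)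
    exact hle (hTgen ht)
  have hSpl : (W : Subgroup (Equiv.Perm (Fin m))).map (pl c) ≤ S := by
    rw [hWS, MonoidHom.map_closure]
    exact Subgroup.closure_mono fun g hg => Or.inl (Or.inr hg)
  have hSsg : (sg (m := m) c).range ≤ S := by
    rintro _ ⟨s, rfl⟩
    have hs : s = ∏ e, Pi.mulSingle e (s e) := (Finset.univ_prod_mulSingle s).symm
    have : s ∈ S.comap (sg (m := m) c) := by
      rw [hs]
      refine Subgroup.prod_mem _ fun e _ => ?_
      rcases Int.units_eq_one_or (s e) with h | h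
      · rw [h, Pi.mulSingle_one]; exact one_mem _
      · rw [h]; exact Subgroup.subset_closure (Or.inr ⟨e, rfl⟩)
    exact this
  -- `S` is a 2-group
  have hp : IsPGroup 2 S := by
    have hw := isPGroup_wreath (bl c) (pl c) (fun σ v => pl_conj c σ v)
      (T : Subgroup (quadIsometries (q2 F))) (W : Subgroup (Equiv.Perm (Fin m))) T.2 W.2
    set U := wreath (bl c) (pl c) (T : Subgroup (quadIsometries (q2 F))) (W : Subgroup (Equiv.Perm (Fin m))) with hU
    have hsgp : IsPGroup 2 (sg (m := m) c).range := by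
      rintro ⟨_, s, rfl⟩
      refine ⟨1, Subtype.ext ?_⟩
      show sg c s ^ 2 ^ 1 = 1
      rw [← map_pow, show s ^ 2 ^ 1 = 1 from funext fun e => by simp [Int.units_sq], map_one]
    have hnorm : (sg (m := m) c).range ≤ Subgroup.normalizer (U : Set (quadIsometries (Qd (m := m) c))) := by
      have hcomm : ∀ g ∈ (sg (m := m) c).range, ∀ u ∈ U, Commute u g := by
        rintro _ ⟨s, rfl⟩ u hu
        obtain ⟨v, -, σ, -, rfl⟩ := exists_of_mem (bl c) (pl c) (fun σ v => pl_conj c σ v) _ _ hu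
        exact (bl_comm_sg c v s).mul_left (pl_comm_sg c σ s)
      intro g hg
      refine Subgroup.mem_normalizer_iff.mpr fun u => ⟨fun hu => ?_, fun hu => ?_⟩
      · rwa [← (hcomm g hg u hu).eq, mul_inv_cancel_right]
      · have h1 := (hcomm g hg _ hu).eq
        rw [inv_mul_cancel_right] at h1
        have h1' : g * u = g * (g * u * g⁻¹) := h1
        rwa [← mul_left_cancel h1'] at hu
    have hsup : IsPGroup 2 ((sg (m := m) c).range ⊔ U : Subgroup (quadIsometries (Qd (m := m) c))) := hsgp.to_sup_of_normal_right' hw hnorm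
    refine hsup.to_le ((Subgroup.closure_le _).mpr ?_)
    rintro g ((hg | ⟨σ, hσ, rfl⟩) | ⟨e, rfl⟩)
    · obtain ⟨i, t, ht, rfl⟩ := Set.mem_iUnion.mp hg
      refine Subgroup.mem_sup_right (Subgroup.mem_sup_left ⟨Pi.mulSingle i t, fun j _ => ?_, rfl⟩)
      by_cases h : j = i
      · subst h; simpa using ht.1
      · simp [h]
    · exact Subgroup.mem_sup_right (Subgroup.mem_sup_right ⟨σ, hWS ▸ Subgroup.subset_closure hσ, rfl⟩)
    · exact Subgroup.mem_sup_left ⟨_, rfl⟩
  have hT : Nat.card (T : Subgroup (quadIsometries (q2 F))) = 2 ^ a := by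
    rw [T.card_eq_multiplicity, Nat.factorization_def _ Nat.prime_two, hH]
  have hW : Nat.card (W : Subgroup (Equiv.Perm (Fin m))) = 2 ^ padicValNat 2 m.factorial := by
    rw [W.card_eq_multiplicity, Nat.factorization_def _ Nat.prime_two, Nat.card_perm, Nat.card_eq_fintype_card,
      Fintype.card_fin]
  have hcard : 2 ^ (m * a + padicValNat 2 m.factorial + k) ≤ Nat.card S := by
    have h1 : Nat.card ((Fin m → ↥(T : Subgroup (quadIsometries (q2 F)))) × ↥(W : Subgroup (Equiv.Perm (Fin m))) ×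
        (Fin k → ℤˣ)) = 2 ^ (m * a + padicValNat 2 m.factorial + k) := by
      rw [Nat.card_prod, Nat.card_prod, Nat.card_fun, Nat.card_fun, hT, hW, Nat.card_fin, Nat.card_fin,
        show Nat.card ℤˣ = 2 by simp [Fintype.card_units_int], ← pow_mul, ← pow_add, ← pow_add]
      congr 1
      ring
    rw [← h1]
    exact card_le_of_three (bl c) (pl c) (sg c) (fun σ s => pl_comm_sg c σ s)
      (fun v σ s h => model_injective c h2 h) (T : Subgroup (quadIsometries (q2 F)))
      (W : Subgroup (Equiv.Perm (Fin m))) S hSbl hSpl hSsg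
  -- the commutator subgroup is the kernel of `χ`
  have hKχ : commutator (quadIsometries (Qd (m := m) c)) = χ.ker := commutator_eq_ker_dickSpinHom (Qd c) hQd h2 hfinV
  have hK4 : (commutator (quadIsometries (Qd (m := m) c))).index = 4 := index_commutator_odd (Qd c) hQd h2 hfinV
  have hQp : IsPGroup 2 (S.subgroupOf (commutator (quadIsometries (Qd (m := m) c)))) :=
    hp.comap_of_injective _ Subtype.val_injective
  have hQcard : Nat.card (S.subgroupOf (commutator (quadIsometries (Qd (m := m) c)))) =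
      2 ^ (Nat.card (commutator (quadIsometries (Qd (m := m) c)))).factorization 2 := by
    rw [Nat.factorization_def _ Nat.prime_two]
    have hv : padicValNat 2 (Nat.card (commutator (quadIsometries (Qd (m := m) c)))) + 2 =
        m * a + padicValNat 2 m.factorial + k := by
      rw [← hG, ← (commutator (quadIsometries (Qd (m := m) c))).card_mul_index, hK4,
        padicValNat.mul Nat.card_pos.ne' (by norm_num), show padicValNat 2 4 = 2 from by
          rw [show (4 : ℕ) = 2 ^ 2 by norm_num]; exact padicValNat.prime_pow 2]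
    obtain ⟨n, hn⟩ := IsPGroup.iff_card.mp hQp
    refine le_antisymm ?_ ?_
    · rw [hn]
      exact Nat.pow_le_pow_right (by norm_num)
        ((padicValNat_dvd_iff_le Nat.card_pos.ne').mp (hn ▸ Subgroup.card_subgroup_dvd_card _))
    · have h1 := ((S.subgroupOf (commutator (quadIsometries (Qd (m := m) c)))).card_mul_index).le
      have h3 : Nat.card S ≤ Nat.card (S.subgroupOf (commutator (quadIsometries (Qd (m := m) c)))) * 4 := by
        have hle : (commutator (quadIsometries (Qd (m := m) c))).relIndex S ∣ 4 := hK4 ▸ Subgroup.relIndex_dvd_index_of_normal _ _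
        rw [← ((commutator (quadIsometries (Qd (m := m) c))).subgroupOf S).card_mul_index]
        refine Nat.mul_le_mul (le_of_eq ?_) (Nat.le_of_dvd (by norm_num) hle)
        exact Nat.card_congr
          { toFun := fun x => (⟨⟨x.1.1, x.2⟩, x.1.2⟩ : S.subgroupOf (commutator (quadIsometries (Qd (m := m) c))))
            invFun := fun x => ⟨⟨x.1.1, x.2⟩, x.1.2⟩
            left_inv := fun _ => rfl
            right_inv := fun _ => rfl }
      have h4 := hcard.trans h3
      rw [← hv, pow_add] at h4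
      omega
  let Q : Sylow 2 (commutator (quadIsometries (Qd (m := m) c))) := Sylow.ofCard _ hQcard
  refine sqInDerived_of_sylow Q P ?_
  show SqInDerived ↥(S.subgroupOf (commutator (quadIsometries (Qd (m := m) c))))
  rw [← Subgroup.inf_subgroupOf_right]
  refine sqInDerived_of_equiv (Subgroup.subgroupOfEquivOfLe inf_le_right).symm ?_
  rw [hKχ]
  -- the abstract lemma
  let i0 : Fin m := ⟨0, by omega⟩
  let i1 : Fin m := ⟨1, by omega⟩
  have hi01 : i0 ≠ i1 := fun h => by simpa [i0, i1] using congrArg Fin.val h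
  have hsingle : ∀ i t, t ∈ R → single i t * single i t = 1 := fun i t ht => by
    rw [← map_mul, (hreflect t ht).1, map_one]
  have hχs : ∀ i t, t ∈ R → χ (single i t) = χH t := fun i t ht => (hreflect t ht).2 i
  have hcomm : ∀ i j t t', i ≠ j → Commute (single i t) (single j t') := fun i j t t' hij =>
    (Pi.mulSingle_commute (f := fun _ : Fin m => quadIsometries (q2 F)) hij t t').map (bl c)
  have hXsq : ∀ x ∈ X, x * x = 1 := by
    rintro x ((hx | ⟨σ, hσ, rfl⟩) | ⟨e, rfl⟩)
    · obtain ⟨i, t, ht, rfl⟩ := Set.mem_iUnion.mp hx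
      exact hsingle i t ht
    · rw [← map_mul, ← pow_two, hSg σ hσ, map_one]
    · rw [← map_mul, show (Pi.mulSingle e (-1 : ℤˣ) : Fin k → ℤˣ) * Pi.mulSingle e (-1) = 1 from
        funext fun j => Int.units_mul_self _, map_one]
  refine sqInDerived_ker χ X hXsq (a := single i0 tA) (b := single i0 tB)
    (Subgroup.subset_closure (hXR _ _ htAR)) (Subgroup.subset_closure (hXR _ _ htBR))
    (hsingle _ _ htAR) (hsingle _ _ htBR) ?_ ?_ ?_ ?_ ?_
  · rw [hχs _ _ htAR, hA]; decide
  · rw [hχs _ _ htBR, hB]; decide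
  · rw [hχs _ _ htAR, hχs _ _ htBR, hA, hB]; decide
  · have hlinkS : ∀ u : quadIsometries (q2 F), u ∈ R → ∀ (i : Fin m) (t : quadIsometries (q2 F)),
        Link χ S (single i t) (single i0 u) := by
      intro u hu i t
      by_cases hi : i = i0
      · refine ⟨single i1 u, Subgroup.subset_closure (hXR _ _ hu), hsingle _ _ hu, ?_, ?_, hcomm _ _ _ _ hi01.symm⟩
        · rw [hχs _ _ hu, hχs _ _ hu]
        · rw [hi]; exact hcomm _ _ _ _ hi01
      · exact ⟨single i0 u, Subgroup.subset_closure (hXR _ _ hu), hsingle _ _ hu, rfl, hcomm _ _ _ _ hi, Commute.refl _⟩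
    rintro x ((hx | ⟨σ, hσ, rfl⟩) | ⟨e, rfl⟩)
    · obtain ⟨i, t, ht, rfl⟩ := Set.mem_iUnion.mp hx
      right
      rcases Int.units_eq_one_or (χH t).2 with h | h
      · exact Or.inl ⟨by rw [hχs _ _ ht, hχs _ _ htAR, hA]; exact Prod.ext ht.2 h, hlinkS tA htAR i t⟩
      · exact Or.inr ⟨by rw [hχs _ _ ht, hχs _ _ htBR, hB]; exact Prod.ext ht.2 h, hlinkS tB htBR i t⟩
    · exact Or.inl (map_pl c χ hA1 σ)
    · have hcm : ∀ i t, Commute (sg c (Pi.mulSingle e (-1))) (single i t) := fun i t => (bl_comm_sg c _ _).symm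
      have hQe : Qd c ((0, Pi.single e 1) : VV F m k) = c e := by
        rw [Qd_apply, Finset.sum_eq_zero (fun j _ => by simp), zero_add,
          Finset.sum_eq_single e (fun j _ hj => by simp [hj]) (fun h' => absurd (Finset.mem_univ e) h')]
        simp
      have hval : χ (sg c (Pi.mulSingle e (-1))) = (-1, sqClass (c e)) := by
        rw [sg_refl c h2 hc e]
        show dickSpinHom _ _ _ _ = _
        rw [dickSpinHom_refl _ _ _ (by rw [hQe]; exact hc e), hQe]
      right
      rcases Int.units_eq_one_or (sqClass (c e)) with h | h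
      · exact Or.inl ⟨by rw [hval, hχs _ _ htAR, hA, h], ⟨single i0 tA, Subgroup.subset_closure (hXR _ _ htAR),
          hsingle _ _ htAR, rfl, hcm _ _, Commute.refl _⟩⟩
      · exact Or.inr ⟨by rw [hval, hχs _ _ htBR, hB, h], ⟨single i0 tB, Subgroup.subset_closure (hXR _ _ htBR),
          hsingle _ _ htBR, rfl, hcm _ _, Commute.refl _⟩⟩
  · exact ⟨single i1 tA, Subgroup.subset_closure (hXR _ _ htAR), hsingle _ _ htAR,
      by rw [hχs _ _ htAR, hχs _ _ htAR], hcomm _ _ _ _ hi01.symm, hcomm _ _ _ _ hi01.symm⟩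

end Cfsg.Agent.Lib.FusionControl.OrthSylow
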