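import Cfsg.Agent.Lib.FusionControl.OrthSylowCore
import Cfsg.Agent.Lib.FusionControl.BlockDiag
import Cfsg.Agent.Lib.Geometry.OrthQuotient

/-!
The model space: `m` planes with the form `x² + y²` and `k` lines, and a Sylow 2-subgroup of its isometry group.
-/

set_option autoImplicit false

namespace Cfsg.Agent.Lib.FusionControl.OrthSylow

open QuadraticMap (polarBilin)
open Cfsg.Agent.Lib.Geometry
open Cfsg.Agent.Lib.FusionControl.WreathSquares

attribute [-simp] QuadraticMap.polarBilin_apply_apply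

variable (F : Type*) [Field F]

/-- The sum of two squares. -/
def q2 : QuadraticForm F (F × F) :=
  QuadraticMap.linMulLin (LinearMap.fst F F F) (LinearMap.fst F F F) +
    QuadraticMap.linMulLin (LinearMap.snd F F F) (LinearMap.snd F F F)

theorem q2_apply (p : F × F) : q2 F p = p.1 * p.1 + p.2 * p.2 := rfl

variable {F}
variable {m k : ℕ} (c : Fin k → F)

/-- The model space. -/
abbrev VV (F : Type*) (m k : ℕ) := (Fin m → F × F) × (Fin k → F)

/-- The model form. -/
def Qd : QuadraticForm F (VV F m k) :=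
  (∑ i : Fin m, (q2 F).comp ((LinearMap.proj i).comp (LinearMap.fst F (Fin m → F × F) (Fin k → F)))) +
    ∑ e : Fin k, c e • QuadraticMap.linMulLin ((LinearMap.proj e).comp (LinearMap.snd F (Fin m → F × F) (Fin k → F)))
      ((LinearMap.proj e).comp (LinearMap.snd F (Fin m → F × F) (Fin k → F)))

theorem Qd_apply (p : VV F m k) :
    Qd c p = (∑ i, q2 F (p.1 i)) + ∑ e, c e * (p.2 e * p.2 e) := by
  simp [Qd, QuadraticMap.sum_apply]

theorem polar_Qd (p r : VV F m k) :
    polarBilin (Qd c) p r = (∑ i, polarBilin (q2 F) (p.1 i) (r.1 i)) + ∑ e, 2 * c e * (p.2 e * r.2 e) := by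
  simp only [QuadraticMap.polarBilin_apply_apply, QuadraticMap.polar, Qd_apply]
  rw [show ∑ e, c e * ((p + r).2 e * (p + r).2 e) =
      (∑ e, c e * (p.2 e * p.2 e)) + (∑ e, c e * (r.2 e * r.2 e)) + ∑ e, 2 * c e * (p.2 e * r.2 e) by
    rw [← Finset.sum_add_distrib, ← Finset.sum_add_distrib]
    refine Finset.sum_congr rfl fun e _ => ?_
    simp only [Prod.snd_add, Pi.add_apply]
    ring]
  simp only [Prod.fst_add, Pi.add_apply, Finset.sum_sub_distrib]
  ring

theorem polar_q2 (p r : F × F) : polarBilin (q2 F) p r = 2 * (p.1 * r.1 + p.2 * r.2) := by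
  simp only [QuadraticMap.polarBilin_apply_apply, QuadraticMap.polar, q2_apply, Prod.fst_add, Prod.snd_add]
  ring

theorem q2_nondegenerate (h2 : (2 : F) ≠ 0) : (polarBilin (q2 F)).Nondegenerate := by
  have key : ∀ p : F × F, (∀ r, polarBilin (q2 F) p r = 0) → p = 0 := fun p hp => by
    have h1 := hp (1, 0)
    have h1' := hp (0, 1)
    rw [polar_q2] at h1 h1'
    exact Prod.ext (by simpa [h2] using h1) (by simpa [h2] using h1')
  exact ⟨key, fun r hr => key r fun p => by rw [quad_polar_comm]; exact hr p⟩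

theorem Qd_nondegenerate (h2 : (2 : F) ≠ 0) (hc : ∀ e, c e ≠ 0) :
    (polarBilin (Qd (m := m) c)).Nondegenerate := by
  have key : ∀ p : VV F m k, (∀ r, polarBilin (Qd c) p r = 0) → p = 0 := fun p hp => by
    refine Prod.ext (funext fun i => (q2_nondegenerate h2).1 _ fun r => ?_) (funext fun e => ?_)
    · have h := hp (Pi.single i r, 0)
      rw [polar_Qd, Finset.sum_eq_single i (fun j _ hj => by simp [hj]) (fun h' => absurd (Finset.mem_univ i) h')]
        at h
      simpa using h
    · have h := hp (0, Pi.single e 1)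
      rw [polar_Qd, Finset.sum_eq_zero (fun j _ => by simp), zero_add,
        Finset.sum_eq_single e (fun j _ hj => by simp [hj]) (fun h' => absurd (Finset.mem_univ e) h')] at h
      simpa [h2, hc e] using h
  exact ⟨key, fun r hr => key r fun p => by rw [quad_polar_comm]; exact hr p⟩

instance [Finite F] {V : Type*} [AddCommGroup V] [Module F V] [Finite V] (Q : QuadraticForm F V) :
    Finite (quadIsometries Q) :=
  Finite.of_injective (fun g => ((g : V ≃ₗ[F] V) : V → V)) fun g h e =>
    Subtype.ext (LinearEquiv.ext fun x => congrFun e x)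

/-- Isometries of the planes. -/
def bl : (Fin m → quadIsometries (q2 F)) →* quadIsometries (Qd (m := m) c) where
  toFun v := ⟨LinearEquiv.prodCongr (LinearEquiv.piCongrRight fun i => (v i : (F × F) ≃ₗ[F] F × F))
      (LinearEquiv.refl F (Fin k → F)), fun p => by
    rw [Qd_apply, Qd_apply]
    exact congrArg (· + _) (Finset.sum_congr rfl fun i _ => mem_quadIsometries.mp (v i).2 _)⟩
  map_one' := rfl
  map_mul' v w := rfl

theorem bl_apply (v : Fin m → quadIsometries (q2 F)) (p : VV F m k) :
    (bl c v : VV F m k ≃ₗ[F] VV F m k) p = (fun i => (v i : (F × F) ≃ₗ[F] F × F) (p.1 i), p.2) := rfl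

/-- The permutation of the first coordinates. -/
def p1Lin (σ : Equiv.Perm (Fin m)) : VV F m k ≃ₗ[F] VV F m k where
  toFun p := (fun i => ((p.1 (σ⁻¹ i)).1, (p.1 i).2), p.2)
  map_add' _ _ := rfl
  map_smul' _ _ := rfl
  invFun p := (fun i => ((p.1 (σ i)).1, (p.1 i).2), p.2)
  left_inv p := by ext i <;> simp
  right_inv p := by ext i <;> simp

/-- The permutations of the first coordinates. -/
def p1 : Equiv.Perm (Fin m) →* quadIsometries (Qd (m := m) c) where
  toFun σ := ⟨p1Lin σ, fun p => by
    rw [Qd_apply, Qd_apply]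
    refine congrArg (· + _) ?_
    simp only [q2_apply, Finset.sum_add_distrib]
    exact congrArg (· + _) (Equiv.sum_comp σ⁻¹ fun i => (p.1 i).1 * (p.1 i).1)⟩
  map_one' := rfl
  map_mul' σ τ := Subtype.ext (LinearEquiv.ext fun p => Prod.ext (funext fun i => rfl) rfl)

/-- The exchange of the two coordinates of every plane. -/
def swapLin : VV F m k ≃ₗ[F] VV F m k where
  toFun p := (fun i => ((p.1 i).2, (p.1 i).1), p.2)
  map_add' _ _ := rfl
  map_smul' _ _ := rfl
  invFun p := (fun i => ((p.1 i).2, (p.1 i).1), p.2)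
  left_inv _ := rfl
  right_inv _ := rfl

/-- The exchange, as an isometry. -/
def sw : quadIsometries (Qd (m := m) c) := ⟨swapLin, fun p => by
  rw [Qd_apply, Qd_apply]
  refine congrArg (· + _) (Finset.sum_congr rfl fun i _ => ?_)
  rw [q2_apply, q2_apply]
  exact add_comm _ _⟩

/-- The permutations of the planes. -/
def pl : Equiv.Perm (Fin m) →* quadIsometries (Qd (m := m) c) where
  toFun σ := p1 c σ * (sw c * p1 c σ * (sw c)⁻¹)
  map_one' := by simp
  map_mul' σ τ := Subtype.ext (LinearEquiv.ext fun p => Prod.ext (funext fun i => rfl) rfl)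

theorem pl_apply (σ : Equiv.Perm (Fin m)) (p : VV F m k) :
    (pl c σ : VV F m k ≃ₗ[F] VV F m k) p = (fun i => p.1 (σ⁻¹ i), p.2) := rfl

theorem map_pl {A : Type*} [CommGroup A] (χ : quadIsometries (Qd (m := m) c) →* A) (hA : ∀ x : A, x * x = 1)
    (σ : Equiv.Perm (Fin m)) : χ (pl c σ) = 1 := by
  show χ (p1 c σ * (sw c * p1 c σ * (sw c)⁻¹)) = 1
  rw [map_mul, map_mul, map_mul, map_inv, mul_comm (χ (sw c)), mul_inv_cancel_right, hA]

/-- Signs on the lines. -/
def sg : (Fin k → ℤˣ) →* quadIsometries (Qd (m := m) c) where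
  toFun s := ⟨LinearEquiv.prodCongr (LinearEquiv.refl F (Fin m → F × F))
      (LinearEquiv.piCongrRight fun e => LinearEquiv.smulOfUnit (Units.map (Int.castRingHom F).toMonoidHom (s e))),
    fun p => by
      rw [Qd_apply, Qd_apply]
      refine congrArg ((∑ i, q2 F (p.1 i)) + ·) (Finset.sum_congr rfl fun e _ => ?_)
      show c e * (((((s e : ℤ) : F)) * p.2 e) * ((((s e : ℤ) : F)) * p.2 e)) = c e * (p.2 e * p.2 e)
      rcases Int.units_eq_one_or (s e) with h | h <;> simp [h]⟩
  map_one' := Subtype.ext (LinearEquiv.ext fun p => Prod.ext rfl (funext fun e => by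
    show (((((1 : Fin k → ℤˣ) e : ℤˣ) : ℤ) : F)) * p.2 e = p.2 e
    simp))
  map_mul' s t := Subtype.ext (LinearEquiv.ext fun p => Prod.ext rfl (funext fun e => by
    show ((((s * t) e : ℤˣ) : ℤ) : F) * p.2 e = ((s e : ℤ) : F) * (((t e : ℤ) : F) * p.2 e)
    simp [mul_assoc]))

theorem sg_apply (s : Fin k → ℤˣ) (p : VV F m k) :
    (sg (m := m) c s : VV F m k ≃ₗ[F] VV F m k) p = (p.1, fun e => ((s e : ℤ) : F) * p.2 e) := rfl

theorem pl_conj (σ : Equiv.Perm (Fin m)) (v : Fin m → quadIsometries (q2 F)) :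
    pl c σ * bl c v * (pl c σ)⁻¹ = bl c (fun i => v (σ⁻¹ i)) := by
  rw [mul_inv_eq_iff_eq_mul]
  exact Subtype.ext (LinearEquiv.ext fun p => Prod.ext (funext fun i => rfl) rfl)

theorem bl_comm_sg (v : Fin m → quadIsometries (q2 F)) (s : Fin k → ℤˣ) :
    Commute (bl c v) (sg c s) :=
  Subtype.ext (LinearEquiv.ext fun p => Prod.ext rfl rfl)

theorem pl_comm_sg (σ : Equiv.Perm (Fin m)) (s : Fin k → ℤˣ) : Commute (pl c σ) (sg c s) :=
  Subtype.ext (LinearEquiv.ext fun p => Prod.ext rfl rfl)

theorem model_injective (h2 : (2 : F) ≠ 0) {v : Fin m → quadIsometries (q2 F)} {σ : Equiv.Perm (Fin m)}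
    {s : Fin k → ℤˣ} (h : bl c v * pl c σ * sg c s = 1) : v = 1 ∧ σ = 1 ∧ s = 1 := by
  have key : ∀ p : VV F m k, (fun i => (v i : (F × F) ≃ₗ[F] F × F) (p.1 (σ⁻¹ i)),
      fun e => ((s e : ℤ) : F) * p.2 e) = p := fun p => by
    have := congrArg (fun g : quadIsometries (Qd c) => (g : VV F m k ≃ₗ[F] VV F m k) p) h
    exact this
  have hσ : σ = 1 := by
    rw [← inv_eq_one]
    refine Equiv.ext fun i => ?_
    by_contra hne
    have h1 := congrFun (congrArg Prod.fst (key (Pi.single i ((1 : F), (0 : F)), 0))) i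
    simp only [Pi.single_eq_of_ne (show σ⁻¹ i ≠ i from hne), map_zero, Pi.single_eq_same] at h1
    exact one_ne_zero (congrArg Prod.fst h1).symm
  subst hσ
  refine ⟨funext fun i => Subtype.ext (LinearEquiv.ext fun z => ?_), rfl, funext fun e => ?_⟩
  · have h1 := congrFun (congrArg Prod.fst (key (Pi.single i z, 0))) i
    change (v i : (F × F) ≃ₗ[F] F × F) ((Pi.single i z : Fin m → F × F) i) = (Pi.single i z : Fin m → F × F) i at h1
    rw [Pi.single_eq_same] at h1
    exact h1
  · have h1 := congrFun (congrArg Prod.snd (key (0, Pi.single e (1 : F)))) e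
    simp only [Pi.single_eq_same, mul_one] at h1
    rcases Int.units_eq_one_or (s e) with h' | h'
    · exact h'
    · exfalso
      rw [h'] at h1
      simp only [Units.val_neg, Units.val_one, Int.cast_neg, Int.cast_one] at h1
      exact h2 (by linear_combination -h1)

theorem bl_refl (i : Fin m) (u : F × F) :
    bl c (Pi.mulSingle i (refl (q2 F) u)) = refl (Qd c) ((Pi.single i u, 0) : VV F m k) := by
  refine Subtype.ext (LinearEquiv.ext fun p => ?_)
  have hQ : Qd c ((Pi.single i u, 0) : VV F m k) = q2 F u := by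
    rw [Qd_apply, Finset.sum_eq_single i (fun j _ hj => by simp [hj]) (fun h' => absurd (Finset.mem_univ i) h')]
    simp
  have hP : polarBilin (Qd c) ((Pi.single i u, 0) : VV F m k) p = polarBilin (q2 F) u (p.1 i) := by
    rw [polar_Qd, Finset.sum_eq_single i (fun j _ hj => by simp [hj]) (fun h' => absurd (Finset.mem_univ i) h')]
    simp
  rw [bl_apply, refl_apply, hQ, hP]
  refine Prod.ext (funext fun j => ?_) (by simp)
  by_cases hj : j = i
  · subst hj
    simp [refl_apply]
  · simp [hj]

theorem sg_refl (h2 : (2 : F) ≠ 0) (hc : ∀ e, c e ≠ 0) (e : Fin k) :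
    sg (m := m) c (Pi.mulSingle e (-1)) = refl (Qd c) ((0, Pi.single e 1) : VV F m k) := by
  refine Subtype.ext (LinearEquiv.ext fun p => ?_)
  have hQ : Qd c ((0, Pi.single e 1) : VV F m k) = c e := by
    rw [Qd_apply, Finset.sum_eq_zero (fun j _ => by simp), zero_add,
      Finset.sum_eq_single e (fun j _ hj => by simp [hj]) (fun h' => absurd (Finset.mem_univ e) h')]
    simp
  have hP : polarBilin (Qd c) ((0, Pi.single e 1) : VV F m k) p = 2 * c e * p.2 e := by
    rw [polar_Qd, Finset.sum_eq_zero (fun j _ => by simp), zero_add,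
      Finset.sum_eq_single e (fun j _ hj => by simp [hj]) (fun h' => absurd (Finset.mem_univ e) h')]
    simp
  rw [sg_apply, refl_apply, hQ, hP]
  refine Prod.ext (by simp) (funext fun j => ?_)
  by_cases hj : j = e
  · subst hj
    have := hc j
    simp
    field_simp
    ring
  · simp [hj]

theorem exists_refl_of_dickson_neg {V : Type*} [AddCommGroup V] [Module F V] [FiniteDimensional F V]
    (Q : QuadraticForm F V) (hQ : (polarBilin Q).Nondegenerate) (hd : Module.finrank F V = 2)
    (g : quadIsometries Q) (hg : dickson Q g = -1) : ∃ v, Q v ≠ 0 ∧ g = refl Q v := by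
  have h1 : Module.finrank F (movedSpace Q g) = 1 := by
    have hle := Submodule.finrank_le (movedSpace Q g)
    rw [hd] at hle
    have hne : ¬ Even (Module.finrank F (movedSpace Q g)) := fun he => by
      rw [dickson, he.neg_one_pow] at hg
      exact absurd hg (by decide)
    rw [Nat.not_even_iff_odd] at hne
    obtain ⟨r, hr⟩ := hne
    omega
  have hex : ∃ v ∈ movedSpace Q g, Q v ≠ 0 := by
    by_contra hall
    push Not at hall
    have := two_le_finrank_moved_of_singular Q hQ g (by omega) hall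
    omega
  obtain ⟨v, hv, hQv⟩ := hex
  refine ⟨v, hQv, ?_⟩
  have h0 := finrank_moved_refl_mul_of_mem Q g hv hQv
  have := eq_one_of_finrank_moved_eq_zero Q (refl Q v * g) (by omega)
  rw [← inv_eq_of_mul_eq_one_left (refl_mul_self Q v)]
  exact (eq_inv_of_mul_eq_one_right this)

end Cfsg.Agent.Lib.FusionControl.OrthSylow
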