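import Cfsg.Agent.Lib.Geometry.SympBasis
import Cfsg.Agent.Lib.Geometry.OrthNegOne
import Cfsg.Agent.Lib.Geometry.OrthTransfer

/-!
In a quadratic space of dimension `2m + 3` over a field with `q` elements (`q` odd), commuting
isometries of orders `r`, `p`, `2` (`r` primitive for `q ^ (2m) - 1` resp. `q ^ m - 1`) cannot have
trivial Dickson invariant and spinor norm at the involution.
-/

set_option autoImplicit false
set_option maxHeartbeats 800000

namespace Cfsg.Agent.Lib.FusionControl.OrthThreeElements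

open Module (finrank End)
open QuadraticMap (polarBilin)
open Matrix
open Cfsg.Agent.Lib.Geometry

attribute [-simp] QuadraticMap.polarBilin_apply_apply

universe u v

variable {F : Type u} [Field F]

/-- A non-degenerate alternating form has even dimension and square determinant. -/
theorem alt_facts {U : Type v} [AddCommGroup U] [Module F U] [FiniteDimensional F U]
    (B : LinearMap.BilinForm F U) (hA : B.IsAlt) (hB : ∀ u, (∀ v, B u v = 0) → u = 0) :
    Even (finrank F U) ∧ ∀ {κ : Type} [Fintype κ] [DecidableEq κ] (c : Module.Basis κ F U),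
      IsSquare (LinearMap.BilinForm.toMatrix c B).det := by
  classical
  obtain ⟨m, k, b, h12, h11, h22, hrad⟩ := exists_sympBasis B hA
  obtain rfl : k = 0 := by
    by_contra hk
    exact b.ne_zero (Sum.inr ⟨0, Nat.pos_of_ne_zero hk⟩) (hB _ fun v => hrad _ v)
  let e : (Fin m ⊕ Fin m) ⊕ Fin 0 ≃ Fin m ⊕ Fin m := Equiv.sumEmpty _ _
  let b' := b.reindex e
  refine ⟨⟨m, by rw [Module.finrank_eq_card_basis b']; simp⟩, fun {κ} _ _ c => ?_⟩
  let d : Fin m ⊕ Fin m ≃ κ := b'.indexEquiv c
  let c' := c.reindex d.symm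
  have hc : (LinearMap.BilinForm.toMatrix c' B).det = (LinearMap.BilinForm.toMatrix c B).det := by
    rw [← Matrix.det_submatrix_equiv_self d (LinearMap.BilinForm.toMatrix c B)]
    congr 1
    ext i j
    simp [c', LinearMap.BilinForm.toMatrix_apply]
  rw [← hc, ← LinearMap.BilinForm.toMatrix_mul_basis_toMatrix b' c' B, det_mul, det_mul, det_transpose]
  have hJ : LinearMap.BilinForm.toMatrix b' B = -Matrix.J (Fin m) F := by
    ext i j
    rw [LinearMap.BilinForm.toMatrix_apply]
    rcases i with i | i <;> rcases j with j | j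
    all_goals simp only [b', Module.Basis.reindex_apply, e, Equiv.sumEmpty_symm_apply]
    · simp [Matrix.J, h11]
    · simp [Matrix.J, h12, Matrix.one_apply]
    · rw [← hA.neg_eq, h12]
      simp only [Matrix.J, Matrix.fromBlocks_neg, Matrix.fromBlocks_apply₂₁, Matrix.neg_apply, Matrix.one_apply,
        eq_comm (a := j)]
    · simp [Matrix.J, h22]
  have hJdet : (LinearMap.BilinForm.toMatrix b' B).det = 1 := by
    rw [hJ, Matrix.det_neg, SymplecticGroup.det_eq_one (SymplecticGroup.J_mem (Fin m) F), mul_one]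
    simp
  rw [hJdet, mul_one]
  exact ⟨_, rfl⟩

variable {V : Type v} [AddCommGroup V] [Module F V] [FiniteDimensional F V]
variable (Q : QuadraticForm F V)

/-- Non-degeneracy of a subspace. -/
def ND (U : Submodule F V) : Prop := ∀ u ∈ U, (∀ v ∈ U, polarBilin Q u v = 0) → u = 0

/-- The linear map of an isometry. -/
abbrev lin (g : quadIsometries Q) : End F V := ((g : V ≃ₗ[F] V) : V →ₗ[F] V)

theorem lin_mul (g h : quadIsometries Q) : lin Q (g * h) = lin Q g * lin Q h := rfl

theorem lin_pow (g : quadIsometries Q) (k : ℕ) : lin Q (g ^ k) = lin Q g ^ k := by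
  induction k with
  | zero => rfl
  | succ k ih => rw [pow_succ, pow_succ, lin_mul, ih]

/-- Preimage of the invariance. -/
theorem inv_mem_of_finite {g : quadIsometries Q} {r : ℕ} (hr : 0 < r) (hg : g ^ r = 1) {U : Submodule F V}
    (hU : ∀ u ∈ U, lin Q g u ∈ U) : ∀ u ∈ U, lin Q g⁻¹ u ∈ U := by
  intro u hu
  have hinv : g⁻¹ = g ^ (r - 1) := inv_eq_of_mul_eq_one_left (by
    rw [← pow_succ, Nat.sub_add_cancel hr, hg])
  rw [hinv, lin_pow]
  induction r - 1 with
  | zero => exact hu
  | succ k ih => rw [pow_succ', Module.End.mul_apply]; exact hU _ ih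

theorem mem_fixed {g : quadIsometries Q} {x : V} : x ∈ fixedSpace Q g ↔ lin Q g x = x :=
  mem_fixedSpace Q

/-- Invariance of fixed and moved spaces. -/
theorem commute_invariant {g h : quadIsometries Q} (hc : Commute g h) :
    (∀ v ∈ fixedSpace Q g, lin Q h v ∈ fixedSpace Q g) ∧ (∀ v ∈ movedSpace Q g, lin Q h v ∈ movedSpace Q g) := by
  have hgh : ∀ v, lin Q g (lin Q h v) = lin Q h (lin Q g v) := fun v => by
    rw [← Module.End.mul_apply, ← lin_mul, hc.eq, lin_mul, Module.End.mul_apply]
  refine ⟨fun v hv => ?_, ?_⟩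
  · rw [mem_fixed] at hv ⊢
    rw [hgh, hv]
  · rintro _ ⟨a, rfl⟩
    refine ⟨lin Q h a, ?_⟩
    show lin Q h a - lin Q g (lin Q h a) = lin Q h (a - lin Q g a)
    rw [map_sub, hgh]

/-- Isometries of order prime to the characteristic are semisimple on `fixed ⊕ moved`. -/
theorem inf_fixed_moved {g : quadIsometries Q} {r : ℕ} (hg : g ^ r = 1) (hr : (r : F) ≠ 0) :
    fixedSpace Q g ⊓ movedSpace Q g = ⊥ := by
  refine (Submodule.eq_bot_iff _).mpr ?_
  rintro v ⟨hf, a, ha⟩
  rw [SetLike.mem_coe, mem_fixed] at hf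
  have hk : ∀ k : ℕ, (lin Q g ^ k) a = a - (k : F) • v := by
    intro k
    induction k with
    | zero => simp
    | succ k ih =>
      rw [pow_succ', Module.End.mul_apply, ih, map_sub, map_smul, hf,
        show lin Q g a = a - v by rw [← ha]; show lin Q g a = a - (a - lin Q g a); abel]
      push_cast
      rw [add_smul, one_smul]
      abel
  have h := hk r
  rw [← lin_pow, hg] at h
  change a = a - (r : F) • v at h
  exact (smul_eq_zero.mp (sub_eq_self.mp h.symm)).resolve_left hr

theorem isCompl_fixed_moved {g : quadIsometries Q} {r : ℕ} (hg : g ^ r = 1) (hr : (r : F) ≠ 0) :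
    IsCompl (fixedSpace Q g) (movedSpace Q g) := by
  refine IsCompl.of_eq (inf_fixed_moved Q hg hr) (Submodule.eq_top_of_finrank_eq ?_)
  have h := Submodule.finrank_sup_add_finrank_inf_eq (fixedSpace Q g) (movedSpace Q g)
  rw [inf_fixed_moved Q hg hr, finrank_bot] at h
  have := finrank_moved_add_fixed Q g
  omega

/-- Splitting an invariant non-degenerate subspace by an isometry of order prime to the characteristic. -/
theorem split {g : quadIsometries Q} {r : ℕ} (hg : g ^ r = 1) (hr : (r : F) ≠ 0) {U : Submodule F V}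
    (hU : ND Q U) (hUg : ∀ u ∈ U, lin Q g u ∈ U) :
    ND Q (U ⊓ fixedSpace Q g) ∧ ND Q (U ⊓ movedSpace Q g) ∧
      finrank F ↥(U ⊓ fixedSpace Q g) + finrank F ↥(U ⊓ movedSpace Q g) = finrank F U := by
  have hc := isCompl_fixed_moved Q hg hr
  have hdec : ∀ u ∈ U, ∃ a ∈ U ⊓ fixedSpace Q g, ∃ b ∈ U ⊓ movedSpace Q g, a + b = u := by
    intro u hu
    -- the restriction of `1 - g` to `U` is bijective on the moved part
    let T : U →ₗ[F] U := LinearMap.restrict (oneSub Q g) fun w hw => U.sub_mem hw (hUg w hw)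
    have hdisj : LinearMap.ker T ⊓ LinearMap.range T = ⊥ := by
      refine (Submodule.eq_bot_iff _).mpr ?_
      rintro w ⟨hk, z, hz⟩
      refine Subtype.ext ((Submodule.eq_bot_iff _).mp (inf_fixed_moved Q hg hr) _ ⟨?_, z, congrArg Subtype.val hz⟩)
      rw [SetLike.mem_coe, fixedSpace, LinearMap.mem_ker]
      exact congrArg Subtype.val (LinearMap.mem_ker.mp hk)
    have htop : LinearMap.ker T ⊔ LinearMap.range T = ⊤ := by
      refine Submodule.eq_top_of_finrank_eq ?_
      have h := Submodule.finrank_sup_add_finrank_inf_eq (LinearMap.ker T) (LinearMap.range T)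
      rw [hdisj, finrank_bot] at h
      have := LinearMap.finrank_range_add_finrank_ker T
      omega
    obtain ⟨a, ha, b, ⟨z, hz⟩, hab⟩ := Submodule.mem_sup.mp (show (⟨u, hu⟩ : U) ∈ _ from htop ▸ Submodule.mem_top)
    refine ⟨a, ⟨a.2, ?_⟩, b, ⟨b.2, z, congrArg Subtype.val hz⟩, congrArg Subtype.val hab⟩
    rw [SetLike.mem_coe, fixedSpace, LinearMap.mem_ker]
    exact congrArg Subtype.val (LinearMap.mem_ker.mp ha)
  refine ⟨fun a ha h => hU a ha.1 fun v hv => ?_, fun b hb h => hU b hb.1 fun v hv => ?_, ?_⟩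
  · obtain ⟨a', ha', b', hb', rfl⟩ := hdec v hv
    rw [map_add, h a' ha', quad_polar_comm, polar_moved_fixed Q g hb'.2 ha.2, add_zero]
  · obtain ⟨a', ha', b', hb', rfl⟩ := hdec v hv
    rw [map_add, h b' hb', polar_moved_fixed Q g hb.2 ha'.2, add_zero]
  · have h := Submodule.finrank_sup_add_finrank_inf_eq (U ⊓ fixedSpace Q g) (U ⊓ movedSpace Q g)
    rw [show U ⊓ fixedSpace Q g ⊔ U ⊓ movedSpace Q g = U from le_antisymm (sup_le inf_le_left inf_le_left)
      fun u hu => by obtain ⟨a, ha, b, hb, rfl⟩ := hdec u hu; exact Submodule.add_mem_sup ha hb,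
      show (U ⊓ fixedSpace Q g) ⊓ (U ⊓ movedSpace Q g) = ⊥ from eq_bot_iff.mpr
        ((inf_le_inf inf_le_right inf_le_right).trans (inf_fixed_moved Q hg hr).le), finrank_bot, add_zero] at h
    exact h.symm

/-- An odd order isometry without fixed vectors on `U`. -/
theorem fpf_facts {g : quadIsometries Q} {r : ℕ} (hg : g ^ r = 1) (hodd : Odd r) {U : Submodule F V}
    (hU : ND Q U) (hUg : ∀ u ∈ U, lin Q g u ∈ U) (hfpf : ∀ u ∈ U, lin Q g u = u → u = 0) :
    Even (finrank F U) ∧ ∀ {κ : Type} [Fintype κ] [DecidableEq κ] (c : Module.Basis κ F U),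
      ∀ A : U →ₗ[F] U, (∀ u : U, (A u : V) = lin Q g u - lin Q g⁻¹ u) →
        IsSquare (LinearMap.det A * (Matrix.of fun i j => polarBilin Q (c i : V) (c j : V)).det) := by
  classical
  have hUi := inv_mem_of_finite Q hodd.pos hg hUg
  have hgi : ∀ v, lin Q g (lin Q g⁻¹ v) = v := fun v => by
    rw [← Module.End.mul_apply, ← lin_mul, mul_inv_cancel]; rfl
  let A : U →ₗ[F] U := LinearMap.restrict (lin Q g - lin Q g⁻¹) fun u hu => U.sub_mem (hUg u hu) (hUi u hu)
  have hAv : ∀ u : U, (A u : V) = lin Q g u - lin Q g⁻¹ u := fun u => rfl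
  have hAinj : ∀ u : U, A u = 0 → u = 0 := by
    intro u hu
    have h1 : lin Q g u = lin Q g⁻¹ u := sub_eq_zero.mp ((hAv u).symm.trans (congrArg Subtype.val hu))
    have h2 : lin Q g (lin Q g u) = u := (congrArg (lin Q g) h1).trans (hgi _)
    have h3 : ∀ k : ℕ, (lin Q g ^ (2 * k)) u = u := by
      intro k
      induction k with
      | zero => rfl
      | succ k ih =>
        rw [show 2 * (k + 1) = 2 + 2 * k by ring, pow_add, Module.End.mul_apply, ih, pow_two,
          Module.End.mul_apply, h2]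
    obtain ⟨k, hk⟩ := hodd
    refine Subtype.ext (hfpf _ u.2 ?_)
    have h4 := h3 k
    have h5 : (lin Q g ^ (2 * k + 1)) u = (u : V) := by rw [← lin_pow, ← hk, hg]; rfl
    rwa [pow_succ', Module.End.mul_apply, h4] at h5
  let B : LinearMap.BilinForm F U := (LinearMap.BilinForm.restrict (polarBilin Q) U).compLeft A
  have hBv : ∀ u v : U, B u v = polarBilin Q (A u : V) (v : V) := fun u v => rfl
  have hAlt : B.IsAlt := fun u => by
    rw [hBv, hAv, map_sub, LinearMap.sub_apply, sub_eq_zero, ← iso_polar Q g (lin Q g⁻¹ u) u]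
    show _ = polarBilin Q (lin Q g (lin Q g⁻¹ u)) (lin Q g u)
    rw [hgi, quad_polar_comm]
  have hBnd : ∀ u, (∀ v, B u v = 0) → u = 0 := fun u h =>
    hAinj u (Subtype.ext (hU _ (A u).2 fun v hv => h ⟨v, hv⟩))
  refine ⟨(alt_facts B hAlt hBnd).1, fun {κ} _ _ c A' hA' => ?_⟩
  obtain rfl : A' = A := LinearMap.ext fun u => Subtype.ext ((hA' u).trans (hAv u).symm)
  have h := (alt_facts B hAlt hBnd).2 c
  have hmat : LinearMap.BilinForm.toMatrix c B = (LinearMap.toMatrix c c A)ᵀ *
      Matrix.of fun i j => polarBilin Q (c i : V) (c j : V) := by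
    rw [LinearMap.BilinForm.toMatrix_compLeft]
    congr 1
    ext i j
    rw [LinearMap.BilinForm.toMatrix_apply]
    rfl
  rwa [hmat, det_mul, det_transpose, LinearMap.det_toMatrix] at h

/-- A unipotent isometry whose fixed space has odd dimension equal to half is impossible. -/
theorem unipotent_half {y : quadIsometries Q} {U : Submodule F V} (h2 : (2 : F) ≠ 0)
    (hU : ND Q U) {k : ℕ} (hk : Odd k) (hdim : finrank F U = 2 * k)
    (hK : finrank F ↥(U ⊓ fixedSpace Q y) = k) (hUy : ∀ u ∈ U, lin Q y u ∈ U) {s : ℕ}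
    (hnil : ∀ u ∈ U, ((oneSub Q y) ^ s) u = 0)
    (hirr : ∀ R : Submodule F V, R = U.map (oneSub Q y) → U ⊓ fixedSpace Q y ⊓ R ≠ ⊥ → U ⊓ fixedSpace Q y ≤ R) :
    False := by
  classical
  set N := oneSub Q y with hN
  have hNv : ∀ v, N v = v - lin Q y v := fun v => rfl
  have hUN : ∀ u ∈ U, N u ∈ U := fun u hu => U.sub_mem hu (hUy u hu)
  set K := U ⊓ fixedSpace Q y with hKdef
  set R := U.map N with hR
  have hRU : R ≤ U := by rintro _ ⟨u, hu, rfl⟩; exact hUN u hu
  let T : U →ₗ[F] U := LinearMap.restrict N hUN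
  have hkerT : (LinearMap.ker T).map U.subtype = K := by
    ext v
    simp only [Submodule.mem_map, LinearMap.mem_ker, hKdef, Submodule.mem_inf]
    constructor
    · rintro ⟨w, hw, rfl⟩
      exact ⟨w.2, LinearMap.mem_ker.mpr (congrArg Subtype.val hw)⟩
    · rintro ⟨hv, hf⟩
      exact ⟨⟨v, hv⟩, Subtype.ext (LinearMap.mem_ker.mp hf), rfl⟩
  have hranT : (LinearMap.range T).map U.subtype = R := by
    ext v
    simp only [Submodule.mem_map, LinearMap.mem_range, hR]
    constructor
    · rintro ⟨w, ⟨z, rfl⟩, rfl⟩; exact ⟨z, z.2, rfl⟩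
    · rintro ⟨z, hz, rfl⟩; exact ⟨T ⟨z, hz⟩, ⟨_, rfl⟩, rfl⟩
  have hRdim : finrank F R = k := by
    have h := LinearMap.finrank_range_add_finrank_ker T
    rw [← Submodule.finrank_map_subtype_eq U (LinearMap.ker T), hkerT, hK,
      ← Submodule.finrank_map_subtype_eq U (LinearMap.range T), hranT, hdim] at h
    omega
  have hne : K ⊓ R ≠ ⊥ := by
    obtain ⟨u, hu, hu0⟩ : ∃ u ∈ U, N u ≠ 0 := by
      by_contra h
      push Not at h
      have : R = ⊥ := (Submodule.eq_bot_iff _).mpr (by rintro _ ⟨u, hu, rfl⟩; exact h u hu)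
      rw [this, finrank_bot] at hRdim
      have := hk.pos
      omega
    have hex : ∃ i, (N ^ i) (N u) = 0 := ⟨s, by
      rw [← Module.End.mul_apply, ← pow_succ, pow_succ', Module.End.mul_apply, hnil u hu, map_zero]⟩
    have hmem : ∀ i, (N ^ i) u ∈ U := fun i => by
      induction i with
      | zero => exact hu
      | succ i ih => rw [pow_succ', Module.End.mul_apply]; exact hUN _ ih
    obtain ⟨i, hi, hmin⟩ : ∃ i, (N ^ (i + 1)) u ≠ 0 ∧ (N ^ (i + 2)) u = 0 := by
      classical
      have h := Nat.find_spec hex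
      have hpos : Nat.find hex ≠ 0 := fun h0 => hu0 (by rw [h0] at h; exact h)
      obtain ⟨i, hi⟩ : ∃ i, Nat.find hex = i + 1 := ⟨Nat.find hex - 1, by omega⟩
      refine ⟨i, ?_, ?_⟩
      · rw [pow_succ, Module.End.mul_apply]
        exact Nat.find_min hex (by omega)
      · rw [hi, ← Module.End.mul_apply, ← pow_succ] at h
        exact h
    intro hbot
    refine hi ((Submodule.eq_bot_iff _).mp hbot _ ⟨⟨hmem _, ?_⟩, (N ^ i) u, hmem i, ?_⟩)
    · rw [SetLike.mem_coe, fixedSpace, LinearMap.mem_ker, ← Module.End.mul_apply, ← pow_succ']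
      exact hmin
    · rw [← Module.End.mul_apply, ← pow_succ']
  have hKR : K = R := Submodule.eq_of_le_of_finrank_eq (hirr R rfl hne) (by rw [hK, hRdim])
  have hperp : ∀ a ∈ U, ∀ w ∈ K, polarBilin Q (N a) w = 0 := fun a _ w hw =>
    polar_moved_fixed Q y ⟨a, rfl⟩ hw.2
  obtain ⟨C, hC⟩ := (K.comap U.subtype).exists_isCompl
  let β : LinearMap.BilinForm F C :=
    (polarBilin Q).compl₁₂ (N ∘ₗ U.subtype ∘ₗ C.subtype) (U.subtype ∘ₗ C.subtype)
  have hβ : ∀ a b : C, β a b = polarBilin Q (N ((a : U) : V)) ((b : U) : V) := fun a b => rfl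
  have hAlt : β.IsAlt := fun a => by
    rw [hβ, hN, ← quad_oneSub]
    have hmem : N ((a : U) : V) ∈ K := hKR ▸ ⟨_, (a : U).2, rfl⟩
    have h := hperp _ (a : U).2 _ hmem
    rw [quad_polar_self] at h
    exact (mul_eq_zero.mp h).resolve_left h2
  have hnd : ∀ a, (∀ b, β a b = 0) → a = 0 := by
    intro a h
    have h0 : N ((a : U) : V) = 0 := hU _ (hUN _ (a : U).2) fun v hv => by
      obtain ⟨z, hz, c, hc, hzc⟩ := Submodule.mem_sup.mp
        (show (⟨v, hv⟩ : U) ∈ K.comap U.subtype ⊔ C from hC.sup_eq_top ▸ Submodule.mem_top)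
      have hv' : v = (z : V) + (c : V) := (congrArg Subtype.val hzc).symm
      rw [hv', map_add, hperp _ (a : U).2 (z : V) hz, zero_add]
      exact h ⟨c, hc⟩
    exact Subtype.ext ((Submodule.eq_bot_iff _).mp hC.inf_eq_bot _
      ⟨⟨(a : U).2, LinearMap.mem_ker.mpr h0⟩, a.2⟩)
  have heven := (alt_facts β hAlt hnd).1
  have hdimC : finrank F C = k := by
    have h := Submodule.finrank_add_eq_of_isCompl hC
    rw [LinearEquiv.finrank_eq (Submodule.comapSubtypeEquivOfLe (show K ≤ U from inf_le_left)), hK, hdim] at h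
    omega
  rw [hdimC] at heven
  exact Nat.not_even_iff_odd.mpr hk heven

section Finite

variable [Fintype F]

/-- Spaces with a fixed-point-free operator of prime order. -/
theorem orderOf_dvd_finrank {r : ℕ} [Fact r.Prime] {U : Type*} [AddCommGroup U] [Module F U] [FiniteDimensional F U]
    (T : End F U) (hT : T ^ r = 1) (hfpf : ∀ u, T u = u → u = 0) :
    orderOf (Fintype.card F : ZMod r) ∣ finrank F U := by
  classical
  haveI : Finite U := Module.finite_of_finite F
  haveI := Fintype.ofFinite U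
  let f : Function.End U := ⇑T
  have hpow : ∀ i (u : U), (f ^ i) u = (T ^ i) u := by
    intro i
    induction i with
    | zero => intro u; rfl
    | succ i ih =>
      intro u
      rw [pow_succ', pow_succ', Module.End.mul_apply, ← ih u]
      rfl
  have h := Equiv.Perm.card_fixedPoints_modEq (p := r) (n := 1) (f := f)
    (funext fun u => by rw [pow_one]; exact (hpow r u).trans (by rw [hT]; rfl))
  rw [show Fintype.card (Function.fixedPoints f) = 1 from
    Fintype.card_eq_one_iff.mpr ⟨⟨0, map_zero T⟩, fun u => Subtype.ext (hfpf _ u.2)⟩] at h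
  rw [orderOf_dvd_iff_pow_eq_one]
  have h' := (ZMod.natCast_eq_natCast_iff _ _ _).mpr h
  rw [Module.card_eq_pow_finrank (K := F), Nat.cast_pow, Nat.cast_one] at h'
  exact h'

end Finite

end Cfsg.Agent.Lib.FusionControl.OrthThreeElements
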