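import Cfsg.Agent.Lib.FusionControl.OrthThreeElements
import Cfsg.Agent.Lib.QuadFin.SpinorApps

/-!
No commuting isometries of orders `r`, `p`, `2` with the involution in the kernel of the Dickson
invariant and spinor norm, in dimension `2m + 3` and `r` primitive.
-/

set_option autoImplicit false
set_option maxHeartbeats 1600000

namespace Cfsg.Agent.Lib.FusionControl.OrthThreeElements

open Module (finrank End)
open QuadraticMap (polarBilin)
open Matrix
open Cfsg.Agent.Lib.Geometry

attribute [-simp] QuadraticMap.polarBilin_apply_apply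

universe u v

variable {F : Type u} [Field F] [Fintype F]

/-- An irreducible endomorphism whose `q^m`-th power is itself lives in dimension at most `m`; one of
order `r ∣ q ^ m + 1` in dimension `2m` has `x - x⁻¹` of non-square determinant (`q ^ m ≡ 1 mod 4`). -/
theorem irreducible_facts {U : Type v} [AddCommGroup U] [Module F U] [FiniteDimensional F U] [Nontrivial U]
    (T : End F U) (hirr : ∀ S : Submodule F U, (∀ u ∈ S, T u ∈ S) → S = ⊥ ∨ S = ⊤) (m : ℕ) :
    (1 ≤ m → T ^ (Fintype.card F ^ m) = T → finrank F U ≤ m) ∧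
    ∀ {p r : ℕ} [Fact p.Prime] [CharP F p], Odd r → T ^ r = 1 → T ≠ 1 → (2 : F) ≠ 0 →
      finrank F U = 2 * m → (Fintype.card F ^ m + 1) % r = 0 → Fintype.card F ^ m % 4 = 1 →
      ¬ IsSquare (LinearMap.det (T - T ^ (r - 1))) := by
  classical
  haveI : Finite U := Module.finite_of_finite F
  let A : Subalgebra F (End F U) := Algebra.adjoin F ({T} : Set (End F U))
  letI : CommRing A := { (inferInstance : Ring A) with
    mul_comm := fun a b => Subtype.ext (Algebra.commute_of_mem_adjoin_singleton_of_commute b.2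
      (Algebra.commute_of_mem_adjoin_self a.2).symm) }
  haveI : Finite (End F U) := Finite.of_injective (fun f : End F U => (f : U → U)) DFunLike.coe_injective
  have hcomm : ∀ a : A, ∀ u, T ((a : End F U) u) = (a : End F U) (T u) := fun a u => by
    rw [← Module.End.mul_apply, (Algebra.commute_of_mem_adjoin_self a.2).eq, Module.End.mul_apply]
  have hinj : ∀ a : A, a ≠ 0 → ∀ u, (a : End F U) u = 0 → u = 0 := by
    intro a ha u hu
    rcases hirr (LinearMap.ker (a : End F U)) (fun w hw => by
      rw [LinearMap.mem_ker] at hw ⊢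
      rw [← hcomm, hw, map_zero]) with h | h
    · exact (Submodule.eq_bot_iff _).mp h u hu
    · exact absurd (Subtype.ext (LinearMap.ker_eq_top.mp h)) ha
  haveI : Nontrivial A := ⟨⟨0, 1, fun h => by
    obtain ⟨u, hu⟩ := exists_ne (0 : U)
    exact hu (congrArg (fun a : A => (a : End F U) u) h).symm⟩⟩
  haveI : NoZeroDivisors A := ⟨fun {a b} hab => by
    by_contra h
    push Not at h
    obtain ⟨u, hu⟩ := exists_ne (0 : U)
    exact hu (hinj b h.2 u (hinj a h.1 _ (congrArg (fun c : A => (c : End F U) u) hab)))⟩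
  haveI : IsDomain A := NoZeroDivisors.to_isDomain A
  letI : Field A := (Finite.isField_of_domain A).toField
  obtain ⟨w, hw⟩ := exists_ne (0 : U)
  let ev : A →ₗ[F] U :=
    { toFun := fun a => (a : End F U) w
      map_add' := fun a b => rfl
      map_smul' := fun c a => rfl }
  have hevinj : Function.Injective ev := (injective_iff_map_eq_zero ev).mpr fun a ha => by
    by_contra h
    exact hw (hinj a h w ha)
  have hevsurj : Function.Surjective ev := by
    rw [← LinearMap.range_eq_top]
    refine (hirr (LinearMap.range ev) ?_).resolve_left fun h => hw ?_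
    · rintro _ ⟨a, rfl⟩
      exact ⟨⟨T, Algebra.self_mem_adjoin_singleton F T⟩ * a, rfl⟩
    · exact (Submodule.eq_bot_iff _).mp h w ⟨1, rfl⟩
  let e : A ≃ₗ[F] U := LinearEquiv.ofBijective ev ⟨hevinj, hevsurj⟩
  have hcard : Nat.card A = Fintype.card F ^ finrank F U := by
    rw [Nat.card_congr e.toEquiv, Module.natCard_eq_pow_finrank (K := F), Nat.card_eq_fintype_card]
  let t : A := ⟨T, Algebra.self_mem_adjoin_singleton F T⟩
  obtain ⟨p₀, hp₀⟩ := CharP.exists F
  haveI : Fact p₀.Prime := ⟨CharP.char_is_prime F p₀⟩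
  haveI : CharP A p₀ := charP_of_injective_algebraMap (algebraMap F A).injective p₀
  obtain ⟨f, -, hqf⟩ := FiniteField.card F p₀
  refine ⟨fun hm hT => ?_, fun {p r} _ _ hr hTr hT1 h2 hdim hdvd hmod => ?_⟩
  · have ht : t ^ (Fintype.card F ^ m) = t := Subtype.ext hT
    have hall : ∀ a : A, a ^ (Fintype.card F ^ m) = a := by
      rintro ⟨a, ha⟩
      induction ha using Algebra.adjoin_induction with
      | mem x hx =>
        rw [Set.mem_singleton_iff] at hx
        subst hx
        exact ht
      | algebraMap c =>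
        show (algebraMap F A c) ^ _ = algebraMap F A c
        rw [← map_pow, FiniteField.pow_card_pow]
      | add x y hx hy ihx ihy =>
        show ((⟨x, hx⟩ : A) + ⟨y, hy⟩) ^ _ = ⟨x, hx⟩ + ⟨y, hy⟩
        rw [hqf, ← pow_mul, add_pow_char_pow, pow_mul, ← hqf, ihx, ihy]
      | mul x y hx hy ihx ihy =>
        show ((⟨x, hx⟩ : A) * ⟨y, hy⟩) ^ _ = ⟨x, hx⟩ * ⟨y, hy⟩
        rw [mul_pow, ihx, ihy]
    obtain ⟨z, hz⟩ := IsCyclic.exists_generator (α := Aˣ)
    have hz1 : orderOf z = Fintype.card F ^ finrank F U - 1 := by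
      rw [orderOf_eq_card_of_forall_mem_zpowers hz, Nat.card_units, hcard]
    have hq1 : 1 < Fintype.card F := Fintype.one_lt_card
    have h1 : z ^ (Fintype.card F ^ m - 1) = 1 := by
      refine Units.ext (mul_right_cancel₀ z.ne_zero ?_)
      rw [Units.val_pow_eq_pow_val, ← pow_succ, Nat.sub_add_cancel (Nat.one_le_pow _ _ (by omega)), hall,
        Units.val_one, one_mul]
    have hlt : 1 < Fintype.card F ^ m := Nat.one_lt_pow (by omega) hq1
    have hle := Nat.le_of_dvd (by omega) (orderOf_dvd_of_pow_eq_one h1)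
    rw [hz1] at hle
    refine (Nat.pow_le_pow_iff_right hq1).mp ?_
    omega
  · rintro ⟨s, hs⟩
    set q := Fintype.card F with hq
    let δ : A := t - t ^ (r - 1)
    have hdet : LinearMap.det (T - T ^ (r - 1)) = Algebra.norm F δ := by
      rw [Algebra.norm_apply, ← LinearMap.det_conj (Algebra.lmul F A δ) e]
      congr 1
      refine LinearMap.ext fun u => ?_
      obtain ⟨a, rfl⟩ := e.surjective u
      simp only [LinearMap.coe_comp, Function.comp_apply, LinearEquiv.coe_coe, LinearEquiv.symm_apply_apply]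
      rfl
    have htr : t ^ r = 1 := Subtype.ext hTr
    have ht1 : t ≠ 1 := fun h => hT1 (congrArg Subtype.val h)
    have hpow : t ^ (q ^ m) = t ^ (r - 1) := by
      have hr1 := hr.pos
      obtain ⟨c, hc⟩ : r ∣ q ^ m + 1 := Nat.dvd_of_mod_eq_zero hdvd
      obtain ⟨c', rfl⟩ : ∃ c', c = c' + 1 := ⟨c - 1, by
        rcases Nat.eq_zero_or_pos c with rfl | h
        · simp at hc
        · omega⟩
      rw [show q ^ m = r * c' + (r - 1) by rw [Nat.mul_succ] at hc; omega, pow_add, pow_mul, htr, one_pow, one_mul]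
    have hδ0 : δ ≠ 0 := by
      intro h
      have h1 : t = t ^ (r - 1) := sub_eq_zero.mp h
      have h2' : t * t = 1 := by
        nth_rewrite 2 [h1]
        rw [← pow_succ', Nat.sub_add_cancel hr.pos, htr]
      obtain ⟨k, hk⟩ := hr
      apply ht1
      rw [← pow_one t, ← show t ^ (2 * k + 1) = t ^ 1 by rw [pow_succ, pow_mul, pow_two, h2', one_pow, pow_one, one_mul],
        ← hk, htr]
    have hfrob : δ ^ (q ^ m) = -δ := by
      have hsub : ∀ a b : A, (a - b) ^ (q ^ m) = a ^ (q ^ m) - b ^ (q ^ m) := fun a b => by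
        rw [hqf, ← pow_mul, sub_pow_char_pow]
      have h' : (t ^ (r - 1)) ^ (q ^ m) = t := by
        rw [← pow_mul, mul_comm, pow_mul, hpow, ← pow_mul]
        obtain ⟨k, hk⟩ := hr
        rw [show (r - 1) * (r - 1) = r * (r - 2) + 1 by
          rcases Nat.eq_zero_or_pos k with rfl | hk0
          · subst hk; simp at htr; exact absurd htr ht1
          · obtain ⟨j, rfl⟩ : ∃ j, k = j + 1 := ⟨k - 1, by omega⟩
            subst hk
            simp only [show 2 * (j + 1) + 1 - 1 = 2 * j + 2 by omega, show 2 * (j + 1) + 1 - 2 = 2 * j + 1 by omega]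
            ring, pow_succ, pow_mul, htr, one_pow, one_mul]
      rw [hsub, hpow, h', neg_sub]
    have hq1 : 1 < q := Fintype.one_lt_card
    have hqm : 1 ≤ q ^ m := Nat.one_le_pow _ _ (by omega)
    have h1 : δ ^ (q ^ m - 1) = -1 := by
      refine mul_right_cancel₀ hδ0 ?_
      rw [← pow_succ, Nat.sub_add_cancel hqm, hfrob, neg_mul, one_mul]
    have hneg : δ ^ ((q ^ m - 1) * ((q ^ m + 1) / 2)) = -1 := by
      rw [pow_mul, h1]
      exact Odd.neg_one_pow (Nat.odd_iff.mpr (by omega))
    have hnorm : algebraMap F A (LinearMap.det (T - T ^ (r - 1))) =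
        δ ^ ((Nat.card A - 1) / (Nat.card F - 1)) := by
      rw [hdet, FiniteField.algebraMap_norm_eq_pow]
    rw [hs, hcard, hdim, Nat.card_eq_fintype_card, ← hq] at hnorm
    have hs0 : s ≠ 0 := fun h => by
      rw [h, mul_zero, map_zero] at hnorm
      exact hδ0 (eq_zero_of_pow_eq_zero hnorm.symm)
    obtain ⟨S, hS⟩ : q - 1 ∣ q ^ (2 * m) - 1 := by simpa using Nat.sub_dvd_pow_sub_pow q 1 (2 * m)
    rw [hS, Nat.mul_div_cancel_left _ (by omega)] at hnorm
    have hodd : q % 2 = 1 := by
      by_contra h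
      have : Even (q ^ m) := by
        refine Nat.even_pow.mpr ⟨Nat.even_iff.mpr (by omega), ?_⟩
        rintro rfl
        simp at hdim
        exact (Nat.lt_irrefl 0) (hdim ▸ Module.finrank_pos)
      rw [Nat.even_iff] at this
      omega
    have hexp : (q ^ m - 1) * ((q ^ m + 1) / 2) = S * ((q - 1) / 2) := by
      obtain ⟨u, hu⟩ : 2 ∣ q ^ m + 1 := by omega
      obtain ⟨v, hv⟩ : 2 ∣ q - 1 := by omega
      have h4 : (q ^ m - 1) * (q ^ m + 1) = q ^ (2 * m) - 1 := by
        rw [mul_comm, ← Nat.sq_sub_sq, ← pow_mul, one_pow, mul_comm m 2]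
      rw [hS, hu, hv] at h4
      rw [hu, hv, Nat.mul_div_cancel_left _ two_pos, Nat.mul_div_cancel_left _ two_pos]
      nlinarith
    rw [hexp, pow_mul, ← hnorm, ← map_pow, ← pow_two, ← pow_mul,
      show 2 * ((q - 1) / 2) = q - 1 by omega, hq, FiniteField.pow_card_sub_one_eq_one s hs0, map_one] at hneg
    have : ((2 : F) • (1 : A)) = 0 := by
      rw [two_smul]
      exact eq_neg_iff_add_eq_zero.mp hneg
    rcases smul_eq_zero.mp this with h | h
    · exact h2 h
    · exact one_ne_zero h

variable {V : Type v} [AddCommGroup V] [Module F V] [FiniteDimensional F V]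
variable (Q : QuadraticForm F V)

/-- Commuting isometries of orders `r`, `p`, `2` as described do not exist. -/
theorem not_three {p r m e : ℕ} [Fact p.Prime] [CharP F p] [Fact r.Prime] (hQ : (polarBilin Q).Nondegenerate)
    (h2 : (2 : F) ≠ 0) (hm : 2 ≤ m) (hdim : finrank F V = 2 * m + 3)
    (he : orderOf (Fintype.card F : ZMod r) = e)
    (hcase : (e = 2 * m ∧ Fintype.card F ^ m % 4 = 1) ∨ (e = m ∧ Odd m ∧ Fintype.card F ^ m % 4 = 3))
    (x y j : quadIsometries Q) (hxy : Commute x y) (hxj : Commute x j) (hyj : Commute y j)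
    (hx : orderOf x = r) (hy : orderOf y = p) (hj : orderOf j = 2) (hdj : dickson Q j = 1)
    (hsj : spinor Q j = 1) : False := by
  classical
  have hr : r.Prime := Fact.out
  have hp : p.Prime := Fact.out
  have he1 : 2 ≤ e := by rcases hcase with ⟨h, _⟩ | ⟨h, _, _⟩ <;> omega
  have hrp : (r : F) ≠ 0 := by
    intro h
    obtain rfl := (Nat.prime_dvd_prime_iff_eq hp hr).mp ((CharP.cast_eq_zero_iff F p r).mp h)
    have h0 : (Fintype.card F : ZMod p) = 0 := by
      obtain ⟨f, -, hf⟩ := FiniteField.card F p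
      rw [hf, Nat.cast_pow, ZMod.natCast_self, zero_pow f.ne_zero]
    rw [h0, orderOf_zero] at he
    omega
  have hr2 : r ≠ 2 := by
    rintro rfl
    have hle := ZMod.orderOf_dvd_card_sub_one (a := (Fintype.card F : ZMod 2)) (p := 2) fun h => by
      rw [h, orderOf_zero] at he
      omega
    rw [he] at hle
    have := Nat.le_of_dvd one_pos hle
    omega
  have hodd := hr.odd_of_ne_two hr2
  have hxr : x ^ r = 1 := hx ▸ pow_orderOf_eq_one x
  have hj2 : j ^ 2 = 1 := hj ▸ pow_orderOf_eq_one j
  have hyp : y ^ p = 1 := hy ▸ pow_orderOf_eq_one y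
  have h2' : ((2 : ℕ) : F) ≠ 0 := by simpa using h2
  have htop : ND Q ⊤ := fun u _ h => hQ.1 u fun v => h v Submodule.mem_top
  obtain ⟨hXnd, hWnd, hsum⟩ := split Q hxr hrp htop (fun _ _ => Submodule.mem_top)
  rw [top_inf_eq] at hXnd hsum
  rw [top_inf_eq] at hWnd hsum
  rw [finrank_top, hdim] at hsum
  set X := fixedSpace Q x with hXdef
  set W := movedSpace Q x with hWdef
  have hfpfW : ∀ u ∈ W, lin Q x u = u → u = 0 := fun u hu h =>
    (Submodule.eq_bot_iff _).mp (inf_fixed_moved Q hxr hrp) u ⟨(mem_fixed Q).mpr h, hu⟩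
  have hxW : ∀ u ∈ W, lin Q x u ∈ W := (commute_invariant Q (Commute.refl x)).2
  have hmul : ∀ S : Submodule F V, S ≤ W → (∀ u ∈ S, lin Q x u ∈ S) → e ∣ finrank F S := by
    intro S hS hxS
    let T : End F S := LinearMap.restrict (lin Q x) hxS
    have hT : ∀ k (u : S), ((T ^ k) u : V) = (lin Q x ^ k) u := fun k => by
      induction k with
      | zero => exact fun u => rfl
      | succ k ih =>
        intro u
        rw [pow_succ', pow_succ', Module.End.mul_apply, Module.End.mul_apply, ← ih]
        rfl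
    rw [← he]
    exact orderOf_dvd_finrank T (LinearMap.ext fun u => Subtype.ext (by rw [hT, ← lin_pow, hxr]; rfl))
      fun u h => Subtype.ext (hfpfW _ (hS u.2) (congrArg Subtype.val h))
  have hmulND : ∀ S : Submodule F V, S ≤ W → (∀ u ∈ S, lin Q x u ∈ S) → ND Q S → 2 * m ∣ finrank F S := by
    intro S hS hxS hnd
    have h1 := hmul S hS hxS
    have h3 := (fpf_facts Q hxr hodd hnd hxS fun u hu h => hfpfW u (hS hu) h).1
    rcases hcase with ⟨rfl, _⟩ | ⟨rfl, hmo, _⟩
    · exact h1
    · exact Nat.Coprime.mul_dvd_of_dvd_of_dvd (Nat.coprime_two_left.mpr hmo) (even_iff_two_dvd.mp h3) h1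
  have hWdim : finrank F W = 2 * m := by
    obtain ⟨c, hc⟩ := hmulND W le_rfl hxW hWnd
    have hne : finrank F W ≠ 0 := fun h => hr.ne_one (by
      rw [← hx, eq_one_of_finrank_moved_eq_zero Q x h, orderOf_one])
    rcases c with _ | _ | c
    · rw [mul_zero] at hc; exact absurd hc hne
    · omega
    · have : 2 * m * 2 ≤ 2 * m * (c + 1 + 1) := Nat.mul_le_mul_left _ (by omega)
      omega
  -- `y` centralises `W`
  haveI : Nontrivial V := Module.nontrivial_of_finrank_pos (R := F) (by omega)
  haveI : CharP (End F V) p := charP_of_injective_algebraMap (algebraMap F (End F V)).injective p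
  have hnil : ∀ u : V, (oneSub Q y ^ p) u = 0 := fun u => by
    rw [show oneSub Q y = 1 - lin Q y from rfl, sub_pow_char_of_commute p (Commute.one_left _), one_pow, ← lin_pow,
      hyp]
    show u - u = 0
    exact sub_self u
  have hfixne : ∀ S : Submodule F V, S ≠ ⊥ → (∀ u ∈ S, lin Q y u ∈ S) → S ⊓ fixedSpace Q y ≠ ⊥ := by
    intro S hS hyS hbot
    obtain ⟨u, hu, hu0⟩ := Submodule.exists_mem_ne_zero_of_ne_bot hS
    have hmem : ∀ i, (oneSub Q y ^ i) u ∈ S := fun i => by
      induction i with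
      | zero => exact hu
      | succ i ih => rw [pow_succ', Module.End.mul_apply]; exact S.sub_mem ih (hyS _ ih)
    have hall : ∀ i, i ≤ p → (oneSub Q y ^ (p - i)) u = 0 := by
      intro i
      induction i with
      | zero => intro _; exact hnil u
      | succ i ih =>
        intro hi
        refine (Submodule.eq_bot_iff _).mp hbot _ ⟨hmem _, ?_⟩
        rw [SetLike.mem_coe, fixedSpace, LinearMap.mem_ker, ← Module.End.mul_apply, ← pow_succ',
          show p - (i + 1) + 1 = p - i by omega]
        exact ih (by omega)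
    exact hu0 (by simpa using hall p le_rfl)
  have hyW : ∀ u ∈ W, lin Q y u ∈ W := (commute_invariant Q hxy).2
  have hKW : W ≤ fixedSpace Q y := by
    set K := W ⊓ fixedSpace Q y with hK
    have hxK : ∀ u ∈ K, lin Q x u ∈ K := fun u hu =>
      ⟨hxW u hu.1, (commute_invariant Q hxy.symm).1 u hu.2⟩
    obtain ⟨c, hc⟩ := hmul K inf_le_left hxK
    have hle : finrank F K ≤ 2 * m := hWdim ▸ Submodule.finrank_mono inf_le_left
    have hpos : finrank F K ≠ 0 := fun h => hfixne W (fun h' => by
      rw [h', finrank_bot] at hWdim; omega) hyW (Submodule.finrank_eq_zero.mp h)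
    suffices finrank F K = 2 * m by
      rw [← Submodule.eq_of_le_of_finrank_eq (inf_le_left : K ≤ W) (this.trans hWdim.symm)]
      exact inf_le_right
    rcases hcase with ⟨rfl, _⟩ | ⟨rfl, hmo, _⟩
    · rcases c with _ | c
      · rw [mul_zero] at hc; exact absurd hc hpos
      · rw [Nat.mul_succ] at hc; omega
    · rcases c with _ | _ | c
      · rw [mul_zero] at hc; exact absurd hc hpos
      · exfalso
        refine unipotent_half Q h2 hWnd hmo hWdim (by rw [← hK]; omega) hyW (fun u _ => hnil u) fun R hR hne => ?_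
        have hxR : ∀ u ∈ R, lin Q x u ∈ R := by
          subst hR
          rintro _ ⟨a, ha, rfl⟩
          refine ⟨lin Q x a, hxW a ha, ?_⟩
          show lin Q x a - lin Q y (lin Q x a) = lin Q x (a - lin Q y a)
          rw [map_sub, ← Module.End.mul_apply, ← lin_mul, hxy.symm.eq, lin_mul, Module.End.mul_apply]
        obtain ⟨d, hd⟩ := hmul (K ⊓ R) (inf_le_left.trans inf_le_left)
          fun u hu => ⟨hxK u hu.1, hxR u hu.2⟩
        have hd0 : finrank F ↥(K ⊓ R) ≠ 0 := fun h => hne (Submodule.finrank_eq_zero.mp h)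
        have hle' := Submodule.finrank_mono (inf_le_left : K ⊓ R ≤ K)
        have heq : finrank F ↥(K ⊓ R) = finrank F K := by
          rcases d with _ | d
          · rw [mul_zero] at hd; exact absurd hd hd0
          · rw [Nat.mul_succ] at hd; omega
        exact (Submodule.eq_of_le_of_finrank_eq (inf_le_left : K ⊓ R ≤ K) heq).symm.le.trans inf_le_right
      · rw [Nat.mul_succ, Nat.mul_succ] at hc; omega
  -- the involution
  set M := movedSpace Q j with hMdef
  have hxM : ∀ u ∈ M, lin Q x u ∈ M := (commute_invariant Q hxj.symm).2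
  have hjW : ∀ u ∈ W, lin Q j u ∈ W := (commute_invariant Q hxj).2
  have hjX : ∀ u ∈ X, lin Q j u ∈ X := (commute_invariant Q hxj).1
  obtain ⟨-, hMnd, -⟩ := split Q hj2 h2' htop (fun _ _ => Submodule.mem_top)
  rw [top_inf_eq] at hMnd
  obtain ⟨-, -, hMsum⟩ := split Q hxr hrp hMnd hxM
  obtain ⟨-, hWMnd, -⟩ := split Q hj2 h2' hWnd hjW
  obtain ⟨hXFnd, hXMnd, hXsum⟩ := split Q hj2 h2' hXnd hjX
  rw [← hXdef, ← hWdef, inf_comm M X, inf_comm M W] at hMsum
  rw [← hMdef] at hXsum hWMnd hXMnd hMsum
  have hWMdim : finrank F ↥(W ⊓ M) = 0 ∨ finrank F ↥(W ⊓ M) = 2 * m := by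
    obtain ⟨c, hc⟩ := hmulND (W ⊓ M) inf_le_left (fun u hu => ⟨hxW u hu.1, hxM u hu.2⟩) hWMnd
    have hle := hWdim ▸ Submodule.finrank_mono (inf_le_left : W ⊓ M ≤ W)
    rcases c with _ | _ | c
    · left; omega
    · right; omega
    · rw [Nat.mul_succ, Nat.mul_succ] at hc; omega
  have hMeven : Even (finrank F M) := by
    rw [dickson, neg_one_pow_eq_one_iff_even (by decide)] at hdj
    exact hdj
  have hXM0 : finrank F ↥(X ⊓ M) = 0 := by
    have hle := Submodule.finrank_mono (inf_le_left : X ⊓ M ≤ X)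
    obtain ⟨a, ha⟩ := hMeven
    by_contra hne
    have hXM2 : finrank F ↥(X ⊓ M) = 2 := by rcases hWMdim with h | h <;> omega
    have hXF1 : finrank F ↥(X ⊓ fixedSpace Q j) = 1 := by omega
    have hyX : ∀ u ∈ X, lin Q y u ∈ X := (commute_invariant Q hxy).1
    have hyF : ∀ u ∈ fixedSpace Q j, lin Q y u ∈ fixedSpace Q j := (commute_invariant Q hyj.symm).1
    have hyM : ∀ u ∈ M, lin Q y u ∈ M := (commute_invariant Q hyj.symm).2
    have hF : X ⊓ fixedSpace Q j ≤ fixedSpace Q y := by
      have h := hfixne (X ⊓ fixedSpace Q j) (fun h' => by rw [h', finrank_bot] at hXF1; omega)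
        fun u hu => ⟨hyX u hu.1, hyF u hu.2⟩
      have h0 : finrank F ↥(X ⊓ fixedSpace Q j ⊓ fixedSpace Q y) ≠ 0 := fun h' => h (Submodule.finrank_eq_zero.mp h')
      have h1 := Submodule.finrank_mono (inf_le_left : X ⊓ fixedSpace Q j ⊓ fixedSpace Q y ≤ X ⊓ fixedSpace Q j)
      rw [← Submodule.eq_of_le_of_finrank_eq (inf_le_left : X ⊓ fixedSpace Q j ⊓ fixedSpace Q y ≤ _) (by omega)]
      exact inf_le_right
    have hM' : X ⊓ M ≤ fixedSpace Q y := by
      set K := X ⊓ M ⊓ fixedSpace Q y with hK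
      have h0 : finrank F K ≠ 0 := fun h' => hfixne (X ⊓ M) (fun h'' => by rw [h'', finrank_bot] at hXM2; omega)
        (fun u hu => ⟨hyX u hu.1, hyM u hu.2⟩) (Submodule.finrank_eq_zero.mp h')
      have hKle : K ≤ X ⊓ M := inf_le_left
      have h1 : finrank F K ≤ finrank F ↥(X ⊓ M) := Submodule.finrank_mono hKle
      suffices finrank F K = 2 by
        exact (Submodule.eq_of_le_of_finrank_eq hKle (this.trans hXM2.symm)).symm.le.trans inf_le_right
      by_contra h3
      refine unipotent_half Q h2 hXMnd odd_one (by omega) (by rw [← hK]; omega)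
        (fun u hu => ⟨hyX u hu.1, hyM u hu.2⟩) (fun u _ => hnil u) fun R _ hne' => ?_
      have h4 : finrank F ↥(K ⊓ R) ≠ 0 := fun h => hne' (Submodule.finrank_eq_zero.mp h)
      have h5 : finrank F ↥(K ⊓ R) ≤ finrank F K := Submodule.finrank_mono inf_le_left
      exact (Submodule.eq_of_le_of_finrank_eq (inf_le_left : K ⊓ R ≤ K) (by omega)).symm.le.trans inf_le_right
    have hX' : X ≤ fixedSpace Q y := by
      have hle' : X ⊓ fixedSpace Q j ⊔ X ⊓ M ≤ X := sup_le inf_le_left inf_le_left
      have h := Submodule.finrank_sup_add_finrank_inf_eq (X ⊓ fixedSpace Q j) (X ⊓ M)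
      rw [show (X ⊓ fixedSpace Q j) ⊓ (X ⊓ M) = ⊥ from eq_bot_iff.mpr
        ((inf_le_inf inf_le_right inf_le_right).trans (inf_fixed_moved Q hj2 h2').le), finrank_bot, add_zero] at h
      rw [← Submodule.eq_of_le_of_finrank_eq hle' (by omega)]
      exact sup_le hF hM'
    have hall : fixedSpace Q y = ⊤ := eq_top_iff.mpr ((isCompl_fixed_moved Q hxr hrp).sup_eq_top ▸ sup_le hX' hKW)
    have hy1 : y = 1 := eq_one_of_finrank_moved_eq_zero Q y (by
      have := finrank_moved_add_fixed Q y
      rw [hall, finrank_top] at this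
      omega)
    rw [hy1, orderOf_one] at hy
    exact hp.ne_one hy.symm
  have hMW : M = W := by
    have hM0 : finrank F M ≠ 0 := fun h => by
      rw [eq_one_of_finrank_moved_eq_zero Q j h, orderOf_one] at hj
      omega
    have h1 : W ⊓ M = M := Submodule.eq_of_le_of_finrank_eq inf_le_right (by omega)
    exact Submodule.eq_of_le_of_finrank_eq (h1 ▸ inf_le_left) (by rcases hWMdim with h | h <;> omega)
  have hjneg : ∀ u ∈ W, oneSub Q j u = (2 : F) • u := by
    intro u hu
    rw [← hMW] at hu
    obtain ⟨a, ha⟩ := hu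
    have hja : lin Q j (lin Q j a) = a := by
      rw [← Module.End.mul_apply, ← lin_mul, ← pow_two, hj2]; rfl
    show u - lin Q j u = _
    rw [← ha]
    show (a - lin Q j a) - lin Q j (a - lin Q j a) = _
    rw [map_sub, hja, show oneSub Q j a = a - lin Q j a from rfl, two_smul]
    abel
  have hG : ∀ {κ : Type} [Fintype κ] [DecidableEq κ] (c : Module.Basis κ F W),
      IsSquare (Matrix.of fun i k => polarBilin Q (c i : V) (c k : V)).det := by
    intro κ _ _ c
    have hli : LinearIndependent F fun i => oneSub Q j (c i : V) := by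
      have h := (c.linearIndependent.map' W.subtype W.ker_subtype).units_smul (fun _ => Units.mk0 (2 : F) h2)
      rw [show (fun i => oneSub Q j (c i : V)) = (fun _ : κ => Units.mk0 (2 : F) h2) • (W.subtype ∘ c) from
        funext fun i => by rw [hjneg _ (c i).2]; rfl]
      exact h
    obtain ⟨-, hs⟩ := QuadFin.invariants_of_frame Q hQ j (fun i => (c i : V)) hli fun v => by
      have hv : oneSub Q j v ∈ W := hMW ▸ LinearMap.mem_range_self _ v
      have hspan : (⟨_, hv⟩ : W) ∈ Submodule.span F (Set.range c) := c.span_eq ▸ Submodule.mem_top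
      have h' := Submodule.mem_map_of_mem (f := W.subtype) hspan
      rw [Submodule.map_span] at h'
      refine Submodule.span_le.mpr ?_ h'
      rintro _ ⟨_, ⟨i, rfl⟩, rfl⟩
      rw [SetLike.mem_coe, show W.subtype (c i) = (2 : F)⁻¹ • oneSub Q j (c i : V) by
        rw [hjneg _ (c i).2, smul_smul, inv_mul_cancel₀ h2, one_smul]; rfl]
      exact Submodule.smul_mem _ _ (Submodule.subset_span ⟨i, rfl⟩)
    rw [hsj] at hs
    have hmat : (Matrix.of fun i k => polarBilin Q (oneSub Q j (c i : V)) (c k : V)) =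
        (2 : F) • Matrix.of fun i k => polarBilin Q (c i : V) (c k : V) := by
      ext i k
      rw [Matrix.smul_apply, Matrix.of_apply, Matrix.of_apply, hjneg _ (c i).2, map_smul, LinearMap.smul_apply]
    obtain ⟨n, hn⟩ : Even (Fintype.card κ) := ⟨m, by rw [← Module.finrank_eq_card_basis c, hWdim]; omega⟩
    rw [hmat, Matrix.det_smul, hn, pow_add] at hs
    obtain ⟨s, hsq⟩ := sqClass_eq_one_iff.mp hs.symm
    refine ⟨s / 2 ^ n, ?_⟩
    rw [div_mul_div_comm, eq_div_iff (mul_ne_zero (pow_ne_zero _ h2) (pow_ne_zero _ h2)), ← hsq]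
    ring
  haveI : Nontrivial W := Module.nontrivial_of_finrank_pos (R := F) (by omega)
  let T : End F W := LinearMap.restrict (lin Q x) hxW
  have hT : ∀ k (u : W), ((T ^ k) u : V) = lin Q (x ^ k) u := fun k => by
    induction k with
    | zero => exact fun u => rfl
    | succ k ih =>
      intro u
      rw [pow_succ', pow_succ', lin_mul, Module.End.mul_apply, Module.End.mul_apply, ← ih]
      rfl
  have hTr : T ^ r = 1 := LinearMap.ext fun u => Subtype.ext (by rw [hT, hxr]; rfl)
  have hdvdW : ∀ S : Submodule F W, (∀ u ∈ S, T u ∈ S) → e ∣ finrank F S := fun S hS => by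
    rw [← Submodule.finrank_map_subtype_eq W S]
    refine hmul _ (Submodule.map_subtype_le W S) ?_
    rintro _ ⟨a, ha, rfl⟩
    exact ⟨T a, hS a ha, rfl⟩
  have hdetne : ∀ {κ : Type} [Fintype κ] [DecidableEq κ] (c : Module.Basis κ F W),
      (Matrix.of fun i k => polarBilin Q (c i : V) (c k : V)).det ≠ 0 := by
    intro κ _ _ c
    have hnd : (LinearMap.BilinForm.restrict (polarBilin Q) W).Nondegenerate :=
      ⟨fun u hu => Subtype.ext (hWnd u u.2 fun v hv => hu ⟨v, hv⟩),
        fun u hu => Subtype.ext (hWnd u u.2 fun v hv => (quad_polar_comm Q _ _).trans (hu ⟨v, hv⟩))⟩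
    have h := (LinearMap.BilinForm.nondegenerate_iff_det_ne_zero c).mp hnd
    convert h using 2
    ext i k
    rw [LinearMap.BilinForm.toMatrix_apply]
    rfl
  have hqe : ((Fintype.card F : ℕ) : ZMod r) ^ e = 1 := he ▸ pow_orderOf_eq_one _
  rcases hcase with ⟨rfl, hmod⟩ | ⟨hem, hmo, hmod⟩
  · have hirr : ∀ S : Submodule F W, (∀ u ∈ S, T u ∈ S) → S = ⊥ ∨ S = ⊤ := fun S hS => by
      obtain ⟨c, hc⟩ := hdvdW S hS
      have hle := (Submodule.finrank_le S).trans hWdim.le
      rcases c with _ | c
      · exact Or.inl (Submodule.finrank_eq_zero.mp (by rw [hc, mul_zero]))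
      · exact Or.inr (Submodule.eq_top_of_finrank_eq (by rw [Nat.mul_succ] at hc; omega))
    have hT1 : T ≠ 1 := fun h => by
      obtain ⟨u, hu⟩ := exists_ne (0 : W)
      exact hu (Subtype.ext (hfpfW u u.2 (congrArg (fun f : End F W => ((f u : W) : V)) h)))
    have hdvd : (Fintype.card F ^ m + 1) % r = 0 := by
      refine Nat.mod_eq_zero_of_dvd ?_ |> id
      rw [← ZMod.natCast_eq_zero_iff, Nat.cast_add, Nat.cast_pow, Nat.cast_one]
      rw [mul_comm, pow_mul] at hqe
      rcases sq_eq_one_iff.mp hqe with h | h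
      · exfalso
        have := Nat.le_of_dvd (by omega) (he ▸ orderOf_dvd_of_pow_eq_one h)
        omega
      · rw [h, neg_add_cancel]
    have hns := (irreducible_facts T hirr m).2 (p := p) hodd hTr hT1 h2 hWdim hdvd hmod
    let c := Module.finBasis F W
    have hA := (fpf_facts Q hxr hodd hWnd hxW hfpfW).2 c (T - T ^ (r - 1)) fun u => by
      rw [LinearMap.sub_apply, Submodule.coe_sub, hT,
        show x⁻¹ = x ^ (r - 1) from inv_eq_of_mul_eq_one_left (by rw [← pow_succ, Nat.sub_add_cancel hodd.pos, hxr])]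
      rfl
    obtain ⟨a, ha⟩ := hA
    obtain ⟨b, hb⟩ := hG c
    refine hns ⟨a / b, ?_⟩
    have hb0 : b ≠ 0 := fun h => hdetne c (by rw [hb, h, mul_zero])
    rw [div_mul_div_comm, eq_div_iff (mul_ne_zero hb0 hb0), ← hb]
    exact ha
  · obtain rfl := hem.symm
    by_cases hirr : ∀ S : Submodule F W, (∀ u ∈ S, T u ∈ S) → S = ⊥ ∨ S = ⊤
    · have h := (irreducible_facts T hirr m).1 (by omega) (by
        obtain ⟨c, hc⟩ : r ∣ Fintype.card F ^ m - 1 := by
          rw [← ZMod.natCast_eq_zero_iff, Nat.cast_sub (Nat.one_le_pow _ _ Fintype.card_pos), Nat.cast_pow,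
            Nat.cast_one, hqe, sub_self]
        rw [show Fintype.card F ^ m = r * c + 1 by
          have := Nat.one_le_pow m _ (Fintype.card_pos (α := F)); omega, pow_succ, pow_mul, hTr, one_pow, one_mul])
      omega
    push Not at hirr
    obtain ⟨S₀, hS₀, hne, hnt⟩ := hirr
    have hS₀dim : finrank F S₀ = m := by
      obtain ⟨c, hc⟩ := hdvdW S₀ hS₀
      have hlt : finrank F S₀ < 2 * m := hWdim ▸ Submodule.finrank_lt hnt
      have h0 : finrank F S₀ ≠ 0 := fun h => hne (Submodule.finrank_eq_zero.mp h)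
      rcases c with _ | _ | c
      · rw [mul_zero] at hc; exact absurd hc h0
      · omega
      · rw [Nat.mul_succ, Nat.mul_succ] at hc; omega
    -- `S₀` is totally singular
    have hTinv : ∀ k, ∀ u ∈ S₀, (T ^ k) u ∈ S₀ := fun k => by
      induction k with
      | zero => exact fun u hu => hu
      | succ k ih => intro u hu; rw [pow_succ', Module.End.mul_apply]; exact hS₀ _ (ih u hu)
    have hsing : ∀ a ∈ S₀, ∀ b ∈ S₀, polarBilin Q (a : V) (b : V) = 0 := by
      by_contra hns
      let K₀ : Submodule F W := S₀ ⊓ (LinearMap.BilinForm.restrict (polarBilin Q) W).orthogonal S₀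
      have hK₀ : ∀ u ∈ K₀, T u ∈ K₀ := by
        intro u hu
        refine ⟨hS₀ u hu.1, fun v hv => ?_⟩
        show polarBilin Q (v : V) (lin Q x u) = 0
        have hv' : (v : V) = lin Q x ((T ^ (r - 1)) v : W) := by
          rw [hT, ← Module.End.mul_apply, ← lin_mul, ← pow_succ', Nat.sub_add_cancel hodd.pos, hxr]; rfl
        rw [hv']
        exact (iso_polar Q x _ _).trans (hu.2 _ (hTinv _ v hv))
      have hK0 : K₀ = ⊥ := by
        by_contra h
        obtain ⟨c, hc⟩ := hdvdW K₀ hK₀
        have hle : finrank F K₀ ≤ finrank F S₀ := Submodule.finrank_mono inf_le_left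
        have h0 : finrank F K₀ ≠ 0 := fun h' => h (Submodule.finrank_eq_zero.mp h')
        have heq : K₀ = S₀ := Submodule.eq_of_le_of_finrank_eq inf_le_left (by
          rcases c with _ | c
          · rw [mul_zero] at hc; exact absurd hc h0
          · rw [Nat.mul_succ] at hc; omega)
        exact hns fun a ha b hb => (heq.symm ▸ hb : b ∈ K₀).2 a ha
      have hnd : ND Q (S₀.map W.subtype) := by
        rintro _ ⟨a, ha, rfl⟩ h
        have : a ∈ K₀ := ⟨ha, fun b hb => by
          show polarBilin Q (b : V) (a : V) = 0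
          rw [quad_polar_comm]
          exact h _ ⟨b, hb, rfl⟩⟩
        rw [(Submodule.eq_bot_iff _).mp hK0 a this]
        rfl
      have h := (fpf_facts Q hxr hodd hnd
        (by rintro _ ⟨a, ha, rfl⟩; exact ⟨T a, hS₀ a ha, rfl⟩)
        (fun u hu h => hfpfW u (Submodule.map_subtype_le W S₀ hu) h)).1
      rw [Submodule.finrank_map_subtype_eq, hS₀dim] at h
      exact Nat.not_even_iff_odd.mpr hmo h
    obtain ⟨C, hC⟩ := S₀.exists_isCompl
    have hCdim : finrank F C = m := by
      have h := Submodule.finrank_add_eq_of_isCompl hC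
      omega
    let bS := (Module.finBasis F S₀).reindex (finCongr hS₀dim)
    let bC := (Module.finBasis F C).reindex (finCongr hCdim)
    let c : Module.Basis (Fin m ⊕ Fin m) F W := (bS.prod bC).map (Submodule.prodEquivOfIsCompl S₀ C hC)
    set G := Matrix.of fun i k => polarBilin Q (c i : V) (c k : V) with hGdef
    have hl : ∀ i, c (Sum.inl i) = (bS i : W) := fun i => by simp [c]
    have hblock : G = Matrix.fromBlocks 0 (G.toBlocks₁₂) (G.toBlocks₁₂)ᵀ (G.toBlocks₂₂) := by
      conv_lhs => rw [← Matrix.fromBlocks_toBlocks G]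
      congr 1
      · ext i k
        show polarBilin Q (c (Sum.inl i) : V) (c (Sum.inl k) : V) = 0
        rw [hl, hl]
        exact hsing _ (bS i).2 _ (bS k).2
      · ext i k
        exact quad_polar_comm Q _ _
    have hdet : G.det = (-1) ^ m * (G.toBlocks₁₂.det * G.toBlocks₁₂.det) := by
      have hJ : (Matrix.J (Fin m) F).det = 1 := SymplecticGroup.det_eq_one (SymplecticGroup.J_mem (Fin m) F)
      have hprod : G * Matrix.J (Fin m) F =
          Matrix.fromBlocks G.toBlocks₁₂ 0 G.toBlocks₂₂ (-G.toBlocks₁₂ᵀ) := by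
        conv_lhs => rw [hblock]
        simp [Matrix.J, Matrix.fromBlocks_multiply]
      have h := congrArg Matrix.det hprod
      rw [det_mul, hJ, mul_one, det_fromBlocks_zero₁₂, det_neg, det_transpose, Fintype.card_fin] at h
      rw [h]; ring
    obtain ⟨s, hs⟩ := hG c
    have hd0 := hdetne c
    rw [← hGdef] at hs hd0
    rw [hdet] at hs hd0
    have hdd : G.toBlocks₁₂.det ≠ 0 := fun h => hd0 (by rw [h, mul_zero, mul_zero])
    have hsq : IsSquare ((-1 : F) ^ m) := ⟨s / G.toBlocks₁₂.det, by
      rw [div_mul_div_comm, eq_div_iff (mul_ne_zero hdd hdd), ← hs]⟩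
    have hq : Odd (Fintype.card F) := by
      rw [Nat.odd_iff]
      by_contra h
      have : Even (Fintype.card F ^ m) := Nat.even_pow.mpr ⟨Nat.even_iff.mpr (by omega), by omega⟩
      rw [Nat.even_iff] at this
      omega
    have := (sqClass_neg_one_pow hq m).mp (sqClass_eq_one_iff.mpr hsq)
    omega

end Cfsg.Agent.Lib.FusionControl.OrthThreeElements
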