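import Cfsg.Agent.Lib.FusionControl.Basic
import Cfsg.Agent.Lib.Coprime.Hall
import Cfsg.Agent.Lib.Cores
import Cfsg.Agent.Lib.Characters.SchurPSolvable
import Cfsg.Agent.Lib.Characters.SolvablePSolvable
import Cfsg.Agent.Lib.Transfer.Basic

/-!
# Groups all of whose subgroups of order prime to `p` are abelian: tools

Hall `p'`-subgroups of solvable subgroups, `O_p` of a subgroup, fixed points of `p`-groups.
-/

set_option autoImplicit false
set_option linter.style.haveILetI false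

universe u

namespace Cfsg.Agent.Lib.FusionControl.PPrimeAbelian

open Cfsg.Agent.Lib
open scoped Pointwise

variable {G : Type u} [Group G] {p : ℕ}

/-- The hypothesis of the theorem. -/
def Hyp (p : ℕ) (G : Type*) [Group G] : Prop :=
  ∀ H : Subgroup G, (Nat.card ↥H).Coprime p → IsMulCommutative ↥H ∧ ∀ x ∈ H, x ^ (p - 1) = 1

theorem coprime_of_not_dvd [hp : Fact p.Prime] {n : ℕ} (h : ¬ p ∣ n) : n.Coprime p :=
  ((Nat.Prime.coprime_iff_not_dvd hp.out).mpr h).symm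

theorem Hyp.comm [Fact p.Prime] (h : Hyp p G) {H : Subgroup G} (hH : ¬ p ∣ Nat.card H) {x y : G}
    (hx : x ∈ H) (hy : y ∈ H) : x * y = y * x := by
  have := (h H (coprime_of_not_dvd hH)).1
  exact congrArg Subtype.val (this.is_comm.comm ⟨x, hx⟩ ⟨y, hy⟩)

theorem Hyp.isMulCommutative [Fact p.Prime] (h : Hyp p G) {H : Subgroup G} (hH : ¬ p ∣ Nat.card H) :
    IsMulCommutative ↥H := (h H (coprime_of_not_dvd hH)).1

theorem not_dvd_of_isPGroup [hp : Fact p.Prime] [Finite G] {r : ℕ} [hr : Fact r.Prime]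
    {H : Subgroup G} (hH : IsPGroup r H) (hne : r ≠ p) : ¬ p ∣ Nat.card H := by
  obtain ⟨k, hk⟩ := (IsPGroup.iff_card).mp hH
  rw [hk]
  exact fun hd => hne ((Nat.prime_dvd_prime_iff_eq hp.out hr.out).mp (hp.out.dvd_of_dvd_pow hd)).symm

theorem Hyp.dvd_sub_one [hp : Fact p.Prime] [Finite G] (h : Hyp p G) {r : ℕ} (hr : r.Prime)
    (hrp : r ≠ p) (hd : r ∣ Nat.card G) : r ∣ p - 1 := by
  have := Fact.mk hr
  obtain ⟨x, hx⟩ := exists_prime_orderOf_dvd_card' r hd
  rw [← hx]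
  refine orderOf_dvd_of_pow_eq_one ((h (Subgroup.zpowers x) ?_).2 x (Subgroup.mem_zpowers x))
  rw [Nat.card_zpowers, hx]
  exact (Nat.coprime_primes hr hp.out).mpr hrp

theorem Hyp.subgroup [Fact p.Prime] (h : Hyp p G) (L : Subgroup G) : Hyp p ↥L := by
  intro H hH
  obtain ⟨h1, h2⟩ := h (H.map L.subtype)
    (by rwa [Subgroup.card_map_of_injective L.subtype_injective])
  refine ⟨⟨⟨fun x y => Subtype.ext (Subtype.ext ?_)⟩⟩, fun x hx => Subtype.ext ?_⟩
  · exact (congrArg Subtype.val (h1.is_comm.comm ⟨_, ⟨x, x.2, rfl⟩⟩ ⟨_, ⟨y, y.2, rfl⟩⟩) :)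
  · simpa using h2 x ⟨x, hx, rfl⟩

theorem Hyp.lt [hp : Fact p.Prime] [Finite G] (h : Hyp p G) {r : ℕ} (hr : r.Prime) (hrp : r ≠ p)
    (hd : r ∣ Nat.card G) : r < p := by
  have h1 := Nat.le_of_dvd (Nat.sub_pos_of_lt hp.out.one_lt) (h.dvd_sub_one hr hrp hd)
  have := hp.out.two_le
  omega

/-- A lifting of subgroups of order prime to `p` along a map from a solvable group. -/
theorem exists_not_dvd_map_eq [Finite G] [Group.IsSolvable G] [hp : Fact p.Prime] {Y : Type*}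
    [Group Y] (f : G →* Y) (hf : Function.Surjective f) {K : Subgroup Y}
    (hK : ¬ p ∣ Nat.card K) :
    ∃ F : Subgroup G, ¬ p ∣ Nat.card F ∧ F.map f = K := by
  obtain ⟨F0, hF1, hF2⟩ := Coprime.exists_hall_of_solvable (G := ↥(K.comap f)) (fun r => r ≠ p)
  set F := F0.map (K.comap f).subtype with hF
  have hle : F.map f ≤ K := by
    rintro _ ⟨_, ⟨x, -, rfl⟩, rfl⟩
    exact x.2
  refine ⟨F, ?_, ?_⟩
  · rw [hF, Subgroup.card_map_of_injective (K.comap f).subtype_injective]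
    exact fun hd => hF1 p hp.out hd rfl
  · have h1 : (F.map f).relIndex K ∣ F0.index := by
      let g : ↥(K.comap f) →* ↥K := f.subgroupComap K
      have hg : Function.Surjective g := MonoidHom.subgroupComap_surjective_of_surjective f K hf
      have h2 : (F0.map g).index ∣ F0.index := Subgroup.index_map_dvd _ hg
      have h3 : F0.map g = (F.map f).subgroupOf K := by
        ext ⟨y, hy⟩
        simp only [Subgroup.mem_map, Subgroup.mem_subgroupOf, hF]
        constructor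
        · rintro ⟨x, hx, hxy⟩
          exact ⟨x, ⟨x, hx, rfl⟩, congrArg Subtype.val hxy⟩
        · rintro ⟨_, ⟨x, hx, rfl⟩, hxy⟩
          exact ⟨x, hx, Subtype.ext hxy⟩
      rwa [h3] at h2
    have h4 : (F.map f).relIndex K = 1 := by
      by_contra hne
      obtain ⟨r, hr, hrd⟩ := Nat.exists_prime_and_dvd hne
      have hrp : r = p := not_not.mp (hF2 r hr (hrd.trans h1))
      exact hK (hrp ▸ hrd.trans (Subgroup.index_dvd_card _))
    exact le_antisymm hle (Subgroup.relIndex_eq_one.mp h4)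

/-- `F` is a subgroup of `L` of order prime to `p` containing, up to conjugation, all of them. -/
def Dom (p : ℕ) (L F : Subgroup G) : Prop :=
  F ≤ L ∧ ¬ p ∣ Nat.card F ∧ ∀ K : Subgroup G, K ≤ L → ¬ p ∣ Nat.card K → ∃ g ∈ L, K ≤ cj g F

theorem exists_dom [Finite G] [hp : Fact p.Prime] (L : Subgroup G) [Group.IsSolvable ↥L] :
    ∃ F, Dom p L F := by
  obtain ⟨F0, hF1, hF2⟩ := Coprime.exists_hall_of_solvable (G := ↥L) (fun r => r ≠ p)
  have hF0 : ¬ p ∣ Nat.card F0 := fun hd => hF1 p hp.out hd rfl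
  refine ⟨F0.map L.subtype, Subgroup.map_subtype_le _,
    by rwa [Subgroup.card_map_of_injective L.subtype_injective], fun K hKL hK => ?_⟩
  have hcard : Nat.card (K.subgroupOf L) = Nat.card K :=
    Nat.card_congr (Subgroup.subgroupOfEquivOfLe hKL).toEquiv
  obtain ⟨g, hg⟩ := Coprime.exists_le_conj_of_solvable (H := F0) (K := K.subgroupOf L)
    (Nat.coprime_of_dvd fun r hr h1 h2 => hF2 r hr h2 (hF1 r hr h1))
    (Nat.coprime_of_dvd fun r hr h1 h2 => hK (by
      rw [← not_not.mp (hF2 r hr h2), ← hcard]; exact h1))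
  refine ⟨g, g.2, fun x hx => ?_⟩
  obtain ⟨y, hy, hyx⟩ := hg (show (⟨x, hKL hx⟩ : ↥L) ∈ K.subgroupOf L from hx)
  refine ⟨y, ⟨y, hy, rfl⟩, ?_⟩
  simpa using congrArg Subtype.val hyx

theorem Dom.conj [Finite G] {L F : Subgroup G} (h : Dom p L F) {m : G} (hm : m ∈ L) :
    Dom p L (cj m F) := by
  refine ⟨cj_le_iff.2 fun x hx => mul_mem (mul_mem hm (h.1 hx)) (inv_mem hm),
    by rw [card_cj]; exact h.2.1, fun K hK hKp => ?_⟩
  obtain ⟨g, hg, hle⟩ := h.2.2 K hK hKp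
  exact ⟨g * m⁻¹, mul_mem hg (inv_mem hm), by rwa [cj_cj, inv_mul_cancel_right]⟩

theorem exists_dom_ge [Finite G] [Fact p.Prime] {L B : Subgroup G} [Group.IsSolvable ↥L]
    (hB : B ≤ L) (hBp : ¬ p ∣ Nat.card B) : ∃ F, Dom p L F ∧ B ≤ F := by
  obtain ⟨F, hF⟩ := exists_dom (p := p) L
  obtain ⟨g, hg, hle⟩ := hF.2.2 B hB hBp
  exact ⟨_, hF.conj hg, hle⟩

/-- A maximal subgroup of order prime to `p`. -/
def IsMaxPrime (p : ℕ) (H : Subgroup G) : Prop :=
  ¬ p ∣ Nat.card H ∧ ∀ K : Subgroup G, H ≤ K → ¬ p ∣ Nat.card K → K = H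

theorem exists_isMaxPrime_ge [Finite G] {R : Subgroup G} (hR : ¬ p ∣ Nat.card R) :
    ∃ H, R ≤ H ∧ IsMaxPrime p H := by
  obtain ⟨H, hle, hmax⟩ :=
    (Set.toFinite {S : Subgroup G | ¬ p ∣ Nat.card S}).exists_le_maximal hR
  exact ⟨H, hle, hmax.1, fun K hK hKp => hmax.eq_of_ge hKp hK⟩

theorem IsMaxPrime.dom [Finite G] [Fact p.Prime] {H L : Subgroup G} [Group.IsSolvable ↥L]
    (h : IsMaxPrime p H) (hHL : H ≤ L) : Dom p L H := by
  obtain ⟨F, hF, hle⟩ := exists_dom_ge hHL h.1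
  rwa [h.2 F hle hF.2.1] at hF

/-! ## `O_p` of a subgroup -/

/-- `O_p(L)` as a subgroup of the whole group. -/
def op (p : ℕ) (L : Subgroup G) : Subgroup G := (Cfsg.pCore p ↥L).map L.subtype

theorem op_le (L : Subgroup G) : op p L ≤ L := Subgroup.map_subtype_le _

theorem isPGroup_op (L : Subgroup G) : IsPGroup p (op p L) :=
  (Cores.pCore_isPGroup p ↥L).map _

theorem le_normalizer_op (L : Subgroup G) : L ≤ Subgroup.normalizer (op p L : Set G) := by
  haveI : (Cfsg.pCore p ↥L).Normal := Cfsg.pCore_normal p ↥L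
  exact Subgroup.normal_subgroupOf_iff_le_normalizer (op_le L) |>.mp (by
    rw [op, Subgroup.subgroupOf, Subgroup.comap_map_eq_self_of_injective L.subtype_injective]
    infer_instance)

theorem le_op {L K : Subgroup G} (hK : IsPGroup p K) (hKL : K ≤ L)
    (hn : L ≤ Subgroup.normalizer (K : Set G)) : K ≤ op p L := by
  have h1 : (K.subgroupOf L).Normal := (Subgroup.normal_subgroupOf_iff_le_normalizer hKL).mpr hn
  have h2 := Cores.le_pCore h1 (hK.comap_of_injective L.subtype L.subtype_injective)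
  calc K = (K.subgroupOf L).map L.subtype := (Subgroup.map_subgroupOf_eq_of_le hKL).symm
    _ ≤ _ := Subgroup.map_mono h2

theorem cj_le_normalizer {g : G} {L T : Subgroup G} (h : L ≤ Subgroup.normalizer (T : Set G)) :
    cj g L ≤ Subgroup.normalizer (cj g T : Set G) := by
  rw [← cj_normalizer]; exact cj_le_cj h

theorem cj_op (g : G) (L : Subgroup G) : cj g (op p L) = op p (cj g L) := by
  have key : ∀ (g : G) (L : Subgroup G), cj g (op p L) ≤ op p (cj g L) := fun g L =>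
    le_op (isPGroup_cj (isPGroup_op L)) (cj_le_cj (op_le L)) (cj_le_normalizer (le_normalizer_op L))
  refine le_antisymm (key g L) ?_
  have := cj_le_cj (g := g) (key g⁻¹ (cj g L))
  simpa using this

/-- A `p`-element of `TH`, with `T` a `p`-group normalised by the `p'`-group `H`, is in `T`. -/
theorem mem_of_mem_sup [Finite G] [hp : Fact p.Prime] {T H X : Subgroup G}
    (hn : H ≤ Subgroup.normalizer (T : Set G)) (hH : ¬ p ∣ Nat.card H) (hX : IsPGroup p X) {x : G}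
    (hx : x ∈ X) (hxs : x ∈ T ⊔ H) : x ∈ T := by
  set J := Subgroup.normalizer (T : Set G) with hJ
  have hTJ : T ≤ J := Subgroup.le_normalizer
  haveI : (T.subgroupOf J).Normal := (Subgroup.normal_subgroupOf_iff_le_normalizer hTJ).mpr le_rfl
  set f := QuotientGroup.mk' (T.subgroupOf J)
  have hxJ : x ∈ J := (sup_le hTJ hn) hxs
  obtain ⟨k, hk⟩ := hX ⟨x, hx⟩
  have hk' : x ^ p ^ k = 1 := by simpa using congrArg Subtype.val hk
  rw [sup_comm, ← SetLike.mem_coe, Subgroup.coe_mul_of_left_le_normalizer_right H T hn] at hxs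
  obtain ⟨a, ha, t, ht, hat⟩ := hxs
  have hfx : f ⟨x, hxJ⟩ = f ⟨a, hn ha⟩ := by
    have e : (⟨x, hxJ⟩ : ↥J) = ⟨a, hn ha⟩ * ⟨t, hTJ ht⟩ := Subtype.ext hat.symm
    rw [e, map_mul]
    rw [show f ⟨t, hTJ ht⟩ = 1 from (QuotientGroup.eq_one_iff _).mpr ht, mul_one]
  have h1 : f ⟨x, hxJ⟩ ^ p ^ k = 1 := by
    rw [← map_pow, show (⟨x, hxJ⟩ : ↥J) ^ p ^ k = 1 from Subtype.ext (by simpa using hk'), map_one]
  have h2 : f ⟨x, hxJ⟩ ^ Nat.card H = 1 := by
    rw [hfx, ← map_pow, show (⟨a, hn ha⟩ : ↥J) ^ Nat.card H = 1 from Subtype.ext ?_, map_one]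
    simpa using orderOf_dvd_iff_pow_eq_one.mp (H.orderOf_dvd_natCard ha)
  have h3 := pow_gcd_eq_one.mpr ⟨h1, h2⟩
  rw [show Nat.gcd (p ^ k) (Nat.card H) = 1 from
    ((Nat.Prime.coprime_iff_not_dvd hp.out).mpr hH).pow_left k, pow_one] at h3
  exact (QuotientGroup.eq_one_iff (N := T.subgroupOf J) _).mp h3

/-- The structure of a solvable group with an abelian `p'`-subgroup containing all others up to
conjugation. -/
theorem structure_of_dom [Finite G] [Group.IsSolvable G] [hp : Fact p.Prime] {F : Subgroup G}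
    (hF : Dom p ⊤ F) (hab : IsMulCommutative ↥F) :
    (Cfsg.pCore p G ⊔ F).Normal ∧
      ∀ x : G, (∃ k, x ^ p ^ k = 1) →
        (∀ f ∈ F, x * f * x⁻¹ * f⁻¹ ∈ Cfsg.pCore p G) → x ∈ Cfsg.pCore p G := by
  set T := Cfsg.pCore p G with hT
  haveI hTn : T.Normal := Cfsg.pCore_normal p G
  set π := QuotientGroup.mk' T with hπ
  have hπs : Function.Surjective π := QuotientGroup.mk'_surjective T
  have hsol : Group.IsSolvable (G ⧸ T) := Group.isSolvable_of_surjective hπs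
  set K := Cfsg.pPrimeCore p (G ⧸ T) with hK
  haveI hKn : K.Normal := (Cores.pPrimeCore_mem p (G ⧸ T)).1
  have hC : Subgroup.centralizer (K : Set (G ⧸ T)) ≤ K :=
    Characters.centralizer_pPrimeCore_le (Characters.isPSolvable_of_isSolvable p)
      (Cores.pCore_quotient_pCore p G)
  have hKF : K ≤ F.map π := by
    obtain ⟨F1, hF1, hmap⟩ := exists_not_dvd_map_eq π hπs (Cores.not_dvd_card_pPrimeCore (p := p))
    obtain ⟨g, -, hle⟩ := hF.2.2 F1 le_top hF1
    intro y hy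
    have h1 : π g * y * (π g)⁻¹ ∈ K := hKn.conj_mem y hy _
    rw [hK, ← hmap] at h1
    obtain ⟨x, hx, hxe⟩ := h1
    refine ⟨g⁻¹ * x * g, mem_cj.mp (hle hx), ?_⟩
    rw [map_mul, map_mul, hxe, map_inv]
    group
  have hFK : F.map π ≤ K := by
    refine le_trans ?_ hC
    rintro _ ⟨a, ha, rfl⟩
    rw [Subgroup.mem_centralizer_iff]
    intro b hb
    obtain ⟨c, hc, rfl⟩ := hKF hb
    rw [← map_mul, ← map_mul]
    exact congrArg π (congrArg Subtype.val (hab.is_comm.comm ⟨c, hc⟩ ⟨a, ha⟩))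
  have hFe : F.map π = K := le_antisymm hFK hKF
  constructor
  · have : T ⊔ F = K.comap π := by
      rw [← hFe, Subgroup.comap_map_eq, hπ, QuotientGroup.ker_mk', sup_comm]
    rw [this]
    infer_instance
  · intro x ⟨k, hk⟩ hcomm
    have h1 : π x ∈ Subgroup.centralizer (K : Set (G ⧸ T)) := by
      rw [Subgroup.mem_centralizer_iff]
      intro b hb
      obtain ⟨f, hf, rfl⟩ := hKF hb
      have h2 : π (x * f * x⁻¹ * f⁻¹) = 1 := (QuotientGroup.eq_one_iff _).mpr (hcomm f hf)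
      simp only [map_mul, map_inv, mul_inv_eq_iff_eq_mul, one_mul] at h2
      exact h2.symm
    have h3 : π x ^ p ^ k = 1 := by rw [← map_pow, hk, map_one]
    have h4 : π x ^ Nat.card K = 1 := by
      exact orderOf_dvd_iff_pow_eq_one.mp (K.orderOf_dvd_natCard (hC h1))
    have h5 := pow_gcd_eq_one.mpr ⟨h3, h4⟩
    rw [show Nat.gcd (p ^ k) (Nat.card K) = 1 from
      ((Nat.Prime.coprime_iff_not_dvd hp.out).mpr Cores.not_dvd_card_pPrimeCore).pow_left k,
      pow_one] at h5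
    exact (QuotientGroup.eq_one_iff _).mp h5

theorem Dom.top [Finite G] {L F : Subgroup G} (h : Dom p L F) :
    Dom p (⊤ : Subgroup ↥L) (F.subgroupOf L) := by
  refine ⟨le_top, ?_, fun K _ hK => ?_⟩
  · rw [Nat.card_congr (Subgroup.subgroupOfEquivOfLe h.1).toEquiv]; exact h.2.1
  · obtain ⟨g, hg, hle⟩ := h.2.2 (K.map L.subtype) (Subgroup.map_subtype_le _)
      (by rwa [Subgroup.card_map_of_injective L.subtype_injective])
    refine ⟨⟨g, hg⟩, trivial, fun x hx => ?_⟩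
    have := mem_cj.mp (hle ⟨x, hx, rfl⟩)
    rw [mem_cj]
    exact this

section Solvable

variable [Finite G] [hp : Fact p.Prime] {L F : Subgroup G} [Group.IsSolvable ↥L]

theorem dom_structure (hF : Dom p L F) (hab : IsMulCommutative ↥F) :
    L ≤ Subgroup.normalizer ((op p L ⊔ F : Subgroup G) : Set G) ∧
      ∀ x ∈ L, (∃ k, x ^ p ^ k = 1) →
        (∀ f ∈ F, x * f * x⁻¹ * f⁻¹ ∈ op p L) → x ∈ op p L := by
  have hab' : IsMulCommutative ↥(F.subgroupOf L) :=
    ⟨⟨fun a b => Subtype.ext (Subtype.ext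
      (congrArg Subtype.val (hab.is_comm.comm ⟨_, a.2⟩ ⟨_, b.2⟩) :))⟩⟩
  obtain ⟨h1, h2⟩ := structure_of_dom hF.top hab'
  have hmap : (Cfsg.pCore p ↥L ⊔ F.subgroupOf L).map L.subtype = op p L ⊔ F := by
    rw [Subgroup.map_sup, op, Subgroup.map_subgroupOf_eq_of_le hF.1]
  refine ⟨?_, fun x hx ⟨k, hk⟩ hc => ?_⟩
  · refine (Subgroup.normal_subgroupOf_iff_le_normalizer (sup_le (op_le L) hF.1)).mp ?_
    rw [← hmap, Subgroup.subgroupOf, Subgroup.comap_map_eq_self_of_injective L.subtype_injective]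
    exact h1
  · refine ⟨⟨x, hx⟩, h2 _ ⟨k, Subtype.ext (by simpa using hk)⟩ fun f hf => ?_, rfl⟩
    obtain ⟨y, hy, hye⟩ := hc f hf
    have : y = ⟨x, hx⟩ * f * ⟨x, hx⟩⁻¹ * f⁻¹ := Subtype.ext hye
    rwa [← this]

/-- Every subgroup of order prime to `p` lies in `O_p(L)F`. -/
theorem le_op_sup (hF : Dom p L F) (hab : IsMulCommutative ↥F) {K : Subgroup G} (hK : K ≤ L)
    (hKp : ¬ p ∣ Nat.card K) : K ≤ op p L ⊔ F := by
  obtain ⟨g, hg, hle⟩ := hF.2.2 K hK hKp
  refine hle.trans (cj_le_iff.2 fun x hx => ?_)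
  exact (Subgroup.mem_normalizer_iff.mp ((dom_structure hF hab).1 hg) x).mp
    (Subgroup.mem_sup_right hx)

/-- The Frattini argument: `L = O_p(L) N_L(F)`. -/
theorem exists_mul_mem_normalizer (hF : Dom p L F) (hab : IsMulCommutative ↥F) {g : G}
    (hg : g ∈ L) :
    ∃ t ∈ op p L, ∃ n ∈ L, n ∈ Subgroup.normalizer (F : Set G) ∧ g = t * n := by
  set N := op p L ⊔ F with hN
  have hNL : N ≤ L := sup_le (op_le L) hF.1
  haveI : Group.IsSolvable ↥N :=
    Group.isSolvable_of_isSolvable_injective (Subgroup.inclusion_injective hNL)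
  obtain ⟨F', hF', hle'⟩ := exists_dom_ge (p := p) (L := N) (B := F) le_sup_right hF.2.1
  obtain ⟨l, -, hl⟩ := hF.2.2 F' (hF'.1.trans hNL) hF'.2.1
  have hcl := Subgroup.card_le_of_le hl
  rw [card_cj] at hcl
  have hFF : F = F' := Subgroup.eq_of_le_of_card_ge hle' hcl
  rw [← hFF] at hF'
  have hgF : cj g F ≤ N := le_op_sup hF hab
    (cj_le_iff.2 fun x hx => mul_mem (mul_mem hg (hF.1 hx)) (inv_mem hg))
    (by rw [card_cj]; exact hF.2.1)
  obtain ⟨m, hm, hmle⟩ := hF'.2.2 _ hgF (by rw [card_cj]; exact hF.2.1)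
  have hmN : m ∈ op p L ⊔ F := hm
  rw [sup_comm, ← SetLike.mem_coe, Subgroup.coe_mul_of_left_le_normalizer_right F (op p L)
    (hF.1.trans (le_normalizer_op L))] at hmN
  obtain ⟨f, hf, t, ht, rfl⟩ := hmN
  -- write `m = t' * f`
  have ht' : f * t * f⁻¹ ∈ op p L :=
    (Subgroup.mem_normalizer_iff.mp (le_normalizer_op L (hF.1 hf)) t).mp ht
  refine ⟨f * t * f⁻¹, ht', (f * t * f⁻¹)⁻¹ * g, mul_mem (inv_mem (op_le L ht')) hg, ?_, by group⟩
  have hfF : cj f F = F := mem_normalizer_iff_cj.1 (Subgroup.le_normalizer hf)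
  refine mem_normalizer_of_cj_le ?_
  have e : cj (f * t) F = cj (f * t * f⁻¹) F := by
    conv_rhs => rw [← hfF, cj_cj, inv_mul_cancel_right]
  calc cj ((f * t * f⁻¹)⁻¹ * g) F = cj (f * t * f⁻¹)⁻¹ (cj g F) := (cj_cj _ _ _).symm
    _ ≤ cj (f * t * f⁻¹)⁻¹ (cj (f * t) F) := cj_le_cj hmle
    _ = F := by rw [e, cj_inv_cj]

end Solvable

/-! ## Fixed points -/

/-- A `p`-group acting on `A` without nontrivial fixed points. -/
theorem card_modEq_one [Finite G] [hp : Fact p.Prime] {Q A : Subgroup G} (hQ : IsPGroup p Q)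
    (hQA : Q ≤ Subgroup.normalizer (A : Set G))
    (h : ∀ a ∈ A, (∀ q ∈ Q, q * a * q⁻¹ = a) → a = 1) : Nat.card A ≡ 1 [MOD p] := by
  letI : MulAction ↥Q ↥A :=
    { smul := fun q a => ⟨q * a * (q : G)⁻¹, (Subgroup.mem_normalizer_iff.mp (hQA q.2) _).mp a.2⟩
      one_smul := fun a => Subtype.ext (show (1 : G) * a * (1 : G)⁻¹ = a by group)
      mul_smul := fun q r a => Subtype.ext (show ((q * r : ↥Q) : G) * a * ((q * r : ↥Q) : G)⁻¹ =
        q * (r * a * (r : G)⁻¹) * (q : G)⁻¹ by simp [mul_assoc]) }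
  have h1 := hQ.card_modEq_card_fixedPoints (α := ↥A)
  have h2 : Nat.card (MulAction.fixedPoints ↥Q ↥A) = 1 := by
    rw [Nat.card_eq_one_iff_unique]
    refine ⟨⟨fun a b => ?_⟩, ⟨⟨1, fun q => Subtype.ext (show (q : G) * 1 * (q : G)⁻¹ = 1 by group)⟩⟩⟩
    have : ∀ a : MulAction.fixedPoints ↥Q ↥A, ((a : ↥A) : G) = 1 := fun a =>
      h _ (a : ↥A).2 fun q hq => congrArg Subtype.val (a.2 ⟨q, hq⟩)
    exact Subtype.ext (Subtype.ext ((this a).trans (this b).symm))
  rwa [h2] at h1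

/-- A coset fixed by a `p`-group contains a fixed element. -/
theorem exists_fixed_in_coset [Finite G] [hp : Fact p.Prime] {Q A K : Subgroup G}
    (hQ : IsPGroup p Q) (hQA : Q ≤ Subgroup.normalizer (A : Set G))
    (hQK : Q ≤ Subgroup.normalizer (K : Set G)) (hp' : ¬ p ∣ Nat.card ↥(A ⊓ K)) {x : G}
    (hx : x ∈ A) (h : ∀ q ∈ Q, x⁻¹ * (q * x * q⁻¹) ∈ K) :
    ∃ y ∈ A, x⁻¹ * y ∈ K ∧ ∀ q ∈ Q, q * y * q⁻¹ = y := by
  let S := {y : G // y ∈ A ∧ x⁻¹ * y ∈ K}
  letI : MulAction ↥Q S :=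
    { smul := fun q y => ⟨q * y.1 * (q : G)⁻¹,
        (Subgroup.mem_normalizer_iff.mp (hQA q.2) _).mp y.2.1, by
          have h1 := (Subgroup.mem_normalizer_iff.mp (hQK q.2) _).mp y.2.2
          have h2 := mul_mem (h q q.2) h1
          rwa [show x⁻¹ * (q * x * (q : G)⁻¹) * (q * (x⁻¹ * y.1) * (q : G)⁻¹) =
            x⁻¹ * (q * y.1 * (q : G)⁻¹) by group] at h2⟩
      one_smul := fun a => Subtype.ext (show (1 : G) * a.1 * (1 : G)⁻¹ = a.1 by group)
      mul_smul := fun q r a => Subtype.ext (show ((q * r : ↥Q) : G) * a.1 * ((q * r : ↥Q) : G)⁻¹ =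
        q * (r * a.1 * (r : G)⁻¹) * (q : G)⁻¹ by simp [mul_assoc]) }
  let e : S ≃ ↥(A ⊓ K) :=
    { toFun := fun y => ⟨x⁻¹ * y.1, Subgroup.mem_inf.mpr ⟨A.mul_mem (A.inv_mem hx) y.2.1, y.2.2⟩⟩
      invFun := fun d => ⟨x * d.1, mul_mem hx d.2.1, by rw [inv_mul_cancel_left]; exact d.2.2⟩
      left_inv := fun y => Subtype.ext (mul_inv_cancel_left x y.1)
      right_inv := fun d => Subtype.ext (inv_mul_cancel_left x d.1) }
  obtain ⟨y, hy⟩ := hQ.nonempty_fixed_point_of_prime_not_dvd_card (α := S)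
    (by rw [Nat.card_congr e]; exact hp')
  exact ⟨y.1, y.2.1, y.2.2, fun q hq => congrArg Subtype.val (hy ⟨q, hq⟩)⟩

/-- Sylow subgroups for all primes generate. -/
theorem le_of_sylows [Finite G] {M X : Subgroup G}
    (h : ∀ s : ℕ, s.Prime → s ∣ Nat.card M →
      ∃ S : Subgroup G, S ≤ X ∧ S ≤ M ∧ ¬ s ∣ S.relIndex M) : M ≤ X := by
  have h1 : (X ⊓ M).relIndex M = 1 := by
    by_contra hne
    obtain ⟨s, hs, hsd⟩ := Nat.exists_prime_and_dvd hne
    obtain ⟨S, h1, h2, h3⟩ := h s hs (hsd.trans (Subgroup.index_dvd_card _))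
    exact h3 (hsd.trans (Subgroup.relIndex_dvd_of_le_left M (le_inf h1 h2)))
  exact (Subgroup.relIndex_eq_one.mp h1).trans inf_le_left

end Cfsg.Agent.Lib.FusionControl.PPrimeAbelian
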