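import Cfsg.Agent.Lib.FusionControl.PPrimeAbelianNormal

/-!
# Groups all of whose subgroups of order prime to `p` are abelian: counting

For a simple minimal example the elements of order prime to `p` are too few and the `p`-elements
centralise too few of them.
-/

set_option autoImplicit false
set_option linter.style.haveILetI false
set_option linter.unusedSectionVars false

universe u

namespace Cfsg.Agent.Lib.FusionControl.PPrimeAbelian

open Cfsg.Agent.Lib
open scoped Pointwise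

variable {G : Type u} [Group G] {p : ℕ} [hp : Fact p.Prime] [Finite G]

theorem Min.exists_data (hG : Min p G) {s : ℕ} [Fact s.Prime] (hsp : s ≠ p) (hs : s ∣ Nat.card G)
    (R : Sylow s G) :
    ∃ H : Subgroup G, (R : Subgroup G) ≤ H ∧ IsMaxPrime p H ∧
      Good H (Subgroup.normalizer (H : Set G)) := by
  obtain ⟨H, hRH, hH⟩ := exists_isMaxPrime_ge (not_dvd_of_isPGroup (p := p) R.2 hsp)
  obtain ⟨M, hM⟩ := hG.exists_good hsp hs R hRH hH
  have e : M = Subgroup.normalizer (H : Set G) :=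
    le_antisymm (hG.le_normalizer hsp hs R hRH hH hM) hM.2.1
  exact ⟨H, hRH, hH, e ▸ hM⟩

theorem Min.mem_of_normalizer (hG : Min p G) {H : Subgroup G} (hH : IsMaxPrime p H)
    (hM : Good H (Subgroup.normalizer (H : Set G))) {x : G}
    (hx : x ∈ Subgroup.normalizer (H : Set G)) (hxp : ¬ p ∣ orderOf x) : x ∈ H := by
  haveI := hG.sol _ hM.1
  obtain ⟨g, hg, hle⟩ := (hH.dom Subgroup.le_normalizer).2.2 (Subgroup.zpowers x)
    (Subgroup.zpowers_le.mpr hx) (by rwa [Nat.card_zpowers])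
  rw [mem_normalizer_iff_cj.mp hg] at hle
  exact hle (Subgroup.mem_zpowers x)

theorem normalizer_le_normalizer_sylow {s : ℕ} (S : Sylow s G) {H : Subgroup G}
    [IsMulCommutative ↥H] (hSH : (S : Subgroup G) ≤ H) :
    Subgroup.normalizer (H : Set G) ≤ Subgroup.normalizer ((S : Subgroup G) : Set G) := fun g hg => by
  refine mem_normalizer_of_cj_le (cj_le_iff.2 fun x hx => ?_)
  obtain ⟨k, hk⟩ := S.2 ⟨x, hx⟩
  refine mem_sylow_of_pow S hSH ((Subgroup.mem_normalizer_iff.mp hg x).mp (hSH hx)) (k := k) ?_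
  rw [conj_pow, show x ^ s ^ k = 1 by simpa using congrArg Subtype.val hk, mul_one, mul_inv_cancel]

/-- A Sylow `p`-subgroup of `N(H)` fixes no nontrivial element of `H`. -/
theorem Min.eq_one_of_fixed_H (hG : Min p G) {H : Subgroup G} (hH : IsMaxPrime p H)
    (hM : Good H (Subgroup.normalizer (H : Set G))) {Q : Subgroup G}
    (hQN : Q ≤ Subgroup.normalizer (H : Set G))
    (hQi : ¬ p ∣ Q.relIndex (Subgroup.normalizer (H : Set G))) {y : G} (hy : y ∈ H)
    (hfix : ∀ q ∈ Q, q * y = y * q) : y = 1 := by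
  by_contra hy1
  haveI : IsMulCommutative ↥H := hG.hyp.isMulCommutative hH.1
  obtain ⟨s, hs, hsd⟩ := Nat.exists_prime_and_dvd (fun h => hy1 (orderOf_eq_one_iff.mp h))
  haveI := Fact.mk hs
  have hsH : s ∣ Nat.card H := hsd.trans (H.orderOf_dvd_natCard hy)
  obtain ⟨hsp, S, hSH⟩ := hG.exists_sylow_eq hH hM hsH
  set z := y ^ (orderOf y / s) with hz
  have hzo : orderOf z = s := orderOf_pow_orderOf_div (orderOf_pos y).ne' hsd
  have hzS : z ∈ (S : Subgroup G) :=
    mem_sylow_of_pow S hSH (pow_mem hy _) (k := 1) (by rw [pow_one, ← hzo]; exact pow_orderOf_eq_one z)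
  have hN : Subgroup.normalizer ((S : Subgroup G) : Set G) = Subgroup.normalizer (H : Set G) :=
    le_antisymm (hG.sylow_normalizer_le hH hM (hsH.trans H.card_subgroup_dvd_card) S hSH)
      (normalizer_le_normalizer_sylow S hSH)
  have := hG.eq_one_of_fixed hsp S (hN ▸ hQN) (hN ▸ hQi) hzS fun q hq =>
    ((show Commute q y from hfix q hq).pow_right _).eq
  rw [this, orderOf_one] at hzo
  exact hs.one_lt.ne hzo

theorem exists_central_order {P : Subgroup G} (hP : IsPGroup p P) (hne : P ≠ ⊥) :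
    ∃ z ∈ P, z ≠ 1 ∧ z ^ p = 1 ∧ ∀ q ∈ P, q * z = z * q := by
  haveI : Nontrivial ↥P := (Subgroup.nontrivial_iff_ne_bot P).mpr hne
  haveI : Nontrivial (Subgroup.center ↥P) := hP.center_nontrivial
  obtain ⟨n, hn0, hn⟩ := ((hP.to_subgroup (Subgroup.center ↥P)).nontrivial_iff_card).mp inferInstance
  obtain ⟨⟨⟨z, hzP⟩, hzc⟩, hz⟩ := exists_prime_orderOf_dvd_card' (G := Subgroup.center ↥P) p
    (hn ▸ dvd_pow_self p hn0.ne')
  rw [Subgroup.orderOf_mk, Subgroup.orderOf_mk] at hz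
  refine ⟨z, hzP, fun h => ?_, hz ▸ pow_orderOf_eq_one z, fun q hq =>
    congrArg Subtype.val (Subgroup.mem_center_iff.mp hzc ⟨q, hq⟩)⟩
  rw [h, orderOf_one] at hz
  exact hp.out.one_lt.ne hz

/-- A nontrivial `p`-element centralises no more elements of order prime to `p` than it lies in
Sylow `p`-subgroups. -/
theorem Min.card_commuting_le (hG : Min p G) {u : G} (hu : ∃ k, u ^ p ^ k = 1) (hu1 : u ≠ 1) :
    Nat.card {x : G // ¬ p ∣ orderOf x ∧ Commute u x} ≤
      Nat.card {P : Sylow p G // u ∈ (P : Subgroup G)} := by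
  have hup : IsPGroup p (Subgroup.zpowers u) := by
    obtain ⟨k, hk⟩ := hu
    rintro ⟨z, i, rfl⟩
    refine ⟨k, Subtype.ext ?_⟩
    simp only [SubgroupClass.coe_pow, Subgroup.coe_one]
    rw [← zpow_natCast, ← zpow_mul, mul_comm, zpow_mul, zpow_natCast, hk, one_zpow]
  by_cases hall : ∀ x : G, ¬ p ∣ orderOf x → Commute u x → x = 1
  · obtain ⟨P, hP⟩ := hup.exists_le_sylow
    haveI : Subsingleton {x : G // ¬ p ∣ orderOf x ∧ Commute u x} :=
      ⟨fun a b => Subtype.ext ((hall a a.2.1 a.2.2).trans (hall b b.2.1 b.2.2).symm)⟩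
    haveI : Nonempty {P : Sylow p G // u ∈ (P : Subgroup G)} :=
      ⟨⟨P, hP (Subgroup.mem_zpowers u)⟩⟩
    exact Finite.card_le_one_iff_subsingleton.mpr inferInstance |>.trans Nat.card_pos
  push Not at hall
  obtain ⟨x, hxp, hux, hx1⟩ := hall
  obtain ⟨s, hs, hsd⟩ := Nat.exists_prime_and_dvd (fun h => hx1 (orderOf_eq_one_iff.mp h))
  have hsp : s ≠ p := fun e => hxp (e ▸ hsd)
  haveI := Fact.mk hs
  set b := x ^ (orderOf x / s) with hb
  have hbo : orderOf b = s := orderOf_pow_orderOf_div (orderOf_pos x).ne' hsd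
  have hb1 : b ≠ 1 := fun h => by rw [h, orderOf_one] at hbo; exact hs.one_lt.ne hbo
  have hbp : b ^ s = 1 := hbo ▸ pow_orderOf_eq_one b
  have hub : Commute u b := hux.pow_right _
  have hzb : IsPGroup s (Subgroup.zpowers b) := IsPGroup.of_card (n := 1)
    (by rw [Nat.card_zpowers, hbo, pow_one])
  obtain ⟨R, hR⟩ := hzb.exists_le_sylow
  have hsG : s ∣ Nat.card G := hbo ▸ orderOf_dvd_natCard b
  obtain ⟨H, hRH, hH, hM⟩ := hG.exists_data hsp hsG R
  haveI : IsMulCommutative ↥H := hG.hyp.isMulCommutative hH.1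
  set M := Subgroup.normalizer (H : Set G) with hMdef
  have hbH : b ∈ H := hRH (hR (Subgroup.mem_zpowers b))
  have huM : u ∈ M := hM.2.2 b hbH hb1 (Subgroup.mem_centralizer_singleton_iff.mpr hub)
  obtain ⟨Q, hQu, hQM, hQ, hQi⟩ := exists_sylow_in p M (Subgroup.zpowers_le.mpr huM) hup
  obtain ⟨P, hQP⟩ := hQ.exists_le_sylow
  have huQ : u ∈ Q := hQu (Subgroup.mem_zpowers u)
  have hQb : Q ≠ ⊥ := fun e => hb1 (hG.eq_one_of_fixed_H hH hM hQM hQi hbH fun q hq => by
    rw [e, Subgroup.mem_bot] at hq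
    rw [hq, one_mul, mul_one])
  set A := om s H with hA
  have hbA : b ∈ A := mem_om.mpr ⟨hbH, hbp⟩
  have hMA : M ≤ Subgroup.normalizer (A : Set G) := normalizer_le_normalizer_om s H
  have hrank : ∀ (q : G) (T : Subgroup G), T ≤ M → IsPGroup p T → (∀ t ∈ T, t * q = q * t) →
      (∀ a ∈ A, a * q = q * a → (∀ t ∈ T, t * a * t⁻¹ = a) → a = 1) →
      ∀ a ∈ A, a ≠ 1 → a * q = q * a → q ≠ 1 →
        Subgroup.centralizer ({q} : Set G) ≤ M := by
    intro q T hTM hT hTq hfree a ha ha1 haq hq1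
    set B := A ⊓ Subgroup.centralizer ({q} : Set G) with hB
    have hBe : Cfsg.IsElementaryAbelian s B :=
      Components.elemAb_mono (elemAb_om s H) inf_le_left
    have hTn : T ≤ Subgroup.normalizer (B : Set G) := fun t ht =>
      mem_normalizer_of_cj_le (cj_le_iff.2 fun y hy => ⟨(Subgroup.mem_normalizer_iff.mp
        (hMA (hTM ht)) y).mp hy.1, Subgroup.mem_centralizer_singleton_iff.mpr
          (((show Commute t q from hTq t ht).mul_left (show Commute y q from
            Subgroup.mem_centralizer_singleton_iff.mp hy.2)).mul_left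
              (show Commute t q from hTq t ht).inv_left).eq⟩)
    have h3 := hG.cube_le hsp hT hTn (Components.elemAb_isPGroup hBe)
      (fun e => ha1 (by
        have : a ∈ B := ⟨ha, Subgroup.mem_centralizer_singleton_iff.mpr haq⟩
        simpa [e] using this))
      fun y hy hfix => hfree y hy.1 (Subgroup.mem_centralizer_singleton_iff.mp hy.2) hfix
    exact hG.le_of_noncyclic hH hM (hG.centralizer_ne_top hq1) (inf_le_left.trans (om_le s H))
      inf_le_right (Components.elemAb_not_isCyclic hBe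
        ((Nat.pow_le_pow_right hs.pos (by norm_num)).trans h3))
  have hcard : ∀ T : Subgroup G, Q ≤ T → T ≤ M → IsPGroup p T → T = Q := fun T h1 h2 h3 => by
    obtain ⟨k, -, hk⟩ := exists_cj_le_of_not_dvd hQM hQ hQi h2 h3
    have hc := Subgroup.card_le_of_le hk
    rw [card_cj] at hc
    exact (Subgroup.eq_of_le_of_card_ge h1 hc).symm
  obtain ⟨z, hzQ, hzc, hzA⟩ : ∃ z ∈ Q, (∀ q ∈ Q, q * z = z * q) ∧
      ∀ a ∈ A, a * z = z * a → a = 1 := by
    by_contra hne
    push Not at hne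
    have hC : ∀ z ∈ Q, z ≠ 1 → (∀ q ∈ Q, q * z = z * q) →
        Subgroup.centralizer ({z} : Set G) ≤ M ∧ ∃ a ∈ A, a ≠ 1 ∧ a * z = z * a := fun z hz hz1 hc => by
      obtain ⟨a, ha, haz, ha1⟩ := hne z hz hc
      exact ⟨hrank z Q hQM hQ hc (fun y hy _ hfix => hG.eq_one_of_fixed_H hH hM hQM hQi
        (om_le s H hy) fun q hq => mul_inv_eq_iff_eq_mul.mp (hfix q hq)) a ha ha1 haz hz1,
        a, ha, ha1, haz⟩
    obtain ⟨z1, hz1Q, hz11, -, hz1c⟩ := exists_central_order hQ hQb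
    obtain ⟨z0, hz0P, hz01, -, hz0c⟩ := exists_central_order P.2
      (P.ne_bot_of_dvd_card hG.dvd_card)
    have hz0M : z0 ∈ M := (hC z1 hz1Q hz11 hz1c).1
      (Subgroup.mem_centralizer_singleton_iff.mpr (hz0c z1 (hQP hz1Q)).symm)
    have hz0Q : z0 ∈ Q := by
      rw [← hcard (Q ⊔ Subgroup.zpowers z0) le_sup_left (sup_le hQM (Subgroup.zpowers_le.mpr hz0M))
        (P.2.to_le (sup_le hQP (Subgroup.zpowers_le.mpr hz0P)))]
      exact Subgroup.mem_sup_right (Subgroup.mem_zpowers z0)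
    obtain ⟨hC0, b0, hb0, hb01, hb0z⟩ := hC z0 hz0Q hz01 fun q hq => hz0c q (hQP hq)
    have hPQ : (P : Subgroup G) = Q := hcard _ hQP
      ((fun t ht => hC0 (Subgroup.mem_centralizer_singleton_iff.mpr (hz0c t ht)))) P.2
    obtain ⟨g, hg, hgM⟩ := SetLike.not_le_iff_exists.mp
      (hG.not_normalizer_le hsp hsG R hRH hH hM P)
    have hgz : g * z0 * g⁻¹ ∈ Q := hPQ ▸ (Subgroup.mem_normalizer_iff.mp hg z0).mp hz0P
    have hgc : ∀ q ∈ Q, q * (g * z0 * g⁻¹) = g * z0 * g⁻¹ * q := fun q hq => by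
      have h' : g⁻¹ * q * g ∈ (P : Subgroup G) :=
        (Subgroup.mem_normalizer_iff''.mp hg q).mp (hPQ.symm ▸ hq)
      calc q * (g * z0 * g⁻¹) = g * ((g⁻¹ * q * g) * z0) * g⁻¹ := by group
        _ = g * (z0 * (g⁻¹ * q * g)) * g⁻¹ := by rw [hz0c _ h']
        _ = _ := by group
    refine hgM (hG.mem_of_conj hH hM (om_le s H hb0) hb01 ((hC _ hgz
      (fun e => hz01 (conj_eq_one_iff.mp e)) hgc).1 (Subgroup.mem_centralizer_singleton_iff.mpr ?_)))
    calc g * b0 * g⁻¹ * (g * z0 * g⁻¹) = g * (b0 * z0) * g⁻¹ := by group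
      _ = g * (z0 * b0) * g⁻¹ := by rw [hb0z]
      _ = _ := by group
  have hCu : ∀ y : G, Commute u y → y ∈ M := fun y hy =>
    hrank u (Subgroup.zpowers z) (Subgroup.zpowers_le.mpr (hQM hzQ))
      (hQ.to_le (Subgroup.zpowers_le.mpr hzQ))
      (fun t ht => by
        obtain ⟨i, rfl⟩ := ht
        exact ((show Commute z u from (hzc u huQ).symm).zpow_left i).eq)
      (fun a ha _ hfix => hzA a ha (mul_inv_eq_iff_eq_mul.mp (hfix z (Subgroup.mem_zpowers z))).symm)
      b hbA hb1 hub.symm.eq hu1 (Subgroup.mem_centralizer_singleton_iff.mpr hy.symm)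
  have hmemH : ∀ y : {y : G // ¬ p ∣ orderOf y ∧ Commute u y}, (y : G) ∈ H := fun y =>
    hG.mem_of_normalizer hH hM (hCu y y.2.2) y.2.1
  refine Nat.card_le_card_of_injective (fun y => ⟨(y : G) • P, ?_⟩) fun y y' e => ?_
  · show u ∈ (((y : G) • P : Sylow p G) : Subgroup G)
    rw [Sylow.coe_subgroup_smul]
    exact ⟨u, hQP huQ, by simp [y.2.2.symm.eq]⟩
  · have e' : (y : G) • P = (y' : G) • P := congrArg Subtype.val e
    have hk : ((y' : G)⁻¹ * y) • P = P := by rw [mul_smul, e', inv_smul_smul]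
    have hkN := Sylow.smul_eq_iff_mem_normalizer.mp hk
    have hkH : (y' : G)⁻¹ * y ∈ H := mul_mem (inv_mem (hmemH y')) (hmemH y)
    refine Subtype.ext (inv_mul_eq_one.mp ?_).symm
    refine hG.eq_one_of_fixed_H hH hM hQM hQi hkH fun q hq => ?_
    set k := (y' : G)⁻¹ * y
    have h1 : k * q * k⁻¹ * q⁻¹ ∈ (P : Subgroup G) :=
      mul_mem ((Subgroup.mem_normalizer_iff.mp hkN q).mp (hQP hq)) (inv_mem (hQP hq))
    have h2 : k * q * k⁻¹ * q⁻¹ ∈ H := by
      have := mul_mem hkH ((Subgroup.mem_normalizer_iff.mp (hQM hq) k⁻¹).mp (inv_mem hkH))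
      rwa [show k * (q * k⁻¹ * q⁻¹) = k * q * k⁻¹ * q⁻¹ by group] at this
    have h3 := Transfer.eq_one_of_isPGroup_of_coprime P.2 h1
      (Transfer.coprime_orderOf_of_mem (coprime_of_not_dvd hH.1) h2)
    exact (mul_inv_eq_iff_eq_mul.mp (mul_inv_eq_one.mp h3)).symm

theorem orderOf_dvd_pow_part {a m : ℕ} (hN : Nat.card G = p ^ a * m) (hm : ¬ p ∣ m) (x : G) :
    ((∃ k, x ^ p ^ k = 1) → orderOf x ∣ p ^ a) ∧ (¬ p ∣ orderOf x → orderOf x ∣ m) := by
  have h := orderOf_dvd_natCard x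
  rw [hN] at h
  constructor
  · rintro ⟨k, hk⟩
    exact (Nat.Coprime.of_dvd_left (orderOf_dvd_of_pow_eq_one hk)
      (((Nat.Prime.coprime_iff_not_dvd hp.out).mpr hm).pow_left k)).dvd_of_dvd_mul_right h
  · intro hx
    exact ((coprime_of_not_dvd hx).pow_right a).dvd_of_dvd_mul_left h

/-- Each element has a unique decomposition into commuting parts. -/
theorem mul_bijective :
    Function.Bijective (fun w : Σ u : {u : G // ∃ k, u ^ p ^ k = 1},
      {x : G // ¬ p ∣ orderOf x ∧ Commute (u : G) x} => (w.1 : G) * (w.2 : G)) := by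
  obtain ⟨a, m, hm, hN⟩ := Nat.exists_eq_pow_mul_and_not_dvd Nat.card_pos.ne' p hp.out.ne_one
    (n := Nat.card G)
  obtain ⟨e, he1, he0⟩ := Nat.chineseRemainder
    (((Nat.Prime.coprime_iff_not_dvd hp.out).mpr hm).pow_left a) 1 0
  constructor
  · have key : ∀ (u x : G), (∃ k, u ^ p ^ k = 1) → ¬ p ∣ orderOf x → Commute u x →
        (u * x) ^ e = u := fun u x hu hx hc => by
      have h1 : u ^ e = u ^ 1 :=
        pow_eq_pow_iff_modEq.mpr (he1.of_dvd ((orderOf_dvd_pow_part hN hm u).1 hu))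
      have h2 : x ^ e = x ^ 0 :=
        pow_eq_pow_iff_modEq.mpr (he0.of_dvd ((orderOf_dvd_pow_part hN hm x).2 hx))
      rw [hc.mul_pow, h1, h2, pow_one, pow_zero, mul_one]
    rintro ⟨⟨u, hu⟩, ⟨x, hx, hc⟩⟩ ⟨⟨u', hu'⟩, ⟨x', hx', hc'⟩⟩ h
    simp only at h hc hc'
    obtain rfl : u = u' := by rw [← key u x hu hx hc, ← key u' x' hu' hx' hc', h]
    obtain rfl : x = x' := mul_left_cancel h
    rfl
  · intro g
    obtain ⟨c, d, hc, hd, hcp, ⟨k, hdp⟩, hg⟩ := Transfer.exists_pPart_decomp (p := p) g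
    have hcd : Commute d c := by
      obtain ⟨i, rfl⟩ := hc
      obtain ⟨j, rfl⟩ := hd
      exact (Commute.refl g).zpow_zpow j i
    exact ⟨⟨⟨d, k, hdp ▸ pow_orderOf_eq_one d⟩, ⟨c, (Transfer.coprime_iff_not_dvd _).mp hcp, hcd⟩⟩,
      hcd.eq.trans hg.symm⟩

theorem Min.card_le (hG : Min p G) (P : Sylow p G) :
    Nat.card G + Nat.card (Sylow p G) ≤ {x : G | ¬ p ∣ orderOf x}.ncard +
      Nat.card (Sylow p G) * Nat.card (P : Subgroup G) := by
  classical
  haveI := Fintype.ofFinite G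
  haveI := Fintype.ofFinite (Sylow p G)
  let one : {u : G // ∃ k, u ^ p ^ k = 1} := ⟨1, 0, one_pow _⟩
  have h1 := (Nat.card_eq_of_bijective _ (mul_bijective (G := G) (p := p))).symm
  rw [Nat.card_sigma, ← Finset.add_sum_erase _ _ (Finset.mem_univ one)] at h1
  have h2 : Nat.card {x : G // ¬ p ∣ orderOf x ∧ Commute (one : G) x} ≤
      {x : G | ¬ p ∣ orderOf x}.ncard :=
    Nat.card_le_card_of_injective (fun x => (⟨x.1, x.2.1⟩ : {x : G | ¬ p ∣ orderOf x}))
      fun a b h => Subtype.ext (congrArg Subtype.val h :)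
  have h3 : (∑ u ∈ Finset.univ.erase one, Nat.card {x : G // ¬ p ∣ orderOf x ∧ Commute (u : G) x}) ≤
      Nat.card (Sylow p G) * (Nat.card (P : Subgroup G) - 1) := by
    refine (Finset.sum_le_sum fun u hu => hG.card_commuting_le u.2 fun h =>
      (Finset.mem_erase.mp hu).1 (Subtype.ext h)).trans ?_
    rw [Finset.sum_subtype (Finset.univ.erase one) (p := fun u => u ≠ one) (fun u => by simp)
      (fun u => Nat.card {Q : Sylow p G // (u : G) ∈ (Q : Subgroup G)}), ← Nat.card_sigma]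
    let e : (Σ u : {u : {u : G // ∃ k, u ^ p ^ k = 1} // u ≠ one},
        {Q : Sylow p G // (u.1 : G) ∈ (Q : Subgroup G)}) ≃
        (Σ Q : Sylow p G, {q : ↥(Q : Subgroup G) // q ≠ 1}) :=
      { toFun := fun w => ⟨w.2.1, ⟨w.1.1.1, w.2.2⟩, fun h => w.1.2 (Subtype.ext
          (congrArg Subtype.val h :))⟩
        invFun := fun w => ⟨⟨⟨w.2.1.1, (w.1.2 w.2.1).imp fun k hk => by
          simpa using congrArg Subtype.val hk⟩, fun h => w.2.2 (Subtype.ext
            (congrArg Subtype.val h :))⟩, w.1, w.2.1.2⟩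
        left_inv := fun w => rfl
        right_inv := fun w => rfl }
    rw [Nat.card_congr e, Nat.card_sigma]
    have h4 : ∀ Q : Sylow p G, Nat.card {q : ↥(Q : Subgroup G) // q ≠ 1} =
        Nat.card (P : Subgroup G) - 1 := fun Q => by
      rw [Nat.card_eq_fintype_card, Fintype.card_subtype_compl, Fintype.card_subtype_eq,
        ← Nat.card_eq_fintype_card, Q.card_eq_multiplicity, P.card_eq_multiplicity]
    rw [Finset.sum_congr rfl fun Q _ => h4 Q, Finset.sum_const, Finset.card_univ, smul_eq_mul,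
      ← Nat.card_eq_fintype_card]
  have h5 : 1 ≤ Nat.card (P : Subgroup G) := Nat.card_pos
  have h6 : Nat.card (Sylow p G) * (Nat.card (P : Subgroup G) - 1) + Nat.card (Sylow p G) =
      Nat.card (Sylow p G) * Nat.card (P : Subgroup G) := by
    rw [← Nat.mul_succ, Nat.succ_eq_add_one, Nat.sub_add_cancel h5]
  omega

/-- The elements with a part of order `s` lie in a set of fewer than `|G|/p` elements. -/
theorem Min.exists_cover (hG : Min p G) {s : ℕ} (hs : s.Prime) (hsp : s ≠ p)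
    (hsG : s ∣ Nat.card G) :
    ∃ X : Set G, X.ncard * p ≤ Nat.card G ∧
      ∀ x : G, ¬ p ∣ orderOf x → s ∣ orderOf x → x ∈ X := by
  classical
  haveI := Fact.mk hs
  obtain ⟨R⟩ : Nonempty (Sylow s G) := inferInstance
  obtain ⟨H, hRH, hH, hM⟩ := hG.exists_data hsp hsG R
  set M := Subgroup.normalizer (H : Set G) with hMdef
  let f : (G ⧸ M) × {h : ↥H // h ≠ 1} → G := fun w => w.1.out * (w.2.1 : G) * w.1.out⁻¹
  refine ⟨Set.range f, ?_, fun x hxp hsx => ?_⟩
  · have h1 : (Set.range f).ncard ≤ M.index * (Nat.card H - 1) := by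
      rw [← Nat.card_coe_set_eq]
      refine (Finite.card_range_le f).trans ?_
      haveI := Fintype.ofFinite ↥H
      rw [Nat.card_prod, Subgroup.index, Nat.card_eq_fintype_card (α := {h : ↥H // h ≠ 1}),
        Fintype.card_subtype_compl, Fintype.card_subtype_eq, ← Nat.card_eq_fintype_card]
    obtain ⟨Q, -, hQN, hQ, hQi⟩ := exists_sylow_in p M (Q := ⊥) bot_le IsPGroup.of_bot
    obtain ⟨a, ha, -, ha1⟩ := exists_order_mem hsG R
    have hQb : Q ≠ ⊥ := fun e => ha1 (hG.eq_one_of_fixed_H hH hM hQN hQi (hRH ha) fun q hq => by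
      rw [e, Subgroup.mem_bot] at hq
      rw [hq, one_mul, mul_one])
    obtain ⟨i, hi0, hi⟩ := hQ.nontrivial_iff_card.mp ((Subgroup.nontrivial_iff_ne_bot Q).mpr hQb)
    have hpM : p * Nat.card H ∣ Nat.card M :=
      ((Nat.Prime.coprime_iff_not_dvd hp.out).mpr hH.1).mul_dvd_of_dvd_of_dvd
        ((hi ▸ dvd_pow_self p hi0.ne').trans (Subgroup.card_dvd_of_le hQN))
        (Subgroup.card_dvd_of_le Subgroup.le_normalizer)
    calc (Set.range f).ncard * p ≤ M.index * (Nat.card H - 1) * p := Nat.mul_le_mul_right p h1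
      _ ≤ M.index * Nat.card H * p := Nat.mul_le_mul_right p (Nat.mul_le_mul_left _ (Nat.sub_le _ 1))
      _ = M.index * (p * Nat.card H) := by ring
      _ ≤ M.index * Nat.card M := Nat.mul_le_mul_left _ (Nat.le_of_dvd Nat.card_pos hpM)
      _ = Nat.card G := M.index_mul_card
  · set b := x ^ (orderOf x / s) with hb
    have hbo : orderOf b = s := orderOf_pow_orderOf_div (orderOf_pos x).ne' hsx
    obtain ⟨g, -, hg⟩ := exists_cj_le_of_not_dvd (K := (⊤ : Subgroup G)) (T := (R : Subgroup G))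
      (Q := Subgroup.zpowers b) le_top R.2
      (by rw [Subgroup.relIndex_top_right]; exact R.not_dvd_index) le_top
      (IsPGroup.of_card (n := 1) (by rw [Nat.card_zpowers, hbo, pow_one]))
    have hgb : g * b * g⁻¹ ∈ H := hRH (hg (conj_mem_cj (Subgroup.mem_zpowers b)))
    have hgb1 : g * b * g⁻¹ ≠ 1 := fun e => by
      rw [conj_eq_one_iff.mp e, orderOf_one] at hbo
      exact hs.one_lt.ne hbo
    have hgx : g * x * g⁻¹ ∈ M := hM.2.2 _ hgb hgb1 (Subgroup.mem_centralizer_singleton_iff.mpr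
      (Commute.conj_iff g |>.mpr ((Commute.refl x).pow_right _)).eq)
    have ho : orderOf (g * x * g⁻¹) = orderOf x := (MulAut.conj g).orderOf_eq x
    have hgH := hG.mem_of_normalizer hH hM hgx (ho.symm ▸ hxp)
    obtain ⟨n, hn⟩ := QuotientGroup.mk_out_eq_mul M g⁻¹
    have hmem : (n : G)⁻¹ * (g * x * g⁻¹) * n ∈ H := by
      have := (Subgroup.mem_normalizer_iff.mp (inv_mem n.2) (g * x * g⁻¹)).mp hgH
      rwa [inv_inv] at this
    refine ⟨⟨(g⁻¹ : G), ⟨⟨_, hmem⟩, fun e => hgb1 ?_⟩⟩, ?_⟩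
    · have e1 : g * x * g⁻¹ = 1 := by
        calc g * x * g⁻¹ = n * ((n : G)⁻¹ * (g * x * g⁻¹) * n) * (n : G)⁻¹ := by group
          _ = 1 := by rw [show (n : G)⁻¹ * (g * x * g⁻¹) * n = 1 from congrArg Subtype.val e]; group
      rw [hb, ← conj_pow, e1, one_pow]
    · show (QuotientGroup.mk g⁻¹ : G ⧸ M).out * _ * ((QuotientGroup.mk g⁻¹ : G ⧸ M).out)⁻¹ = x
      rw [hn]
      group

theorem two_mul_le_two_pow : ∀ k : ℕ, 2 * k ≤ 2 ^ k
  | 0 => Nat.zero_le _
  | j + 1 => by
    have := Nat.lt_two_pow_self (n := j)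
    rw [pow_succ]
    omega

/-- There is no minimal example. -/
theorem Min.false (hG : Min p G) : False := by
  classical
  have hcov : ∀ s ∈ (Nat.card G).primeFactors.erase p, ∃ X : Set G, X.ncard * p ≤ Nat.card G ∧
      ∀ x : G, ¬ p ∣ orderOf x → s ∣ orderOf x → x ∈ X := fun s hs => by
    rw [Finset.mem_erase, Nat.mem_primeFactors] at hs
    exact hG.exists_cover hs.2.1 hs.1 hs.2.2.1
  choose! X hX1 hX2 using hcov
  set π := (Nat.card G).primeFactors.erase p with hπ
  set k := π.card with hk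
  have hk2 : 2 * k + 1 ≤ p := by
    have h1 : ∏ s ∈ π, s ∣ p - 1 := by
      refine Finset.prod_primes_dvd _ (fun s hs => ?_) fun s hs => ?_
      · rw [hπ, Finset.mem_erase, Nat.mem_primeFactors] at hs
        exact Nat.prime_iff.mp hs.2.1
      · rw [hπ, Finset.mem_erase, Nat.mem_primeFactors] at hs
        exact hG.hyp.dvd_sub_one hs.2.1 hs.1 hs.2.2.1
    have h2 : 2 ^ k ≤ ∏ s ∈ π, s := Finset.pow_card_le_prod _ _ _ fun s hs => by
      rw [hπ, Finset.mem_erase, Nat.mem_primeFactors] at hs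
      exact hs.2.1.two_le
    have h5 := hG.five
    have := (two_mul_le_two_pow k).trans (h2.trans (Nat.le_of_dvd (by omega) h1))
    omega
  have hE : {x : G | ¬ p ∣ orderOf x}.ncard * p ≤ p + k * Nat.card G := by
    have hsub : {x : G | ¬ p ∣ orderOf x} ⊆ insert 1 (⋃ s ∈ π, X s) := fun x hx => by
      by_cases hx1 : x = 1
      · exact Or.inl hx1
      · obtain ⟨s, hs, hsd⟩ := Nat.exists_prime_and_dvd (fun h => hx1 (orderOf_eq_one_iff.mp h))
        have hsπ : s ∈ π := Finset.mem_erase.mpr ⟨fun e => hx (e ▸ hsd), Nat.mem_primeFactors.mpr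
          ⟨hs, hsd.trans (orderOf_dvd_natCard x), Nat.card_pos.ne'⟩⟩
        exact Or.inr (Set.mem_biUnion hsπ (hX2 s hsπ x hx hsd))
    have h1 : {x : G | ¬ p ∣ orderOf x}.ncard ≤ (∑ s ∈ π, (X s).ncard) + 1 :=
      (Set.ncard_le_ncard hsub (Set.toFinite _)).trans ((Set.ncard_insert_le _ _).trans
        (Nat.add_le_add_right (Finset.set_ncard_biUnion_le _ _) 1))
    calc _ ≤ ((∑ s ∈ π, (X s).ncard) + 1) * p := Nat.mul_le_mul_right p h1
      _ = (∑ s ∈ π, (X s).ncard * p) + p := by rw [add_mul, one_mul, Finset.sum_mul]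
      _ ≤ (∑ _s ∈ π, Nat.card G) + p := Nat.add_le_add_right (Finset.sum_le_sum fun s hs => hX1 s hs) p
      _ = p + k * Nat.card G := by rw [Finset.sum_const, smul_eq_mul, hk, add_comm]
  obtain ⟨P⟩ : Nonempty (Sylow p G) := inferInstance
  have hPN : 2 * Nat.card (P : Subgroup G) ≤
      Nat.card (Subgroup.normalizer ((P : Subgroup G) : Set G)) := by
    obtain ⟨c, hc⟩ := Subgroup.card_dvd_of_le (Subgroup.le_normalizer (H := (P : Subgroup G)))
    have hc2 : 2 ≤ c := by
      by_contra hlt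
      obtain rfl | rfl : c = 0 ∨ c = 1 := by omega
      · exact Nat.card_pos.ne' (hc.trans (mul_zero _))
      · have he : (P : Subgroup G) = Subgroup.normalizer ((P : Subgroup G) : Set G) :=
          Subgroup.eq_of_le_of_card_ge Subgroup.le_normalizer (by rw [hc, mul_one])
        have h1 := hG.le_of_control P (hG.ne_top_of_isPGroup P.2)
          (M := (P : Subgroup G)) (N := ⊥) ((hG.normalizer_zj_le P).trans he.ge) bot_le
          (by rw [Subgroup.normalizer_eq_top_iff.mpr inferInstance]; exact le_top)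
          (fun K hK hKp => ((Subgroup.eq_bot_iff_forall K).mpr fun x hx =>
            Transfer.eq_one_of_isPGroup_of_coprime P.2 (hK hx)
              (Transfer.coprime_orderOf_of_mem (coprime_of_not_dvd hKp) hx)).le)
        exact P.ne_bot_of_dvd_card hG.dvd_card (le_bot_iff.mp h1)
    rw [hc, mul_comm]
    exact Nat.mul_le_mul_left _ hc2
  have hn : 2 * (Nat.card (Sylow p G) * Nat.card (P : Subgroup G)) ≤ Nat.card G := by
    have e : Nat.card (Sylow p G) = (Subgroup.normalizer ((P : Subgroup G) : Set G)).index :=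
      P.card_eq_index_normalizer
    rw [← (Subgroup.normalizer ((P : Subgroup G) : Set G)).index_mul_card, ← e, mul_left_comm]
    exact Nat.mul_le_mul_left _ hPN
  have h1 := hG.card_le P
  have h7 : 1 ≤ Nat.card (Sylow p G) := Nat.card_pos
  have h8 : 1 ≤ Nat.card G := Nat.card_pos
  have h9 : Nat.card G + 2 * Nat.card (Sylow p G) ≤ 2 * {x : G | ¬ p ∣ orderOf x}.ncard := by omega
  have h10 := Nat.mul_le_mul_right p h9
  nlinarith [h10, hE, Nat.mul_le_mul_right (Nat.card G) hk2, Nat.mul_le_mul_right p h7]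

end Cfsg.Agent.Lib.FusionControl.PPrimeAbelian
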