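import Cfsg.Agent.Lib.FusionControl.PPrimeAbelian
import Cfsg.Agent.Lib.Components.Signalizer
import Mathlib.GroupTheory.Transfer

/-!
# Groups all of whose subgroups of order prime to `p` are abelian: the local subgroup

For a simple minimal example and a maximal subgroup `H` of order prime to `p` containing a Sylow
subgroup, a proper subgroup containing the centralisers of the nontrivial elements of `H`.
-/

set_option autoImplicit false
set_option linter.style.haveILetI false

universe u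

namespace Cfsg.Agent.Lib.FusionControl.PPrimeAbelian

open Cfsg.Agent.Lib
open scoped Pointwise IsMulCommutative

variable {G : Type u} [Group G] {p : ℕ}

/-- A minimal example: simple, nonabelian, with solvable proper subgroups. -/
structure Min (p : ℕ) (G : Type u) [Group G] : Prop where
  five : 5 ≤ p
  hyp : Hyp p G
  simple : IsSimpleGroup G
  perfect : commutator G = ⊤
  sol : ∀ L : Subgroup G, L ≠ ⊤ → Group.IsSolvable ↥L

theorem Min.not_solvable (hG : Min p G) : ¬ Group.IsSolvable G := fun h => by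
  haveI := hG.simple
  haveI : Nontrivial G := IsSimpleGroup.toNontrivial
  exact (Group.IsSolvable.commutator_lt_top_of_nontrivial G).ne hG.perfect

theorem Min.ne_top (hG : Min p G) {X : Subgroup G} (hX : Group.IsSolvable ↥X) : X ≠ ⊤ := by
  rintro rfl
  exact hG.not_solvable (Group.isSolvable_of_surjective (f := (Subgroup.topEquiv (G := G)).toMonoidHom)
    Subgroup.topEquiv.surjective)

theorem Min.ne_top_of_comm (hG : Min p G) {X : Subgroup G} (hX : IsMulCommutative ↥X) : X ≠ ⊤ :=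
  hG.ne_top (Coprime.isSolvable_of_isMulCommutative X)

theorem Min.ne_top_of_isPGroup [Fact p.Prime] [Finite G] (hG : Min p G) {X : Subgroup G}
    (hX : IsPGroup p X) : X ≠ ⊤ := by
  haveI := hX.isNilpotent
  exact hG.ne_top inferInstance

theorem Min.normalizer_ne_top (hG : Min p G) {X : Subgroup G} (h1 : X ≠ ⊥) (h2 : X ≠ ⊤) :
    Subgroup.normalizer (X : Set G) ≠ ⊤ := fun h => by
  haveI := hG.simple
  rcases IsSimpleGroup.eq_bot_or_eq_top_of_normal X (Subgroup.normalizer_eq_top_iff.mp h) with e | e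
  exacts [h1 e, h2 e]

theorem Min.centralizer_ne_top (hG : Min p G) {h : G} (h1 : h ≠ 1) :
    Subgroup.centralizer ({h} : Set G) ≠ ⊤ := fun e => by
  haveI := hG.simple
  have hc : h ∈ Subgroup.center G := Subgroup.mem_center_iff.mpr fun g =>
    Subgroup.mem_centralizer_singleton_iff.mp (e ▸ Subgroup.mem_top g)
  rcases IsSimpleGroup.eq_bot_or_eq_top_of_normal (Subgroup.center G) inferInstance with e | e
  · exact h1 (by rw [e] at hc; exact hc)
  · refine hG.ne_top_of_comm (X := Subgroup.center G) inferInstance e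

theorem Min.sylow_comm [Fact p.Prime] [Finite G] (hG : Min p G) {r : ℕ} [Fact r.Prime] (hrp : r ≠ p)
    (R : Sylow r G) : IsMulCommutative ↥(R : Subgroup G) :=
  hG.hyp.isMulCommutative (not_dvd_of_isPGroup R.2 hrp)

/-- An element of an abelian Sylow subgroup central in its normaliser is trivial. -/
theorem Min.eq_one_of_central [Finite G] (hG : Min p G) {r : ℕ} [Fact r.Prime] (R : Sylow r G)
    [IsMulCommutative ↥(R : Subgroup G)] {y : G} (hy : y ∈ (R : Subgroup G))
    (h : ∀ n ∈ Subgroup.normalizer ((R : Subgroup G) : Set G), n * y = y * n) : y = 1 := by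
  let V : G →* ↥(R : Subgroup G) := MonoidHom.transfer (MonoidHom.id ↥(R : Subgroup G))
  have key : ∀ (k : ℕ) (g₀ : G), g₀⁻¹ * y ^ k * g₀ ∈ (R : Subgroup G) →
      g₀⁻¹ * y ^ k * g₀ = y ^ k := fun k g₀ hk => by
    obtain ⟨n, hn, hne⟩ := R.conj_eq_normalizer_conj_of_mem (y ^ k) g₀ (pow_mem hy k) hk
    have hc : Commute n (y ^ k) := (show Commute n y from h n hn).pow_right k
    rw [hne, mul_assoc, ← hc.eq, inv_mul_cancel_left]
  have hV : V y = 1 := Abelianization.commutator_subset_ker V (by rw [hG.perfect]; trivial)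
  have h1 : y ^ (R : Subgroup G).index = 1 := by
    have h2 := (MonoidHom.transfer_eq_pow (MonoidHom.id ↥(R : Subgroup G)) y key).symm.trans hV
    simpa using congrArg Subtype.val h2
  obtain ⟨k, hk⟩ := R.2 ⟨y, hy⟩
  have hk' : y ^ r ^ k = 1 := by simpa using congrArg Subtype.val hk
  have h3 := pow_gcd_eq_one.mpr ⟨hk', h1⟩
  rwa [show Nat.gcd (r ^ k) (R : Subgroup G).index = 1 from
    ((Nat.Prime.coprime_iff_not_dvd Fact.out).mpr R.not_dvd_index).pow_left k, pow_one] at h3

/-- A Sylow `p`-subgroup of `N(R)` fixes no nontrivial element of `R`. -/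
theorem Min.eq_one_of_fixed [hp : Fact p.Prime] [Finite G] (hG : Min p G) {r : ℕ} [Fact r.Prime]
    (hrp : r ≠ p) (R : Sylow r G) {Q : Subgroup G}
    (hQN : Q ≤ Subgroup.normalizer ((R : Subgroup G) : Set G))
    (hQi : ¬ p ∣ Q.relIndex (Subgroup.normalizer ((R : Subgroup G) : Set G))) {y : G}
    (hy : y ∈ (R : Subgroup G)) (h : ∀ q ∈ Q, q * y = y * q) : y = 1 := by
  haveI := hG.sylow_comm hrp R
  by_contra hy1
  have hRb : (R : Subgroup G) ≠ ⊥ := fun e => hy1 (by simpa [e] using hy)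
  set N := Subgroup.normalizer ((R : Subgroup G) : Set G) with hN
  haveI := hG.sol N (hG.normalizer_ne_top hRb (hG.ne_top_of_comm inferInstance))
  refine hy1 (hG.eq_one_of_central R hy fun n hn => ?_)
  suffices hle : N ≤ Subgroup.centralizer ({y} : Set G) from
    Subgroup.mem_centralizer_singleton_iff.mp (hle hn)
  refine le_of_sylows fun s hs hsd => ?_
  by_cases hsp : s = p
  · subst hsp
    exact ⟨Q, fun q hq => Subgroup.mem_centralizer_singleton_iff.mpr (h q hq), hQN, hQi⟩
  · have := Fact.mk hs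
    obtain ⟨S, -, hSN, hS, hSi⟩ := exists_sylow_in s N (Q := ⊥) bot_le IsPGroup.of_bot
    obtain ⟨F, hF, hRF⟩ := exists_dom_ge (p := p) (L := N) (B := (R : Subgroup G))
      Subgroup.le_normalizer (not_dvd_of_isPGroup R.2 hrp)
    obtain ⟨g, hg, hle⟩ := hF.2.2 S hSN (not_dvd_of_isPGroup hS hsp)
    refine ⟨S, fun x hx => Subgroup.mem_centralizer_singleton_iff.mpr ?_, hSN, hSi⟩
    refine hG.hyp.comm (H := cj g F) (by rw [card_cj]; exact hF.2.1) (hle hx) ?_
    exact cj_le_cj hRF (by rw [mem_normalizer_iff_cj.mp hg]; exact hy)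

/-! ## The elements of order `s` of an abelian subgroup -/

/-- The subgroup of the elements of `H` with trivial `s`-th power, for abelian `H`. -/
def om (s : ℕ) (H : Subgroup G) : Subgroup G := Subgroup.closure {x | x ∈ H ∧ x ^ s = 1}

theorem om_le (s : ℕ) (H : Subgroup G) : om s H ≤ H := (Subgroup.closure_le H).mpr fun _ h => h.1

theorem mem_om {s : ℕ} {H : Subgroup G} [IsMulCommutative ↥H] {x : G} :
    x ∈ om s H ↔ x ∈ H ∧ x ^ s = 1 := by
  refine ⟨fun h => ?_, fun h => Subgroup.subset_closure h⟩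
  induction h using Subgroup.closure_induction with
  | mem x hx => exact hx
  | one => exact ⟨one_mem _, one_pow _⟩
  | mul x y _ _ hx hy =>
    have hc : Commute x y := congrArg Subtype.val (mul_comm (⟨x, hx.1⟩ : ↥H) ⟨y, hy.1⟩)
    exact ⟨mul_mem hx.1 hy.1, by rw [hc.mul_pow, hx.2, hy.2, one_mul]⟩
  | inv x _ hx => exact ⟨inv_mem hx.1, by rw [inv_pow, hx.2, inv_one]⟩

theorem elemAb_om (s : ℕ) (H : Subgroup G) [IsMulCommutative ↥H] :
    Cfsg.IsElementaryAbelian s (om s H) :=
  ⟨⟨⟨fun a b => Subtype.ext (congrArg Subtype.val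
      (mul_comm (⟨a, om_le s H a.2⟩ : ↥H) ⟨b, om_le s H b.2⟩) :)⟩⟩, fun _ ha => (mem_om.mp ha).2⟩

theorem conj_mem_om {s : ℕ} {H : Subgroup G} [IsMulCommutative ↥H] {g x : G}
    (hg : g * x * g⁻¹ ∈ H) (hx : x ∈ om s H) : g * x * g⁻¹ ∈ om s H := by
  refine mem_om.mpr ⟨hg, ?_⟩
  rw [conj_pow, (mem_om.mp hx).2, mul_one, mul_inv_cancel]

theorem normalizer_le_normalizer_om [Finite G] (s : ℕ) (H : Subgroup G) [IsMulCommutative ↥H] :
    Subgroup.normalizer (H : Set G) ≤ Subgroup.normalizer (om s H : Set G) := fun g hg =>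
  mem_normalizer_of_cj_le (cj_le_iff.2 fun x hx =>
    conj_mem_om ((Subgroup.mem_normalizer_iff.mp hg x).mp (om_le s H hx)) hx)

/-- `R` contains the `r`-elements of an abelian subgroup containing it. -/
theorem mem_sylow_of_pow {r : ℕ} (R : Sylow r G) {H : Subgroup G} [IsMulCommutative ↥H]
    (hRH : (R : Subgroup G) ≤ H) {x : G} (hx : x ∈ H) {k : ℕ} (hk : x ^ r ^ k = 1) :
    x ∈ (R : Subgroup G) := by
  have hz : IsPGroup r (Subgroup.zpowers x) := by
    rintro ⟨z, hz⟩
    obtain ⟨i, rfl⟩ := hz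
    refine ⟨k, Subtype.ext ?_⟩
    simp only [SubgroupClass.coe_pow, Subgroup.coe_one]
    rw [← zpow_natCast, ← zpow_mul, mul_comm, zpow_mul, zpow_natCast, hk, one_zpow]
  have hn : Subgroup.zpowers x ≤ Subgroup.normalizer ((R : Subgroup G) : Set G) :=
    (Subgroup.zpowers_le.mpr hx).trans fun h hh => Subgroup.mem_normalizer_iff.mpr fun y => by
      refine ⟨fun hy => ?_, fun hy => ?_⟩
      · have hc : h * y = y * h := congrArg Subtype.val (mul_comm (⟨h, hh⟩ : ↥H) ⟨y, hRH hy⟩)
        rwa [hc, mul_inv_cancel_right]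
      · have hc : h * (h * y * h⁻¹) = (h * y * h⁻¹) * h :=
          congrArg Subtype.val (mul_comm (⟨h, hh⟩ : ↥H) ⟨_, hRH hy⟩)
        have : y = h * y * h⁻¹ := by
          calc y = h⁻¹ * ((h * y * h⁻¹) * h) := by group
            _ = h⁻¹ * (h * (h * y * h⁻¹)) := by rw [hc]
            _ = h * y * h⁻¹ := by group
        rw [this]; exact hy
  have := R.is_maximal' (hz.to_sup_of_normal_right' R.2 hn) le_sup_right
  rw [← this]
  exact Subgroup.mem_sup_left (Subgroup.mem_zpowers x)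

theorem exists_order_mem [Finite G] {r : ℕ} [hr : Fact r.Prime] (hrd : r ∣ Nat.card G)
    (R : Sylow r G) : ∃ x ∈ (R : Subgroup G), x ^ r = 1 ∧ x ≠ 1 := by
  obtain ⟨x, hx⟩ := exists_prime_orderOf_dvd_card' (G := ↥(R : Subgroup G)) r
    (R.dvd_card_of_dvd_card hrd)
  refine ⟨x, x.2, ?_, fun h => ?_⟩
  · simpa [hx] using congrArg Subtype.val (pow_orderOf_eq_one x)
  · rw [← Subgroup.orderOf_coe, h, orderOf_one] at hx
    exact hr.out.one_lt.ne hx

/-- A nontrivial `r`-group with a `p`-group of operators without fixed points has rank at least 3. -/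
theorem Min.cube_le [hp : Fact p.Prime] [Finite G] (hG : Min p G) {r : ℕ} [hr : Fact r.Prime]
    (hrp : r ≠ p) {Q A : Subgroup G} (hQ : IsPGroup p Q)
    (hQA : Q ≤ Subgroup.normalizer (A : Set G)) (hA : IsPGroup r A) (hne : A ≠ ⊥)
    (h : ∀ a ∈ A, (∀ q ∈ Q, q * a * q⁻¹ = a) → a = 1) : r ^ 3 ≤ Nat.card A := by
  obtain ⟨k, hk⟩ := IsPGroup.iff_card.mp hA
  have hk0 : k ≠ 0 := fun h0 => hne (Subgroup.card_eq_one.mp (by rw [hk, h0, pow_zero]))
  have hd : r ∣ Nat.card G := (hk ▸ dvd_pow_self r hk0).trans A.card_subgroup_dvd_card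
  have hlt := hG.hyp.lt hr.out hrp hd
  have h1 : Nat.card A ≡ 1 [MOD p] := card_modEq_one hQ hQA h
  have h2 := hr.out.two_le
  have hdvd := (Nat.modEq_iff_dvd' (Nat.one_le_pow k r hr.out.pos)).mp (hk ▸ h1).symm
  rw [hk]
  refine Nat.pow_le_pow_right hr.out.pos ?_
  by_contra hk3
  interval_cases k
  · omega
  · rw [pow_one] at hdvd
    have := Nat.le_of_dvd (by omega) hdvd
    omega
  · have e : r ^ 2 - 1 = (r + 1) * (r - 1) := by
      rw [← Nat.sq_sub_sq, one_pow]
    rw [e] at hdvd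
    rcases hp.out.dvd_mul.mp hdvd with hd' | hd'
    · have := Nat.le_of_dvd (by omega) hd'
      have hpr : p = r + 1 := by omega
      have h5 := hG.five
      have hodd := hp.out.odd_of_ne_two (by omega)
      have hr2 : r ≠ 2 := by omega
      have := hr.out.odd_of_ne_two hr2
      rw [hpr] at hodd
      rw [Nat.odd_iff] at this hodd
      omega
    · have := Nat.le_of_dvd (by omega) hd'
      omega

theorem cj_centralizer_singleton (g a : G) :
    cj g (Subgroup.centralizer ({a} : Set G)) = Subgroup.centralizer ({g * a * g⁻¹} : Set G) := by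
  ext x
  rw [mem_cj, Subgroup.mem_centralizer_singleton_iff, Subgroup.mem_centralizer_singleton_iff]
  constructor <;> intro h
  · calc x * (g * a * g⁻¹) = g * ((g⁻¹ * x * g) * a) * g⁻¹ := by group
      _ = g * (a * (g⁻¹ * x * g)) * g⁻¹ := by rw [h]
      _ = _ := by group
  · calc g⁻¹ * x * g * a = g⁻¹ * (x * (g * a * g⁻¹)) * g := by group
      _ = g⁻¹ * ((g * a * g⁻¹) * x) * g := by rw [h]
      _ = _ := by group

theorem le_centralizer_singleton {H : Subgroup G} [IsMulCommutative ↥H] {h : G} (hh : h ∈ H) :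
    H ≤ Subgroup.centralizer ({h} : Set G) := fun x hx =>
  Subgroup.mem_centralizer_singleton_iff.mpr
    (congrArg Subtype.val (mul_comm (⟨x, hx⟩ : ↥H) ⟨h, hh⟩))

/-- A proper subgroup containing the normaliser of `H` and the centralisers of its nontrivial
elements. -/
def Good (H M : Subgroup G) : Prop :=
  M ≠ ⊤ ∧ Subgroup.normalizer (H : Set G) ≤ M ∧
    ∀ h ∈ H, h ≠ 1 → Subgroup.centralizer ({h} : Set G) ≤ M

/-- Existence of the proper subgroup, by the signalizer functor `O_p(C(a))`. -/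
theorem Min.exists_good [hp : Fact p.Prime] [Finite G] (hG : Min p G) {r : ℕ} [hr : Fact r.Prime]
    (hrp : r ≠ p) (hrd : r ∣ Nat.card G) (R : Sylow r G) {H : Subgroup G}
    (hRH : (R : Subgroup G) ≤ H) (hH : IsMaxPrime p H) : ∃ M, Good H M := by
  haveI : IsMulCommutative ↥H := hG.hyp.isMulCommutative hH.1
  set A := om r H with hAdef
  have hA : Cfsg.IsElementaryAbelian r A := elemAb_om r H
  have hAH : A ≤ H := om_le r H
  have hAR : A ≤ (R : Subgroup G) := fun x hx =>
    mem_sylow_of_pow R hRH (hAH hx) (k := 1) (by rw [pow_one]; exact (mem_om.mp hx).2)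
  obtain ⟨a0, ha0R, ha0p, ha01⟩ := exists_order_mem hrd R
  have ha0 : a0 ∈ A := mem_om.mpr ⟨hRH ha0R, ha0p⟩
  have hAr : IsPGroup r A := R.2.to_le hAR
  have hA3 : r ^ 3 ≤ Nat.card ↥A := by
    obtain ⟨Q, -, hQN, hQ, hQi⟩ := exists_sylow_in p
      (Subgroup.normalizer ((R : Subgroup G) : Set G)) (Q := ⊥) bot_le IsPGroup.of_bot
    refine hG.cube_le hrp hQ (fun q hq => ?_) hAr
      (fun e => ha01 (by simpa [e] using ha0)) fun a ha hfix => ?_
    · exact mem_normalizer_of_cj_le (cj_le_iff.2 fun x hx => conj_mem_om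
        (hRH ((Subgroup.mem_normalizer_iff.mp (hQN hq) x).mp (hAR hx))) hx)
    · exact hG.eq_one_of_fixed hrp R hQN hQi (hAR ha) fun q hq => mul_inv_eq_iff_eq_mul.mp (hfix q hq)
  have hnc : ¬ IsCyclic ↥A := Components.elemAb_not_isCyclic hA
    (le_trans (Nat.pow_le_pow_right hr.out.pos (by norm_num)) hA3)
  have hsolC : ∀ h : G, h ≠ 1 → Group.IsSolvable ↥(Subgroup.centralizer ({h} : Set G)) := fun h h1 =>
    hG.sol _ (hG.centralizer_ne_top h1)
  have hdom : ∀ h ∈ H, h ≠ 1 → Dom p (Subgroup.centralizer ({h} : Set G)) H := fun h hh h1 => by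
    haveI := hsolC h h1
    exact hH.dom (le_centralizer_singleton hh)
  let θ : G → Subgroup G := fun a => op p (Subgroup.centralizer ({a} : Set G))
  have hθnorm : ∀ h ∈ H, ∀ a ∈ H, h ∈ Subgroup.normalizer (θ a : Set G) := fun h hh a ha =>
    le_normalizer_op _ (le_centralizer_singleton ha hh)
  have hθ : Cfsg.IsSolvableSignalizerFunctor r A θ := by
    refine ⟨⟨fun a _ _ => op_le _, fun a _ _ hd => ?_, fun a ha _ b hb x hx =>
      (Subgroup.mem_normalizer_iff.mp (hθnorm b (hAH hb) a (hAH ha)) x).mp hx, ?_⟩, fun a _ _ => ?_⟩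
    · exact not_dvd_of_isPGroup (p := r) (r := p) (isPGroup_op _) hrp.symm hd
    · rintro a ha ha1 b hb hb1 x ⟨hxa, hxb⟩
      haveI := hsolC b hb1
      obtain ⟨k, hk⟩ := isPGroup_op (p := p) _ ⟨x, hxa⟩
      refine (dom_structure (hdom b (hAH hb) hb1) inferInstance).2 x hxb
        ⟨k, by simpa using congrArg Subtype.val hk⟩ fun f hf => ?_
      refine mem_of_mem_sup ((le_centralizer_singleton (hAH hb)).trans (le_normalizer_op _)) hH.1
        (isPGroup_op (p := p) (Subgroup.centralizer ({a} : Set G))) ?_ ?_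
      · have h2 := (Subgroup.mem_normalizer_iff.mp (hθnorm f hf a (hAH ha)) x⁻¹).mp (inv_mem hxa)
        have h3 := mul_mem hxa h2
        rwa [show x * (f * x⁻¹ * f⁻¹) = x * f * x⁻¹ * f⁻¹ by group] at h3
      · exact mul_mem ((Subgroup.mem_normalizer_iff.mp
          ((dom_structure (hdom b (hAH hb) hb1) inferInstance).1 hxb) f).mp
            (Subgroup.mem_sup_right hf)) (inv_mem (Subgroup.mem_sup_right hf))
    · haveI := (isPGroup_op (p := p) (Subgroup.centralizer ({a} : Set G))).isNilpotent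
      infer_instance
  obtain ⟨W, hW0, hWmax⟩ := Components.exists_isMaxSignalizer_ge (q := p)
    (Components.theta_mem_family hθ ha0 ha01) (isPGroup_op _)
  have huniq : ∀ W' : Subgroup G, Components.IsMaxSignalizer r A θ p W' → W' = W := fun W' hW' => by
    obtain ⟨c, hc, hcW⟩ := Components.exists_conj_eq_of_isMaxSignalizer hA hθ hA3 hWmax hW'
    have hcW0 : c ∈ W := hW0 (Components.mem_signalizerInf.mp hc a0 ha0 ha01)
    rw [← hcW]
    exact mem_normalizer_iff_cj.mp (Subgroup.le_normalizer hcW0)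
  have hθW : ∀ a ∈ A, a ≠ 1 → θ a ≤ W := fun a ha ha1 => by
    obtain ⟨W', hle, hW'⟩ := Components.exists_isMaxSignalizer_ge (q := p)
      (Components.theta_mem_family hθ ha ha1) (isPGroup_op _)
    exact huniq W' hW' ▸ hle
  have hNW : Subgroup.normalizer (H : Set G) ≤ Subgroup.normalizer (W : Set G) := by
    intro g hg
    have hgA : ∀ g ∈ Subgroup.normalizer (H : Set G), ∀ a ∈ A, g * a * g⁻¹ ∈ A := fun g hg a ha =>
      (Subgroup.mem_normalizer_iff.mp (normalizer_le_normalizer_om r H hg) a).mp ha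
    have hfam : ∀ g ∈ Subgroup.normalizer (H : Set G), ∀ X ∈ Cfsg.signalizerFamily r A θ,
        cj g X ∈ Cfsg.signalizerFamily r A θ := by
      intro g hg X hX
      obtain ⟨h1, h2, h3, h4⟩ := hX
      refine ⟨?_, by rw [card_cj]; exact h2, fun b hb u hu => ?_, fun a ha ha1 x hx => ?_⟩
      · haveI := h1
        exact Group.isSolvable_of_surjective
          (f := (X.equivMapOfInjective _ (MulAut.conj g).injective).toMonoidHom) (MulEquiv.surjective _)
      · rw [mem_cj] at hu ⊢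
        have := h3 (g⁻¹ * b * g) (by simpa using hgA g⁻¹ (inv_mem hg) b hb) _ hu
        rwa [show g⁻¹ * b * g * (g⁻¹ * u * g) * (g⁻¹ * b * g)⁻¹ = g⁻¹ * (b * u * b⁻¹) * g by group]
          at this
      · have ha' : g⁻¹ * a * g ∈ A := by simpa using hgA g⁻¹ (inv_mem hg) a ha
        have ha1' : g⁻¹ * a * g ≠ 1 := fun e => ha1 (by
          calc a = g * (g⁻¹ * a * g) * g⁻¹ := by group
            _ = 1 := by rw [e]; group)
        have hxc : g⁻¹ * x * g ∈ Subgroup.centralizer ({g⁻¹ * a * g} : Set G) := by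
          have := cj_centralizer_singleton g⁻¹ a
          rw [inv_inv] at this
          rw [← this, mem_cj]
          simpa [mul_assoc] using hx.2
        have h5 : g⁻¹ * x * g ∈ θ (g⁻¹ * a * g) := h4 _ ha' ha1' ⟨mem_cj.mp hx.1, hxc⟩
        have h6 : x ∈ cj g (θ (g⁻¹ * a * g)) := mem_cj.mpr h5
        simp only [θ, cj_op, cj_centralizer_singleton] at h6
        rwa [show g * (g⁻¹ * a * g) * g⁻¹ = a by group] at h6
    refine mem_normalizer_iff_cj.mpr (huniq _ ⟨hfam g hg W hWmax.1, isPGroup_cj hWmax.2.1,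
      fun X hX hXp hle => ?_⟩)
    have h1 := hWmax.2.2 _ (hfam g⁻¹ (inv_mem hg) X hX) (isPGroup_cj hXp)
      (by simpa using cj_le_cj (g := g⁻¹) hle)
    rw [← h1, cj_cj_inv]
  have ha0H : a0 ∈ H := hAH ha0
  have key : ∀ M : Subgroup G, Subgroup.normalizer (H : Set G) ≤ M → W ≤ M →
      ∀ h ∈ H, h ≠ 1 → Subgroup.centralizer ({h} : Set G) ≤ M := by
    intro M hNM hWM
    have hCa : ∀ a ∈ A, a ≠ 1 → Subgroup.centralizer ({a} : Set G) ≤ M := fun a ha ha1 g hg => by
      haveI := hsolC a ha1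
      obtain ⟨t, ht, n, -, hn, rfl⟩ := exists_mul_mem_normalizer (hdom a (hAH ha) ha1) inferInstance hg
      exact mul_mem (hWM (hθW a ha ha1 ht)) (hNM hn)
    intro h hh h1 g hg
    haveI := hsolC h h1
    haveI := hA.1
    obtain ⟨t, ht, n, -, hn, rfl⟩ := exists_mul_mem_normalizer (hdom h hh h1) inferInstance hg
    refine mul_mem ?_ (hNM hn)
    have hcop : (Nat.card ↥A).Coprime (Nat.card ↥(op p (Subgroup.centralizer ({h} : Set G)))) := by
      obtain ⟨i, hi⟩ := IsPGroup.iff_card.mp hAr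
      obtain ⟨j, hj⟩ := IsPGroup.iff_card.mp (isPGroup_op (p := p) (Subgroup.centralizer ({h} : Set G)))
      rw [hi, hj]
      exact ((Nat.coprime_primes hr.out hp.out).mpr hrp).pow i j
    rw [← Coprime.iSup_centralizer_eq (A := A) (K := op p (Subgroup.centralizer ({h} : Set G))) hnc
      ((hAH.trans (le_centralizer_singleton hh)).trans (le_normalizer_op _)) hcop] at ht
    exact (iSup₂_le fun a ha => inf_le_right.trans (hCa a ha.1 ha.2)) ht
  by_cases hWb : W = ⊥
  · have hHb : H ≠ ⊥ := fun e => ha01 (by simpa [e] using ha0H)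
    exact ⟨_, hG.normalizer_ne_top hHb (hG.ne_top_of_comm inferInstance), le_rfl,
      key _ le_rfl (hWb ▸ bot_le)⟩
  · exact ⟨_, hG.normalizer_ne_top hWb (hG.ne_top_of_isPGroup hWmax.2.1), hNW,
      key _ hNW Subgroup.le_normalizer⟩

/-- Conjugating a nontrivial element of `H` into `M` is done by `M`. -/
theorem Min.mem_of_conj [hp : Fact p.Prime] [Finite G] (hG : Min p G) {H M : Subgroup G}
    (hH : IsMaxPrime p H) (hM : Good H M) {b g : G} (hb : b ∈ H) (hb1 : b ≠ 1)
    (hgb : g * b * g⁻¹ ∈ M) : g ∈ M := by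
  haveI : IsMulCommutative ↥H := hG.hyp.isMulCommutative hH.1
  haveI := hG.sol M hM.1
  have hHM : H ≤ M := Subgroup.le_normalizer.trans hM.2.1
  have hord : ¬ p ∣ orderOf (g * b * g⁻¹) := fun hd => hH.1 (by
    rw [show orderOf (g * b * g⁻¹) = orderOf b from (MulAut.conj g).orderOf_eq b] at hd
    exact hd.trans (H.orderOf_dvd_natCard hb))
  obtain ⟨m, hm, hle⟩ := (hH.dom hHM).2.2 (Subgroup.zpowers (g * b * g⁻¹))
    (Subgroup.zpowers_le.mpr hgb) (by rw [Nat.card_zpowers]; exact hord)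
  set g' := m⁻¹ * g with hg'
  have hc : g' * b * g'⁻¹ ∈ H := by
    have := mem_cj.mp (hle (Subgroup.mem_zpowers _))
    rwa [hg', show m⁻¹ * g * b * (m⁻¹ * g)⁻¹ = m⁻¹ * (g * b * g⁻¹) * m by group]
  have hc1 : g' * b * g'⁻¹ ≠ 1 := fun e => hb1 (conj_eq_one_iff.mp e)
  haveI := hG.sol _ (hG.centralizer_ne_top hc1)
  have hle' : cj g' H ≤ Subgroup.centralizer ({g' * b * g'⁻¹} : Set G) := by
    rw [← cj_centralizer_singleton]
    exact cj_le_cj (le_centralizer_singleton hb)
  obtain ⟨u, hu, hule⟩ := (hH.dom (le_centralizer_singleton hc)).2.2 _ hle'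
    (by rw [card_cj]; exact hH.1)
  have h1 : u⁻¹ * g' ∈ M := hM.2.1 (mem_normalizer_of_cj_le (by
    have := cj_le_cj (g := u⁻¹) hule
    rwa [cj_inv_cj, cj_cj] at this))
  have h2 : g' ∈ M := by simpa using mul_mem (hM.2.2 _ hc hc1 hu) h1
  simpa [hg'] using mul_mem hm h2

/-- A proper subgroup containing a noncyclic elementary abelian subgroup of `H` lies in `M`. -/
theorem Min.le_of_noncyclic [hp : Fact p.Prime] [Finite G] (hG : Min p G) {H M : Subgroup G}
    (hH : IsMaxPrime p H) (hM : Good H M) {L B : Subgroup G} (hL : L ≠ ⊤) (hBH : B ≤ H) (hBL : B ≤ L)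
    (hB : ¬ IsCyclic ↥B) : L ≤ M := by
  haveI : IsMulCommutative ↥H := hG.hyp.isMulCommutative hH.1
  haveI := hG.sol L hL
  have hBp : ¬ p ∣ Nat.card B := fun hd => hH.1 (hd.trans (Subgroup.card_dvd_of_le hBH))
  haveI : IsMulCommutative ↥B := hG.hyp.isMulCommutative hBp
  have hTM : op p L ≤ M := by
    obtain ⟨j, hj⟩ := IsPGroup.iff_card.mp (isPGroup_op (p := p) L)
    rw [← Coprime.iSup_centralizer_eq (A := B) (K := op p L) hB (hBL.trans (le_normalizer_op L))
      (by rw [hj]; exact ((coprime_of_not_dvd hBp)).pow_right j)]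
    exact iSup₂_le fun b hb => inf_le_right.trans (hM.2.2 b (hBH hb.1) hb.2)
  obtain ⟨F, hF, hBF⟩ := exists_dom_ge (p := p) hBL hBp
  haveI : IsMulCommutative ↥F := hG.hyp.isMulCommutative hF.2.1
  obtain ⟨b, hb, hb1⟩ : ∃ b ∈ B, b ≠ 1 := by
    by_contra hne
    push Not at hne
    exact hB (by
      haveI : Subsingleton ↥B := ⟨fun x y => Subtype.ext ((hne x x.2).trans (hne y y.2).symm)⟩
      infer_instance)
  intro g hg
  obtain ⟨t, ht, n, -, hn, rfl⟩ := exists_mul_mem_normalizer hF inferInstance hg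
  refine mul_mem (hTM ht) (hG.mem_of_conj hH hM (hBH hb) hb1 ?_)
  exact hM.2.2 b (hBH hb) hb1 (le_centralizer_singleton (hBF hb)
    ((Subgroup.mem_normalizer_iff.mp hn b).mp (hBF hb)))

end Cfsg.Agent.Lib.FusionControl.PPrimeAbelian
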