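import Cfsg.Agent.Lib.FusionControl.PPrimeAbelianLocal
import Cfsg.Agent.Lib.FusionControl.Section
import Cfsg.Agent.Lib.PLocal.ZJElem
import Cfsg.Agent.Lib.PLocal.NoSLTwo
import Cfsg.Agent.Lib.OddLocal.PStable
import Cfsg.Agent.S0118
import Mathlib.GroupTheory.Focal

/-!
# Groups all of whose subgroups of order prime to `p` are abelian: `M = N(H)`

The normaliser of `Z(J(P))` controls fusion, so no proper subgroup containing `N(P)` has a
nontrivial abelian `p`-quotient; consequently a maximal subgroup of order prime to `p` containing a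
Sylow subgroup is normal in its local subgroup.
-/

set_option autoImplicit false
set_option linter.style.haveILetI false
set_option linter.unusedSectionVars false

universe u

namespace Cfsg.Agent.Lib.FusionControl.PPrimeAbelian

open Cfsg.Agent.Lib
open scoped Pointwise commutatorElement

variable {G : Type u} [Group G] {p : ℕ} [hp : Fact p.Prime] [Finite G]

theorem Min.dvd_card (hG : Min p G) : p ∣ Nat.card G := by
  by_contra hd
  have h1 : ¬ p ∣ Nat.card (⊤ : Subgroup G) := by rwa [Subgroup.card_top]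
  exact hG.ne_top_of_comm (hG.hyp.isMulCommutative h1) rfl

theorem centerThompsonOf_ne_bot {Q : Subgroup G} (hQ : IsPGroup p Q) (hne : Q ≠ ⊥) :
    Cfsg.centerThompsonOf p Q ≠ ⊥ := by
  haveI : Nontrivial ↥Q := (Subgroup.nontrivial_iff_ne_bot Q).mpr hne
  rw [← PLocal.inducedFunctor_zjE, Cfsg.inducedFunctor]
  exact fun h => (PLocal.isCharPFunctor_zjE (p := p)).1 ↥Q hQ inferInstance
    ((Subgroup.map_eq_bot_iff_of_injective _ Q.subtype_injective).mp h)

theorem normalizer_le_normalizer_centerThompsonOf (Q : Subgroup G) :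
    Subgroup.normalizer (Q : Set G) ≤
      Subgroup.normalizer ((Cfsg.centerThompsonOf p Q : Subgroup G) : Set G) := by
  rw [PLocal.centerThompsonOf_eq_jZ]
  exact OddLocal.normalizer_le_normalizer_jZ p Q

theorem centerThompsonOf_le (Q : Subgroup G) : Cfsg.centerThompsonOf p Q ≤ Q := by
  rw [← PLocal.inducedFunctor_zjE]
  exact Subgroup.map_subtype_le _

theorem Min.normalizer_centerThompsonOf_ne_top (hG : Min p G) {Q : Subgroup G}
    (hQ : IsPGroup p Q) (hne : Q ≠ ⊥) :
    Subgroup.normalizer ((Cfsg.centerThompsonOf p Q : Subgroup G) : Set G) ≠ ⊤ :=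
  hG.normalizer_ne_top (centerThompsonOf_ne_bot hQ hne)
    (hG.ne_top_of_isPGroup (hQ.to_le (centerThompsonOf_le Q)))

theorem Min.noSLTwo (hG : Min p G) : PLocal.NoSLTwo p G := by
  have hp2 : p ≠ 2 := by have := hG.five; omega
  haveI : Fact (Nat.Prime 2) := ⟨Nat.prime_two⟩
  exact PLocal.noSLTwo_of_abelian_sylow hp2 fun T => hG.sylow_comm hp2.symm T

/-- The focal subgroup argument: a proper subgroup controlling fusion has no nontrivial
`p`-quotient. -/
theorem Min.le_of_control (hG : Min p G) (P : Sylow p G) {M N : Subgroup G} (hM : M ≠ ⊤)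
    (hL : Subgroup.normalizer ((Cfsg.centerThompsonOf p (P : Subgroup G) : Subgroup G) : Set G) ≤ M)
    (hNM : N ≤ M) (hMN : M ≤ Subgroup.normalizer (N : Set G))
    (hN : ∀ K : Subgroup G, K ≤ M → ¬ p ∣ Nat.card K → K ≤ N) : M ≤ N := by
  have hp2 : p ≠ 2 := by have := hG.five; omega
  have hfree : ¬ ∃ (H K : Subgroup G) (_ : (K.subgroupOf H).Normal),
      Nonempty ((H ⧸ K.subgroupOf H) ≃* Matrix.SpecialLinearGroup (Fin 2) (ZMod p)) := by
    rintro ⟨H, K, hK, ⟨e⟩⟩
    exact hG.noSLTwo H (e.toMonoidHom.comp (QuotientGroup.mk' (K.subgroupOf H)))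
      (e.surjective.comp (QuotientGroup.mk'_surjective _))
  have hPM : (P : Subgroup G) ≤ M :=
    (Subgroup.le_normalizer.trans (normalizer_le_normalizer_centerThompsonOf _)).trans hL
  have hP : (P : Subgroup G) ≤ ⁅M, M⁆ := by
    calc (P : Subgroup G) = commutator G ⊓ (P : Subgroup G) := by rw [hG.perfect, top_inf_eq]
      _ = Subgroup.focalSubgroup (P : Subgroup G) := Subgroup.commutator_inf_eq_focalSubgroup P
      _ ≤ _ := by
        rw [Subgroup.focalSubgroup_def, Subgroup.closure_le]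
        rintro _ ⟨hgP, x, hx, u, rfl⟩
        have h1 : u * x⁻¹ * u⁻¹ ∈ (P : Subgroup G) := by
          have := mul_mem (inv_mem hx) hgP
          rwa [commutatorElement_def, show x⁻¹ * (x * u * x⁻¹ * u⁻¹) = u * x⁻¹ * u⁻¹ by group] at this
        obtain ⟨n, hn, hne⟩ := Cfsg.Agent.S0118.result hp2 hfree P ({x} : Set G)
          (Set.singleton_subset_iff.mpr hx) u⁻¹ (by
            rw [Set.image_singleton, Set.singleton_subset_iff, inv_inv]
            have := inv_mem h1
            rwa [show (u * x⁻¹ * u⁻¹)⁻¹ = u * x * u⁻¹ by group] at this)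
        have h2 := hne x rfl
        rw [inv_inv] at h2
        have h3 := Subgroup.commutator_mem_commutator (hPM hx) (inv_mem (hL hn))
        rw [commutatorElement_def, inv_inv, show x * n⁻¹ * x⁻¹ * n = x * (n⁻¹ * x * n)⁻¹ by group,
          h2] at h3
        rw [SetLike.mem_coe, commutatorElement_def]
        rwa [show x * (u * x * u⁻¹)⁻¹ = x * u * x⁻¹ * u⁻¹ by group] at h3
  have hsup : M ≤ ⁅M, M⁆ ⊔ N := le_of_sylows fun s hs _ => by
    by_cases hsp : s = p
    · subst hsp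
      exact ⟨P, hP.trans le_sup_left, hPM, not_dvd_relIndex_of_le P hPM⟩
    · have := Fact.mk hs
      obtain ⟨S, -, hSM, hS, hSi⟩ := exists_sylow_in s M (Q := ⊥) bot_le IsPGroup.of_bot
      exact ⟨S, (hN S hSM (not_dvd_of_isPGroup hS hsp)).trans le_sup_right, hSM, hSi⟩
  haveI := hG.sol M hM
  haveI hn : (N.subgroupOf M).Normal := (Subgroup.normal_subgroupOf_iff_le_normalizer hNM).mpr hMN
  set f := QuotientGroup.mk' (N.subgroupOf M) with hf
  have htop : commutator ↥M ⊔ N.subgroupOf M = ⊤ := by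
    apply Subgroup.map_injective M.subtype_injective
    rw [Subgroup.map_sup, Subgroup.map_subtype_commutator, Subgroup.map_subgroupOf_eq_of_le hNM,
      ← MonoidHom.range_eq_map, Subgroup.range_subtype]
    exact le_antisymm (sup_le (Subgroup.commutator_le_self M) hNM) hsup
  have hcomm : commutator (↥M ⧸ N.subgroupOf M) = ⊤ := by
    have := congrArg (Subgroup.map f) htop
    rw [Subgroup.map_sup, hf, QuotientGroup.map_mk'_self, sup_bot_eq, commutator_def,
      Subgroup.map_commutator, Subgroup.map_top_of_surjective _ (QuotientGroup.mk'_surjective _)]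
      at this
    exact this
  haveI : Group.IsSolvable (↥M ⧸ N.subgroupOf M) :=
    Group.isSolvable_of_surjective (QuotientGroup.mk'_surjective (N.subgroupOf M))
  intro x hx
  by_contra hxN
  haveI : Nontrivial (↥M ⧸ N.subgroupOf M) :=
    ⟨f ⟨x, hx⟩, 1, fun e => hxN ((QuotientGroup.eq_one_iff (N := N.subgroupOf M) _).mp e)⟩
  exact (Group.IsSolvable.commutator_lt_top_of_nontrivial _).ne hcomm

/-- The normaliser of `Z(J(P))` lies in the normaliser of `P`. -/
theorem Min.normalizer_zj_le (hG : Min p G) (P : Sylow p G) :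
    Subgroup.normalizer ((Cfsg.centerThompsonOf p (P : Subgroup G) : Subgroup G) : Set G) ≤
      Subgroup.normalizer ((P : Subgroup G) : Set G) := by
  set L := Subgroup.normalizer ((Cfsg.centerThompsonOf p (P : Subgroup G) : Subgroup G) : Set G) with hLdef
  have hPb : (P : Subgroup G) ≠ ⊥ := P.ne_bot_of_dvd_card hG.dvd_card
  have hL : L ≠ ⊤ := hG.normalizer_centerThompsonOf_ne_top P.2 hPb
  haveI := hG.sol L hL
  obtain ⟨F, hF⟩ := exists_dom (p := p) L
  haveI : IsMulCommutative ↥F := hG.hyp.isMulCommutative hF.2.1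
  have hFT : F ≤ Subgroup.normalizer (op p L : Set G) := hF.1.trans (le_normalizer_op L)
  have hLN : L ≤ op p L ⊔ F :=
    hG.le_of_control P hL le_rfl (sup_le (op_le L) hF.1) (dom_structure hF inferInstance).1
      fun K hK hKp => le_op_sup hF inferInstance hK hKp
  have hPL : (P : Subgroup G) ≤ L :=
    Subgroup.le_normalizer.trans (normalizer_le_normalizer_centerThompsonOf _)
  have hPT : (P : Subgroup G) ≤ op p L := fun x hx =>
    mem_of_mem_sup hFT hF.2.1 P.2 hx (hLN (hPL hx))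
  rw [← P.is_maximal' (isPGroup_op L) hPT]
  exact le_normalizer_op L

/-- No local subgroup contains the normaliser of a Sylow `p`-subgroup. -/
theorem Min.not_normalizer_le (hG : Min p G) {r : ℕ} [Fact r.Prime] (hrp : r ≠ p)
    (hrd : r ∣ Nat.card G) (R : Sylow r G) {H M : Subgroup G} (hRH : (R : Subgroup G) ≤ H)
    (hH : IsMaxPrime p H) (hM : Good H M) (P : Sylow p G) :
    ¬ Subgroup.normalizer ((P : Subgroup G) : Set G) ≤ M := by
  intro hP
  haveI := hG.sol M hM.1
  haveI : IsMulCommutative ↥H := hG.hyp.isMulCommutative hH.1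
  haveI := hG.sylow_comm hrp R
  have hHM : H ≤ M := Subgroup.le_normalizer.trans hM.2.1
  have hdom := hH.dom hHM
  have hMN : M ≤ op p M ⊔ H :=
    hG.le_of_control P hM.1 ((hG.normalizer_zj_le P).trans hP) (sup_le (op_le M) hHM)
      (dom_structure hdom inferInstance).1 fun K hK hKp => le_op_sup hdom inferInstance hK hKp
  obtain ⟨a, ha, -, ha1⟩ := exists_order_mem hrd R
  refine ha1 (hG.eq_one_of_central R ha fun n hn => ?_)
  have hnM : n ∈ M := hG.mem_of_conj hH hM (hRH ha) ha1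
    (hHM (hRH ((Subgroup.mem_normalizer_iff.mp hn a).mp ha)))
  have hn' := hMN hnM
  rw [sup_comm, ← SetLike.mem_coe, Subgroup.coe_mul_of_left_le_normalizer_right H (op p M)
    (hHM.trans (le_normalizer_op M))] at hn'
  obtain ⟨h, hh, t, ht, rfl⟩ := hn'
  have hhR : h ∈ Subgroup.normalizer ((R : Subgroup G) : Set G) := Subgroup.mem_normalizer_iff.mpr
    fun y => by
      constructor <;> intro hy
      · rwa [show h * y = y * h from hG.hyp.comm hH.1 hh (hRH hy), mul_inv_cancel_right]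
      · have hc : h * (h * y * h⁻¹) = (h * y * h⁻¹) * h := hG.hyp.comm hH.1 hh (hRH hy)
        have : y = h * y * h⁻¹ := by
          calc y = h⁻¹ * ((h * y * h⁻¹) * h) := by group
            _ = h⁻¹ * (h * (h * y * h⁻¹)) := by rw [hc]
            _ = h * y * h⁻¹ := by group
        rw [this]; exact hy
  have htR : t ∈ Subgroup.normalizer ((R : Subgroup G) : Set G) := by
    simpa using mul_mem (inv_mem hhR) hn
  have h1 : t * a * t⁻¹ * a⁻¹ ∈ (R : Subgroup G) :=
    mul_mem ((Subgroup.mem_normalizer_iff.mp htR a).mp ha) (inv_mem ha)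
  have h2 : t * a * t⁻¹ * a⁻¹ ∈ op p M := by
    have := mul_mem ht ((Subgroup.mem_normalizer_iff.mp
      (le_normalizer_op M (hHM (hRH ha))) t⁻¹).mp (inv_mem ht))
    rwa [show t * (a * t⁻¹ * a⁻¹) = t * a * t⁻¹ * a⁻¹ by group] at this
  have h3 : t * a * t⁻¹ * a⁻¹ = 1 :=
    Subgroup.disjoint_def.mp (IsPGroup.disjoint_of_ne r p hrp _ _ R.2 (isPGroup_op M)) h1 h2
  have h4 : t * a = a * t := mul_inv_eq_iff_eq_mul.mp (mul_inv_eq_one.mp h3)
  show h * t * a = a * (h * t)
  rw [mul_assoc, h4, ← mul_assoc, hG.hyp.comm hH.1 hh (hRH ha), mul_assoc]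

/-- `X = O_{p'}(X) N(Z(J(Q)))` for solvable `X`. -/
theorem sup_normalizer_zj {X : Type u} [Group X] [Finite X] [Group.IsSolvable X] (hp5 : 5 ≤ p)
    (Q : Sylow p X) : Cfsg.pPrimeCore p X ⊔
      Subgroup.normalizer ((Cfsg.centerThompsonOf p (Q : Subgroup X) : Subgroup X) : Set X) = ⊤ := by
  set O := Cfsg.pPrimeCore p X with hO
  set π := QuotientGroup.mk' O with hπ
  have hπs : Function.Surjective π := QuotientGroup.mk'_surjective O
  haveI : Group.IsSolvable (X ⧸ O) := Group.isSolvable_of_surjective hπs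
  have hp2 : p ≠ 2 := by omega
  have hn : (Cfsg.centerThompsonOf p ((Q.mapSurjective hπs : Sylow p (X ⧸ O)) : Subgroup (X ⧸ O))).Normal :=
    PLocal.centerThompsonOf_normal hp2
      (OddLocal.centralizer_pCore_le (Cores.pPrimeCore_quotient_pPrimeCore p X))
      ((PLocal.noSLTwo_of_pSolvable hp5 (Characters.isPSolvable_of_isSolvable p)).normalizerPStable hp2) _
  rw [Sylow.coe_mapSurjective, ← PLocal.inducedFunctor_zjE] at hn
  rw [eq_top_iff]
  intro g _
  obtain ⟨n, hnN, hng⟩ := exists_lift_step (PLocal.isCharPFunctor_zjE (p := p)) Q (x := π g)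
    (by rw [Subgroup.normalizer_eq_top_iff.mpr hn]; exact Subgroup.mem_top _)
  rw [PLocal.inducedFunctor_zjE] at hnN
  have h1 : g * n⁻¹ ∈ O := by
    refine (QuotientGroup.eq_one_iff _).mp ?_
    show π (g * n⁻¹) = 1
    rw [map_mul, map_inv, hng, mul_inv_cancel]
  have h3 := mul_mem (Subgroup.mem_sup_left (T := Subgroup.normalizer
    ((Cfsg.centerThompsonOf p (Q : Subgroup X) : Subgroup X) : Set X)) h1) (Subgroup.mem_sup_right hnN)
  rwa [inv_mul_cancel_right] at h3

/-- An element of `p`-power order normalising a cyclic `s`-group, `s < p`, centralises it. -/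
theorem commute_of_cyclic {Y : Type*} [Group Y] [Finite Y] {s : ℕ} [hs : Fact s.Prime] (hsp : s < p)
    {C : Subgroup Y} (hC : IsPGroup s C) [IsCyclic ↥C] {q : Y}
    (hq : q ∈ Subgroup.normalizer (C : Set Y)) {k : ℕ} (hk : q ^ p ^ k = 1) {c : Y} (hc : c ∈ C) :
    q * c * q⁻¹ = c := by
  set σ := C.normalizerMonoidHom ⟨q, hq⟩ with hσ
  have h1 : σ ^ p ^ k = 1 := by
    rw [hσ, ← map_pow, show (⟨q, hq⟩ : ↥(Subgroup.normalizer (C : Set Y))) ^ p ^ k = 1 from
      Subtype.ext (by simpa using hk), map_one]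
  have h2 : σ ^ Nat.card (MulAut ↥C) = 1 := pow_card_eq_one'
  obtain ⟨j, hj⟩ := IsPGroup.iff_card.mp hC
  have h3 := pow_gcd_eq_one.mpr ⟨h1, h2⟩
  have hcop : ¬ p ∣ Nat.card (MulAut ↥C) := by
    rw [IsCyclic.card_mulAut, hj]
    rcases Nat.eq_zero_or_pos j with h0 | h0
    · rw [h0, pow_zero, Nat.totient_one]
      exact hp.out.not_dvd_one
    · rw [Nat.totient_prime_pow hs.out h0]
      intro hd
      have h2' := hs.out.two_le
      rcases hp.out.dvd_mul.mp hd with hd | hd
      · have := Nat.le_of_dvd hs.out.pos (hp.out.dvd_of_dvd_pow hd)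
        omega
      · have := Nat.le_of_dvd (by omega) hd
        omega
  rw [show Nat.gcd (p ^ k) (Nat.card (MulAut ↥C)) = 1 from
    ((Nat.Prime.coprime_iff_not_dvd hp.out).mpr hcop).pow_left k, pow_one] at h3
  exact congrArg (fun e : MulAut ↥C => ((e ⟨c, hc⟩ : ↥C) : Y)) h3

theorem Min.exists_sylow_eq (hG : Min p G) {H M : Subgroup G} (hH : IsMaxPrime p H)
    (hM : Good H M) {s : ℕ} [Fact s.Prime] (hs : s ∣ Nat.card H) :
    s ≠ p ∧ ∃ S : Sylow s G, (S : Subgroup G) ≤ H := by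
  have hsp : s ≠ p := fun e => hH.1 (e ▸ hs)
  refine ⟨hsp, ?_⟩
  haveI := hG.sol M hM.1
  have hHM : H ≤ M := Subgroup.le_normalizer.trans hM.2.1
  obtain ⟨T, -, hTH, hT, hTi⟩ := exists_sylow_in s H (Q := ⊥) bot_le IsPGroup.of_bot
  obtain ⟨b, hb, hb1⟩ : ∃ b ∈ T, b ≠ 1 := by
    by_contra hne
    push Not at hne
    rw [(Subgroup.eq_bot_iff_forall T).mpr hne, Subgroup.relIndex_bot_left] at hTi
    exact hTi hs
  obtain ⟨S, hTS⟩ := hT.exists_le_sylow
  haveI := hG.sylow_comm hsp S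
  have hSM : (S : Subgroup G) ≤ M :=
    (le_centralizer_singleton (hTS hb)).trans (hM.2.2 b (hTH hb) hb1)
  obtain ⟨m, hm, hle⟩ := (hH.dom hHM).2.2 S hSM (not_dvd_of_isPGroup S.2 hsp)
  have hle' : cj m⁻¹ (S : Subgroup G) ≤ H := by simpa using cj_le_cj (g := m⁻¹) hle
  obtain ⟨k, -, hk⟩ := exists_cj_le_of_not_dvd hTH hT hTi hle' (isPGroup_cj S.2)
  have hc := Subgroup.card_le_of_le hk
  rw [card_cj, card_cj] at hc
  exact ⟨S, by rw [← Subgroup.eq_of_le_of_card_ge hTS hc]; exact hTH⟩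

theorem Min.sylow_normalizer_le (hG : Min p G) {H M : Subgroup G} (hH : IsMaxPrime p H)
    (hM : Good H M) {s : ℕ} [Fact s.Prime] (hs : s ∣ Nat.card G) (S : Sylow s G)
    (hSH : (S : Subgroup G) ≤ H) : Subgroup.normalizer ((S : Subgroup G) : Set G) ≤ M := fun g hg => by
  obtain ⟨b, hb, -, hb1⟩ := exists_order_mem hs S
  exact hG.mem_of_conj hH hM (hSH hb) hb1 ((Subgroup.le_normalizer.trans hM.2.1)
    (hSH ((Subgroup.mem_normalizer_iff.mp hg b).mp hb)))

/-- The local subgroup normalises `H`. -/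
theorem Min.le_normalizer (hG : Min p G) {r : ℕ} [Fact r.Prime] (hrp : r ≠ p) (hrd : r ∣ Nat.card G)
    (R : Sylow r G) {H M : Subgroup G} (hRH : (R : Subgroup G) ≤ H) (hH : IsMaxPrime p H)
    (hM : Good H M) : M ≤ Subgroup.normalizer (H : Set G) := by
  haveI := hG.sol M hM.1
  haveI : IsMulCommutative ↥H := hG.hyp.isMulCommutative hH.1
  have hHM : H ≤ M := Subgroup.le_normalizer.trans hM.2.1
  haveI hKn : (Cfsg.pPrimeCore p ↥M).Normal := (Cores.pPrimeCore_mem p ↥M).1
  set K := (Cfsg.pPrimeCore p ↥M).map M.subtype with hKdef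
  have hKM : K ≤ M := Subgroup.map_subtype_le _
  have hMK : M ≤ Subgroup.normalizer (K : Set G) :=
    (Subgroup.normal_subgroupOf_iff_le_normalizer hKM).mp (by
      rw [hKdef, Subgroup.subgroupOf, Subgroup.comap_map_eq_self_of_injective M.subtype_injective]
      exact hKn)
  have hKH : K ≤ H := by
    obtain ⟨g, hg, hle⟩ := (hH.dom hHM).2.2 K hKM (by
      rw [hKdef, Subgroup.card_map_of_injective M.subtype_injective]
      exact Cores.not_dvd_card_pPrimeCore)
    have := cj_le_cj (g := g⁻¹) hle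
    rwa [mem_normalizer_iff_cj.mp (hMK (inv_mem hg)), cj_inv_cj] at this
  suffices hHK : H ≤ K by rwa [le_antisymm hHK hKH]
  obtain ⟨Q⟩ : Nonempty (Sylow p ↥M) := inferInstance
  set QG := (Q : Subgroup ↥M).map M.subtype with hQG
  have hQGp : IsPGroup p QG := Q.2.map _
  have hQi : ¬ p ∣ QG.relIndex M := by
    rw [hQG, Subgroup.relIndex, Subgroup.subgroupOf,
      Subgroup.comap_map_eq_self_of_injective M.subtype_injective]
    exact Q.not_dvd_index
  have hQM : QG ≤ M := Subgroup.map_subtype_le _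
  have hQb : QG ≠ ⊥ := fun e => by
    obtain ⟨Q0, -, hQ0N, hQ0, hQ0i⟩ := exists_sylow_in p
      (Subgroup.normalizer ((R : Subgroup G) : Set G)) (Q := ⊥) bot_le IsPGroup.of_bot
    obtain ⟨a, ha, -, ha1⟩ := exists_order_mem hrd R
    obtain ⟨k, -, hk⟩ := exists_cj_le_of_not_dvd hQM hQGp hQi
      (hQ0N.trans (hG.sylow_normalizer_le hH hM hrd R hRH)) hQ0
    rw [e, le_bot_iff, Subgroup.map_eq_bot_iff_of_injective _ (MulAut.conj k).injective] at hk
    refine ha1 (hG.eq_one_of_fixed hrp R hQ0N hQ0i ha fun q hq => ?_)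
    rw [hk, Subgroup.mem_bot] at hq
    rw [hq, one_mul, mul_one]
  set L1 := Subgroup.normalizer ((Cfsg.centerThompsonOf p QG : Subgroup G) : Set G) with hL1
  have hfac : M ≤ K ⊔ (M ⊓ L1) := by
    have h := congrArg (Subgroup.map M.subtype) (sup_normalizer_zj hG.five Q)
    rw [Subgroup.map_sup, ← MonoidHom.range_eq_map, Subgroup.range_subtype] at h
    conv_lhs => rw [← h]
    refine sup_le_sup le_rfl (le_inf (Subgroup.map_subtype_le _) ?_)
    rintro _ ⟨n, hn, rfl⟩
    refine mem_normalizer_iff_cj.mpr ?_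
    rw [hQG, PLocal.centerThompsonOf_eq_jZ, ← OddLocal.map_jZ M.subtype M.subtype_injective]
    have hn' := mem_normalizer_iff_cj.mp hn
    rw [PLocal.centerThompsonOf_eq_jZ] at hn'
    conv_rhs => rw [← hn']
    simp only [cj, Subgroup.map_map]
    congr 1
  have hL1M : ¬ L1 ≤ M := fun hle => by
    obtain ⟨P, hQP⟩ := hQGp.exists_le_sylow
    have hNQ : Subgroup.normalizer (QG : Set G) ≤ M :=
      (normalizer_le_normalizer_centerThompsonOf QG).trans hle
    have hQe : QG = (P : Subgroup G) := by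
      by_contra hne
      haveI : Group.IsNilpotent ↥(P : Subgroup G) := P.2.isNilpotent
      have hlt : QG.subgroupOf (P : Subgroup G) < ⊤ := lt_top_iff_ne_top.mpr fun e =>
        hne (le_antisymm hQP (Subgroup.subgroupOf_eq_top.mp e))
      obtain ⟨x, hxn, hxQ⟩ := SetLike.exists_of_lt
        (Group.normalizerCondition_of_isNilpotent _ hlt)
      have hxN : (x : G) ∈ Subgroup.normalizer (QG : Set G) := by
        refine mem_normalizer_of_cj_le (cj_le_iff.2 fun y hy => ?_)
        exact (Subgroup.mem_normalizer_iff.mp hxn ⟨y, hQP hy⟩).mp hy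
      obtain ⟨k, -, hk⟩ := exists_cj_le_of_not_dvd hQM hQGp hQi
        (sup_le hQM (Subgroup.zpowers_le.mpr (hNQ hxN)))
        (P.2.to_le (sup_le hQP (Subgroup.zpowers_le.mpr x.2)))
      have hc := Subgroup.card_le_of_le hk
      rw [card_cj] at hc
      exact hxQ (Subgroup.mem_subgroupOf.mpr
        ((Subgroup.eq_of_le_of_card_ge le_sup_left hc).symm ▸
          Subgroup.mem_sup_right (Subgroup.mem_zpowers (x : G))))
    exact hG.not_normalizer_le hrp hrd R hRH hH hM P (hQe ▸ hNQ)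
  have hcyc : IsCyclic ↥(H ⊓ L1) := by
    haveI : IsMulCommutative ↥(H ⊓ L1) := hG.hyp.isMulCommutative
      fun hd => hH.1 (hd.trans (Subgroup.card_dvd_of_le inf_le_left))
    by_contra hnc
    obtain ⟨q, a, b, hq, ha, hb, hao, hbo, hab⟩ := Coprime.exists_pair_of_not_isCyclic hnc
    haveI := Fact.mk hq
    refine hL1M (hG.le_of_noncyclic hH hM (B := om q (H ⊓ L1))
      (hG.normalizer_centerThompsonOf_ne_top hQGp hQb) ((om_le q _).trans inf_le_left)
      ((om_le q _).trans inf_le_right) fun hc => hab ?_)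
    have hc' := Components.elemAb_card_le_of_isCyclic (elemAb_om q (H ⊓ L1)) hc
    have ham : a ∈ om q (H ⊓ L1) := mem_om.mpr ⟨ha, hao ▸ pow_orderOf_eq_one a⟩
    have hbm : b ∈ om q (H ⊓ L1) := mem_om.mpr ⟨hb, hbo ▸ pow_orderOf_eq_one b⟩
    rw [Subgroup.eq_of_le_of_card_ge (Subgroup.zpowers_le.mpr ham)
      (by rw [Nat.card_zpowers, hao]; exact hc')]
    exact hbm
  refine le_of_sylows fun s hs hsd => ?_
  haveI := Fact.mk hs
  obtain ⟨hsp, S, hSH⟩ := hG.exists_sylow_eq hH hM hsd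
  refine ⟨S, ?_, hSH, fun hd => S.not_dvd_index (hd.trans (Subgroup.relIndex_dvd_index_of_le hSH))⟩
  have hsG : s ∣ Nat.card G := hsd.trans H.card_subgroup_dvd_card
  have hNS := hG.sylow_normalizer_le hH hM hsG S hSH
  obtain ⟨Q0, -, hQ0N, hQ0, hQ0i⟩ := exists_sylow_in p
    (Subgroup.normalizer ((S : Subgroup G) : Set G)) (Q := ⊥) bot_le IsPGroup.of_bot
  intro x hx
  have hcoset : ∀ q ∈ Q0, x⁻¹ * (q * x * q⁻¹) ∈ K := by
    intro q hq
    let π := QuotientGroup.mk' (Cfsg.pPrimeCore p ↥M)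
    have hSM : (S : Subgroup G) ≤ M := hSH.trans hHM
    set C := ((S : Subgroup G).subgroupOf M).map π with hCdef
    have hmod : (H.subgroupOf M).map π ≤ ((H ⊓ L1).subgroupOf M).map π := by
      rintro _ ⟨h, hh, rfl⟩
      have h0 := hfac h.2
      rw [sup_comm, ← SetLike.mem_coe, Subgroup.coe_mul_of_left_le_normalizer_right (M ⊓ L1) K
        (inf_le_left.trans hMK)] at h0
      obtain ⟨n, hn, c, hc, hnc⟩ := h0
      have hc' : ∃ y ∈ Cfsg.pPrimeCore p ↥M, M.subtype y = c := hc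
      obtain ⟨y, hy, rfl⟩ := hc'
      have hnH : n ∈ H := by
        rw [show n = (h : G) * ((y : G))⁻¹ from eq_mul_inv_of_mul_eq hnc]
        exact mul_mem hh (inv_mem (hKH ⟨y, hy, rfl⟩))
      refine ⟨⟨n, hn.1⟩, ⟨hnH, hn.2⟩, ?_⟩
      have : h = ⟨n, hn.1⟩ * y := Subtype.ext hnc.symm
      rw [this, map_mul, show π y = 1 from (QuotientGroup.eq_one_iff _).mpr hy, mul_one]
    haveI : IsCyclic ↥((H ⊓ L1).subgroupOf M) :=
      (Subgroup.subgroupOfEquivOfLe (inf_le_left.trans hHM)).isCyclic.mpr hcyc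
    haveI : IsCyclic ↥(((H ⊓ L1).subgroupOf M).map π) :=
      isCyclic_of_surjective _ (π.subgroupMap_surjective _)
    haveI : IsCyclic ↥C := Subgroup.isCyclic_of_le
      ((Subgroup.map_mono (f := π) (Subgroup.comap_mono hSH)).trans hmod)
    have hCp : IsPGroup s ↥C :=
      (S.2.comap_of_injective M.subtype M.subtype_injective).map π
    have hqM : q ∈ M := hNS (hQ0N hq)
    have hqn : π ⟨q, hqM⟩ ∈ Subgroup.normalizer (C : Set _) := by
      refine mem_normalizer_of_cj_le (cj_le_iff.2 ?_)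
      rintro _ ⟨y, hy, rfl⟩
      rw [← map_inv, ← map_mul, ← map_mul]
      exact ⟨_, (Subgroup.mem_normalizer_iff.mp (hQ0N hq) (y : G)).mp hy, rfl⟩
    obtain ⟨k, hk⟩ := hQ0 ⟨q, hq⟩
    have := commute_of_cyclic (hG.hyp.lt hs hsp hsG) hCp hqn (k := k)
      (by rw [← map_pow, show (⟨q, hqM⟩ : ↥M) ^ p ^ k = 1 from
        Subtype.ext (by simpa using congrArg Subtype.val hk), map_one])
      (c := π ⟨x, hSM hx⟩) ⟨⟨x, hSM hx⟩, hx, rfl⟩
    refine ⟨⟨x, hSM hx⟩⁻¹ * (⟨q, hqM⟩ * ⟨x, hSM hx⟩ * ⟨q, hqM⟩⁻¹), ?_, rfl⟩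
    refine (QuotientGroup.eq_one_iff _).mp ?_
    show π _ = 1
    rw [map_mul, map_mul, map_mul, map_inv, map_inv, this, inv_mul_cancel]
  obtain ⟨y, hy, hxy, hfix⟩ := exists_fixed_in_coset hQ0 hQ0N ((hQ0N.trans hNS).trans hMK)
    (fun hd => hH.1 (hd.trans (Subgroup.card_dvd_of_le (inf_le_left.trans hSH)))) hx hcoset
  have hy1 : y = 1 :=
    hG.eq_one_of_fixed hsp S hQ0N hQ0i hy fun q hq => mul_inv_eq_iff_eq_mul.mp (hfix q hq)
  rw [hy1, mul_one] at hxy
  simpa using inv_mem hxy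

end Cfsg.Agent.Lib.FusionControl.PPrimeAbelian
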