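import Cfsg.Agent.Lib.Classical.SLTwoSeven
import Cfsg.Agent.Lib.Classical.HermCard

/-!
`PSL_2(7)` inside `PSU_3(3)`, via an explicit homomorphism `SL_2(7) →* SU_3(3)` on tuples over `F_9 = F_3[i]`.
-/

set_option autoImplicit false
set_option synthInstance.maxSize 1024
set_option synthInstance.maxHeartbeats 200000

namespace Cfsg.Agent.Lib.FusionControl.PSUSeven

open Matrix Cfsg.Agent.Lib.Classical

/-- `F_9` as pairs `a + b i`. -/
abbrev Nine := ZMod 3 × ZMod 3

def nm (x y : Nine) : Nine := (x.1 * y.1 - x.2 * y.2, x.1 * y.2 + x.2 * y.1)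

def nbar (x : Nine) : Nine := (x.1, -x.2)

/-- A `3 × 3` matrix over `F_9` as a tuple of rows. -/
abbrev TriN := (Nine × Nine × Nine) × (Nine × Nine × Nine) × (Nine × Nine × Nine)

def rdot (r : Nine × Nine × Nine) (c : Nine × Nine × Nine) : Nine :=
  nm r.1 c.1 + nm r.2.1 c.2.1 + nm r.2.2 c.2.2

def ntr (x : TriN) : TriN :=
  ((x.1.1, x.2.1.1, x.2.2.1), (x.1.2.1, x.2.1.2.1, x.2.2.2.1), (x.1.2.2, x.2.1.2.2, x.2.2.2.2))

def rmul (r : Nine × Nine × Nine) (y : TriN) : Nine × Nine × Nine :=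
  (rdot r (ntr y).1, rdot r (ntr y).2.1, rdot r (ntr y).2.2)

def nmul (x y : TriN) : TriN := (rmul x.1 y, rmul x.2.1 y, rmul x.2.2 y)

def rbar (r : Nine × Nine × Nine) : Nine × Nine × Nine := (nbar r.1, nbar r.2.1, nbar r.2.2)

def mbar (x : TriN) : TriN := (rbar x.1, rbar x.2.1, rbar x.2.2)

def ndet (x : TriN) : Nine :=
  nm (nm x.1.1 x.2.1.2.1) x.2.2.2.2 - nm (nm x.1.1 x.2.1.2.2) x.2.2.2.1
    - nm (nm x.1.2.1 x.2.1.1) x.2.2.2.2 + nm (nm x.1.2.1 x.2.1.2.2) x.2.2.1
    + nm (nm x.1.2.2 x.2.1.1) x.2.2.2.1 - nm (nm x.1.2.2 x.2.1.2.1) x.2.2.1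

def nineX : TriN := (((0, 0), (1, 1), (1, 2)), ((1, 2), (1, 0), (0, 1)), ((1, 1), (0, 2), (1, 0)))

/-- The powers of the unipotent generator. -/
def nineU (k : ZMod 7) : TriN :=
  match k.val with
  | 0 => (((1, 0), (0, 0), (0, 0)), ((0, 0), (1, 0), (0, 0)), ((0, 0), (0, 0), (1, 0)))
  | 1 => (((0, 0), (0, 0), (0, 1)), ((1, 1), (1, 1), (0, 0)), ((1, 1), (2, 2), (0, 0)))
  | 2 => (((2, 1), (1, 2), (0, 0)), ((0, 2), (0, 2), (2, 1)), ((0, 1), (0, 1), (2, 1)))
  | 3 => (((2, 0), (2, 0), (2, 2)), ((2, 2), (0, 2), (1, 0)), ((0, 1), (1, 1), (2, 0)))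
  | 4 => (((2, 0), (2, 1), (0, 2)), ((2, 0), (0, 1), (1, 2)), ((2, 1), (1, 0), (2, 0)))
  | 5 => (((2, 2), (0, 1), (0, 2)), ((1, 1), (0, 1), (0, 2)), ((0, 0), (2, 2), (2, 2)))
  | _ => (((0, 0), (1, 2), (1, 2)), ((0, 0), (1, 2), (2, 1)), ((0, 2), (0, 0), (0, 0)))

def nineOne : TriN := nineU 0

def nineBig (x : Quad (ZMod 7)) : TriN :=
  let ci := x.2.2.1 ^ 5
  nmul (nineU ((x.1 - 1) * ci)) (nmul (nmul nineX (nmul (nineU (-x.2.2.1)) nineX)) (nineU ((x.2.2.2 - 1) * ci)))

/-- The homomorphism on tuples. -/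
def nineMap (x : Quad (ZMod 7)) : TriN :=
  if x.2.2.1 = 0 then nmul nineX (nineBig (x.2.2.1, x.2.2.2, -x.1, -x.2.1)) else nineBig x

def nineCheck (x : Quad (ZMod 7)) : Bool :=
  decide (ndet (nineMap x) = (1, 0)) && decide (nmul (ntr (nineMap x)) (mbar (nineMap x)) = nineOne) &&
    decide (nineMap (qmul x (0, 6, 1, 0)) = nmul (nineMap x) nineX) &&
    decide (nineMap (qmul x (1, 1, 0, 1)) = nmul (nineMap x) (nineU 1)) &&
    (!decide (nineMap x = nineOne) ||
      (decide (x.2.1 = 0) && decide (x.2.2.1 = 0) && decide (x.2.2.2 = x.1)))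

theorem nineCheck_all : ∀ a b c d : ZMod 7, qdet (a, b, c, d) = 1 →
    nineCheck (a, b, c, d) = true := by
  decide +kernel

theorem nineMap_step (x : Quad (ZMod 7)) (h : qdet x = 1) :
    ndet (nineMap x) = (1, 0) ∧ nmul (ntr (nineMap x)) (mbar (nineMap x)) = nineOne ∧
    nineMap (qmul x (0, 6, 1, 0)) = nmul (nineMap x) nineX ∧
    nineMap (qmul x (1, 1, 0, 1)) = nmul (nineMap x) (nineU 1) ∧
    (nineMap x = nineOne → x.2.1 = 0 ∧ x.2.2.1 = 0 ∧ x.2.2.2 = x.1) := by
  have hc := nineCheck_all x.1 x.2.1 x.2.2.1 x.2.2.2 h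
  simp only [nineCheck, Bool.and_eq_true, Bool.or_eq_true, Bool.not_eq_true', decide_eq_true_eq,
    decide_eq_false_iff_not] at hc
  exact ⟨hc.1.1.1.1, hc.1.1.1.2, hc.1.1.2, hc.1.2, fun e => by
    rcases hc.2 with h' | h'
    · exact absurd e h'
    · exact ⟨h'.1.1, h'.1.2, h'.2⟩⟩

theorem nine_scalar : ∀ r : ZMod 7, r ^ 2 = 1 → nineMap (r, 0, 0, r) = nineOne := by
  decide +kernel

theorem nine_values : nineMap (0, 6, 1, 0) = nineX ∧ nineMap (1, 1, 0, 1) = nineU 1 ∧
    nineMap (1, 0, 0, 1) = nineOne := by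
  decide +kernel

theorem norm_zero : ∀ a b : ZMod 3, a * a + b * b = 0 → a = 0 ∧ b = 0 := by decide +kernel

section Field

variable {F : Type*} [Field F] [Fintype F] (hF : Fintype.card F = 3 ^ 2)

/-- The matrix over `F` of a tuple. -/
def toMat (σ : Nine → F) (x : TriN) : Matrix (Fin 3) (Fin 3) F :=
  !![σ x.1.1, σ x.1.2.1, σ x.1.2.2; σ x.2.1.1, σ x.2.1.2.1, σ x.2.1.2.2; σ x.2.2.1, σ x.2.2.2.1, σ x.2.2.2.2]

theorem exists_embedding (hF : Fintype.card F = 3 ^ 2) : ∃ σ : Nine → F, Function.Injective σ ∧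
    (∀ x y, σ (x + y) = σ x + σ y) ∧ (∀ x y, σ (x - y) = σ x - σ y) ∧ (∀ x y, σ (nm x y) = σ x * σ y) ∧
    σ 0 = 0 ∧ σ (1, 0) = 1 ∧ ∀ x, σ x ^ 3 = σ (nbar x) := by
  have : CharP F 3 := by
    obtain ⟨c, hc⟩ := CharP.exists F
    obtain ⟨a, hcp, hca⟩ := FiniteField.card F c
    have h2 : c ∣ 3 ^ 2 := by rw [← hF, hca]; exact dvd_pow_self _ a.ne_zero
    exact ((Nat.prime_dvd_prime_iff_eq hcp Nat.prime_three).1 (hcp.dvd_of_dvd_pow h2)) ▸ hc
  have : Fact (Nat.Prime 3) := ⟨Nat.prime_three⟩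
  obtain ⟨j, hj⟩ : IsSquare (-1 : F) := by
    rw [FiniteField.isSquare_neg_one_iff, hF]; decide
  let c : ZMod 3 →+* F := ZMod.castHom (dvd_refl 3) F
  have hci : Function.Injective c := ZMod.castHom_injective F
  refine ⟨fun x => c x.1 + j * c x.2, ?_, fun x y => ?_, fun x y => ?_, fun x y => ?_, by simp, by simp, fun x => ?_⟩
  · intro x y h
    have key : ∀ a b : ZMod 3, c a + j * c b = 0 → a = 0 ∧ b = 0 := by
      intro a b h
      have h2 : c (a * a + b * b) = 0 := by
        rw [map_add, map_mul, map_mul]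
        linear_combination (c a - j * c b) * h - c b ^ 2 * hj
      have h3 : a * a + b * b = 0 := hci (h2.trans (map_zero c).symm)
      exact norm_zero a b h3
    obtain ⟨h1, h2⟩ := key (x.1 - y.1) (x.2 - y.2) (by
      rw [map_sub, map_sub]; linear_combination h)
    exact Prod.ext (sub_eq_zero.1 h1) (sub_eq_zero.1 h2)
  · simp only [Prod.fst_add, Prod.snd_add, map_add]; ring
  · simp only [Prod.fst_sub, Prod.snd_sub, map_sub]; ring
  · simp only [nm, map_add, map_sub, map_mul]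
    linear_combination (c x.2 * c y.2) * hj
  · simp only [nbar, map_neg]
    rw [add_pow_char]
    have h3 : ∀ a : ZMod 3, c a ^ 3 = c a := fun a => by rw [← map_pow, ZMod.pow_card]
    rw [mul_pow, h3, h3]
    linear_combination (- j * c x.2) * hj

end Field

/-- `PSL_2(7)` embeds in `PSU_3(3)`. -/
theorem exists_injective {F K : Type*} [Field F] [Fintype F] [Field K] [Fintype K]
    (hF : Fintype.card F = 3 ^ 2) (hK : Fintype.card K = 7) :
    ∃ ψ : ProjectiveSpecialLinearGroup (Fin 2) K →* Cfsg.PSU 3 F 3, Function.Injective ψ := by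
  have : Fact (Nat.Prime 7) := ⟨by norm_num⟩
  obtain ⟨σ, hσi, hσa, hσs, hσm, hσ0, hσ1, hσc⟩ := exists_embedding hF
  have hmul : ∀ x y, toMat σ (nmul x y) = toMat σ x * toMat σ y := by
    intro x y
    ext i j
    fin_cases i <;> fin_cases j <;>
      simp [toMat, nmul, rmul, rdot, ntr, Matrix.mul_apply, Fin.sum_univ_three, hσa, hσm]
  have hone : toMat σ nineOne = 1 := by
    have e : nineOne = (((1,0),0,0),(0,(1,0),0),(0,0,(1,0))) := by decide +kernel
    rw [e]
    ext i j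
    fin_cases i <;> fin_cases j <;> simp [toMat, hσ0, hσ1]
  have htr : ∀ x, toMat σ (ntr x) = (toMat σ x)ᵀ := by
    intro x
    ext i j
    fin_cases i <;> fin_cases j <;> rfl
  have hbar : ∀ x, toMat σ (mbar x) = (toMat σ x).map (conjHom hF) := by
    intro x
    ext i j
    fin_cases i <;> fin_cases j <;> simp [toMat, mbar, rbar, conjHom_apply, hσc]
  let f : SpecialLinearGroup (Fin 2) (ZMod 7) → Matrix (Fin 3) (Fin 3) F := fun g => toMat σ (nineMap (slQuad g))
  have hdet : ∀ g, (f g).det = 1 := by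
    intro g
    rw [← hσ1, ← (nineMap_step _ (qdet_slQuad g)).1]
    simp only [f, toMat, ndet, Matrix.det_fin_three, hσa, hσs, hσm]
    simp
  let w : SpecialLinearGroup (Fin 2) (ZMod 7) := ⟨!![0, 6; 1, 0], (Matrix.det_fin_two_of _ _ _ _).trans seven_det_weyl⟩
  let u : ZMod 7 → SpecialLinearGroup (Fin 2) (ZMod 7) := fun k => ⟨!![1, k; 0, 1], by rw [Matrix.det_fin_two_of]; simp⟩
  have hw : slQuad w = (0, 6, 1, 0) := by simp [slQuad, w]
  have hu : ∀ k, slQuad (u k) = (1, k, 0, 1) := fun k => by simp [slQuad, u]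
  have h1 : slQuad (1 : SpecialLinearGroup (Fin 2) (ZMod 7)) = (1, 0, 0, 1) := by simp [slQuad]
  have hf1 : f 1 = 1 := by
    simp only [f]
    rw [h1, nine_values.2.2, hone]
  let M : Submonoid (SpecialLinearGroup (Fin 2) (ZMod 7)) :=
    { carrier := {h | ∀ g, f (g * h) = f g * f h}
      one_mem' := fun g => by rw [mul_one, hf1, mul_one]
      mul_mem' := by
        intro h h' e e' g
        rw [← mul_assoc, e' (g * h), e g, e' h, mul_assoc] }
  have hwM : w ∈ M := by
    intro g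
    simp only [f]
    rw [slQuad_mul, hw, nine_values.1, ← hmul]
    exact congrArg (toMat σ) (nineMap_step _ (qdet_slQuad g)).2.2.1
  have huM : ∀ k, u k ∈ M := by
    have h1M : u 1 ∈ M := by
      intro g
      simp only [f]
      rw [slQuad_mul, hu, nine_values.2.1, ← hmul]
      exact congrArg (toMat σ) (nineMap_step _ (qdet_slQuad g)).2.2.2.1
    intro k
    have hk : ∀ n : ℕ, u (n : ZMod 7) = u 1 ^ n := by
      intro n
      induction n with
      | zero =>
        apply slQuad_injective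
        rw [hu, pow_zero, h1, Nat.cast_zero]
      | succ n ih =>
        apply slQuad_injective
        rw [pow_succ, slQuad_mul, ← ih, hu, hu, hu]
        ext <;> simp [qmul, add_comm]
    rw [← ZMod.natCast_zmod_val k, hk]
    exact pow_mem h1M _
  have hbig : ∀ g : SpecialLinearGroup (Fin 2) (ZMod 7), g 1 0 ≠ 0 → g ∈ M := by
    intro g hc
    have : g = u ((g 0 0 - 1) * g 1 0 ^ 5) * (w * u (-g 1 0) * (w * (w * w))) *
        u ((g 1 1 - 1) * g 1 0 ^ 5) := by
      apply slQuad_injective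
      simp only [slQuad_mul, hu, hw]
      exact seven_gen _ _ _ _ (qdet_slQuad g) hc
    rw [this]
    exact mul_mem (mul_mem (huM _) (mul_mem (mul_mem hwM (huM _))
      (mul_mem hwM (mul_mem hwM hwM)))) (huM _)
  have hall : ∀ g : SpecialLinearGroup (Fin 2) (ZMod 7), g ∈ M := by
    intro g
    by_cases hc : g 1 0 = 0
    · have hgw : g = w * (w⁻¹ * g) := (mul_inv_cancel_left w g).symm
      rw [hgw]
      refine mul_mem hwM (hbig _ ?_)
      have hd := qdet_slQuad g
      simp only [slQuad, qdet, hc, mul_zero, sub_zero] at hd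
      intro h
      have : g 0 0 = 0 := by
        have e' : slQuad g = qmul (slQuad w) (slQuad (w⁻¹ * g)) := by rw [← slQuad_mul, ← hgw]
        have e := congrArg Prod.fst e'
        rw [hw] at e
        simpa [qmul, slQuad, h] using e
      rw [this, zero_mul] at hd
      exact zero_ne_one hd
    · exact hbig g hc
  let φ : SpecialLinearGroup (Fin 2) (ZMod 7) →* Cfsg.SU 3 F 3 :=
    MonoidHom.mk' (fun g => ⟨⟨f g, hdet g⟩, (mem_SU_iff hF _).2 (by
      show (f g)ᵀ * (f g).map (conjHom hF) = 1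
      simp only [f]
      rw [← htr, ← hbar, ← hmul, (nineMap_step _ (qdet_slQuad g)).2.1, hone])⟩)
      fun g h => Subtype.ext (Subtype.ext (hall h g))
  have hker : φ.ker = Subgroup.center (SpecialLinearGroup (Fin 2) (ZMod 7)) := by
    refine le_antisymm (fun g hg => ?_) fun z hz => ?_
    · have hg' : f g = toMat σ nineOne := by
        rw [hone]
        exact congrArg (fun z : Cfsg.SU 3 F 3 => (z.1 : Matrix (Fin 3) (Fin 3) F)) (MonoidHom.mem_ker.1 hg)
      have e : nineMap (slQuad g) = nineOne := by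
        have := fun i j => congrFun (congrFun hg' i) j
        simp only [f, toMat] at this
        refine Prod.ext (Prod.ext ?_ (Prod.ext ?_ ?_)) (Prod.ext (Prod.ext ?_ (Prod.ext ?_ ?_))
          (Prod.ext ?_ (Prod.ext ?_ ?_))) <;> apply hσi
        · simpa using this 0 0
        · simpa using this 0 1
        · simpa using this 0 2
        · simpa using this 1 0
        · simpa using this 1 1
        · simpa using this 1 2
        · simpa using this 2 0
        · simpa using this 2 1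
        · simpa using this 2 2
      obtain ⟨hb, hc, hd⟩ := (nineMap_step _ (qdet_slQuad g)).2.2.2.2 e
      simp only [slQuad] at hb hc hd
      rw [Matrix.SpecialLinearGroup.mem_center_iff]
      have hd' := qdet_slQuad g
      simp only [slQuad, qdet] at hd'
      refine ⟨g 0 0, ?_, ?_⟩
      · rw [hb, hc, hd] at hd'
        rw [Fintype.card_fin]
        linear_combination hd'
      · ext i j
        fin_cases i <;> fin_cases j <;> simp [hb, hc, hd]
    · obtain ⟨r, hr, hrz⟩ := Matrix.SpecialLinearGroup.mem_center_iff.mp hz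
      rw [Fintype.card_fin] at hr
      have hq : slQuad z = (r, 0, 0, r) := by simp [slQuad, ← hrz]
      refine MonoidHom.mem_ker.2 (Subtype.ext (Subtype.ext ?_))
      show toMat σ (nineMap (slQuad z)) = 1
      rw [hq, nine_scalar r hr, hone]
  let π := QuotientGroup.mk' (Subgroup.center (Cfsg.SU 3 F 3))
  have hπ : Function.Injective π := by
    rw [← MonoidHom.ker_eq_bot_iff, QuotientGroup.ker_mk', ← Subgroup.card_eq_one, card_center_SU hF (by norm_num)]
    rfl
  let ψ : ProjectiveSpecialLinearGroup (Fin 2) (ZMod 7) →* Cfsg.PSU 3 F 3 :=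
    QuotientGroup.lift _ (π.comp φ) fun z hz => by
      rw [MonoidHom.mem_ker, MonoidHom.comp_apply, MonoidHom.mem_ker.1 (hker.ge hz), map_one]
  let e : ProjectiveSpecialLinearGroup (Fin 2) K ≃* ProjectiveSpecialLinearGroup (Fin 2) (ZMod 7) :=
    pslCongrOfCardEq (by rw [hK, ZMod.card])
  refine ⟨ψ.comp e.toMonoidHom, ?_⟩
  refine Function.Injective.comp (g := ψ) ?_ e.injective
  rw [injective_iff_map_eq_one]
  intro x hx
  obtain ⟨g, rfl⟩ := QuotientGroup.mk_surjective x
  rw [QuotientGroup.lift_mk] at hx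
  exact (QuotientGroup.eq_one_iff g).mpr (hker.le (hπ (hx.trans (map_one π).symm)))

end Cfsg.Agent.Lib.FusionControl.PSUSeven
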