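import Mathlib

/-!
Primitive prime divisors of `q ^ n - 1` for `q ≥ 3` and `n ≥ 3`.
-/

set_option autoImplicit false

namespace Cfsg.Agent.Lib.FusionControl.PrimitiveDivisor

open Polynomial

/-- The value of `Φ_n` at `q` divides the geometric sum. -/
theorem cyclotomic_dvd_geom {q n r : ℕ} (hq : 2 ≤ q) (hr : 2 ≤ r) (hn : 0 < n) (hrn : r ∣ n) :
    (cyclotomic n ℤ).eval (q : ℤ) ∣ ∑ i ∈ Finset.range r, ((q : ℤ) ^ (n / r)) ^ i := by
  have hd : n / r ∈ n.properDivisors :=
    Nat.mem_properDivisors.mpr ⟨Nat.div_dvd_of_dvd hrn, Nat.div_lt_self hn hr⟩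
  have h := eval_dvd (x := (q : ℤ)) (X_pow_sub_one_mul_cyclotomic_dvd_X_pow_sub_one_of_dvd ℤ hd)
  simp only [eval_mul, eval_sub, eval_pow, eval_X, eval_one] at h
  have hy : (q : ℤ) ^ (n / r) - 1 ≠ 0 := by
    have h1 : (1 : ℤ) < (q : ℤ) ^ (n / r) := by
      refine one_lt_pow₀ (by exact_mod_cast hq) (Nat.div_pos (Nat.le_of_dvd hn hrn) (by omega)).ne'
    omega
  have hg : (q : ℤ) ^ n - 1 = ((q : ℤ) ^ (n / r) - 1) * ∑ i ∈ Finset.range r, ((q : ℤ) ^ (n / r)) ^ i := by
    rw [mul_geom_sum, ← pow_mul, Nat.div_mul_cancel hrn]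
  rw [hg] at h
  exact (mul_dvd_mul_iff_left hy).mp h

/-- There is a prime modulo which `q` has order exactly `n`. -/
theorem exists_primitive {q n : ℕ} (hq : 3 ≤ q) (hn : 3 ≤ n) :
    ∃ r : ℕ, r.Prime ∧ orderOf (q : ZMod r) = n := by
  by_contra hno
  push Not at hno
  set Φ := (cyclotomic n ℤ).eval (q : ℤ) with hΦdef
  have hlarge : (2 : ℤ) ^ n.totient < Φ := by
    have h1 : ((q : ℝ) - 1) ^ n.totient < (cyclotomic n ℝ).eval (q : ℝ) :=
      sub_one_pow_totient_lt_cyclotomic_eval (by omega) (by exact_mod_cast (by omega : 1 < q))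
    have h2 : (cyclotomic n ℝ).eval (q : ℝ) = (Φ : ℝ) := by
      rw [← map_cyclotomic_int n ℝ, show (q : ℝ) = ((q : ℤ) : ℝ) by simp, eval_intCast_map]
      rfl
    have h3 : (2 : ℝ) ^ n.totient ≤ ((q : ℝ) - 1) ^ n.totient := by
      refine pow_le_pow_left₀ (by norm_num) ?_ _
      have : (3 : ℝ) ≤ q := by exact_mod_cast hq
      linarith
    rw [h2] at h1
    exact_mod_cast h3.trans_lt h1
  obtain ⟨N, hN⟩ : ∃ N : ℕ, Φ = (N : ℤ) := ⟨Φ.toNat, (Int.toNat_of_nonneg (by
    have : (0 : ℤ) < 2 ^ n.totient := by positivity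
    omega)).symm⟩
  have hN2 : 2 ^ n.totient < N := by rw [hN] at hlarge; exact_mod_cast hlarge
  -- every prime divisor is the largest prime divisor of `n`
  have key : ∀ r : ℕ, r.Prime → r ∣ N → r ∣ n ∧ (r ≠ 2 ∨ 4 ∣ n) ∧ ∀ s : ℕ, s.Prime → s ∣ n → s ≤ r := by
    intro r hr hrN
    haveI : Fact r.Prime := ⟨hr⟩
    have hroot : IsRoot (cyclotomic n (ZMod r)) (q : ZMod r) := by
      rw [IsRoot, ← map_cyclotomic_int n (ZMod r), show (q : ZMod r) = ((q : ℤ) : ZMod r) by simp,
        eval_intCast_map]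
      show ((Φ : ℤ) : ZMod r) = 0
      rw [hN, Int.cast_natCast, ZMod.natCast_eq_zero_iff]
      exact hrN
    obtain ⟨a, m, hm, hnam⟩ : ∃ a m, ¬ r ∣ m ∧ n = r ^ a * m :=
      Nat.exists_eq_pow_mul_and_not_dvd (by omega) r hr.ne_one
    haveI : NeZero (m : ZMod r) := ⟨fun h => hm ((ZMod.natCast_eq_zero_iff _ _).mp h)⟩
    rw [hnam, isRoot_cyclotomic_prime_pow_mul_iff_of_charP] at hroot
    have hord : orderOf (q : ZMod r) = m := hroot.eq_orderOf.symm
    have ha : a ≠ 0 := fun ha => hno r hr (by rw [hord, hnam, ha, pow_zero, one_mul])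
    have hm0 : 0 < m := Nat.pos_of_ne_zero fun h => hm (by rw [h]; exact dvd_zero r)
    have hq0 : (q : ZMod r) ≠ 0 := fun h => by
      rw [h, orderOf_zero] at hord
      omega
    have hmle : m ≤ r - 1 := by
      rw [← hord]
      exact Nat.le_of_dvd (by have := hr.two_le; omega) (ZMod.orderOf_dvd_card_sub_one hq0)
    refine ⟨by rw [hnam]; exact (dvd_pow_self r ha).mul_right m, ?_, fun s hs hsn => ?_⟩
    · rcases eq_or_ne r 2 with h2 | h2
      · refine Or.inr ?_
        subst h2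
        have hm1 : m = 1 := by omega
        subst hm1
        rw [mul_one] at hnam
        have ha2 : 2 ≤ a := by
          by_contra h
          have : a = 1 := by omega
          rw [hnam, this] at hn
          norm_num at hn
        rw [hnam, show 4 = 2 ^ 2 from rfl]
        exact pow_dvd_pow 2 ha2
      · exact Or.inl h2
    · rw [hnam] at hsn
      rcases hs.dvd_mul.mp hsn with h | h
      · exact Nat.le_of_dvd hr.pos (hs.dvd_of_dvd_pow h)
      · have := Nat.le_of_dvd hm0 h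
        omega
  have hN1 : N ≠ 1 := by have := Nat.one_le_two_pow (n := n.totient); omega
  obtain ⟨r, hr, hrN⟩ := Nat.exists_prime_and_dvd hN1
  obtain ⟨hrn, hr4, hmax⟩ := key r hr hrN
  have huniq : ∀ s : ℕ, s.Prime → s ∣ N → s = r := fun s hs hsN =>
    le_antisymm (hmax s hs (key s hs hsN).1) ((key s hs hsN).2.2 r hr hrn)
  -- the square of `r` does not divide `Φ`
  have hsq : ¬ r ^ 2 ∣ N := by
    intro hdvd
    have hg := cyclotomic_dvd_geom (q := q) (n := n) (r := r) (by omega) hr.two_le (by omega) hrn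
    have hd : ((r : ℤ)) ^ 2 ∣ ∑ i ∈ Finset.range r, ((q : ℤ) ^ (n / r)) ^ i := by
      refine Dvd.dvd.trans ?_ hg
      show (r : ℤ) ^ 2 ∣ Φ
      rw [hN]
      exact_mod_cast hdvd
    haveI : Fact r.Prime := ⟨hr⟩
    rcases eq_or_ne r 2 with h2 | h2
    · subst h2
      obtain ⟨k, hk⟩ : 4 ∣ n := hr4.resolve_left (by simp)
      rw [show n / 2 = k + k by omega, pow_add] at hd
      simp only [Finset.sum_range_succ, Finset.sum_range_zero, pow_zero, pow_one, zero_add] at hd
      obtain ⟨c, hc⟩ := hd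
      rcases Int.even_or_odd ((q : ℤ) ^ k) with ⟨d, hd'⟩ | ⟨d, hd'⟩
      · rw [hd'] at hc; push_cast at hc; ring_nf at hc; omega
      · rw [hd'] at hc; push_cast at hc; ring_nf at hc; omega
    · have hy : (r : ℤ) ∣ (q : ℤ) ^ (n / r) - 1 := by
        have h1 : ((∑ i ∈ Finset.range r, ((q : ℤ) ^ (n / r)) ^ i : ℤ) : ZMod r) = 0 := by
          rw [ZMod.intCast_zmod_eq_zero_iff_dvd]
          exact (dvd_pow_self _ (by norm_num)).trans hd
        rw [← ZMod.intCast_zmod_eq_zero_iff_dvd]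
        push_cast at h1 ⊢
        have h3 := geom_sum_mul ((q : ZMod r) ^ (n / r)) r
        rw [h1, zero_mul, ZMod.pow_card] at h3
        exact h3.symm
      obtain ⟨b, hb⟩ := hy
      have hodd := odd_sq_dvd_geom_sum₂_sub (R := ℤ) 1 b (p := r) (hr.odd_of_ne_two h2)
      simp only [one_pow, mul_one] at hodd
      rw [show (1 : ℤ) + r * b = (q : ℤ) ^ (n / r) by omega] at hodd
      have hr2 : ((r : ℤ)) ^ 2 ∣ (r : ℤ) := by
        have := dvd_sub hd hodd
        rwa [sub_sub_cancel] at this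
      have h4 : r ^ 2 ∣ r := by exact_mod_cast hr2
      have := Nat.le_of_dvd hr.pos h4
      nlinarith [hr.two_le]
  -- so `Φ = r` is too small
  have hNr : N = r := by
    obtain ⟨c, hc⟩ := hrN
    rcases eq_or_ne c 1 with rfl | hc1
    · rw [hc, mul_one]
    · obtain ⟨s, hs, hsc⟩ := Nat.exists_prime_and_dvd hc1
      have hsr := huniq s hs (by rw [hc]; exact hsc.mul_left r)
      subst hsr
      exact absurd (by rw [hc, pow_two]; exact Nat.mul_dvd_mul_left s hsc) hsq
  have htot : r - 1 ≤ n.totient := by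
    have := Nat.le_of_dvd (Nat.totient_pos.mpr (by omega)) (Nat.totient_dvd_of_dvd hrn)
    rwa [Nat.totient_prime hr] at this
  have hlt : r - 1 < 2 ^ (r - 1) := Nat.lt_two_pow_self
  have := Nat.pow_le_pow_right (show 2 ≥ 1 by norm_num) htot
  omega

end Cfsg.Agent.Lib.FusionControl.PrimitiveDivisor
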