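import Cfsg.Agent.Lib.FusionControl.KStable
import Cfsg.Agent.Lib.PLocal.QdNotStable
import Cfsg.Agent.Lib.Classical.LinearCard

/-! K-infinity does not control fusion in `Qd(p)`. -/

set_option autoImplicit false

universe u

open scoped commutatorElement

namespace Cfsg.Agent.Lib.FusionControl

variable {p : ℕ} [Fact p.Prime]

/-- a group of class at most two is its own K-infinity subgroup -/
lemma kInfLower_eq_top {T : Type u} [Group T] (h : commutator T ≤ Subgroup.center T) :
    Cfsg.kInfLower T = ⊤ := by
  rw [eq_top_iff]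
  refine le_trans ?_ (le_iSup (fun n => Cfsg.kSeqEven T n) 0)
  have hc : Subgroup.center T ≤ Subgroup.centralizer ((⊤ : Subgroup T) : Set T) := fun z hz =>
    Subgroup.mem_centralizer_iff.2 fun t _ => Subgroup.mem_center_iff.1 hz t
  refine le_sSup ⟨h.trans hc, by rw [Subgroup.normalizer_eq_top]; exact le_top, fun A _ _ _ _ _ => ?_⟩
  exact le_inf le_top ((Subgroup.commutator_mono le_rfl le_top).trans (h.trans hc))

/-- a group of order dividing `p ^ 3` has class at most two -/
lemma commutator_le_center_of_card {T : Type u} [Group T] [Finite T] (h : Nat.card T ∣ p ^ 3) :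
    commutator T ≤ Subgroup.center T := by
  have hp : p.Prime := Fact.out
  have hT : IsPGroup p T := by
    obtain ⟨n, _, hn⟩ := (Nat.dvd_prime_pow hp).1 h
    exact IsPGroup.of_card hn
  rcases subsingleton_or_nontrivial T with h1 | h1
  · exact fun x _ => by rw [Subsingleton.elim x 1]; exact one_mem _
  have hq : IsPGroup p (T ⧸ Subgroup.center T) := hT.to_quotient _
  have hcomm : ∀ a b : T ⧸ Subgroup.center T, a * b = b * a := by
    obtain ⟨n, hn⟩ := hq.exists_card_eq
    have hz : p ∣ Nat.card (Subgroup.center T) := by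
      obtain ⟨m, hm⟩ := (hT.to_subgroup (Subgroup.center T)).exists_card_eq
      rw [hm]
      refine dvd_pow_self p fun h0 => ?_
      have := hT.center_nontrivial
      rw [h0, pow_zero] at hm
      exact absurd hm (Finite.one_lt_card).ne'
    have hle : n ≤ 2 := by
      have h2 : p ^ n * p ∣ p ^ 3 := by
        refine dvd_trans ?_ h
        rw [Subgroup.card_eq_card_quotient_mul_card_subgroup (Subgroup.center T), hn]
        exact mul_dvd_mul_left _ hz
      rw [← pow_succ] at h2
      have := (Nat.pow_dvd_pow_iff_le_right hp.one_lt).1 h2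
      omega
    intro a b
    interval_cases n
    · have := Nat.card_eq_one_iff_unique.1 (by simpa using hn) |>.1
      exact Subsingleton.elim _ _
    · have : IsCyclic (T ⧸ Subgroup.center T) := isCyclic_of_prime_card (p := p) (by simpa using hn)
      exact IsCyclic.commutative.is_comm.comm a b
    · exact (IsPGroup.isMulCommutative_of_card_eq_prime_sq hn).is_comm.comm a b
  rw [commutator_def, Subgroup.commutator_le]
  intro a _ b _
  refine (QuotientGroup.eq_one_iff _).1 ?_
  show QuotientGroup.mk' (Subgroup.center T) ⁅a, b⁆ = 1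
  rw [map_commutatorElement, commutatorElement_eq_one_iff_mul_comm]
  exact hcomm _ _

/-- in a group isomorphic to `Qd(p)` the lower K-infinity subgroup controls no strong fusion -/
theorem not_controls_of_qd {X : Type u} [Group X] [Finite X] (e : X ≃* ↥(Cfsg.qd p)) (T : Sylow p X) :
    ¬ Cfsg.ControlsStrongFusion p (Cfsg.inducedFunctor Cfsg.kInfLower (T : Subgroup X)) := by
  have hp : p.Prime := Fact.out
  let ε : X ≃* ↥(Cfsg.qdOver (ZMod p)) := e
  let f : X →* Matrix.SpecialLinearGroup (Fin 2) (ZMod p) := LocalEven.Qd.proj.comp ε.toMonoidHom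
  have hf : Function.Surjective f := LocalEven.Qd.proj_surjective.comp ε.surjective
  have hker : f.ker = (PLocal.qdTrans p).comap ε.toMonoidHom := (MonoidHom.comap_ker _ _).symm
  have hkp : IsPGroup p f.ker := by
    rw [hker]; exact LocalEven.Qd.isPGroup_ker.comap_of_injective _ ε.injective
  have hcardV : Nat.card f.ker = p ^ 2 := by
    rw [hker, Nat.card_congr (ε.subgroupMap _).toEquiv]
    rw [show ((ε : X →* ↥(Cfsg.qdOver (ZMod p)))) = ε.toMonoidHom from rfl,
      Subgroup.map_comap_eq_self_of_surjective (f := ε.toMonoidHom) ε.surjective, LocalEven.Qd.card_ker, Nat.card_zmod]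
  have hcent : Subgroup.centralizer (f.ker : Set X) ≤ f.ker := by
    intro x hx
    rw [hker]
    refine PLocal.centralizer_qdTrans_le (Subgroup.mem_centralizer_iff.2 fun v hv => ?_)
    obtain ⟨y, rfl⟩ := ε.surjective v
    show ε y * ε x = ε x * ε y
    rw [← map_mul, ← map_mul, Subgroup.mem_centralizer_iff.1 hx y (by rw [hker]; exact hv)]
  have hSL := Classical.card_SL2 (F := ZMod p)
  rw [ZMod.card] at hSL
  have hnd : ¬ p ∣ p ^ 2 - 1 := fun h => by
    have h2 : p ∣ p ^ 2 := dvd_pow_self p two_ne_zero
    have h3 := Nat.dvd_sub h2 h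
    rw [Nat.sub_sub_self (Nat.one_le_pow _ _ hp.pos)] at h3
    exact hp.not_dvd_one h3
  -- the Sylow subgroup has class two
  have hcardX : Nat.card X = p ^ 3 * (p ^ 2 - 1) := by
    rw [Subgroup.card_eq_card_quotient_mul_card_subgroup f.ker, hcardV,
      Nat.card_congr (QuotientGroup.quotientKerEquivOfSurjective f hf).toEquiv, hSL]
    ring
  have hTcard : Nat.card (T : Subgroup X) ∣ p ^ 3 := by
    have h1 := Subgroup.card_subgroup_dvd_card (T : Subgroup X)
    rw [hcardX] at h1
    obtain ⟨n, hn⟩ := T.2.exists_card_eq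
    rw [hn] at h1 ⊢
    exact ((hp.coprime_iff_not_dvd.2 hnd).pow_left n).dvd_of_dvd_mul_right h1
  have hK : Cfsg.inducedFunctor Cfsg.kInfLower (T : Subgroup X) = (T : Subgroup X) := by
    show (Cfsg.kInfLower (T : Subgroup X)).map (T : Subgroup X).subtype = _
    rw [kInfLower_eq_top (commutator_le_center_of_card (p := p) hTcard), ← MonoidHom.range_eq_map, Subgroup.range_subtype]
  rintro ⟨T', hle, hctl⟩
  rw [hK] at hle hctl
  have hTT' : (T' : Subgroup X) = (T : Subgroup X) := T.3 T'.2 hle
  have hVT : f.ker ≤ (T' : Subgroup X) := by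
    obtain ⟨P, hP⟩ := hkp.exists_le_sylow
    obtain ⟨g, hg⟩ := MulAction.exists_smul_eq X P T'
    intro v hv
    have h1 := hP ((inferInstance : f.ker.Normal).conj_mem v hv g⁻¹)
    rw [← hg]
    exact ⟨_, h1, by show MulAut.conj g (g⁻¹ * v * g⁻¹⁻¹) = v; rw [MulAut.conj_apply]; group⟩
  -- so the Sylow subgroup is normal
  have hTn : (T : Subgroup X).Normal := by
    rw [← Subgroup.normalizer_eq_top_iff, eq_top_iff]
    intro g _
    obtain ⟨n, hn, hne⟩ := (hctl (f.ker : Set X) hVT).2 g (by
      rintro _ ⟨v, hv, rfl⟩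
      exact hVT ((inferInstance : f.ker.Normal).conj_mem v hv g))
    have hc : n⁻¹ * g ∈ Subgroup.centralizer (f.ker : Set X) := by
      rw [Subgroup.mem_centralizer_iff]
      intro q hq
      calc q * (n⁻¹ * g) = n⁻¹ * (n * q * n⁻¹) * g := by group
        _ = n⁻¹ * (g * q * g⁻¹) * g := by rw [hne q hq]
        _ = _ := by group
    have h2 := mul_mem hn (Subgroup.le_normalizer (H := (T : Subgroup X)) (hTT' ▸ hVT (hcent hc)))
    simpa using h2
  -- but then `SL₂(p)` has a normal Sylow subgroup
  have := hTn.map f hf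
  have h1 := LocalEven.Qd.eq_bot_of_normal_pGroup (p := p) ((T : Subgroup X).map f) (hN := T.2.map f)
  have h2 := (T.mapSurjective hf).not_dvd_index
  rw [Sylow.coe_mapSurjective, h1, Subgroup.index_bot, hSL] at h2
  exact h2 (dvd_mul_right p _)

end Cfsg.Agent.Lib.FusionControl
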