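import Cfsg.Agent.Lib.PLocal.Replacement
import Cfsg.Agent.Lib.Cores.PCore
import Cfsg.Agent.Lib.Components.PComponent
import Mathlib.GroupTheory.PGroup
/-!
# Quadratic offenders in characteristic two without `S₃`

If every `2`-subgroup of `H` acts quadratically and faithfully on an elementary abelian `2`-group
`V` and no involution of `H` inverts an element of order three, then every strong offender lies
in `O₂(H)`.
-/

set_option autoImplicit false
set_option linter.unusedSectionVars false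
set_option linter.style.haveILetI false

namespace Cfsg.Agent.Lib.QuadOffender

open Subgroup

universe u v

variable {H : Type u} [Group H] {V : Type v} [CommGroup V] {ρ : H →* MulAut V}

/-- The hypotheses. -/
structure Hyp (ρ : H →* MulAut V) : Prop where
  inj : Function.Injective ρ
  sq : ∀ v : V, v * v = 1
  quad : ∀ T : Subgroup H, IsPGroup 2 ↥T → ∀ s ∈ T, ∀ t ∈ T, ∀ v : V, ρ t (ρ s v * v) = ρ s v * v
  noS3 : ∀ t z : H, t * t = 1 → z ^ 3 = 1 → t * z * t⁻¹ = z⁻¹ → z = 1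

/-- The fixed points of a subgroup. -/
def fixBy (ρ : H →* MulAut V) (B : Subgroup H) : Subgroup V where
  carrier := {v | ∀ b ∈ B, ρ b v = v}
  one_mem' := fun b _ => map_one (ρ b)
  mul_mem' := fun {x y} hx hy b hb => by rw [map_mul, hx b hb, hy b hb]
  inv_mem' := fun {x} hx b hb => by rw [map_inv, hx b hb]

/-- The weight of a subgroup. -/
noncomputable def val (ρ : H →* MulAut V) (B : Subgroup H) : ℕ :=
  Nat.card ↥B * Nat.card ↥(fixBy ρ B)

/-- A strong offender: no subgroup, the trivial one included, has larger weight. -/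
def Strong (ρ : H →* MulAut V) (A : Subgroup H) : Prop :=
  ∀ B ≤ A, val ρ B ≤ val ρ A

/-- The conjugate. -/
abbrev cnj (g : H) (A : Subgroup H) : Subgroup H := A.map (MulAut.conj g).toMonoidHom

theorem mem_cnj {g x : H} {A : Subgroup H} (hx : x ∈ A) : g * x * g⁻¹ ∈ cnj g A := ⟨x, hx, rfl⟩

theorem cnj_cnj (g h : H) (A : Subgroup H) : cnj g (cnj h A) = cnj (g * h) A := by
  rw [cnj, cnj, cnj, Subgroup.map_map]
  congr 1
  ext x
  simp [mul_assoc]

theorem cnj_one (A : Subgroup H) : cnj 1 A = A := by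
  ext x; simp [cnj]

theorem act_mul (g h : H) (v : V) : ρ (g * h) v = ρ g (ρ h v) := by rw [map_mul]; rfl

theorem act_inv (g : H) (v : V) : ρ g (ρ g⁻¹ v) = v := by
  rw [← act_mul, mul_inv_cancel, map_one]; rfl

theorem inv_act (g : H) (v : V) : ρ g⁻¹ (ρ g v) = v := by
  rw [← act_mul, inv_mul_cancel, map_one]; rfl

/-- The stabiliser of a vector. -/
def stab (ρ : H →* MulAut V) (v : V) : Subgroup H where
  carrier := {h | ρ h v = v}
  one_mem' := by show ρ 1 v = v; rw [map_one]; rfl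
  mul_mem' := fun {g h} hg hh => by show ρ (g * h) v = v; rw [act_mul, hh, hg]
  inv_mem' := fun {g} hg => by
    show ρ g⁻¹ v = v
    conv_lhs => rw [← (hg : ρ g v = v)]
    exact inv_act g v

theorem fixBy_anti {B C : Subgroup H} (h : B ≤ C) : fixBy ρ C ≤ fixBy ρ B :=
  fun _ hv b hb => hv b (h hb)

theorem inf_le_fixBy_sup (B C : Subgroup H) : fixBy ρ B ⊓ fixBy ρ C ≤ fixBy ρ (B ⊔ C) :=
  fun v hv _ hb => (sup_le (fun _ h => hv.1 _ h) (fun _ h => hv.2 _ h) : B ⊔ C ≤ stab ρ v) hb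

theorem fixBy_bot : fixBy ρ (⊥ : Subgroup H) = ⊤ :=
  eq_top_iff.mpr fun v _ b hb => by rw [Subgroup.mem_bot.mp hb, map_one]; rfl

theorem fixBy_cnj (g : H) (B : Subgroup H) :
    fixBy ρ (cnj g B) = (fixBy ρ B).map (ρ g).toMonoidHom := by
  ext v
  constructor
  · intro hv
    refine ⟨ρ g⁻¹ v, fun b hb => ?_, act_inv g v⟩
    conv_rhs => rw [← hv _ (mem_cnj (g := g) hb), act_mul, act_mul, inv_act]
  · rintro ⟨w, hw, rfl⟩ _ ⟨b, hb, rfl⟩
    show ρ (g * b * g⁻¹) (ρ g w) = ρ g w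
    rw [act_mul, act_mul, inv_act, hw b hb]

theorem val_cnj (g : H) (B : Subgroup H) : val ρ (cnj g B) = val ρ B := by
  rw [val, val, fixBy_cnj, Subgroup.card_map_of_injective (MulAut.conj g).injective,
    Subgroup.card_map_of_injective (ρ g).injective]

theorem Strong.conj {A : Subgroup H} (hA : Strong ρ A) (g : H) : Strong ρ (cnj g A) := by
  intro B hB
  have h1 : cnj g⁻¹ B ≤ A := by
    have := Subgroup.map_mono (f := (MulAut.conj g⁻¹).toMonoidHom) hB
    rwa [show (cnj g A).map (MulAut.conj g⁻¹).toMonoidHom = A from by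
      show cnj g⁻¹ (cnj g A) = A
      rw [cnj_cnj, inv_mul_cancel, cnj_one]] at this
  have h2 := hA _ h1
  rwa [val_cnj, ← val_cnj g A] at h2

theorem isPGroup_of_sq {B : Subgroup H} (h : ∀ x ∈ B, x * x = 1) : IsPGroup 2 ↥B :=
  fun x => ⟨1, Subtype.ext (by rw [pow_one, pow_two]; exact h x x.2)⟩

namespace Hyp

theorem sq_act (hy : Hyp ρ) (s : H) (v : V) : ρ s v = ρ s v * v * v := by
  rw [mul_assoc, hy.sq, mul_one]

theorem comm (hy : Hyp ρ) {T : Subgroup H} (hT : IsPGroup 2 ↥T) {s t : H} (hs : s ∈ T) (ht : t ∈ T) :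
    s * t = t * s := by
  refine hy.inj (MulEquiv.ext fun v => ?_)
  rw [act_mul, act_mul]
  conv_lhs => rw [hy.sq_act t v, map_mul, hy.quad T hT t ht s hs v]
  conv_rhs => rw [hy.sq_act s v, map_mul, hy.quad T hT s hs t ht v]
  calc ρ t v * v * ρ s v = ρ t v * (v * ρ s v) := mul_assoc _ _ _
    _ = (v * ρ s v) * ρ t v := mul_comm _ _
    _ = ρ s v * v * ρ t v := by rw [mul_comm v]

theorem invol (hy : Hyp ρ) {T : Subgroup H} (hT : IsPGroup 2 ↥T) {s : H} (hs : s ∈ T) : s * s = 1 := by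
  refine hy.inj (MulEquiv.ext fun v => ?_)
  rw [act_mul, map_one]
  show _ = v
  conv_lhs => rw [hy.sq_act s v, map_mul, hy.quad T hT s hs s hs v]
  calc ρ s v * v * ρ s v = ρ s v * ρ s v * v := by rw [mul_assoc, mul_comm v, ← mul_assoc]
    _ = v := by rw [hy.sq, one_mul]

theorem sup_isPGroup (hy : Hyp ρ) {A B : Subgroup H} (hA : IsPGroup 2 ↥A) (hB : IsPGroup 2 ↥B)
    (hc : ∀ a ∈ A, ∀ b ∈ B, a * b = b * a) : IsPGroup 2 ↥(A ⊔ B) :=
  hA.to_sup_of_normal_right' hB (le_trans (fun a ha => mem_centralizer_iff.mpr fun b hb =>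
    (hc a ha b hb).symm) (centralizer_le_normalizer _))

/-- `2`-groups normalising an offender centralise it. -/
theorem comm_of_normalizes (hy : Hyp ρ) {B : Subgroup H} (hB : IsPGroup 2 ↥B) {c : H}
    (hc : c * c = 1) (hn : c ∈ normalizer (B : Set H)) {b : H} (hb : b ∈ B) : c * b = b * c := by
  have h : IsPGroup 2 ↥(zpowers c ⊔ B) := (isPGroup_of_sq fun x hx => by
    obtain ⟨i, rfl⟩ := mem_zpowers_iff.mp hx
    rw [← (Commute.refl c).mul_zpow, hc, one_zpow]).to_sup_of_normal_right' hB (zpowers_le.mpr hn)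
  exact hy.comm h (mem_sup_left (mem_zpowers c)) (mem_sup_right hb)

end Hyp

theorem val_sup [Finite H] [Finite V] (A B : Subgroup H) :
    val ρ A * val ρ B ≤ val ρ (A ⊔ B) * val ρ (A ⊓ B) := by
  have h1 := PLocal.card_mul_card_le A B
  have h2 := PLocal.card_mul_card_le (fixBy ρ A) (fixBy ρ B)
  have h3 : Nat.card ↥(fixBy ρ A ⊓ fixBy ρ B) ≤ Nat.card ↥(fixBy ρ (A ⊔ B)) :=
    Subgroup.card_le_of_le (inf_le_fixBy_sup A B)
  have h4 : Nat.card ↥(fixBy ρ A ⊔ fixBy ρ B) ≤ Nat.card ↥(fixBy ρ (A ⊓ B)) :=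
    Subgroup.card_le_of_le (sup_le (fixBy_anti inf_le_left) (fixBy_anti inf_le_right))
  have h5 := Nat.mul_le_mul h1 (h2.trans (Nat.mul_le_mul h3 h4))
  calc val ρ A * val ρ B = Nat.card ↥A * Nat.card ↥B *
        (Nat.card ↥(fixBy ρ A) * Nat.card ↥(fixBy ρ B)) := by unfold val; ring
    _ ≤ _ := h5
    _ = val ρ (A ⊔ B) * val ρ (A ⊓ B) := by unfold val; ring

/-- A group generated by two `2`-groups stabilising a chain with fixed `X` is a `2`-group. -/
theorem eq_pGroup_of_chain (hy : Hyp ρ) {A B : Subgroup H} (hAB : A ⊔ B = ⊤) {X : Subgroup V}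
    (hA : X ≤ fixBy ρ A) (hB : X ≤ fixBy ρ B) (hA' : ∀ a ∈ A, ∀ v, ρ a v * v ∈ X)
    (hB' : ∀ b ∈ B, ∀ v, ρ b v * v ∈ X) : IsPGroup 2 ↥(⊤ : Subgroup H) := by
  let S : Subgroup H :=
    { carrier := {h | (∀ x ∈ X, ρ h x = x) ∧ ∀ v, ρ h v * v ∈ X}
      one_mem' := ⟨fun x _ => by rw [map_one]; rfl, fun v => by
        rw [map_one]; show v * v ∈ X; rw [hy.sq]; exact one_mem _⟩
      mul_mem' := fun {g h} hg hh => ⟨fun x hx => by rw [act_mul, hh.1 x hx, hg.1 x hx], fun v => by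
        have h1 : ρ (g * h) v * v = (ρ h v * v) * (ρ g v * v) := by
          rw [act_mul]
          conv_lhs => rw [hy.sq_act h v, map_mul, hg.1 _ (hh.2 v)]
          rw [mul_assoc]
        rw [h1]; exact mul_mem (hh.2 v) (hg.2 v)⟩
      inv_mem' := fun {g} hg => ⟨fun x hx => by conv_lhs => rw [← hg.1 x hx, inv_act], fun v => by
        have := hg.2 (ρ g⁻¹ v)
        rw [act_inv, mul_comm] at this
        exact this⟩ }
  have hS : A ⊔ B ≤ S := sup_le (fun a ha => ⟨fun x hx => hA hx a ha, hA' a ha⟩)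
    (fun b hb => ⟨fun x hx => hB hx b hb, hB' b hb⟩)
  rw [hAB] at hS
  refine isPGroup_of_sq fun h _ => hy.inj (MulEquiv.ext fun v => ?_)
  obtain ⟨h1, h2⟩ := hS (mem_top h)
  rw [act_mul, map_one]
  show _ = v
  conv_lhs => rw [hy.sq_act h v, map_mul, h1 _ (h2 v)]
  calc ρ h v * v * ρ h v = ρ h v * ρ h v * v := by rw [mul_assoc, mul_comm v, ← mul_assoc]
    _ = v := by rw [hy.sq, one_mul]

theorem main_aux : ∀ (n : ℕ) (H : Type u) [Group H] [Finite H] (V : Type v) [CommGroup V] [Finite V]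
    (ρ : H →* MulAut V), Nat.card H + Nat.card V = n → Hyp ρ → ∀ A : Subgroup H, IsPGroup 2 ↥A →
    Strong ρ A → A ≤ Cfsg.pCore 2 H := by
  intro n
  induction n using Nat.strongRecOn with
  | ind n IH =>
  intro H _ _ V _ _ ρ hn hy A₀ hA₀p hA₀s
  haveI : Fact (Nat.Prime 2) := ⟨Nat.prime_two⟩
  by_contra hA₀
  set E := Cfsg.pCore 2 H with hEdef
  have hEp : IsPGroup 2 ↥E := Cores.pCore_isPGroup 2 H
  -- proper subgroups
  have hprop : ∀ L : Subgroup H, L ≠ ⊤ → ∀ B : Subgroup H, B ≤ L → IsPGroup 2 ↥B → Strong ρ B →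
      B ≤ (Cfsg.pCore 2 ↥L).map L.subtype := by
    intro L hL B hBL hBp hBs
    have hlt : Nat.card ↥L < Nat.card H := lt_of_le_of_ne
      (Nat.le_of_dvd Nat.card_pos (Subgroup.card_subgroup_dvd_card L)) fun h => hL (Subgroup.eq_top_of_card_eq L h)
    have hLp : ∀ T : Subgroup ↥L, IsPGroup 2 ↥T → IsPGroup 2 ↥(T.map L.subtype) := fun T hT => hT.map _
    have hyL : Hyp (ρ.comp L.subtype) :=
      ⟨hy.inj.comp L.subtype_injective, hy.sq,
        fun T hT s hs t ht v => hy.quad _ (hLp T hT) s ⟨s, hs, rfl⟩ t ⟨t, ht, rfl⟩ v,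
        fun t z h1 h2 h3 => Subtype.ext (hy.noS3 (t : H) (z : H) (congrArg Subtype.val h1)
          (congrArg Subtype.val h2) (congrArg Subtype.val h3))⟩
    have hfix : ∀ C : Subgroup ↥L, fixBy (ρ.comp L.subtype) C = fixBy ρ (C.map L.subtype) := fun C => by
      ext v
      exact ⟨fun h b hb => by obtain ⟨c, hc, rfl⟩ := hb; exact h c hc, fun h c hc => h _ ⟨c, hc, rfl⟩⟩
    have hval : ∀ C : Subgroup ↥L, val (ρ.comp L.subtype) C = val ρ (C.map L.subtype) := fun C => by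
      rw [val, val, hfix, Subgroup.card_map_of_injective L.subtype_injective]
    have h := IH _ (by omega) ↥L V (ρ.comp L.subtype) rfl hyL (B.subgroupOf L)
      (hBp.comap_of_injective L.subtype L.subtype_injective) (fun C hC => by
        rw [hval, hval, map_subgroupOf_eq_of_le hBL]
        exact hBs _ ((Subgroup.map_mono hC).trans (map_subgroupOf_eq_of_le hBL).le))
    intro b hb
    exact ⟨⟨b, hBL hb⟩, h hb, rfl⟩
  have hpropc : ∀ L : Subgroup H, L ≠ ⊤ → ∀ B C : Subgroup H, B ≤ L → C ≤ L → IsPGroup 2 ↥B →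
      IsPGroup 2 ↥C → Strong ρ B → Strong ρ C → ∀ b ∈ B, ∀ c ∈ C, b * c = c * b := by
    intro L hL B C hBL hCL hBp hCp hBs hCs b hb c hc
    exact hy.comm ((Cores.pCore_isPGroup 2 ↥L).map _) (hprop L hL B hBL hBp hBs hb) (hprop L hL C hCL hCp hCs hc)
  have htop : ¬ IsPGroup 2 ↥(⊤ : Subgroup H) := fun h => hA₀ (le_top.trans (Cores.le_pCore inferInstance h))
  -- transitivity
  have htrans : ∀ B C D : Subgroup H, IsPGroup 2 ↥B → IsPGroup 2 ↥C → IsPGroup 2 ↥D → Strong ρ B →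
      Strong ρ D → ¬ C ≤ E → (∀ b ∈ B, ∀ c ∈ C, b * c = c * b) → (∀ d ∈ D, ∀ c ∈ C, d * c = c * d) →
      ∀ b ∈ B, ∀ d ∈ D, b * d = d * b := by
    intro B C D hBp hCp hDp hBs hDs hCE hBC hDC
    refine hpropc (centralizer (C : Set H)) (fun h => hCE ?_) B D
      (fun b hb => mem_centralizer_iff.mpr fun c hc => (hBC b hb c hc).symm)
      (fun d hd => mem_centralizer_iff.mpr fun c hc => (hDC d hd c hc).symm) hBp hDp hBs hDs
    rw [hEdef]
    exact Cores.le_pCore ⟨fun c hc g => by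
      have hg : g ∈ centralizer (C : Set H) := h ▸ mem_top g
      rw [← mem_centralizer_iff.mp hg c hc, mul_inv_cancel_right]; exact hc⟩ hCp
  -- generation by two conjugates
  have hgen : ∀ B : Subgroup H, IsPGroup 2 ↥B → Strong ρ B → ¬ B ≤ E →
      ∃ g, B ⊔ cnj g B = ⊤ := by
    intro B hBp hBs hBE
    by_contra! hno
    apply hBE
    have hc : ∀ g : H, ∀ b ∈ B, ∀ c ∈ cnj g B, b * c = c * b := fun g =>
      hpropc _ (hno g) B (cnj g B) le_sup_left le_sup_right hBp (hBp.map _) hBs (hBs.conj g)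
    have hconj : ∀ x ∈ Group.conjugatesOfSet (B : Set H), ∃ g, x ∈ cnj g B := by
      intro x hx
      obtain ⟨b, hb, hxb⟩ := Group.mem_conjugatesOfSet_iff.mp hx
      obtain ⟨g, hg⟩ := isConj_iff.mp hxb
      exact ⟨g, b, hb, hg⟩
    have hcomm : ∀ x ∈ Group.conjugatesOfSet (B : Set H), ∀ y ∈ Group.conjugatesOfSet (B : Set H),
        x * y = y * x := by
      intro x hx y hy'
      obtain ⟨g, b, hb, rfl⟩ := hconj x hx
      obtain ⟨k, hk⟩ := hconj y hy'
      have h1 : g⁻¹ * y * g ∈ cnj (g⁻¹ * k) B := by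
        rw [← cnj_cnj]
        have := mem_cnj (g := g⁻¹) hk
        rwa [inv_inv] at this
      have h2 := hc _ b hb _ h1
      show g * b * g⁻¹ * y = y * (g * b * g⁻¹)
      calc g * b * g⁻¹ * y = g * (b * (g⁻¹ * y * g)) * g⁻¹ := by group
        _ = g * ((g⁻¹ * y * g) * b) * g⁻¹ := by rw [h2]
        _ = y * (g * b * g⁻¹) := by group
    haveI : IsMulCommutative ↥(closure (Group.conjugatesOfSet (B : Set H))) :=
      Subgroup.isMulCommutative_closure hcomm
    have hp : IsPGroup 2 ↥(normalClosure (B : Set H)) := by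
      refine isPGroup_of_sq fun x hx => ?_
      refine Subgroup.closure_induction (p := fun y _ => y * y = 1) (fun y hy' => ?_) (one_mul 1)
        (fun y z hy₁ hz₁ h1 h2 => ?_) (fun y _ h1 => ?_) hx
      · obtain ⟨g, hg⟩ := hconj y hy'
        exact hy.invol (hBp.map _) hg
      · have hcz : z * y = y * z :=
          congrArg Subtype.val (IsMulCommutative.is_comm.comm (⟨z, hz₁⟩ : ↥(closure (Group.conjugatesOfSet (B : Set H)))) ⟨y, hy₁⟩)
        calc y * z * (y * z) = y * (z * y) * z := by group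
          _ = (y * y) * (z * z) := by rw [hcz]; group
          _ = 1 := by rw [h1, h2, one_mul]
      · rw [← mul_inv_rev, h1, inv_one]
    exact subset_normalClosure.trans (Cores.le_pCore inferInstance hp)
  -- the core is central and meets strong offenders trivially
  have hcentE : ∀ e ∈ E, ∀ h : H, h * e = e * h := by
    obtain ⟨g, hg⟩ := hgen A₀ hA₀p hA₀s hA₀
    intro e he h
    have hle : A₀ ⊔ cnj g A₀ ≤ centralizer (E : Set H) := by
      refine sup_le (fun a ha => ?_) (fun a ha => ?_) <;> rw [mem_centralizer_iff] <;> intro e' he'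
      · exact hy.comm (hA₀p.to_sup_of_normal_right hEp) (mem_sup_right he') (mem_sup_left ha)
      · exact hy.comm ((hA₀p.map _).to_sup_of_normal_right hEp) (mem_sup_right he') (mem_sup_left ha)
    rw [hg] at hle
    exact (mem_centralizer_iff.mp (hle (mem_top h)) e he).symm
  have hmeet : ∀ B : Subgroup H, IsPGroup 2 ↥B → Strong ρ B → ¬ B ≤ E → B ⊓ E = ⊥ := by
    intro B hBp hBs hBE
    by_contra hne
    obtain ⟨g, hg⟩ := hgen B hBp hBs hBE
    set W := fixBy ρ (B ⊓ E) with hW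
    have hWinv : ∀ h : H, ∀ w ∈ W, ρ h w ∈ W := fun h w hw b hb => by
      rw [← act_mul, ← hcentE b hb.2 h, act_mul, hw b hb]
    have hWlt : Nat.card ↥W < Nat.card V := by
      refine lt_of_le_of_ne (Nat.le_of_dvd Nat.card_pos (Subgroup.card_subgroup_dvd_card W)) fun h => hne ?_
      rw [eq_bot_iff]
      intro b hb
      rw [mem_bot]
      refine hy.inj (MulEquiv.ext fun v => ?_)
      rw [map_one]
      exact (Subgroup.eq_top_of_card_eq W h ▸ mem_top v : v ∈ W) b hb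
    let r : H →* MulAut ↥W :=
      { toFun := fun h =>
          { toFun := fun w => ⟨ρ h w, hWinv h w w.2⟩
            invFun := fun w => ⟨ρ h⁻¹ w, hWinv h⁻¹ w w.2⟩
            left_inv := fun w => Subtype.ext (inv_act (ρ := ρ) h (w : V))
            right_inv := fun w => Subtype.ext (act_inv (ρ := ρ) h (w : V))
            map_mul' := fun w w' => Subtype.ext (map_mul (ρ h) (w : V) w') }
        map_one' := MulEquiv.ext fun w => Subtype.ext (by show ρ 1 (w : V) = w; rw [map_one]; rfl)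
        map_mul' := fun a b => MulEquiv.ext fun w => Subtype.ext (act_mul a b (w : V)) }
    have hr : ∀ h (w : ↥W), (r h w : V) = ρ h w := fun _ _ => rfl
    set K := r.ker with hK
    let r' : H ⧸ K →* MulAut ↥W := QuotientGroup.kerLift r
    have hr' : ∀ h : H, r' (QuotientGroup.mk' K h) = r h := fun h => QuotientGroup.kerLift_mk r h
    have hlift : ∀ T : Subgroup (H ⧸ K), IsPGroup 2 ↥T → ∃ P : Subgroup H, IsPGroup 2 ↥P ∧
        ∀ x ∈ T, ∃ y ∈ P, QuotientGroup.mk' K y = x := by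
      intro T hT
      obtain ⟨P₁, hP₁⟩ := hT.exists_le_sylow
      obtain ⟨P₀⟩ : Nonempty (Sylow 2 H) := inferInstance
      obtain ⟨y, hy'⟩ := MulAction.exists_smul_eq (H ⧸ K) (P₀.mapSurjective (QuotientGroup.mk'_surjective K)) P₁
      obtain ⟨c, rfl⟩ := QuotientGroup.mk'_surjective K y
      refine ⟨cnj c (P₀ : Subgroup H), P₀.2.map _, fun x hx => ?_⟩
      have h1 := hP₁ hx
      rw [← hy', Sylow.smul_def, Sylow.pointwise_smul_def, Subgroup.pointwise_smul_def, Sylow.coe_mapSurjective] at h1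
      obtain ⟨_, ⟨s, hs, rfl⟩, rfl⟩ := h1
      exact ⟨c * s * c⁻¹, mem_cnj hs, by rw [map_mul, map_mul, map_inv]; rfl⟩
    have hyQ : Hyp r' := by
      refine ⟨QuotientGroup.kerLift_injective r, fun w => Subtype.ext (hy.sq w), ?_, ?_⟩
      · intro T hT s hs t ht w
        obtain ⟨P, hP, hlP⟩ := hlift T hT
        obtain ⟨s', hs', rfl⟩ := hlP s hs
        obtain ⟨t', ht', rfl⟩ := hlP t ht
        rw [hr', hr']
        exact Subtype.ext (hy.quad P hP s' hs' t' ht' w)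
      · intro t z ht hz htz
        by_contra hz1
        obtain ⟨P, hP, hlP⟩ := hlift (zpowers t) (isPGroup_of_sq fun x hx => by
          obtain ⟨i, rfl⟩ := mem_zpowers_iff.mp hx
          rw [← (Commute.refl t).mul_zpow, ht, one_zpow])
        obtain ⟨t', ht', rfl⟩ := hlP t (mem_zpowers _)
        obtain ⟨u, rfl⟩ := QuotientGroup.mk'_surjective K z
        have ht2 := hy.invol hP ht'
        set d := t' * (u * t' * u⁻¹) with hd
        have hti : t'⁻¹ = t' := inv_eq_of_mul_eq_one_right ht2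
        have hdinv : t' * d * t'⁻¹ = d⁻¹ := by
          rw [hd, hti, mul_inv_rev, mul_inv_rev, mul_inv_rev, inv_inv, hti]
          calc t' * (t' * (u * t' * u⁻¹)) * t' = (t' * t') * (u * t' * u⁻¹) * t' := by group
            _ = _ := by rw [ht2, one_mul]; group
        have hz2 : (QuotientGroup.mk' K u)⁻¹ * (QuotientGroup.mk' K u)⁻¹ = QuotientGroup.mk' K u := by
          rw [← mul_inv_rev]
          exact inv_eq_of_mul_eq_one_right (by rw [← hz, pow_succ, pow_two])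
        have hdz : QuotientGroup.mk' K d = QuotientGroup.mk' K u := by
          rw [hd, map_mul, map_mul, map_mul, map_inv]
          calc QuotientGroup.mk' K t' * (QuotientGroup.mk' K u * QuotientGroup.mk' K t' * (QuotientGroup.mk' K u)⁻¹)
              = (QuotientGroup.mk' K t' * QuotientGroup.mk' K u * (QuotientGroup.mk' K t')⁻¹) *
                (QuotientGroup.mk' K t' * QuotientGroup.mk' K t') * (QuotientGroup.mk' K u)⁻¹ := by group
            _ = _ := by rw [htz, ht, mul_one, hz2]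
        have hdo : orderOf (QuotientGroup.mk' K d) = 3 := by
          rw [hdz]
          exact orderOf_eq_prime hz hz1
        obtain ⟨m, hm⟩ : 3 ∣ orderOf d := hdo ▸ orderOf_map_dvd (QuotientGroup.mk' K) d
        have hm0 : m ≠ 0 := fun h => (orderOf_pos d).ne' (by rw [hm, h, mul_zero])
        have h3 : (d ^ m) ^ 3 = 1 := by rw [← pow_mul, mul_comm, ← hm, pow_orderOf_eq_one]
        have h1 : d ^ m ≠ 1 := fun h => by
          have := Nat.le_of_dvd (Nat.pos_of_ne_zero hm0) (orderOf_dvd_of_pow_eq_one h)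
          omega
        exact h1 (hy.noS3 t' (d ^ m) ht2 h3 (by rw [← conj_pow, hdinv, inv_pow]))
    set Bq := B.map (QuotientGroup.mk' K) with hBq
    have hBW : fixBy ρ B ≤ W := fixBy_anti inf_le_left
    have hBqs : Strong r' Bq := by
      intro C hC
      have hC' : C = (B ⊓ C.comap (QuotientGroup.mk' K)).map (QuotientGroup.mk' K) := by
        refine le_antisymm (fun x hx => ?_) (Subgroup.map_le_iff_le_comap.mpr inf_le_right)
        obtain ⟨b, hb, rfl⟩ := hC hx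
        exact ⟨b, ⟨hb, hx⟩, rfl⟩
      set C' := B ⊓ C.comap (QuotientGroup.mk' K) with hC'def
      have hker : ∀ D : Subgroup H, D ≤ B → (∀ b ∈ B, b ∈ K → b ∈ D) →
          Nat.card ↥D = Nat.card ↥(D.map (QuotientGroup.mk' K)) * Nat.card ↥(B ⊓ K) := by
        intro D hD hKD
        rw [Components.card_eq_card_map_mul (QuotientGroup.mk' K) D, QuotientGroup.ker_mk',
          ← Subgroup.card_map_of_injective D.subtype_injective, subgroupOf_map_subtype]
        congr 1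
        have : K ⊓ D = B ⊓ K := le_antisymm (fun x hx => ⟨hD hx.2, hx.1⟩) (fun x hx => ⟨hx.2, hKD x hx.1 hx.2⟩)
        rw [this]
      have hf1 : Nat.card ↥(fixBy r' C) ≤ Nat.card ↥(fixBy ρ C') := by
        rw [← Subgroup.card_map_of_injective W.subtype_injective]
        refine Subgroup.card_le_of_le ?_
        rintro _ ⟨w, hw, rfl⟩ c hc
        have := congrArg Subtype.val (hw _ hc.2)
        rwa [hr', hr] at this
      have hf2 : Nat.card ↥(fixBy ρ B) ≤ Nat.card ↥(fixBy r' Bq) := by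
        rw [← Subgroup.card_map_of_injective W.subtype_injective (K := fixBy r' Bq)]
        refine Subgroup.card_le_of_le fun v hv => ⟨⟨v, hBW hv⟩, ?_, rfl⟩
        rintro _ ⟨b, hb, rfl⟩
        rw [hr']
        exact Subtype.ext (hv b hb)
      have h1 := hker C' inf_le_left (fun b hb hbK => ⟨hb, by
        show QuotientGroup.mk' K b ∈ C
        rw [show QuotientGroup.mk' K b = 1 from (QuotientGroup.eq_one_iff b).mpr hbK]; exact one_mem _⟩)
      rw [← hC'] at h1
      have h2 := hker B le_rfl fun b hb _ => hb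
      rw [← hBq] at h2
      have h3 := hBs C' inf_le_left
      rw [val, val, h1, h2] at h3
      refine Nat.le_of_mul_le_mul_right (c := Nat.card ↥(B ⊓ K)) ?_ Nat.card_pos
      calc val r' C * Nat.card ↥(B ⊓ K)
          ≤ Nat.card ↥C * Nat.card ↥(fixBy ρ C') * Nat.card ↥(B ⊓ K) := by
            unfold val; exact Nat.mul_le_mul_right _ (Nat.mul_le_mul_left _ hf1)
        _ = Nat.card ↥C * Nat.card ↥(B ⊓ K) * Nat.card ↥(fixBy ρ C') := by ring
        _ ≤ Nat.card ↥Bq * Nat.card ↥(B ⊓ K) * Nat.card ↥(fixBy ρ B) := h3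
        _ ≤ Nat.card ↥Bq * Nat.card ↥(B ⊓ K) * Nat.card ↥(fixBy r' Bq) := Nat.mul_le_mul_left _ hf2
        _ = _ := by unfold val; ring
    have hcardQ : Nat.card (H ⧸ K) ≤ Nat.card H :=
      Nat.le_of_dvd Nat.card_pos (Subgroup.card_quotient_dvd_card K)
    have hle := IH _ (by omega) (H ⧸ K) ↥W r' rfl hyQ Bq (hBp.map _) hBqs
    have hall : (Cfsg.pCore 2 (H ⧸ K)).comap (QuotientGroup.mk' K) = ⊤ := by
      rw [eq_top_iff, ← hg]
      refine sup_le (Subgroup.map_le_iff_le_comap.mp hle) ?_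
      rintro _ ⟨b, hb, rfl⟩
      show QuotientGroup.mk' K (g * b * g⁻¹) ∈ Cfsg.pCore 2 (H ⧸ K)
      rw [map_mul, map_mul, map_inv]
      exact (inferInstance : (Cfsg.pCore 2 (H ⧸ K)).Normal).conj_mem _ (hle ⟨b, hb, rfl⟩) _
    have hsame : ∀ b : H, ∀ w ∈ W, ρ (g * b * g⁻¹) w = ρ b w := by
      intro b w hw
      have hmem : ∀ x : H, QuotientGroup.mk' K x ∈ Cfsg.pCore 2 (H ⧸ K) := fun x =>
        (hall ▸ mem_top x : x ∈ (Cfsg.pCore 2 (H ⧸ K)).comap (QuotientGroup.mk' K))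
      have e : QuotientGroup.mk' K (g * b * g⁻¹) = QuotientGroup.mk' K b := by
        rw [map_mul, map_mul, map_inv, hyQ.comm (Cores.pCore_isPGroup 2 _) (hmem g) (hmem b), mul_inv_cancel_right]
      have h5 : ((r' (QuotientGroup.mk' K (g * b * g⁻¹)) ⟨w, hw⟩ : ↥W) : V) =
          ((r' (QuotientGroup.mk' K b) ⟨w, hw⟩ : ↥W) : V) := by rw [e]
      rw [hr', hr'] at h5
      exact h5
    have hXg : fixBy ρ (cnj g B) = fixBy ρ B := by
      have h1 : fixBy ρ B ≤ fixBy ρ (cnj g B) := by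
        rintro v hv _ ⟨b, hb, rfl⟩
        show ρ (g * b * g⁻¹) v = v
        rw [hsame b v (hBW hv), hv b hb]
      exact (Subgroup.eq_of_le_of_card_ge h1 (by
        rw [fixBy_cnj, Subgroup.card_map_of_injective (ρ g).injective])).symm
    exact htop (eq_pGroup_of_chain hy hg le_rfl hXg.ge (fun b hb v b' hb' => hy.quad B hBp b hb b' hb' v)
      (fun c hc v => hXg.le fun c' hc' => hy.quad _ (hBp.map _) c hc c' hc' v))
  -- the maximal subgroup
  let M : Subgroup H :=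
    { carrier := {h | ∀ a ∈ A₀, ∀ c ∈ cnj h A₀, a * c = c * a}
      one_mem' := fun a ha c hc => by
        rw [cnj_one] at hc
        exact hy.comm hA₀p ha hc
      mul_mem' := fun {g h} hg hh => by
        refine htrans A₀ (cnj g A₀) (cnj (g * h) A₀) hA₀p (hA₀p.map _) (hA₀p.map _) hA₀s (hA₀s.conj _)
          (fun hle => hA₀ fun a ha => ?_) hg ?_
        · have h2 := (inferInstance : E.Normal).conj_mem _ (hle (mem_cnj (g := g) ha)) g⁻¹
          rwa [inv_inv, show g⁻¹ * (g * a * g⁻¹) * g = a by group] at h2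
        · rw [← cnj_cnj]
          rintro _ ⟨d, hd, rfl⟩ _ ⟨a, ha, rfl⟩
          rw [← map_mul, ← map_mul, hh a ha d hd]
      inv_mem' := fun {g} hg a ha c hc => by
        obtain ⟨b, hb, rfl⟩ := hc
        show a * (g⁻¹ * b * g⁻¹⁻¹) = g⁻¹ * b * g⁻¹⁻¹ * a
        have h1 := hg b hb _ (mem_cnj (g := g) ha)
        calc a * (g⁻¹ * b * g⁻¹⁻¹) = g⁻¹ * ((g * a * g⁻¹) * b) * g := by group
          _ = g⁻¹ * (b * (g * a * g⁻¹)) * g := by rw [h1]
          _ = g⁻¹ * b * g⁻¹⁻¹ * a := by group }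
  have hMmax : ∀ L : Subgroup H, L ≠ ⊤ → A₀ ≤ L → L ≤ M := by
    intro L hL hAL l hl
    refine hpropc L hL A₀ (cnj l A₀) hAL ?_ hA₀p (hA₀p.map _) hA₀s (hA₀s.conj l)
    rintro _ ⟨a, ha, rfl⟩
    exact mul_mem (mul_mem hl (hAL ha)) (inv_mem hl)
  set D : Subgroup H := closure {x | ∃ h ∈ M, x ∈ cnj h A₀} with hD
  have hDcomm : ∀ x ∈ {x | ∃ h ∈ M, x ∈ cnj h A₀}, ∀ y ∈ {x | ∃ h ∈ M, x ∈ cnj h A₀}, x * y = y * x := by
    rintro x ⟨h, hh, a, ha, rfl⟩ y ⟨k, hk, hy'⟩
    have h1 : h⁻¹ * y * h ∈ cnj (h⁻¹ * k) A₀ := by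
      rw [← cnj_cnj]
      have := mem_cnj (g := h⁻¹) hy'
      rwa [inv_inv] at this
    have h2 := M.mul_mem (M.inv_mem hh) hk a ha _ h1
    show h * a * h⁻¹ * y = y * (h * a * h⁻¹)
    calc h * a * h⁻¹ * y = h * (a * (h⁻¹ * y * h)) * h⁻¹ := by group
      _ = h * ((h⁻¹ * y * h) * a) * h⁻¹ := by rw [h2]
      _ = y * (h * a * h⁻¹) := by group
  haveI : IsMulCommutative ↥D := Subgroup.isMulCommutative_closure hDcomm
  have hDp : IsPGroup 2 ↥D := by
    refine isPGroup_of_sq fun x hx => ?_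
    refine Subgroup.closure_induction (p := fun y _ => y * y = 1) ?_ (one_mul 1)
      (fun y z hy₁ hz₁ h1 h2 => ?_) (fun y _ h1 => by rw [← mul_inv_rev, h1, inv_one]) hx
    · rintro y ⟨h, -, hh⟩
      exact hy.invol (hA₀p.map _) hh
    · have hcz : z * y = y * z := congrArg Subtype.val (IsMulCommutative.is_comm.comm (⟨z, hz₁⟩ : ↥D) ⟨y, hy₁⟩)
      calc y * z * (y * z) = y * (z * y) * z := by group
        _ = (y * y) * (z * z) := by rw [hcz]; group
        _ = 1 := by rw [h1, h2, one_mul]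
  have hA₀D : A₀ ≤ D := fun a ha => subset_closure ⟨1, one_mem _, by rw [cnj_one]; exact ha⟩
  have hMD : ∀ h ∈ M, cnj h D ≤ D := by
    intro h hh
    rw [cnj, hD, MonoidHom.map_closure, closure_le]
    rintro _ ⟨x, ⟨k, hk, a, ha, rfl⟩, rfl⟩
    refine subset_closure ⟨h * k, M.mul_mem hh hk, ?_⟩
    rw [← cnj_cnj]
    exact ⟨_, ⟨a, ha, rfl⟩, rfl⟩
  -- the largest subgroup of largest weight
  haveI : Nonempty {B : Subgroup H // B ≤ D} := ⟨⟨⊥, bot_le⟩⟩
  obtain ⟨⟨A₁, hA₁D⟩, hA₁max⟩ := Finite.exists_max (fun B : {B : Subgroup H // B ≤ D} =>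
    val ρ B.1 * (Nat.card H + 1) + Nat.card ↥B.1)
  have hcardle : ∀ B : Subgroup H, Nat.card ↥B < Nat.card H + 1 := fun B =>
    Nat.lt_succ_of_le (Nat.le_of_dvd Nat.card_pos (Subgroup.card_subgroup_dvd_card B))
  have hA₁v : ∀ B : Subgroup H, B ≤ D → val ρ B ≤ val ρ A₁ := by
    intro B hB
    by_contra hlt
    rw [not_le] at hlt
    have h1 := hA₁max ⟨B, hB⟩
    dsimp only at h1
    have := hcardle A₁
    have h2 : (val ρ A₁ + 1) * (Nat.card H + 1) ≤ val ρ B * (Nat.card H + 1) := Nat.mul_le_mul_right _ hlt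
    rw [add_mul, one_mul] at h2
    omega
  have hA₁c : ∀ B : Subgroup H, B ≤ D → val ρ A₁ ≤ val ρ B → A₁ ≤ B → B = A₁ := by
    intro B hB hv hle
    have h1 := hA₁max ⟨B, hB⟩
    dsimp only at h1
    rw [le_antisymm (hA₁v B hB) hv] at h1
    exact (Subgroup.eq_of_le_of_card_ge hle (by omega)).symm
  have hval0 : 0 < val ρ A₁ := Nat.mul_pos Nat.card_pos Nat.card_pos
  have hA₁p : IsPGroup 2 ↥A₁ := hDp.to_le hA₁D
  have hA₁s : Strong ρ A₁ := fun B hB => hA₁v B (hB.trans hA₁D)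
  have hA₁E : ¬ A₁ ≤ E := by
    intro hle
    apply hA₀
    have h1 := val_sup (ρ := ρ) A₀ A₁
    have hbot : A₀ ⊓ A₁ = ⊥ := le_bot_iff.mp ((inf_le_inf_left A₀ hle).trans (hmeet A₀ hA₀p hA₀s hA₀).le)
    have h2 : val ρ A₁ ≤ val ρ (A₀ ⊔ A₁) := by
      rw [hbot] at h1
      have h3 := hA₀s ⊥ bot_le
      have h4 : val ρ A₀ * val ρ A₁ ≤ val ρ (A₀ ⊔ A₁) * val ρ A₀ := h1.trans (Nat.mul_le_mul_left _ h3)
      rw [mul_comm (val ρ (A₀ ⊔ A₁))] at h4
      exact Nat.le_of_mul_le_mul_left h4 (Nat.mul_pos Nat.card_pos Nat.card_pos)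
    exact ((le_sup_left : A₀ ≤ A₀ ⊔ A₁).trans (hA₁c _ (sup_le hA₀D hA₁D) h2 le_sup_right).le).trans hle
  have hMN : ∀ h ∈ M, h ∈ normalizer (A₁ : Set H) := by
    intro h hh
    rw [mem_normalizer_iff_map_conj_eq]
    show cnj h A₁ = A₁
    have hle : cnj h A₁ ≤ D := (Subgroup.map_mono hA₁D).trans (hMD h hh)
    have h1 := val_sup (ρ := ρ) A₁ (cnj h A₁)
    rw [val_cnj] at h1
    have h2 : val ρ A₁ ≤ val ρ (A₁ ⊔ cnj h A₁) :=
      Nat.le_of_mul_le_mul_right (h1.trans (Nat.mul_le_mul_left _ (hA₁v _ (inf_le_left.trans hA₁D)))) hval0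
    have h3 : cnj h A₁ ≤ A₁ := le_sup_right.trans (hA₁c _ (sup_le hA₁D hle) h2 le_sup_left).le
    exact Subgroup.eq_of_le_of_card_ge h3 (Subgroup.card_map_of_injective (MulAut.conj h).injective).ge
  have hA₀A₁ : ∀ a ∈ A₀, ∀ c ∈ A₁, a * c = c * a := fun a ha c hc =>
    congrArg Subtype.val (IsMulCommutative.is_comm.comm (⟨a, hA₀D ha⟩ : ↥D) ⟨c, hA₁D hc⟩)
  have hN : normalizer (A₁ : Set H) ≤ M := hMmax _ (fun h => hA₁E (by
    haveI : A₁.Normal := Subgroup.normalizer_eq_top_iff.mp h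
    exact Cores.le_pCore inferInstance hA₁p)) (fun a ha => mem_normalizer_iff.mpr fun c => by
    constructor
    · intro hc; rw [hA₀A₁ a ha c hc, mul_inv_cancel_right]; exact hc
    · intro hc
      have h1 := hA₀A₁ a ha _ hc
      have : a * c * a⁻¹ = c := by
        have h2 : a * (a * c * a⁻¹) = a * c := by rw [h1]; group
        exact mul_left_cancel h2
      rwa [this] at hc)
  have hgen₁ : ∀ g, g ∉ M → A₁ ⊔ cnj g A₁ = ⊤ := by
    intro g hg
    by_contra hne
    apply hg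
    have h1 := hpropc _ hne A₁ (cnj g A₁) le_sup_left le_sup_right hA₁p (hA₁p.map _) hA₁s (hA₁s.conj g)
    -- `A₀ ~ A₁ ~ A₁^g ~ A₀^g`
    have h2 : ∀ a ∈ A₀, ∀ c ∈ cnj g A₁, a * c = c * a :=
      htrans A₀ A₁ (cnj g A₁) hA₀p hA₁p (hA₁p.map _) hA₀s (hA₁s.conj g) hA₁E hA₀A₁ fun d hd c hc => (h1 c hc d hd).symm
    refine htrans A₀ (cnj g A₁) (cnj g A₀) hA₀p (hA₁p.map _) (hA₀p.map _) hA₀s (hA₀s.conj g)
      (fun hle => hA₁E fun a ha => ?_) h2 ?_
    · have := (inferInstance : E.Normal).conj_mem _ (hle (mem_cnj (g := g) ha)) g⁻¹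
      rwa [inv_inv, show g⁻¹ * (g * a * g⁻¹) * g = a by group] at this
    · rintro _ ⟨a, ha, rfl⟩ _ ⟨c, hc, rfl⟩
      rw [← map_mul, ← map_mul, hA₀A₁ a ha c hc]
  set X := fixBy ρ A₁ with hX
  set C0 := fixBy ρ (⊤ : Subgroup H) with hC0
  have hXquad : ∀ a ∈ A₁, ∀ v, ρ a v * v ∈ X := fun a ha v b hb => hy.quad A₁ hA₁p a ha b hb v
  have hC0X : C0 ≤ X := fixBy_anti le_top
  have hXM : ∀ h ∈ M, X.map (ρ h).toMonoidHom = X := fun h hh => by
    rw [hX, ← fixBy_cnj]
    exact congrArg (fixBy ρ) (mem_normalizer_iff_map_conj_eq.mp (hMN h hh))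
  have hdisj : ∀ h, h ∉ M → ∀ v ∈ X, ρ h⁻¹ v ∈ X → v ∈ C0 := by
    intro h hh v hv hv'
    have : v ∈ fixBy ρ (A₁ ⊔ cnj h A₁) := inf_le_fixBy_sup _ _ ⟨hv, by
      rw [fixBy_cnj]; exact ⟨_, hv', act_inv h v⟩⟩
    rwa [hgen₁ h hh] at this
  obtain ⟨g₀, hg₀⟩ : ∃ g, g ∉ M := by
    by_contra! h
    have hM : M = ⊤ := eq_top_iff.mpr fun x _ => h x
    haveI : A₁.Normal := Subgroup.normalizer_eq_top_iff.mp (eq_top_iff.mpr fun x _ => hMN x (h x))
    exact hA₁E (Cores.le_pCore inferInstance hA₁p)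
  obtain ⟨x₀, hx₀, hx₀C⟩ : ∃ x ∈ X, x ∉ C0 := by
    by_contra! h
    have hXY : X ≤ fixBy ρ (cnj g₀ A₁) := h |> fun h x hx => fixBy_anti le_top (h x hx)
    have hXeq : fixBy ρ (cnj g₀ A₁) = X := (Subgroup.eq_of_le_of_card_ge hXY (by
      rw [fixBy_cnj, Subgroup.card_map_of_injective (ρ g₀).injective])).symm
    exact htop (eq_pGroup_of_chain hy (hgen₁ g₀ hg₀) le_rfl hXY hXquad
      (fun c hc v => hXeq.le fun c' hc' => hy.quad _ (hA₁p.map _) c hc c' hc' v))
  have hnofix : ∀ g, g ∉ M → ∀ a ∈ A₁, a ≠ 1 → g⁻¹ * a * g ∉ M := by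
    intro g hg a ha ha1 hin
    have hc2 : g⁻¹ * a * g * (g⁻¹ * a * g) = 1 := by
      rw [show g⁻¹ * a * g * (g⁻¹ * a * g) = g⁻¹ * (a * a) * g by group, hy.invol hA₁p ha]; group
    have hcent : zpowers a ≤ E := by
      have hle : A₁ ⊔ cnj g A₁ ≤ centralizer ({a} : Set H) := by
        refine sup_le (fun b hb => mem_centralizer_singleton_iff.mpr (hy.comm hA₁p hb ha)) ?_
        rintro _ ⟨b, hb, rfl⟩
        rw [mem_centralizer_singleton_iff]
        have h1 := hy.comm_of_normalizes hA₁p hc2 (hMN _ hin) hb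
        show g * b * g⁻¹ * a = a * (g * b * g⁻¹)
        calc g * b * g⁻¹ * a = g * (b * (g⁻¹ * a * g)) * g⁻¹ := by group
          _ = g * ((g⁻¹ * a * g) * b) * g⁻¹ := by rw [h1]
          _ = a * (g * b * g⁻¹) := by group
      rw [hgen₁ g hg] at hle
      haveI : (zpowers a).Normal := ⟨fun x hx k => by
        obtain ⟨i, rfl⟩ := mem_zpowers_iff.mp hx
        have hk : Commute k a := mem_centralizer_singleton_iff.mp (hle (mem_top k))
        rw [(hk.zpow_right i).eq, mul_inv_cancel_right]; exact hx⟩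
      exact Cores.le_pCore inferInstance (hA₁p.to_le (zpowers_le.mpr ha))
    have := (hmeet A₁ hA₁p hA₁s hA₁E).le (⟨ha, hcent (mem_zpowers a)⟩ : a ∈ A₁ ⊓ E)
    exact ha1 (mem_bot.mp this)
  have hfixC0 : ∀ c ∈ C0, ∀ h, ρ h c = c := fun c hc h => hc h (mem_top h)
  -- the lines
  have hlines : ∀ g, g ∉ M → (∀ v, v ∈ X ⊔ X.map (ρ g).toMonoidHom) ∧
      ∀ h, h ∉ M → ∃ a ∈ A₁, X.map (ρ h).toMonoidHom = X.map (ρ (a * g)).toMonoidHom := by
    intro g hg
    set Y := X.map (ρ g).toMonoidHom with hY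
    have hXY : X ⊓ Y = C0 := by
      refine le_antisymm ?_ ?_
      · rintro v ⟨hv, w, hw, rfl⟩
        exact hdisj g hg _ hv (by show ρ g⁻¹ (ρ g w) ∈ X; rw [inv_act]; exact hw)
      · intro v hv
        exact ⟨hC0X hv, v, hC0X hv, hfixC0 v hv g⟩
    -- injectivity
    have hinj : ∀ y ∈ Y, y ∉ C0 → ∀ a ∈ A₁, ρ a y * y ∈ C0 → a = 1 := by
      rintro _ ⟨x, hx, rfl⟩ hyC a ha hc
      change ρ a (ρ g x) * ρ g x ∈ C0 at hc
      by_contra ha1
      apply hyC
      have e1 : ρ (g⁻¹ * a * g) x = (ρ a (ρ g x) * ρ g x) * x := by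
        rw [act_mul, act_mul]
        conv_lhs => rw [hy.sq_act a (ρ g x), map_mul, hfixC0 _ hc, inv_act]
      have e2 : ρ (g⁻¹ * a * g) x ∈ X := by rw [e1]; exact mul_mem (hC0X hc) hx
      have e3 := hdisj _ (hnofix g hg a ha ha1) _ e2 (by rw [inv_act]; exact hx)
      rw [e1] at e3
      have e4 : x ∈ C0 := by
        have := C0.mul_mem (C0.inv_mem hc) e3
        rwa [inv_mul_cancel_left] at this
      show ρ g x ∈ C0
      rw [hfixC0 x e4 g]; exact e4
    have hcardY : Nat.card ↥Y = Nat.card ↥X := Subgroup.card_map_of_injective (ρ g).injective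
    set q := QuotientGroup.mk' C0 with hq
    have hXq : Nat.card ↥X = Nat.card ↥(X.map q) * Nat.card ↥C0 := by
      rw [Components.card_eq_card_map_mul q X, hq, QuotientGroup.ker_mk',
        Nat.card_congr (subgroupOfEquivOfLe hC0X).toEquiv]
    have hsum : Nat.card ↥X * Nat.card ↥X ≤ Nat.card ↥C0 * Nat.card ↥(X ⊔ Y) := by
      have := PLocal.card_mul_card_le X Y
      rwa [hXY, hcardY] at this
    have hV : Nat.card V ≤ Nat.card ↥A₁ * Nat.card ↥X := by
      have := hA₁s ⊥ bot_le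
      rwa [val, val, fixBy_bot, Subgroup.card_bot, one_mul, Subgroup.card_top] at this
    have honto : ∀ y ∈ Y, y ∉ C0 → ∀ x ∈ X, ∃ a ∈ A₁, x * (ρ a y * y) ∈ C0 := by
      intro y hyY hyC
      let φ : ↥A₁ →* V ⧸ C0 :=
        { toFun := fun a => q (ρ (a : H) y * y)
          map_one' := by show q (ρ (1 : H) y * y) = 1; rw [map_one]; show q (y * y) = 1; rw [hy.sq, map_one]
          map_mul' := fun a b => by
            show q (ρ ((a : H) * (b : H)) y * y) = _
            rw [← map_mul, act_mul]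
            conv_lhs => rw [hy.sq_act (b : H) y, map_mul (ρ (a : H)), hXquad b b.2 y a a.2]
            congr 1
            calc ρ (b : H) y * y * ρ (a : H) y * y = ρ (b : H) y * y * (ρ (a : H) y * y) := mul_assoc _ _ _
              _ = _ := mul_comm _ _ }
      have hφ : Function.Injective φ := by
        rw [injective_iff_map_eq_one]
        intro a ha
        exact Subtype.ext (hinj y hyY hyC a a.2 ((QuotientGroup.eq_one_iff _).mp ha))
      have hrange : φ.range ≤ X.map q := by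
        rintro _ ⟨a, rfl⟩
        exact ⟨_, hXquad a a.2 y, rfl⟩
      have hq1 : Nat.card ↥φ.range = Nat.card ↥A₁ := Nat.card_congr (MonoidHom.ofInjective hφ).toEquiv.symm
      have hXV : Nat.card ↥(X ⊔ Y) ≤ Nat.card V := Nat.le_of_dvd Nat.card_pos (Subgroup.card_subgroup_dvd_card _)
      have hge : Nat.card ↥(X.map q) ≤ Nat.card ↥φ.range := by
        rw [hq1]
        refine Nat.le_of_mul_le_mul_right (c := Nat.card ↥C0) ?_ Nat.card_pos
        rw [← hXq]
        refine Nat.le_of_mul_le_mul_right (c := Nat.card ↥X) ?_ Nat.card_pos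
        calc Nat.card ↥X * Nat.card ↥X ≤ _ := hsum
          _ ≤ Nat.card ↥C0 * (Nat.card ↥A₁ * Nat.card ↥X) := Nat.mul_le_mul_left _ (hXV.trans hV)
          _ = _ := by ring
      have heq := Subgroup.eq_of_le_of_card_ge hrange hge
      intro x hx
      obtain ⟨a, ha⟩ := heq.ge ⟨x, hx, rfl⟩
      refine ⟨a, a.2, (QuotientGroup.eq_one_iff _).mp ?_⟩
      show q (x * (ρ (a : H) y * y)) = 1
      rw [map_mul, show q (ρ (a : H) y * y) = q x from ha, ← map_mul, hy.sq, map_one]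
    have htopXY : ∀ v, v ∈ X ⊔ Y := by
      intro v
      have hy0 : ρ g x₀ ∈ Y := ⟨x₀, hx₀, rfl⟩
      have hy0C : ρ g x₀ ∉ C0 := fun h => hx₀C (by
        have := hfixC0 _ h g⁻¹
        rw [inv_act] at this
        rwa [← this] at h)
      have hA : Nat.card ↥A₁ ≤ Nat.card ↥(X.map q) := by
        let f : ↥A₁ → ↥(X.map q) := fun a => ⟨q (ρ (a : H) (ρ g x₀) * ρ g x₀), _, hXquad a a.2 _, rfl⟩
        refine Nat.card_le_card_of_injective f fun a b hab => ?_
        have e : q (ρ (a : H) (ρ g x₀) * ρ g x₀) = q (ρ (b : H) (ρ g x₀) * ρ g x₀) := congrArg Subtype.val hab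
        have h1 := hinj _ hy0 hy0C ((b : H) * a) (A₁.mul_mem b.2 a.2) ((QuotientGroup.eq_one_iff _).mp (by
          show q (ρ ((b : H) * a) (ρ g x₀) * ρ g x₀) = 1
          rw [act_mul]
          conv_lhs => rw [hy.sq_act (a : H) (ρ g x₀), map_mul (ρ (b : H)), hXquad a a.2 _ b b.2]
          rw [mul_assoc, map_mul, e, ← map_mul, hy.sq, map_one]))
        refine Subtype.ext ?_
        rw [mul_eq_one_iff_inv_eq] at h1
        rw [← h1, inv_eq_of_mul_eq_one_right (hy.invol hA₁p b.2)]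
      have h2 : Nat.card V ≤ Nat.card ↥(X ⊔ Y) := by
        refine Nat.le_of_mul_le_mul_left (c := Nat.card ↥C0) ?_ Nat.card_pos
        refine le_trans ?_ hsum
        calc Nat.card ↥C0 * Nat.card V ≤ Nat.card ↥C0 * (Nat.card ↥A₁ * Nat.card ↥X) := Nat.mul_le_mul_left _ hV
          _ ≤ Nat.card ↥C0 * (Nat.card ↥(X.map q) * Nat.card ↥X) := Nat.mul_le_mul_left _ (Nat.mul_le_mul_right _ hA)
          _ = Nat.card ↥(X.map q) * Nat.card ↥C0 * Nat.card ↥X := by ring
          _ = _ := by rw [← hXq]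
      exact Subgroup.eq_top_of_le_card _ h2 ▸ mem_top v
    refine ⟨htopXY, fun h hh => ?_⟩
    have hvX : ρ h x₀ ∉ X := by
      intro hin
      have := hdisj h hh _ hin (by rw [inv_act]; exact hx₀)
      exact hx₀C (by
        have h' := hfixC0 _ this h⁻¹
        rw [inv_act] at h'
        rwa [← h'] at this)
    obtain ⟨x, hx, y, hyY, hxy⟩ := Subgroup.mem_sup.mp (htopXY (ρ h x₀))
    have hyC : y ∉ C0 := fun hc => hvX (hxy ▸ X.mul_mem hx (hC0X hc))
    obtain ⟨a, ha, hac⟩ := honto y hyY hyC x hx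
    refine ⟨a, ha, ?_⟩
    set c := x * (ρ a y * y) with hc
    have hv : ρ h x₀ = ρ a (y * c) := by
      rw [map_mul, hfixC0 c hac, hc, ← hxy]
      calc x * y = ρ a y * ρ a y * (x * y) := by rw [hy.sq, one_mul]
        _ = _ := by simp only [mul_comm, mul_assoc, mul_left_comm]
    obtain ⟨w, hw, hwe⟩ : y * c ∈ Y := by
      refine Y.mul_mem hyY ?_
      rw [hY]; exact ⟨c, hC0X hac, hfixC0 c hac g⟩
    -- `(a g)⁻¹ h` lies in `M`
    have hm : (a * g)⁻¹ * h ∈ M := by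
      by_contra hnm
      have h1 : ρ ((a * g)⁻¹ * h) x₀ = w := by
        rw [act_mul, hv, ← hwe]
        show ρ (a * g)⁻¹ (ρ a (ρ g w)) = w
        rw [← act_mul a g, inv_act]
      have h2 := hdisj _ hnm w hw (by rw [← h1, inv_act]; exact hx₀)
      rw [← h1] at h2
      have h3 := hfixC0 _ h2 ((a * g)⁻¹ * h)⁻¹
      rw [inv_act] at h3
      exact hx₀C (h3 ▸ h2)
    calc X.map (ρ h).toMonoidHom = (X.map (ρ ((a * g)⁻¹ * h)).toMonoidHom).map (ρ (a * g)).toMonoidHom := by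
          rw [Subgroup.map_map]
          congr 1
          ext v
          show ρ h v = ρ (a * g) (ρ ((a * g)⁻¹ * h) v)
          rw [← act_mul, mul_inv_cancel_left]
      _ = _ := by rw [hXM _ hm]
  -- three lines give `S₃`
  obtain ⟨a, ha, ha1⟩ : ∃ a ∈ A₁, a ≠ 1 := by
    by_contra! h
    exact hA₁E fun a ha => by rw [h a ha]; exact one_mem _
  set g := g₀ with hgdef
  have hg' : g⁻¹ ∉ M := fun h => hg₀ (by have := M.inv_mem h; rwa [inv_inv] at this)
  obtain ⟨a', ha', hlin⟩ := (hlines g⁻¹ hg').2 _ (hnofix g hg₀ a ha ha1)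
  set b := g * a' * g⁻¹ with hb
  set Y := X.map (ρ g).toMonoidHom with hY
  have ha2 : a * a = 1 := hy.invol hA₁p ha
  have hb2 : b * b = 1 := by
    rw [hb, show g * a' * g⁻¹ * (g * a' * g⁻¹) = g * (a' * a') * g⁻¹ by group, hy.invol hA₁p ha']; group
  have hbY : ∀ y ∈ Y, ρ b y = y := by
    rintro _ ⟨x, hx, rfl⟩
    show ρ (g * a' * g⁻¹) (ρ g x) = ρ g x
    rw [act_mul, act_mul, inv_act, hx a' ha']
  have hbquad : ∀ v, ρ b v * v ∈ Y := by
    intro v
    have : ρ b v * v ∈ fixBy ρ (cnj g A₁) := fun c hc => hy.quad _ (hA₁p.map _) b ⟨a', ha', rfl⟩ c hc v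
    rwa [fixBy_cnj] at this
  have hXY0 : ∀ v ∈ X, v ∈ Y → v ∈ C0 := by
    rintro v hv ⟨w, hw, rfl⟩
    exact hdisj g hg₀ _ hv (by show ρ g⁻¹ (ρ g w) ∈ X; rw [inv_act]; exact hw)
  have hbline : X.map (ρ b).toMonoidHom = Y.map (ρ a).toMonoidHom := by
    have h1 := congrArg (fun S : Subgroup V => S.map (ρ g).toMonoidHom) hlin
    simp only [Subgroup.map_map] at h1
    rw [hY, Subgroup.map_map]
    convert h1.symm using 2
    · ext v; show ρ b v = ρ g (ρ (a' * g⁻¹) v); rw [← act_mul, hb, mul_assoc]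
    · ext v; show ρ a (ρ g v) = ρ g (ρ (g⁻¹ * a * g) v)
      rw [← act_mul, ← act_mul]; congr 2; group
  obtain ⟨P, hP⟩ : ∃ P, P = a * b := ⟨_, rfl⟩
  have hcyc : ∀ x ∈ X, ∃ c ∈ C0, ρ P x = (ρ b x * x) * c ∧ ρ P (ρ b x * x) = (ρ b x * x) * x * c := by
    intro x hx
    set d := ρ b x * x with hd
    obtain ⟨y', hy', hye⟩ : ρ b x ∈ Y.map (ρ a).toMonoidHom := hbline ▸ ⟨x, hx, rfl⟩
    have hdY : d ∈ Y := hbquad x
    have he : ρ a y' * y' ∈ X := hXquad a ha y'
    have hbx : ρ b x = d * x := hy.sq_act b x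
    have hc : d * y' = (ρ a y' * y') * x := by
      rw [show ρ a y' = ρ b x from hye, hbx]
      calc d * y' = d * y' * (x * x) := by rw [hy.sq, mul_one]
        _ = _ := by simp only [mul_comm, mul_assoc, mul_left_comm]
    have hcC : d * y' ∈ C0 := hXY0 _ (hc ▸ X.mul_mem he hx) (Y.mul_mem hdY hy')
    set c := d * y' with hcdef
    have had : ρ a d = d * x * c := by
      have e : d = y' * c := by rw [hcdef, mul_left_comm, hy.sq, mul_one]
      conv_lhs => rw [e, map_mul, hfixC0 c hcC, show ρ a y' = ρ b x from hye, hbx]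
    refine ⟨c, hcC, ?_, ?_⟩
    · rw [hP, act_mul, hbx, map_mul, had, hx a ha]
      calc d * x * c * x = d * c * (x * x) := by simp only [mul_comm, mul_assoc, mul_left_comm]
        _ = d * c := by rw [hy.sq, mul_one]
    · rw [hP, act_mul, hbY d hdY, had]
  have hP3X : ∀ x ∈ X, ρ P (ρ P (ρ P x)) = x := by
    intro x hx
    obtain ⟨c, hc, h1, h2⟩ := hcyc x hx
    rw [h1, map_mul (ρ P), h2, hfixC0 c hc, mul_assoc, hy.sq, mul_one, map_mul (ρ P), h1, h2]
    calc _ = ((ρ b x * x) * (ρ b x * x)) * (c * c) * x := by simp only [mul_comm, mul_assoc, mul_left_comm]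
      _ = x := by rw [hy.sq, hy.sq, one_mul, one_mul]
  have hP3 : P ^ 3 = 1 := by
    refine hy.inj (MulEquiv.ext fun v => ?_)
    rw [pow_succ, pow_two, act_mul, act_mul, map_one]
    show _ = v
    obtain ⟨x, hx, y, hyY, rfl⟩ := Subgroup.mem_sup.mp ((hlines g hg₀).1 v)
    obtain ⟨w, hw, hwe⟩ : ρ a y ∈ X.map (ρ b).toMonoidHom := hbline ▸ ⟨y, hyY, rfl⟩
    have hPw : ρ P w = y := by
      rw [hP, act_mul, show ρ b w = ρ a y from hwe, ← act_mul, ha2, map_one]; rfl
    rw [map_mul (ρ P), map_mul (ρ P), map_mul (ρ P), hP3X x hx, ← hPw, hP3X w hw]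
  have hainv : a⁻¹ = a := inv_eq_of_mul_eq_one_right ha2
  have hPinv : a * P * a⁻¹ = P⁻¹ := by
    rw [hP, _root_.mul_inv_rev, hainv, inv_eq_of_mul_eq_one_right hb2, ← mul_assoc, ha2, one_mul]
  have hP1 := hy.noS3 a P ha2 hP3 hPinv
  obtain ⟨c, hc, h1, -⟩ := hcyc x₀ hx₀
  rw [hP1, map_one] at h1
  apply hx₀C
  refine hXY0 _ hx₀ ?_
  rw [show x₀ = (ρ b x₀ * x₀) * c from h1]
  exact Y.mul_mem (hbquad x₀) ⟨c, hC0X hc, hfixC0 c hc g⟩

/-- A strong offender lies in `O₂(H)`. -/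
theorem strong_le_pCore {H : Type u} [Group H] [Finite H] {V : Type v} [CommGroup V] [Finite V]
    {ρ : H →* MulAut V} (hy : Hyp ρ) {A : Subgroup H} (hA : IsPGroup 2 ↥A) (hs : Strong ρ A) :
    A ≤ Cfsg.pCore 2 H :=
  main_aux _ H V ρ rfl hy A hA hs

end Cfsg.Agent.Lib.QuadOffender
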