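import Cfsg.Agent.Lib.FusionControl.Basic
import Cfsg.Agent.Lib.OddLocal.OmegaExtend
import Cfsg.Agent.Lib.OddLocal.Omega
import Cfsg.Agent.Lib.RankTwo.Basic
import Cfsg.Prelude.Def_LocalEven
import Cfsg.Prelude.Def_CaseTheorems

/-! Chief factors inside a normal `p`-subgroup of rank at most two, `p` odd. -/

set_option autoImplicit false

open scoped commutatorElement

namespace Cfsg.Agent.Lib.FusionControl

universe u

variable {p : ℕ} [hp : Fact p.Prime]

/-- a normal `p`-subgroup whose few elements of order `p` are central: small chief factors -/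
theorem chief_le_of_omega (hp2 : p ≠ 2) (B : ℕ) : ∀ (n : ℕ) (G : Type u) [Group G] [Finite G], Nat.card G = n →
    ∀ C : Subgroup G, C.Normal → IsPGroup p C → (∀ x ∈ C, x ^ p = 1 → ∀ c ∈ C, Commute x c) →
    Nat.card {x : G // x ∈ C ∧ x ^ p = 1} ≤ B →
    ∀ U V : Subgroup G, Cfsg.IsChiefFactor U V → U ≤ C → V.relIndex U ≤ B := by
  intro n
  induction n using Nat.strong_induction_on with
  | _ n ih =>
    intro G _ _ hn C hCn hCp hcen hcard U V hch hUC
    obtain ⟨hVU, hUn, hVn, hmin⟩ := id hch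
    let W : Subgroup G :=
      { carrier := {x | x ∈ C ∧ x ^ p = 1}
        one_mem' := ⟨one_mem _, one_pow _⟩
        mul_mem' := fun {a b} ha hb => ⟨mul_mem ha.1 hb.1, by
          rw [(hcen a ha.1 ha.2 b hb.1).mul_pow, ha.2, hb.2, one_mul]⟩
        inv_mem' := fun {a} ha => ⟨inv_mem ha.1, by rw [inv_pow, ha.2, inv_one]⟩ }
    have hWn : W.Normal := ⟨fun x hx g => ⟨hCn.conj_mem x hx.1 g, by
      rw [conj_pow, hx.2, mul_one, mul_inv_cancel]⟩⟩
    have hWC : W ≤ C := fun x hx => hx.1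
    have hWcard : Nat.card W ≤ B := hcard
    by_cases hUW : ¬ U ⊓ W ≤ V
    · have htop : V ⊔ (U ⊓ W) = U := by
        rcases hmin (V ⊔ (U ⊓ W)) inferInstance le_sup_left (sup_le hVU.le inf_le_left) with h | h
        · exact absurd (le_sup_right.trans h.le) hUW
        · exact h
      have h1 : V.relIndex U = V.relIndex (U ⊓ W) := by
        conv_lhs => rw [← htop]
        rw [Subgroup.relIndex_sup_left]
      have h2 : V.relIndex (U ⊓ W) ∣ Nat.card ↥(U ⊓ W) := Subgroup.relIndex_dvd_card _ _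
      rw [h1]
      exact (Nat.le_of_dvd Nat.card_pos h2).trans ((Subgroup.card_le_of_le inf_le_right).trans hWcard)
    rw [not_not] at hUW
    set π := QuotientGroup.mk' W with hπ
    have hπs : Function.Surjective π := QuotientGroup.mk'_surjective W
    have hU1 : U ≠ ⊥ := fun h => by rw [h] at hVU; exact not_lt_bot hVU
    have hone : ∀ x : G, π x = 1 ↔ x ∈ W := fun x => QuotientGroup.eq_one_iff x
    -- `W` is nontrivial
    have hW1 : W ≠ ⊥ := by
      intro h
      have hC1 : C ≠ ⊥ := fun h' => hU1 (eq_bot_iff.2 (hUC.trans h'.le))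
      obtain ⟨k, hk⟩ := IsPGroup.iff_card.1 hCp
      have hk0 : k ≠ 0 := fun h0 => hC1 (Subgroup.card_eq_one.1 (by rw [hk, h0, pow_zero]))
      obtain ⟨x, hx⟩ := exists_prime_orderOf_dvd_card' (G := C) p (hk ▸ dvd_pow_self p hk0)
      have h1 : (x : G) ∈ W := ⟨x.2, by
        have := congrArg Subtype.val (pow_orderOf_eq_one x)
        rwa [hx] at this⟩
      rw [h, Subgroup.mem_bot] at h1
      rw [show x = 1 from Subtype.ext h1, orderOf_one] at hx
      exact hp.out.ne_one hx.symm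
    have hlt : Nat.card (G ⧸ W) < n := by
      rw [← hn, Subgroup.card_eq_card_quotient_mul_card_subgroup W]
      exact lt_mul_right Nat.card_pos ((W.one_lt_card_iff_ne_bot).2 hW1)
    -- `p`th roots are unique modulo `W`
    have hroot : ∀ x ∈ C, ∀ y ∈ C, x ^ p = y ^ p → x⁻¹ * y ∈ W := by
      intro x hx y hy h
      refine ⟨mul_mem (inv_mem hx) hy, ?_⟩
      have h1 := OddLocal.pow_eq_one_of_mul_pow_eq hp2 _ hCp ⊤ inferInstance le_rfl
        (fun t _ ht => Subgroup.mem_center_iff.2 fun c =>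
          Subtype.ext (hcen t t.2 (congrArg Subtype.val ht) c c.2).symm)
        ⟨x, hx⟩ ⟨x⁻¹ * y, mul_mem (inv_mem hx) hy⟩ (Subgroup.mem_top _) (Subtype.ext (by
          show (x * (x⁻¹ * y)) ^ p = x ^ p
          rw [mul_inv_cancel_left, h]))
      exact congrArg Subtype.val h1
    have hcen' : ∀ u ∈ C.map π, u ^ p = 1 → ∀ c ∈ C.map π, Commute u c := by
      rintro _ ⟨x, hx, rfl⟩ hxp _ ⟨c, hc, rfl⟩
      rw [← map_pow, hone] at hxp
      have h1 := hroot x hx (c * x * c⁻¹) (mul_mem (mul_mem hc hx) (inv_mem hc)) (by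
        rw [conj_pow, ← (hcen _ hxp.1 hxp.2 c hc).eq, mul_inv_cancel_right])
      have h2 := (hone _).2 h1
      simp only [map_mul, map_inv, inv_mul_eq_one] at h2
      exact mul_inv_eq_iff_eq_mul.1 h2.symm |>.symm
    have hcard' : Nat.card {u : G ⧸ W // u ∈ C.map π ∧ u ^ p = 1} ≤ B := by
      refine le_trans ?_ hWcard
      have hsur : ∀ u : {u : G ⧸ W // u ∈ C.map π ∧ u ^ p = 1}, ∃ x ∈ C, π x = u.1 := fun u => u.2.1
      choose r hrC hr using hsur
      refine Nat.card_le_card_of_injective (fun u => (⟨r u ^ p, (hone _).1 (by rw [map_pow, hr, u.2.2])⟩ : W)) ?_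
      intro u v h
      have h1 := (hone _).2 (hroot _ (hrC u) _ (hrC v) (congrArg Subtype.val h))
      rw [map_mul, map_inv, hr, hr, inv_mul_eq_one] at h1
      exact Subtype.ext h1
    have hkey : ∀ x ∈ U, π x ∈ V.map π → x ∈ V := by
      rintro x hx ⟨v, hv, hvx⟩
      have h1 : v⁻¹ * x ∈ U ⊓ W := Subgroup.mem_inf.2 ⟨mul_mem (inv_mem (hVU.le hv)) hx,
        (hone _).1 (by rw [map_mul, map_inv, hvx, inv_mul_cancel])⟩
      have := mul_mem hv (hUW h1)
      rwa [mul_inv_cancel_left] at this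
    have hch' : Cfsg.IsChiefFactor (U.map π) (V.map π) := by
      refine ⟨lt_of_le_not_ge (Subgroup.map_mono hVU.le) fun h => hVU.not_ge fun x hx =>
        hkey x hx (h ⟨x, hx, rfl⟩), hUn.map π hπs, hVn.map π hπs, fun N hN h1 h2 => ?_⟩
      have hN' : (N.comap π).Normal := hN.comap π
      rcases hmin (N.comap π ⊓ U) inferInstance (le_inf (fun v hv => h1 ⟨v, hv, rfl⟩) hVU.le) inf_le_right with h | h
      · refine Or.inl (le_antisymm (fun u hu => ?_) h1)
        obtain ⟨x, hx, rfl⟩ := h2 hu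
        exact ⟨x, h ▸ Subgroup.mem_inf.2 ⟨hu, hx⟩, rfl⟩
      · refine Or.inr (le_antisymm h2 ?_)
        rintro _ ⟨x, hx, rfl⟩
        exact (Subgroup.mem_inf.1 (h.ge hx)).1
    have h3 := ih _ hlt (G ⧸ W) rfl (C.map π) (hCn.map π hπs) (hCp.map π) hcen' hcard' _ _ hch'
      (Subgroup.map_mono hUC)
    rw [Subgroup.relIndex_map_map, hπ, QuotientGroup.ker_mk'] at h3
    have h4 : (V ⊔ W).relIndex (U ⊔ W) = V.relIndex U := by
      rw [show U ⊔ W = (V ⊔ W) ⊔ U by rw [sup_comm (V ⊔ W) U, ← sup_assoc, sup_eq_left.2 hVU.le],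
        Subgroup.relIndex_sup_left, ← Subgroup.inf_relIndex_right (V ⊔ W) U]
      congr 1
      refine le_antisymm (fun x hx => hkey x (Subgroup.mem_inf.1 hx).2 ?_) (le_inf le_sup_left hVU.le)
      obtain ⟨v, hv, w, hw, rfl⟩ := Subgroup.mem_sup_of_normal_right.1 (Subgroup.mem_inf.1 hx).1
      exact ⟨v, hv, by rw [map_mul, (hone w).2 hw, mul_one]⟩
    rwa [h4] at h3

variable {X : Type u} [Group X] [Finite X]

omit hp in
lemma card_lt_of_lt' {H K : Subgroup X} (h : H < K) : Nat.card H < Nat.card K := by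
  rcases lt_or_eq_of_le (Subgroup.card_le_of_le h.le) with h' | h'
  · exact h'
  · exact absurd (Subgroup.eq_of_le_of_card_ge h.le h'.ge) h.ne

/-- chief factors inside a normal `p`-subgroup of rank at most two -/
theorem chief_le_sq (hp2 : p ≠ 2) (hr : Cfsg.PRankLE p 2 X) {S : Subgroup X} [hSn : S.Normal] (hS : IsPGroup p S)
    {U V : Subgroup X} (hch : Cfsg.IsChiefFactor U V) (hUS : U ≤ S) : V.relIndex U ≤ p ^ 2 := by
  classical
  obtain ⟨hVU, hUn, hVn, hmin⟩ := id hch
  -- the elements of order `p` of the second centre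
  set Z := Subgroup.centralizer (S : Set X) with hZ
  have hZn : Z.Normal := by rw [hZ]; infer_instance
  have hcomm : ∀ {x : X}, x ∈ S → (∀ s ∈ S, ⁅x, s⁆ ∈ Z) → ∀ s ∈ S, ∀ t ∈ S, Commute ⁅x, s⁆ t :=
    fun _ hxs s hs t ht => (Subgroup.mem_centralizer_iff.1 (hxs s hs) t ht).symm
  let E : Subgroup X :=
    { carrier := {x | x ∈ S ∧ (∀ s ∈ S, ⁅x, s⁆ ∈ Z) ∧ x ^ p = 1}
      one_mem' := ⟨one_mem _, fun s _ => by rw [commutatorElement_one_left]; exact one_mem _, one_pow _⟩
      mul_mem' := fun {a b} ha hb => ⟨mul_mem ha.1 hb.1, fun s hs => by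
        rw [show ⁅a * b, s⁆ = a * ⁅b, s⁆ * a⁻¹ * ⁅a, s⁆ by simp only [commutatorElement_def]; group]
        exact mul_mem (hZn.conj_mem _ (hb.2.1 s hs) a) (ha.2.1 s hs), by
        have hc := hcomm hb.1 hb.2.1 a ha.1
        have h1 : ⁅b, a⁆ ^ p = 1 := by
          have h2 : ∀ i : ℕ, b ^ i * a * (b ^ i)⁻¹ = ⁅b, a⁆ ^ i * a := by
            intro i
            induction i with
            | zero => simp
            | succ i ih =>
              calc b ^ (i + 1) * a * (b ^ (i + 1))⁻¹ = b * (b ^ i * a * (b ^ i)⁻¹) * b⁻¹ := by rw [pow_succ']; group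
                _ = (b * ⁅b, a⁆ ^ i) * a * b⁻¹ := by rw [ih]; group
                _ = ⁅b, a⁆ ^ i * (b * a * b⁻¹) := by rw [← ((hc b hb.1).pow_left i).eq]; group
                _ = _ := by rw [pow_succ, commutatorElement_def]; group
          have h3 := h2 p
          rw [hb.2.2, one_mul, inv_one, mul_one] at h3
          exact mul_eq_right.1 h3.symm
        rw [RankTwo.mul_pow_class_two hp2 (hc a ha.1).symm (hc b hb.1).symm h1, ha.2.2, hb.2.2, one_mul]⟩
      inv_mem' := fun {a} ha => ⟨inv_mem ha.1, fun s hs => by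
        rw [show ⁅a⁻¹, s⁆ = a⁻¹ * ⁅a, s⁆⁻¹ * a⁻¹⁻¹ by simp only [commutatorElement_def]; group]
        exact hZn.conj_mem _ (inv_mem (ha.2.1 s hs)) a⁻¹, by rw [inv_pow, ha.2.2, inv_one]⟩ }
  have hEn : E.Normal := ⟨fun x hx g => ⟨hSn.conj_mem x hx.1 g, fun s hs => by
    rw [show ⁅g * x * g⁻¹, s⁆ = g * ⁅x, g⁻¹ * s * g⁆ * g⁻¹ by simp only [commutatorElement_def]; group]
    exact hZn.conj_mem _ (hx.2.1 _ (by simpa using hSn.conj_mem s hs g⁻¹)) g, by
    rw [conj_pow, hx.2.2, mul_one, mul_inv_cancel]⟩⟩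
  have hES : E ≤ S := fun x hx => hx.1
  -- a self-centralizing subgroup of order `p ^ 2` catches the elements of order `p`
  have hcatch : ∀ A : Subgroup X, Cfsg.IsElementaryAbelian p A → Nat.card A = p ^ 2 →
      ∀ x ∈ Subgroup.centralizer (A : Set X), x ^ p = 1 → x ∈ A := by
    intro A hA hAc x hx hxp
    have h1 := OddLocal.isElementary_sup_zpowers hA hx hxp
    have h2 := hr _ h1.1 h1.2
    rw [← hAc] at h2
    rw [Subgroup.eq_of_le_of_card_ge (le_sup_left : A ≤ A ⊔ Subgroup.zpowers x) h2]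
    exact Subgroup.mem_sup_right (Subgroup.mem_zpowers x)
  -- the centralizer of `E` in `S`
  set C := S ⊓ Subgroup.centralizer (E : Set X) with hC
  have hCn : C.Normal := by rw [hC]; infer_instance
  have hCE : ∀ x ∈ E, ∀ c ∈ C, Commute x c := fun x hx c hc =>
    Subgroup.mem_centralizer_iff.1 (Subgroup.mem_inf.1 hc).2 x hx
  obtain ⟨hCidx, hΩ⟩ : C.relIndex S ≤ p ^ 2 ∧ ∀ x ∈ C, x ^ p = 1 → x ∈ E := by
    obtain ⟨e, he⟩ := IsPGroup.iff_card.1 (hS.to_le hES)
    rcases Nat.lt_or_ge e 2 with he2 | he2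
    · -- `E` is small, so it contains all the elements of order `p`
      have hEc : Nat.card E ≤ p := he ▸ (Nat.pow_le_pow_right hp.out.pos (by omega : e ≤ 1)).trans_eq (pow_one p)
      have hEn' : (E.subgroupOf S).Normal := inferInstance
      have hEcen : E.subgroupOf S ≤ Subgroup.center S := by
        refine RankTwo.le_center_of_card_le (p := p) hS ?_
        rwa [Nat.card_congr (Subgroup.subgroupOfEquivOfLe hES).toEquiv]
      have hall : ∀ x ∈ S, x ^ p = 1 → x ∈ E := by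
        by_contra h
        push Not at h
        obtain ⟨x₀, hx₀, hx₀p, hx₀E⟩ := h
        obtain ⟨x, -, hxp, hxE, hxc⟩ := OddLocal.exists_omega_central_mod hp2 hS (E.subgroupOf S) ⊤
          (fun y _ => Subgroup.mem_centralizer_iff.2 fun z hz => (Subgroup.mem_center_iff.1 (hEcen hz) y).symm)
          ⟨⟨x₀, hx₀⟩, Subgroup.mem_top _, Subtype.ext hx₀p, fun h => hx₀E (Subgroup.mem_subgroupOf.1 h)⟩
        refine hxE (Subgroup.mem_subgroupOf.2 ⟨x.2, fun s hs => ?_, congrArg Subtype.val hxp⟩)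
        have h1 := hEcen (hxc ⟨s, hs⟩)
        rw [← commutatorElement_inv]
        refine inv_mem (Subgroup.mem_centralizer_iff.2 fun t ht => ?_)
        exact congrArg Subtype.val (Subgroup.mem_center_iff.1 h1 ⟨t, ht⟩)
      have hCS : C = S := le_antisymm inf_le_left (le_inf le_rfl fun s hs => Subgroup.mem_centralizer_iff.2 fun z hz =>
        (congrArg Subtype.val (Subgroup.mem_center_iff.1 (hEcen (show (⟨z, hES hz⟩ : S) ∈ E.subgroupOf S from hz)) ⟨s, hs⟩)).symm)
      refine ⟨?_, fun x hx => hall x (Subgroup.mem_inf.1 hx).1⟩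
      rw [hCS, Subgroup.relIndex_self]
      exact Nat.one_le_pow _ _ hp.out.pos
    by_cases hab : ∀ a ∈ E, ∀ b ∈ E, a * b = b * a
    · -- `E` is elementary abelian of order `p ^ 2`
      have hEel : Cfsg.IsElementaryAbelian p E := ⟨⟨⟨fun a b => Subtype.ext (hab a a.2 b b.2)⟩⟩, fun a ha => ha.2.2⟩
      have hEc : Nat.card E = p ^ 2 :=
        le_antisymm (hr E hEel.1 hEel.2) (he ▸ Nat.pow_le_pow_right hp.out.pos he2)
      refine ⟨?_, fun x hx hxp => hcatch E hEel hEc x (Subgroup.mem_inf.1 hx).2 hxp⟩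
      have := OddLocal.index_centralizer_le (p := p) hS (E.subgroupOf S)
        (by rw [Nat.card_congr (Subgroup.subgroupOfEquivOfLe hES).toEquiv, hEc])
      refine le_trans (le_of_eq ?_) (this.trans (Nat.le_self_pow two_ne_zero p))
      rw [Subgroup.relIndex]
      congr 1
      ext s
      rw [Subgroup.mem_subgroupOf, Subgroup.mem_centralizer_iff]
      constructor
      · intro hs z hz
        exact Subtype.ext (Subgroup.mem_centralizer_iff.1 (Subgroup.mem_inf.1 hs).2 z hz)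
      · intro hs
        exact Subgroup.mem_inf.2 ⟨s.2, Subgroup.mem_centralizer_iff.2 fun z hz =>
          congrArg Subtype.val (hs ⟨z, hES hz⟩ hz)⟩
    -- `E` is not abelian
    push Not at hab
    obtain ⟨a, ha, b, hb, hne⟩ := hab
    set ZE := E ⊓ Subgroup.centralizer (E : Set X) with hZE
    have hZEa : ∀ z ∈ ZE, z * a = a * z := fun z hz => (Subgroup.mem_centralizer_iff.1 (Subgroup.mem_inf.1 hz).2 a ha).symm
    have hZel : Cfsg.IsElementaryAbelian p ZE := ⟨⟨⟨fun u v => Subtype.ext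
      (Subgroup.mem_centralizer_iff.1 (Subgroup.mem_inf.1 v.2).2 u (Subgroup.mem_inf.1 u.2).1)⟩⟩,
      fun u hu => (Subgroup.mem_inf.1 hu).1.2.2⟩
    have hc₁ : ∀ {u v : X}, u ∈ E → v ∈ E → ⁅u, v⁆ ∈ ZE := fun {u v} hu hv => Subgroup.mem_inf.2
      ⟨by rw [commutatorElement_def]; exact mul_mem (mul_mem (mul_mem hu hv) (inv_mem hu)) (inv_mem hv),
        Subgroup.centralizer_le hES (hu.2.1 v (hES hv))⟩
    obtain ⟨k, hk⟩ := IsPGroup.iff_card.1 ((hS.to_le hES).to_le (inf_le_left : ZE ≤ E))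
    set A := ZE ⊔ Subgroup.zpowers a with hA
    have hAel : Cfsg.IsElementaryAbelian p A := OddLocal.isElementary_sup_zpowers hZel
      (Subgroup.mem_centralizer_iff.2 hZEa) ha.2.2
    have haZ : a ∉ ZE := fun h => hne
      (Subgroup.mem_centralizer_iff.1 (Subgroup.mem_inf.1 h).2 b hb).symm
    have hzne : ⁅a, b⁆ ≠ 1 := fun h => hne (commutatorElement_eq_one_iff_mul_comm.1 h)
    have hk1 : k = 1 := by
      have h1 : k ≠ 0 := fun h0 => by
        rw [h0, pow_zero, Subgroup.card_eq_one] at hk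
        have := hc₁ ha hb
        exact hzne (Subgroup.mem_bot.1 (hk ▸ this))
      have h2 : Nat.card ZE < Nat.card A := card_lt_of_lt' (lt_of_le_not_ge le_sup_left fun h =>
        haZ (h (Subgroup.mem_sup_right (Subgroup.mem_zpowers a))))
      have h3 : p ^ k < p ^ 2 := hk ▸ h2.trans_le (hr A hAel.1 hAel.2)
      have := (Nat.pow_lt_pow_iff_right hp.out.one_lt).1 h3
      omega
    rw [hk1, pow_one] at hk
    have hAc : Nat.card A = p ^ 2 := by
      obtain ⟨m, hm⟩ := IsPGroup.iff_card.1 (show IsPGroup p A from fun u => ⟨1, Subtype.ext (by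
        rw [pow_one]; exact hAel.2 u u.2)⟩)
      have h2 : Nat.card ZE < Nat.card A := card_lt_of_lt' (lt_of_le_not_ge le_sup_left fun h =>
        haZ (h (Subgroup.mem_sup_right (Subgroup.mem_zpowers a))))
      have h3 := hr A hAel.1 hAel.2
      rw [hk, hm] at h2
      rw [hm] at h3 ⊢
      have h4 := (Nat.pow_le_pow_iff_right hp.out.one_lt).1 h3
      have h5 : 1 < m := (Nat.pow_lt_pow_iff_right hp.out.one_lt).1 (by rwa [pow_one])
      rw [show m = 2 by omega]
    have hAE : A ≤ E := sup_le inf_le_left (Subgroup.zpowers_le.2 ha)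
    refine ⟨?_, fun x hx hxp => hAE (hcatch A hAel hAc x (Subgroup.centralizer_le hAE (Subgroup.mem_inf.1 hx).2) hxp)⟩
    -- `E` is generated by `A` and `b`
    have hgen : ∀ u ∈ E, ∃ (i : ℤ), u * b ^ i ∈ A := by
      intro u hu
      have hz : Subgroup.zpowers ⁅a, b⁆ = ZE := Subgroup.eq_of_le_of_card_ge (Subgroup.zpowers_le.2 (hc₁ ha hb))
        (by rw [hk, Nat.card_zpowers, orderOf_eq_prime (hZel.2 _ (hc₁ ha hb)) hzne])
      obtain ⟨i, hi⟩ : ⁅a, u⁆ ∈ Subgroup.zpowers ⁅a, b⁆ := hz ▸ hc₁ ha hu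
      refine ⟨-i, hcatch A hAel hAc _ ?_ (mul_mem hu (zpow_mem hb (-i))).2.2⟩
      have hcab : Commute ⁅a, b⁆ b := hcomm (hES ha) ha.2.1 b (hES hb) b (hES hb)
      have e1 : a * b ^ i * a⁻¹ = ⁅a, b⁆ ^ i * b ^ i := by
        rw [← conj_zpow, show a * b * a⁻¹ = ⁅a, b⁆ * b by rw [commutatorElement_def]; group, hcab.mul_zpow]
      have e2 : a * u * a⁻¹ = ⁅a, b⁆ ^ i * u := by
        rw [show ⁅a, b⁆ ^ i = ⁅a, u⁆ from hi, commutatorElement_def]; group
      have e3 : Commute (⁅a, b⁆ ^ i) u := (hcomm (hES ha) ha.2.1 b (hES hb) u (hES hu)).zpow_left i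
      have e4 : a * (u * b ^ (-i)) * a⁻¹ = u * b ^ (-i) := by
        calc a * (u * b ^ (-i)) * a⁻¹ = a * u * a⁻¹ * (a * b ^ i * a⁻¹)⁻¹ := by group
          _ = u * ⁅a, b⁆ ^ i * (⁅a, b⁆ ^ i * b ^ i)⁻¹ := by rw [e1, e2, e3.eq]
          _ = u * (⁅a, b⁆ ^ i * (b ^ i)⁻¹ * (⁅a, b⁆ ^ i)⁻¹) := by group
          _ = _ := by rw [((hcab.zpow_zpow i i).inv_right).eq, mul_inv_cancel_right]; group
      rw [Subgroup.mem_centralizer_iff]
      intro y hy
      have hle : A ≤ Subgroup.centralizer ({u * b ^ (-i)} : Set X) := sup_le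
        (fun z hz => Subgroup.mem_centralizer_singleton_iff.2
          (Subgroup.mem_centralizer_iff.1 (Subgroup.mem_inf.1 hz).2 _ (mul_mem hu (zpow_mem hb (-i)))).symm)
        (Subgroup.zpowers_le.2 (Subgroup.mem_centralizer_singleton_iff.2 (mul_inv_eq_iff_eq_mul.1 e4)))
      exact Subgroup.mem_centralizer_singleton_iff.1 (hle hy)
    -- `S / C` embeds by the commutators with `a` and `b`
    have hmem : ∀ (s : S) {u : X}, u ∈ E → ⁅u, (s : X)⁆ ∈ ZE := fun s u hu => Subgroup.mem_inf.2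
      ⟨by
        rw [show ⁅u, (s : X)⁆ = u * ((s : X) * u⁻¹ * (s : X)⁻¹) by rw [commutatorElement_def]; group]
        exact mul_mem hu (hEn.conj_mem _ (inv_mem hu) s),
        Subgroup.centralizer_le hES (hu.2.1 s s.2)⟩
    let f : S → ZE × ZE := fun s => (⟨⁅a, (s : X)⁆, hmem s ha⟩, ⟨⁅b, (s : X)⁆, hmem s hb⟩)
    have hf : ∀ s t : S, f s = f t → (s : X)⁻¹ * t ∈ C := by
      intro s t h
      have ha' : ⁅a, (s : X)⁆ = ⁅a, (t : X)⁆ := congrArg (fun q : ZE × ZE => (q.1 : X)) h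
      have hb' : ⁅b, (s : X)⁆ = ⁅b, (t : X)⁆ := congrArg (fun q : ZE × ZE => (q.2 : X)) h
      have hst : (s : X)⁻¹ * t ∈ S := mul_mem (inv_mem s.2) t.2
      have key : ∀ u, ⁅u, (s : X)⁆ = ⁅u, (t : X)⁆ → u ∈ Subgroup.centralizer ({(s : X)⁻¹ * t} : Set X) := by
        intro u hu
        rw [Subgroup.mem_centralizer_singleton_iff]
        have h1 : (s : X) * u⁻¹ * (s : X)⁻¹ = (t : X) * u⁻¹ * (t : X)⁻¹ := mul_left_cancel (a := u) (by
          simpa [commutatorElement_def, mul_assoc] using hu)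
        have h2 : (s : X) * u * (s : X)⁻¹ = (t : X) * u * (t : X)⁻¹ := by simpa [mul_assoc] using congrArg (·⁻¹) h1
        calc u * ((s : X)⁻¹ * t) = (s : X)⁻¹ * ((s : X) * u * (s : X)⁻¹) * t := by group
          _ = (s : X)⁻¹ * ((t : X) * u * (t : X)⁻¹) * t := by rw [h2]
          _ = _ := by group
      refine Subgroup.mem_inf.2 ⟨hst, Subgroup.mem_centralizer_iff.2 fun u hu => ?_⟩
      obtain ⟨i, hi⟩ := hgen u hu
      have hle : A ≤ Subgroup.centralizer ({(s : X)⁻¹ * t} : Set X) := sup_le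
        (fun z hz => by
          rw [← show Subgroup.zpowers ⁅a, b⁆ = ZE from Subgroup.eq_of_le_of_card_ge
            (Subgroup.zpowers_le.2 (hc₁ ha hb))
            (by rw [hk, Nat.card_zpowers, orderOf_eq_prime (hZel.2 _ (hc₁ ha hb)) hzne])] at hz
          obtain ⟨j, rfl⟩ := hz
          exact Subgroup.mem_centralizer_singleton_iff.2
            (((hcomm (hES ha) ha.2.1 b (hES hb) _ hst).zpow_left j).eq))
        (Subgroup.zpowers_le.2 (key a ha'))
      have h3 := mul_mem (hle hi) (zpow_mem (key b hb') (-i))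
      rw [zpow_neg, mul_inv_cancel_right] at h3
      exact Subgroup.mem_centralizer_singleton_iff.1 h3
    rw [Subgroup.relIndex, Subgroup.index]
    refine le_trans (Nat.card_le_card_of_injective (fun q : S ⧸ C.subgroupOf S => f q.out) fun q r h => ?_) ?_
    · rw [← QuotientGroup.out_eq' q, ← QuotientGroup.out_eq' r, QuotientGroup.eq]
      exact Subgroup.mem_subgroupOf.2 (hf _ _ h)
    · rw [Nat.card_prod, hk, pow_two]
  have hcard : Nat.card {x : X // x ∈ C ∧ x ^ p = 1} ≤ p ^ 2 := by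
    let W : Subgroup X :=
      { carrier := {x | x ∈ C ∧ x ^ p = 1}
        one_mem' := ⟨one_mem _, one_pow _⟩
        mul_mem' := fun {a b} ha hb => ⟨mul_mem ha.1 hb.1, by
          rw [(hCE a (hΩ a ha.1 ha.2) b hb.1).mul_pow, ha.2, hb.2, one_mul]⟩
        inv_mem' := fun {a} ha => ⟨inv_mem ha.1, by rw [inv_pow, ha.2, inv_one]⟩ }
    exact hr W ⟨⟨fun u v => Subtype.ext (hCE u (hΩ u u.2.1 u.2.2) v v.2.1).eq⟩⟩ fun u hu => hu.2
  by_cases hUC : ¬ U ⊓ C ≤ V
  · have htop : V ⊔ (U ⊓ C) = U := by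
      rcases hmin (V ⊔ (U ⊓ C)) inferInstance le_sup_left (sup_le hVU.le inf_le_left) with h | h
      · exact absurd (le_sup_right.trans h.le) hUC
      · exact h
    have hch' : Cfsg.IsChiefFactor (U ⊓ C) (V ⊓ C) := by
      refine ⟨lt_of_le_not_ge (inf_le_inf_right C hVU.le) fun h => hUC (h.trans inf_le_left), inferInstance,
        inferInstance, fun N hN h1 h2 => ?_⟩
      rcases hmin (N ⊔ V) inferInstance le_sup_right (sup_le (h2.trans inf_le_left) hVU.le) with h | h
      · exact Or.inl (le_antisymm (le_inf (le_sup_left.trans h.le) (h2.trans inf_le_right)) h1)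
      · refine Or.inr (le_antisymm h2 fun x hx => ?_)
        obtain ⟨hxU, hxC⟩ := Subgroup.mem_inf.1 hx
        rw [← h] at hxU
        obtain ⟨y, hy, v, hv, rfl⟩ := Subgroup.mem_sup_of_normal_right.1 hxU
        have : y⁻¹ * (y * v) ∈ C := mul_mem (inv_mem (Subgroup.mem_inf.1 (h2 hy)).2) hxC
        rw [inv_mul_cancel_left] at this
        exact mul_mem hy (h1 (Subgroup.mem_inf.2 ⟨hv, this⟩))
    have h1 := chief_le_of_omega hp2 (p ^ 2) _ X rfl C hCn (hS.to_le inf_le_left)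
      (fun x hx hxp => hCE x (hΩ x hx hxp)) hcard _ _ hch' inf_le_right
    conv_lhs => rw [← htop]
    rw [Subgroup.relIndex_sup_left, ← Subgroup.inf_relIndex_right, ← inf_assoc, inf_eq_left.2 hVU.le]
    exact h1
  rw [not_not] at hUC
  have h1 : V.relIndex U ∣ (U ⊓ C).relIndex U := Subgroup.relIndex_dvd_of_le_left _ hUC
  rw [Subgroup.inf_relIndex_left] at h1
  have hne : C.relIndex U ≠ 0 := Subgroup.index_ne_zero_of_finite
  exact (Nat.le_of_dvd (Nat.pos_of_ne_zero hne) h1).trans ((Subgroup.relIndex_le_of_le_right hUS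
    Subgroup.index_ne_zero_of_finite).trans hCidx)

end Cfsg.Agent.Lib.FusionControl
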