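import Cfsg.Agent.Lib.FusionControl.Section

/-! Control in constrained sections gives control everywhere. -/

set_option autoImplicit false

universe u

open scoped commutatorElement

namespace Cfsg.Agent.Lib.FusionControl

variable {p : ℕ} [Fact p.Prime] {X : Type u} [Group X] [Finite X]

omit [Fact p.Prime] in
lemma mk'_eq_iff {Q : Subgroup X} [Q.Normal] {x y : X} :
    QuotientGroup.mk' Q x = QuotientGroup.mk' Q y ↔ x⁻¹ * y ∈ Q := QuotientGroup.eq

/-- the hard case: the group is not `p`-constrained but has trivial `p'`-core -/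
lemma inf_centralizer_pCore_not_le (hO : Cfsg.pPrimeCore p X = ⊥) (hC : ¬ CharPType p X) (S : Sylow p X) :
    ¬ (S : Subgroup X) ⊓ Subgroup.centralizer ((Cfsg.pCore p X : Subgroup X) : Set X) ≤ Cfsg.pCore p X := by
  set C := Subgroup.centralizer ((Cfsg.pCore p X : Subgroup X) : Set X) with hCdef
  intro h
  apply hC
  have hCn : C.Normal := inferInstance
  have hi : ¬ p ∣ ((S : Subgroup X) ⊓ C).relIndex C :=
    not_dvd_relIndex_inf le_top S.2 (sylow_relIndex_top S) le_top (by rw [Subgroup.normalizer_eq_top])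
  let P : Sylow p C := ((S.2.to_le inf_le_left).comap_of_injective C.subtype C.subtype_injective :
    IsPGroup p (((S : Subgroup X) ⊓ C).subgroupOf C)).toSylow hi
  have hcent : Subgroup.normalizer ((P : Subgroup C) : Set C) ≤ Subgroup.centralizer ((P : Subgroup C) : Set C) := by
    intro c _
    rw [Subgroup.mem_centralizer_iff]
    intro z hz
    exact Subtype.ext (Subgroup.mem_centralizer_iff.1 c.2 _ (h hz))
  have hnpc := Cfsg.Agent.Lib.Transfer.hasNormalPComplement_of_normalizer_le_centralizer P hcent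
  rw [Cfsg.Agent.Lib.Transfer.hasNormalPComplement_iff_coprime] at hnpc
  have hbot : Cfsg.pResidual p C = ⊥ := by
    rw [← Subgroup.map_eq_bot_iff_of_injective _ C.subtype_injective, eq_bot_iff, ← hO]
    refine Cfsg.Agent.Lib.Cores.le_pPrimeCore inferInstance ?_
    rwa [Subgroup.card_map_of_injective C.subtype_injective]
  have htop := Cfsg.Agent.Lib.Transfer.sylow_sup_pResidual P
  rw [hbot, sup_bot_eq] at htop
  intro c hc
  exact h ((htop ▸ Subgroup.mem_top (⟨c, hc⟩ : C) : (⟨c, hc⟩ : C) ∈ (P : Subgroup C)))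

variable {𝓦 : Set (∀ (Q : Type u) [Group Q], Subgroup Q)}

/-- fusion: the induction step in the hard case -/
theorem localCtrl_hard (h𝓦 : ∀ W ∈ 𝓦, Cfsg.IsCharPFunctor.{u} p W) (S : Sylow p X)
    (hQ : Cfsg.pCore p X ≠ ⊥) (hO : Cfsg.pPrimeCore p X = ⊥) (hC : ¬ CharPType p X)
    (hH : ∀ H : Subgroup X, H ≠ ⊤ → (S : Subgroup X) ≤ H →
      LocalCtrl H (S : Subgroup X) (stepSet (indSet X 𝓦) ⊤ (S : Subgroup X)))
    (hquot : LocalCtrl ⊤ ((S : Subgroup X).map (QuotientGroup.mk' (Cfsg.pCore p X)))
      (stepSet (indSet (X ⧸ Cfsg.pCore p X) 𝓦) ⊤ ((S : Subgroup X).map (QuotientGroup.mk' (Cfsg.pCore p X))))) :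
    LocalCtrl ⊤ (S : Subgroup X) (stepSet (indSet X 𝓦) ⊤ (S : Subgroup X)) := by
  set Q := Cfsg.pCore p X with hQdef
  set C := Subgroup.centralizer (Q : Set X) with hCdef
  set M := stepSet (indSet X 𝓦) ⊤ (S : Subgroup X) with hM
  set CS := (S : Subgroup X) ⊓ C with hCSdef
  have hM1 : (1 : X) ∈ M := Or.inl rfl
  have hQn : Q.Normal := by rw [hQdef]; infer_instance
  have hCn : C.Normal := by rw [hCdef]; infer_instance
  have hCSQ : ¬ CS ≤ Q := inf_centralizer_pCore_not_le hO hC S
  have hQS : Q ≤ (S : Subgroup X) := pCore_le_S S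
  have hNCS : Subgroup.normalizer (CS : Set X) ≠ ⊤ :=
    normalizer_ne_top_of_pCore (S.2.to_le inf_le_left) hCSQ
  have hSNCS : (S : Subgroup X) ≤ Subgroup.normalizer (CS : Set X) := by
    intro s hs
    rw [mem_normalizer_iff_cj, hCSdef, cj_inf, mem_normalizer_iff_cj.1 (Subgroup.le_normalizer hs),
      mem_normalizer_iff_cj.1 (show s ∈ Subgroup.normalizer (C : Set X) by rw [Subgroup.normalizer_eq_top]; trivial)]
  by_cases hCS : (S : Subgroup X) ⊔ C = ⊤
  · -- `X = C S`
    have hpel : ∀ x : X, (orderOf x).Coprime p → x ∈ C := by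
      intro x hx
      have hE : IsPGroup p (X ⧸ C) := by
        have hs : Function.Surjective ((QuotientGroup.mk' C).comp (S : Subgroup X).subtype) := by
          intro y
          obtain ⟨z, rfl⟩ := QuotientGroup.mk'_surjective C y
          have : z ∈ (S : Subgroup X) ⊔ C := hCS ▸ Subgroup.mem_top z
          obtain ⟨s, hs, c, hc, rfl⟩ := Subgroup.mem_sup_of_normal_right.1 this
          refine ⟨⟨s, hs⟩, ?_⟩
          show QuotientGroup.mk' C s = QuotientGroup.mk' C (s * c)
          rw [mk'_eq_iff]; simpa using hc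
        exact S.2.of_surjective _ hs
      have := Cfsg.Agent.Lib.Transfer.pResidual_le_ker hE (QuotientGroup.mk' C)
        (Cfsg.Agent.Lib.Transfer.mem_pResidual_of_coprime hx)
      rwa [QuotientGroup.ker_mk'] at this
    set f := QuotientGroup.mk' Q with hf
    have hcomapS : ((S : Subgroup X).map f).comap f = (S : Subgroup X) := by
      rw [Subgroup.comap_map_eq, QuotientGroup.ker_mk', sup_eq_left.2 hQS]
    -- lifting of chains modulo `Q`
    have hlift : ∀ (A : Set X) (g' : X ⧸ Q), A ⊆ ((S : Subgroup X) : Set X) →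
        Reach ((S : Subgroup X).map f) (stepSet (indSet (X ⧸ Q) 𝓦) ⊤ ((S : Subgroup X).map f)) (f '' A) g' →
        ∃ y, Reach (S : Subgroup X) M A y ∧ ∀ a ∈ A, f (y * a * y⁻¹) = g' * f a * g'⁻¹ := by
      intro A g' hA h0
      generalize hB : f '' A = B at h0
      induction h0 generalizing A with
      | @step B g' x hx hB' hxB he =>
        subst hB
        rcases hx with rfl | ⟨_, ⟨W, hW, rfl⟩, hx⟩
        · exact ⟨1, .step hM1 hA (by rw [cs_one]; exact hA) (fun a _ => rfl), fun a ha => by
            rw [he _ ⟨a, ha, rfl⟩]; simp⟩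
        · obtain ⟨n, rfl⟩ := QuotientGroup.mk'_surjective Q x
          have hcj : IsPGroup p ((S : Subgroup X).map f) := S.2.map f
          obtain ⟨hle, hne, -⟩ := isConjugacyFunctor_inducedFunctor (h𝓦 W hW) ((S : Subgroup X).map f) hcj
          set Z := Cfsg.inducedFunctor W ((S : Subgroup X).map f) with hZ
          set XW := Z.comap f with hXW
          have hXWS : XW ≤ (S : Subgroup X) := by
            rw [← hcomapS]; exact Subgroup.comap_mono hle
          have hprop : Subgroup.normalizer (XW : Set X) ≠ ⊤ := by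
            refine normalizer_ne_top_of_pCore (S.2.to_le hXWS) fun hc => hne ?_ ?_
            · intro hb
              apply hCSQ
              refine le_trans inf_le_left ?_
              rw [Subgroup.map_eq_bot_iff, QuotientGroup.ker_mk'] at hb
              exact hb
            · rw [eq_bot_iff]
              intro z hz
              obtain ⟨w, rfl⟩ := QuotientGroup.mk'_surjective Q z
              exact Subgroup.mem_bot.2 ((QuotientGroup.eq_one_iff w).2 (hc hz))
          have hnorm : ∀ y : X, f y ∈ Subgroup.normalizer (Z : Set (X ⧸ Q)) →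
              y ∈ Subgroup.normalizer (XW : Set X) := by
            intro y hy
            rw [Subgroup.mem_normalizer_iff]
            intro z
            show f z ∈ Z ↔ f (y * z * y⁻¹) ∈ Z
            rw [map_mul, map_mul, map_inv]
            exact Subgroup.mem_normalizer_iff.1 hy (f z)
          have hSN : (S : Subgroup X) ≤ Subgroup.normalizer (XW : Set X) := fun s hs =>
            hnorm s (le_normalizer_inducedFunctor (h𝓦 W hW) hcj ⟨s, hs, rfl⟩)
          have hnA : cs n A ⊆ ((S : Subgroup X) : Set X) := by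
            rintro _ ⟨a, ha, rfl⟩
            show n * a * n⁻¹ ∈ (S : Subgroup X)
            rw [← hcomapS]
            show f (n * a * n⁻¹) ∈ (S : Subgroup X).map f
            rw [map_mul, map_mul, map_inv]
            exact hxB ⟨f a, ⟨a, ha, rfl⟩, rfl⟩
          refine ⟨n, hH _ hprop hSN A n (hnorm n hx.2) hA hnA, fun a ha => ?_⟩
          rw [he _ ⟨a, ha, rfl⟩, map_mul, map_mul, map_inv]
      | @comp B x y h1 h2 ih1 ih2 =>
        subst hB
        obtain ⟨u, hu, hue⟩ := ih1 A hA rfl
        obtain ⟨v, hv, hve⟩ := ih2 (cs u A) hu.subset.2 (by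
          simp only [cs, Set.image_image]
          exact Set.image_congr hue)
        refine ⟨v * u, .comp hu hv, fun a ha => ?_⟩
        have := hve _ ⟨a, ha, rfl⟩
        rw [hue a ha] at this
        rw [show v * u * a * (v * u)⁻¹ = v * (u * a * u⁻¹) * v⁻¹ by group, this]
        group
    have main : ∀ (k : ℕ) (R : Subgroup X), Nat.card (S : Subgroup X) - Nat.card R = k →
        Q ≤ R → R ≤ (S : Subgroup X) → ∀ h : X, cj h R ≤ (S : Subgroup X) →
        Reach (S : Subgroup X) M (R : Set X) h := by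
      intro k
      induction k using Nat.strong_induction_on with
      | _ k ih =>
        intro R hk hQR hRS h hhR
        have hA' : f '' (R : Set X) ⊆ (((S : Subgroup X).map f : Subgroup _) : Set (X ⧸ Q)) := Set.image_mono hRS
        have hgA' : cs (f h) (f '' (R : Set X)) ⊆ (((S : Subgroup X).map f : Subgroup _) : Set (X ⧸ Q)) := by
          rintro _ ⟨_, ⟨a, ha, rfl⟩, rfl⟩
          exact ⟨h * a * h⁻¹, hhR (conj_mem_cj ha), by simp⟩
        obtain ⟨d, hd, hde⟩ := hlift (R : Set X) (f h) hRS (hquot _ _ (Subgroup.mem_top _) hA' hgA')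
        set R' := cj d R with hR'
        have hR'S : R' ≤ (S : Subgroup X) := hd.subset.2
        have hQR' : Q ≤ R' := by
          have e : cj d Q = Q := mem_normalizer_iff_cj.1 (by rw [Subgroup.normalizer_eq_top]; trivial)
          rw [← e]; exact cj_le_cj hQR
        set t := h * d⁻¹ with ht
        have htriv : ∀ r ∈ R', f (t * r * t⁻¹) = f r := by
          rintro _ ⟨a, ha, rfl⟩
          show f (t * (d * a * d⁻¹) * t⁻¹) = f (d * a * d⁻¹)
          rw [hde a ha, ht, show h * d⁻¹ * (d * a * d⁻¹) * (h * d⁻¹)⁻¹ = h * a * h⁻¹ by group]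
          simp
        suffices hR't : Reach (S : Subgroup X) M (R' : Set X) t by
          have := Reach.comp hd hR't
          rwa [ht, inv_mul_cancel_right] at this
        have htN : t ∈ Subgroup.normalizer (R' : Set X) := by
          refine mem_normalizer_of_cj_le ?_
          rintro _ ⟨r, hr, rfl⟩
          have : (t * r * t⁻¹)⁻¹ * r ∈ Q := mk'_eq_iff.1 (htriv r hr)
          have h2 := mul_mem hr (inv_mem (hQR' this))
          simpa [mul_assoc] using h2
        have hcR : Nat.card R' = Nat.card R := card_cj d R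
        by_cases hR'eq : R' = (S : Subgroup X)
        · have hprop : Subgroup.normalizer ((S : Subgroup X) : Set X) ≠ ⊤ :=
            normalizer_ne_top_of_pCore S.2 fun hc => hCSQ (inf_le_left.trans hc)
          rw [hR'eq] at htN ⊢
          exact hH _ hprop Subgroup.le_normalizer _ t htN subset_rfl (by rw [cs_subgroup, mem_normalizer_iff_cj.1 htN])
        have hlt := card_lt_nS S.2 (lt_of_le_of_ne hR'S hR'eq)
        have hRle : Nat.card R ≤ Nat.card (S : Subgroup X) := Subgroup.card_le_of_le hRS
        have hnle : Nat.card (nS (S : Subgroup X) R') ≤ Nat.card (S : Subgroup X) := Subgroup.card_le_of_le inf_le_left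
        obtain ⟨k0, hk0, hext⟩ := exists_extr_cj S hR'S
        have c1 : Reach (S : Subgroup X) M (nS (S : Subgroup X) R' : Set X) k0 :=
          ih _ (by omega) _ rfl (hQR'.trans (le_nS hR'S)) inf_le_left k0 hk0
        have c3 : Reach (S : Subgroup X) M (cj k0 (nS (S : Subgroup X) R') : Set X) k0⁻¹ := by
          refine ih _ ?_ _ rfl ?_ hk0 k0⁻¹ (by rw [cj_inv_cj]; exact inf_le_left)
          · rw [card_cj]; omega
          · have e : cj k0 Q = Q := mem_normalizer_iff_cj.1 (by rw [Subgroup.normalizer_eq_top]; trivial)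
            rw [← e]; exact cj_le_cj (hQR'.trans (le_nS hR'S))
        set R0 := cj k0 R' with hR0
        set t0 := k0 * t * k0⁻¹ with ht0
        have ht0N : t0 ∈ Subgroup.normalizer (R0 : Set X) := by
          rw [hR0, ← cj_normalizer]; exact conj_mem_cj htN
        have hQR0 : Q ≤ R0 := by
          have e : cj k0 Q = Q := mem_normalizer_iff_cj.1 (by rw [Subgroup.normalizer_eq_top]; trivial)
          rw [← e]; exact cj_le_cj hQR'
        set N := Subgroup.normalizer (R0 : Set X) with hN
        set K := N ⊓ (Subgroup.centralizer ((R0.map f : Subgroup (X ⧸ Q)) : Set (X ⧸ Q))).comap f with hK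
        have ht0K : t0 ∈ K := by
          refine Subgroup.mem_inf.2 ⟨ht0N, ?_⟩
          rw [Subgroup.mem_comap, Subgroup.mem_centralizer_iff]
          rintro _ ⟨_, ⟨r, hr, rfl⟩, rfl⟩
          show f (k0 * r * k0⁻¹) * f t0 = f t0 * f (k0 * r * k0⁻¹)
          have := htriv r hr
          rw [map_mul, map_mul, map_inv, mul_inv_eq_iff_eq_mul] at this
          simp only [ht0, map_mul, map_inv]
          calc f k0 * f r * (f k0)⁻¹ * (f k0 * f t * (f k0)⁻¹) = f k0 * (f r * f t) * (f k0)⁻¹ := by group
            _ = f k0 * (f t * f r) * (f k0)⁻¹ := by rw [this]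
            _ = _ := by group
        have hNK : N ≤ Subgroup.normalizer (K : Set X) := by
          intro x hx
          refine mem_normalizer_of_cj_le ?_
          rintro _ ⟨y, hy, rfl⟩
          obtain ⟨hy1, hy2⟩ := Subgroup.mem_inf.1 hy
          show x * y * x⁻¹ ∈ K
          refine Subgroup.mem_inf.2 ⟨mul_mem (mul_mem hx hy1) (inv_mem hx), ?_⟩
          rw [Subgroup.mem_comap, Subgroup.mem_centralizer_iff] at hy2 ⊢
          rintro _ ⟨r, hr, rfl⟩
          have hr' : x⁻¹ * r * x ∈ R0 := by
            have := (Subgroup.mem_normalizer_iff.1 (inv_mem hx) r).1 hr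
            simpa using this
          have h2 := hy2 (f (x⁻¹ * r * x)) ⟨_, hr', rfl⟩
          simp only [map_mul, map_inv] at h2 ⊢
          calc f r * (f x * f y * (f x)⁻¹) = f x * ((f x)⁻¹ * f r * f x * f y) * (f x)⁻¹ := by group
            _ = f x * (f y * ((f x)⁻¹ * f r * f x)) * (f x)⁻¹ := by rw [h2]
            _ = _ := by group
        set CK := K ⊓ Subgroup.centralizer (R0 : Set X) with hCK
        have hKCK : K ≤ Subgroup.normalizer (CK : Set X) := by
          intro x hx
          rw [mem_normalizer_iff_cj, hCK, cj_inf, mem_normalizer_iff_cj.1 (Subgroup.le_normalizer hx),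
            mem_normalizer_iff_cj.1 (normalizer_le_normalizer_centralizer R0 (Subgroup.mem_inf.1 hx).1)]
        have hres : ∀ b ∈ K, (orderOf b).Coprime p → b ∈ Subgroup.centralizer (R0 : Set X) := by
          intro b hb hbp
          have hbC := hpel b hbp
          obtain ⟨hb1, hb2⟩ := Subgroup.mem_inf.1 hb
          rw [Subgroup.mem_centralizer_iff]
          intro r hr
          rw [Subgroup.mem_comap, Subgroup.mem_centralizer_iff] at hb2
          have h2 := hb2 (f r) ⟨r, hr, rfl⟩
          set q := r⁻¹ * (b * r * b⁻¹) with hq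
          have hqQ : q ∈ Q := by
            rw [hq, ← mk'_eq_iff, ← hf, map_mul, map_mul, map_inv, ← h2, mul_inv_cancel_right]
          have hqb : Commute q b := Subgroup.mem_centralizer_iff.1 hbC q hqQ
          have key : ∀ i : ℕ, b ^ i * r * (b ^ i)⁻¹ = r * q ^ i := by
            intro i
            induction i with
            | zero => simp
            | succ i ihh =>
              calc b ^ (i + 1) * r * (b ^ (i + 1))⁻¹ = b ^ i * (b * r * b⁻¹) * (b ^ i)⁻¹ := by rw [pow_succ]; group
                _ = b ^ i * (r * q) * (b ^ i)⁻¹ := by rw [hq]; group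
                _ = (b ^ i * r * (b ^ i)⁻¹) * (b ^ i * q * (b ^ i)⁻¹) := by group
                _ = r * q ^ i * q := by
                  rw [ihh]
                  congr 1
                  rw [← (hqb.pow_right i).eq, mul_inv_cancel_right]
                _ = _ := by rw [pow_succ, mul_assoc]
          have h3 := key (orderOf b)
          rw [pow_orderOf_eq_one, one_mul, inv_one, mul_one] at h3
          have h4 : q ^ orderOf b = 1 := by
            have : r * q ^ orderOf b = r * 1 := by rw [← h3, mul_one]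
            exact mul_left_cancel this
          have h5 : q = 1 := by
            have hqS := hQS hqQ
            refine Cfsg.Agent.Lib.Transfer.eq_one_of_isPGroup_of_coprime S.2 hqS ?_
            exact Nat.Coprime.coprime_dvd_left (orderOf_dvd_of_pow_eq_one h4) hbp
          rw [hq, inv_mul_eq_one] at h5
          exact mul_inv_eq_iff_eq_mul.1 h5.symm |>.symm
        have hKsup : K ≤ (nS (S : Subgroup X) R0 ⊓ K) ⊔ CK := by
          have hi := not_dvd_relIndex_inf inf_le_right (S.2.to_le inf_le_left) hext.2 inf_le_left hNK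
          have hn : (CK.subgroupOf K).Normal :=
            (Subgroup.normal_subgroupOf_iff_le_normalizer inf_le_left).2 hKCK
          have hE : IsPGroup p (↥K ⧸ CK.subgroupOf K) := by
            intro x
            induction x using QuotientGroup.induction_on with
            | H g =>
              obtain ⟨a, b, -, -, ha, ⟨j, hj⟩, rfl⟩ := Cfsg.Agent.Lib.Transfer.exists_pPart_decomp (p := p) g
              refine ⟨j, ?_⟩
              have : a ∈ CK.subgroupOf K := Subgroup.mem_inf.2 ⟨a.2, hres _ a.2 (by rw [orderOf_injective K.subtype K.subtype_injective]; exact ha)⟩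
              rw [QuotientGroup.mk_mul, (QuotientGroup.eq_one_iff a).mpr this, one_mul,
                ← QuotientGroup.mk_pow, ← hj, pow_orderOf_eq_one, QuotientGroup.mk_one]
          obtain ⟨e, he⟩ := IsPGroup.iff_card.mp hE
          set M' := (nS (S : Subgroup X) R0 ⊓ K) ⊔ CK with hM'
          have h2 : M'.relIndex K ∣ p ^ e := he ▸ Subgroup.relIndex_dvd_of_le_left _ le_sup_right
          obtain ⟨b, _, hb⟩ := (Nat.dvd_prime_pow Fact.out).1 h2
          have h3 : ¬ p ∣ M'.relIndex K := fun h => hi (h.trans (Subgroup.relIndex_dvd_of_le_left _ le_sup_left))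
          rw [hb] at h3
          have hb0 : b = 0 := by
            by_contra hb0
            exact h3 (dvd_pow_self p hb0)
          rw [hb0, pow_zero] at hb
          exact Subgroup.relIndex_eq_one.1 hb
        have hsup := hKsup ht0K
        rw [sup_comm] at hsup
        obtain ⟨c, hc, s, hs, hcs⟩ := Cfsg.Agent.Lib.Coprime.exists_mul_of_mem_sup (inf_le_right.trans hKCK) hsup
        have hcN : c ∈ Subgroup.centralizer (R0 : Set X) := (Subgroup.mem_inf.1 hc).2
        have hs' := (Subgroup.mem_inf.1 (Subgroup.mem_inf.1 hs).1)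
        have c2 : Reach (S : Subgroup X) M (R0 : Set X) t0 := by
          have hsR : cs s (R0 : Set X) ⊆ ((S : Subgroup X) : Set X) := by
            rw [cs_subgroup, mem_normalizer_iff_cj.1 hs'.2]; exact hext.1
          by_cases hStop : (S : Subgroup X) = ⊤
          · exact absurd (show CS ≤ Q from inf_le_left.trans
              (Cfsg.Agent.Lib.Cores.le_pCore (by rw [hStop]; infer_instance) S.2)) hCSQ
          refine (hH _ hStop le_rfl (R0 : Set X) s hs'.1 hext.1 hsR).congr hM1 fun r hr => ?_
          have hsr : s * r * s⁻¹ ∈ R0 := (Subgroup.mem_normalizer_iff.1 hs'.2 r).1 hr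
          have := Subgroup.mem_centralizer_iff.1 hcN _ hsr
          rw [hcs, show c * s * r * (c * s)⁻¹ = c * (s * r * s⁻¹) * c⁻¹ by group, ← this, mul_inv_cancel_right]
        have c12 := Reach.comp (c1.mono (le_nS hR'S)) c2
        have h3 := c3.mono (show cs (t0 * k0) (R' : Set X) ⊆ (cj k0 (nS (S : Subgroup X) R') : Set X) from by
          rw [← cs_cs, cs_subgroup, cs_subgroup, mem_normalizer_iff_cj.1 ht0N]
          exact cj_le_cj (le_nS hR'S))
        have := Reach.comp c12 h3
        rwa [ht0, show k0⁻¹ * (k0 * t * k0⁻¹ * k0) = t by group] at this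
    intro A g _ hA hgA
    set R := Subgroup.closure A ⊔ Q with hR
    have hRS : R ≤ (S : Subgroup X) := sup_le ((Subgroup.closure_le _).2 hA) hQS
    refine (main _ R rfl le_sup_right hRS g ?_).mono (fun a ha => Subgroup.mem_sup_left (Subgroup.subset_closure ha))
    rw [hR, cj, Subgroup.map_sup, MonoidHom.map_closure]
    exact sup_le ((Subgroup.closure_le _).2 hgA)
      ((mem_normalizer_iff_cj.1 (show g ∈ Subgroup.normalizer (Q : Set X) by rw [Subgroup.normalizer_eq_top]; trivial)).le.trans hQS)
  · -- `C S` is proper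
    intro A g _ hA hgA
    set R := Subgroup.closure A ⊔ CS with hR
    have hRS : R ≤ (S : Subgroup X) := sup_le ((Subgroup.closure_le _).2 hA) inf_le_left
    have hgR : cj g R ≤ (S : Subgroup X) ⊔ C := by
      rw [hR, cj, Subgroup.map_sup, MonoidHom.map_closure]
      refine sup_le ((Subgroup.closure_le _).2 fun x hx => Subgroup.mem_sup_left (hgA hx)) ?_
      exact ((cj_le_cj inf_le_right).trans
        (mem_normalizer_iff_cj.1 (show g ∈ Subgroup.normalizer (C : Set X) by rw [Subgroup.normalizer_eq_top]; trivial)).le).trans le_sup_right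
    obtain ⟨c, hc, hle⟩ := exists_cj_le_of_not_dvd le_sup_left S.2
      (not_dvd_relIndex_of_le S le_sup_left) hgR (isPGroup_cj (S.2.to_le hRS))
    rw [cj_cj] at hle
    have hm : c * g ∈ Subgroup.normalizer (CS : Set X) := by
      refine mem_normalizer_of_cj_le (le_inf ((cj_le_cj le_sup_right).trans hle) ?_)
      exact (cj_le_cj inf_le_right).trans
        (mem_normalizer_iff_cj.1 (show c * g ∈ Subgroup.normalizer (C : Set X) by rw [Subgroup.normalizer_eq_top]; trivial)).le
    have hmA : cs (c * g) A ⊆ ((S : Subgroup X) : Set X) := by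
      rintro _ ⟨a, ha, rfl⟩
      exact hle (conj_mem_cj (Subgroup.mem_sup_left (Subgroup.subset_closure ha)))
    have h1 := hH _ hNCS hSNCS A (c * g) hm hA hmA
    have h2 := hH _ hCS le_sup_left (cs (c * g) A) c⁻¹ (inv_mem hc) hmA (by
      rw [cs_cs, inv_mul_cancel_left]; exact hgA)
    simpa using Reach.comp h1 h2

/-- transfer: the induction step in the hard case -/
theorem transfer_hard (h𝓦 : ∀ W ∈ 𝓦, Cfsg.IsCharPFunctor.{u} p W) (S : Sylow p X)
    (hQ : Cfsg.pCore p X ≠ ⊥) (hO : Cfsg.pPrimeCore p X = ⊥) (hC : ¬ CharPType p X)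
    (hH : ∀ H : Subgroup X, H ≠ ⊤ → (S : Subgroup X) ≤ H →
      (S : Subgroup X) ⊓ ⁅H, H⁆ ≤ transferPart (indSet X 𝓦) ⊤ (S : Subgroup X))
    (hquot : ((S : Subgroup X).map (QuotientGroup.mk' (Cfsg.pCore p X))) ⊓ ⁅(⊤ : Subgroup (X ⧸ Cfsg.pCore p X)), ⊤⁆ =
      transferPart (indSet (X ⧸ Cfsg.pCore p X) 𝓦) ⊤ ((S : Subgroup X).map (QuotientGroup.mk' (Cfsg.pCore p X)))) :
    (S : Subgroup X) ⊓ ⁅(⊤ : Subgroup X), ⊤⁆ = transferPart (indSet X 𝓦) ⊤ (S : Subgroup X) := by
  refine le_antisymm ?_ transferPart_le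
  set Q := Cfsg.pCore p X with hQdef
  set C := Subgroup.centralizer (Q : Set X) with hCdef
  set D := transferPart (indSet X 𝓦) ⊤ (S : Subgroup X) with hD
  set CS := (S : Subgroup X) ⊓ C with hCSdef
  have hQn : Q.Normal := by rw [hQdef]; infer_instance
  have hCn : C.Normal := by rw [hCdef]; infer_instance
  have hCSQ : ¬ CS ≤ Q := inf_centralizer_pCore_not_le hO hC S
  have hQS : Q ≤ (S : Subgroup X) := pCore_le_S S
  by_cases hCS : (S : Subgroup X) ⊔ C = ⊤
  · set f := QuotientGroup.mk' Q with hf
    have hcomapS : ((S : Subgroup X).map f).comap f = (S : Subgroup X) := by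
      rw [Subgroup.comap_map_eq, QuotientGroup.ker_mk', sup_eq_left.2 hQS]
    have hStop : (S : Subgroup X) ≠ ⊤ := fun hStop => hCSQ (inf_le_left.trans
              (Cfsg.Agent.Lib.Cores.le_pCore (by rw [hStop]; infer_instance) S.2))
    have hSD : ⁅(S : Subgroup X), (S : Subgroup X)⁆ ≤ D :=
      (le_inf (commutator_self_le _) le_rfl).trans (hH _ hStop le_rfl)
    have hDX : D ≤ ⁅(⊤ : Subgroup X), ⊤⁆ := transferPart_le.trans inf_le_right
    have hle : transferPart (indSet (X ⧸ Q) 𝓦) ⊤ ((S : Subgroup X).map f) ≤ D.map f := by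
      refine iSup₂_le fun F hF => ?_
      obtain ⟨W, hW, rfl⟩ := hF
      have hcj : IsPGroup p ((S : Subgroup X).map f) := S.2.map f
      obtain ⟨hle, hne, -⟩ := isConjugacyFunctor_inducedFunctor (h𝓦 W hW) ((S : Subgroup X).map f) hcj
      set Z := Cfsg.inducedFunctor W ((S : Subgroup X).map f) with hZ
      set XW := Z.comap f with hXW
      have hXWS : XW ≤ (S : Subgroup X) := by
        rw [← hcomapS]; exact Subgroup.comap_mono hle
      have hprop : Subgroup.normalizer (XW : Set X) ≠ ⊤ := by
        refine normalizer_ne_top_of_pCore (S.2.to_le hXWS) fun hc => hne ?_ ?_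
        · intro hb
          apply hCSQ
          refine le_trans inf_le_left ?_
          rw [Subgroup.map_eq_bot_iff, QuotientGroup.ker_mk'] at hb
          exact hb
        · rw [eq_bot_iff]
          intro z hz
          obtain ⟨w, rfl⟩ := QuotientGroup.mk'_surjective Q z
          exact Subgroup.mem_bot.2 ((QuotientGroup.eq_one_iff w).2 (hc hz))
      have hnorm : ∀ y : X, f y ∈ Subgroup.normalizer (Z : Set (X ⧸ Q)) →
          y ∈ Subgroup.normalizer (XW : Set X) := by
        intro y hy
        rw [Subgroup.mem_normalizer_iff]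
        intro z
        show f z ∈ Z ↔ f (y * z * y⁻¹) ∈ Z
        rw [map_mul, map_mul, map_inv]
        exact Subgroup.mem_normalizer_iff.1 hy (f z)
      have hSN : (S : Subgroup X) ≤ Subgroup.normalizer (XW : Set X) := fun s hs =>
        hnorm s (le_normalizer_inducedFunctor (h𝓦 W hW) hcj ⟨s, hs, rfl⟩)
      rintro z ⟨⟨s, hs, rfl⟩, hz⟩
      have hmap : (⊤ : Subgroup (X ⧸ Q)) ⊓ Subgroup.normalizer (Z : Set (X ⧸ Q)) ≤
          (Subgroup.normalizer (XW : Set X)).map f := by
        rintro y ⟨-, hy⟩
        obtain ⟨n, rfl⟩ := QuotientGroup.mk'_surjective Q y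
        exact ⟨n, hnorm n hy, rfl⟩
      have hz' := Subgroup.commutator_mono hmap hmap hz
      rw [← Subgroup.map_commutator] at hz'
      obtain ⟨c, hc, hce⟩ := hz'
      have hcS : c ∈ (S : Subgroup X) := by
        rw [← hcomapS]
        exact ⟨s, hs, hce.symm⟩
      exact ⟨c, hH _ hprop hSN ⟨hcS, hc⟩, hce⟩
    rintro s ⟨hs, hs'⟩
    have : f s ∈ D.map f := by
      refine hle ?_
      rw [← hquot]
      refine Subgroup.mem_inf.2 ⟨⟨s, hs, rfl⟩, ?_⟩
      have := Subgroup.commutator_mono (le_top : (⊤ : Subgroup X).map f ≤ ⊤) (le_top : (⊤ : Subgroup X).map f ≤ ⊤)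
      exact this (by rw [← Subgroup.map_commutator]; exact ⟨s, hs', rfl⟩)
    obtain ⟨d, hd, hde⟩ := this
    have hq : d⁻¹ * s ∈ Q := (QuotientGroup.eq).1 hde
    suffices d⁻¹ * s ∈ D by simpa using mul_mem hd this
    have hqX : d⁻¹ * s ∈ ⁅(⊤ : Subgroup X), ⊤⁆ := mul_mem (inv_mem (hDX hd)) hs'
    revert hq hqX
    generalize d⁻¹ * s = q
    intro hq hqX
    -- transfer into the abelianisation of `S` modulo `D`
    obtain ⟨D', hD'⟩ : ∃ D' : Subgroup (S : Subgroup X), D' = D.subgroupOf (S : Subgroup X) := ⟨_, rfl⟩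
    have hcom : commutator (S : Subgroup X) ≤ D' := by
      rw [hD']
      intro x hx
      have := Subgroup.map_subtype_commutator (S : Subgroup X)
      exact hSD (this ▸ ⟨x, hx, rfl⟩)
    have : D'.Normal := ⟨fun x hx g => by
      have := mul_mem (hcom (Subgroup.commutator_mem_commutator (Subgroup.mem_top g) (Subgroup.mem_top x))) hx
      simpa [commutatorElement_def] using this⟩
    have : IsMulCommutative (↥(S : Subgroup X) ⧸ D') := by
      refine ⟨⟨fun a b => ?_⟩⟩
      induction a using QuotientGroup.induction_on with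
      | H a =>
        induction b using QuotientGroup.induction_on with
        | H b =>
          rw [← QuotientGroup.mk_mul, ← QuotientGroup.mk_mul, QuotientGroup.eq]
          have := hcom (Subgroup.commutator_mem_commutator (Subgroup.mem_top b⁻¹) (Subgroup.mem_top a⁻¹))
          simpa [commutatorElement_def, mul_assoc] using this
    letI : CommGroup (↥(S : Subgroup X) ⧸ D') :=
      { (inferInstance : Group (↥(S : Subgroup X) ⧸ D')) with mul_comm := fun a b => mul_comm' a b }
    let φ : ↥(S : Subgroup X) →* ↥(S : Subgroup X) ⧸ D' := QuotientGroup.mk' D'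
    have hconj : ∀ g : X, g * q * g⁻¹ ∈ Q := fun g => hQn.conj_mem q hq g
    have hker : ⁅(⊤ : Subgroup X), ⊤⁆ ≤ φ.transfer.ker := by
      rw [← commutator_def]
      exact Abelianization.commutator_subset_ker _
    have hev : φ.transfer q = φ ⟨q, hQS hq⟩ ^ (S : Subgroup X).index := by
      classical
      let := (S : Subgroup X).fintypeQuotientOfFiniteIndex
      rw [MonoidHom.transfer_eq_prod_quotient_orbitRel_zpowers_quot, Subgroup.index_eq_sum_minimalPeriod _ q,
        ← Finset.prod_pow_eq_pow_sum]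
      refine Finset.prod_congr rfl fun o _ => ?_
      have hmem : o.out.out ∈ (S : Subgroup X) ⊔ C := hCS ▸ Subgroup.mem_top _
      obtain ⟨s, hs, c, hc, hsc⟩ := Subgroup.mem_sup_of_normal_right.1 hmem
      set k := Function.minimalPeriod (q • ·) o.out with hk
      have hqk : q ^ k ∈ Q := pow_mem hq k
      have hsq : s⁻¹ * q ^ k * s ∈ Q := by simpa using hQn.conj_mem _ hqk s⁻¹
      have := Subgroup.mem_centralizer_iff.1 hc _ hsq
      have e : (s * c)⁻¹ * q ^ k * (s * c) = s⁻¹ * q ^ k * s := by
        calc (s * c)⁻¹ * q ^ k * (s * c) = c⁻¹ * (s⁻¹ * q ^ k * s * c) := by group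
          _ = c⁻¹ * (c * (s⁻¹ * q ^ k * s)) := by rw [this]
          _ = _ := by group
      have he : ∀ h, (⟨o.out.out⁻¹ * q ^ k * o.out.out, h⟩ : (S : Subgroup X)) =
          ⟨s, hs⟩⁻¹ * ⟨q, hQS hq⟩ ^ k * ⟨s, hs⟩ := fun h => Subtype.ext (by show o.out.out⁻¹ * q ^ k * o.out.out = _; rw [← hsc]; exact e)
      rw [he, map_mul, map_mul, map_inv, map_pow, mul_comm, ← mul_assoc, mul_inv_cancel, one_mul]
    rw [MonoidHom.mem_ker.1 (hker hqX), ← map_pow] at hev
    have h1 : ((⟨q, hQS hq⟩ : (S : Subgroup X)) ^ (S : Subgroup X).index) ∈ D' :=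
      (QuotientGroup.eq_one_iff _).1 hev.symm
    have h2 : (⟨q, hQS hq⟩ : (S : Subgroup X)) ∈ D' := by
      obtain ⟨j, hj⟩ := S.2 ⟨q, hQS hq⟩
      have hcop : Nat.Coprime (S : Subgroup X).index (orderOf (⟨q, hQS hq⟩ : (S : Subgroup X))) :=
        Nat.Coprime.coprime_dvd_right (orderOf_dvd_of_pow_eq_one hj)
          (((Nat.Prime.coprime_iff_not_dvd Fact.out).2 S.not_dvd_index).symm.pow_right j)
      obtain ⟨m, hm⟩ := exists_pow_eq_self_of_coprime hcop
      rw [← hm]; exact pow_mem h1 m
    rw [hD'] at h2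
    exact h2
  · have hNCS : Subgroup.normalizer (CS : Set X) ≠ ⊤ :=
      normalizer_ne_top_of_pCore (S.2.to_le inf_le_left) hCSQ
    have hSNCS : (S : Subgroup X) ≤ Subgroup.normalizer (CS : Set X) := by
      intro s hs
      rw [mem_normalizer_iff_cj, hCSdef, cj_inf, mem_normalizer_iff_cj.1 (Subgroup.le_normalizer hs),
        mem_normalizer_iff_cj.1 (show s ∈ Subgroup.normalizer (C : Set X) by rw [Subgroup.normalizer_eq_top]; trivial)]
    refine inf_commutator_le le_top S.2 (sylow_relIndex_top S) fun g _ b hb hgb => ?_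
    set R := Subgroup.closure {b} ⊔ CS with hR
    have hRS : R ≤ (S : Subgroup X) := sup_le ((Subgroup.closure_le _).2 (Set.singleton_subset_iff.2 hb)) inf_le_left
    have hgR : cj g R ≤ (S : Subgroup X) ⊔ C := by
      rw [hR, cj, Subgroup.map_sup, MonoidHom.map_closure]
      refine sup_le ((Subgroup.closure_le _).2 ?_) ?_
      · rintro _ ⟨_, rfl, rfl⟩; exact Subgroup.mem_sup_left hgb
      exact ((cj_le_cj inf_le_right).trans
        (mem_normalizer_iff_cj.1 (show g ∈ Subgroup.normalizer (C : Set X) by rw [Subgroup.normalizer_eq_top]; trivial)).le).trans le_sup_right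
    obtain ⟨c, hc, hle⟩ := exists_cj_le_of_not_dvd le_sup_left S.2
      (not_dvd_relIndex_of_le S le_sup_left) hgR (isPGroup_cj (S.2.to_le hRS))
    rw [cj_cj] at hle
    have hm : c * g ∈ Subgroup.normalizer (CS : Set X) := by
      refine mem_normalizer_of_cj_le (le_inf ((cj_le_cj le_sup_right).trans hle) ?_)
      exact (cj_le_cj inf_le_right).trans
        (mem_normalizer_iff_cj.1 (show c * g ∈ Subgroup.normalizer (C : Set X) by rw [Subgroup.normalizer_eq_top]; trivial)).le
    have hmb : c * g * b * (c * g)⁻¹ ∈ (S : Subgroup X) :=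
      hle (conj_mem_cj (Subgroup.mem_sup_left (Subgroup.subset_closure rfl)))
    have h1 : b⁻¹ * (c * g * b * (c * g)⁻¹) ∈ D := hH _ hNCS hSNCS
      (Subgroup.mem_inf.2 ⟨mul_mem (inv_mem hb) hmb, mem_commutator_of_conj hm (hSNCS hb)⟩)
    have h2 : (c * g * b * (c * g)⁻¹)⁻¹ * (c⁻¹ * (c * g * b * (c * g)⁻¹) * c⁻¹⁻¹) ∈ D := hH _ hCS le_sup_left
      (Subgroup.mem_inf.2 ⟨mul_mem (inv_mem hmb) (by
        rw [show c⁻¹ * (c * g * b * (c * g)⁻¹) * c⁻¹⁻¹ = g * b * g⁻¹ by group]; exact hgb),
        mem_commutator_of_conj (inv_mem hc) (Subgroup.mem_sup_left hmb)⟩)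
    have := mul_mem h1 h2
    convert this using 1
    group

/-- `Y` is isomorphic to a section of `G` -/
abbrev SecOf (G : Type u) [Group G] (Y : Type u) [Group Y] : Prop := Cfsg.Involves Y G

/-- control of strong fusion in constrained sections gives it in all sections -/
theorem strongFusion_of_sections (h𝓦 : ∀ W ∈ 𝓦, Cfsg.IsCharPFunctor.{u} p W) {G : Type u} [Group G]
    (hloc : ∀ (Y : Type u) [Group Y] [Finite Y], Cfsg.Involves Y G → CharPType p Y →
      Cfsg.FamilyControlsStrongFusionIn p (indSet Y 𝓦) ⊤) :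
    ∀ (n : ℕ) (Y : Type u) [Group Y] [Finite Y], Nat.card Y = n → Cfsg.Involves Y G →
      Cfsg.FamilyControlsStrongFusionIn p (indSet Y 𝓦) ⊤ := by
  intro n
  induction n using Nat.strong_induction_on with
  | _ n ih =>
    intro Y _ _ hn hY
    by_cases hC : CharPType p Y
    · exact hloc Y hY hC
    obtain ⟨S⟩ : Nonempty (Sylow p Y) := inferInstance
    have hsub : ∀ H : Subgroup Y, H ≠ ⊤ → Cfsg.FamilyControlsStrongFusionIn p (indSet Y 𝓦) H := fun H hne =>
      family_of_subgroup h𝓦 (ih _ (hn ▸ card_lt_of_ne_top hne) H rfl (involves_subgroup hY H))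
    have hquot : ∀ N : Subgroup Y, [N.Normal] → N ≠ ⊥ → LocalCtrl ⊤ ((S : Subgroup Y).map (QuotientGroup.mk' N))
        (stepSet (indSet (Y ⧸ N) 𝓦) ⊤ ((S : Subgroup Y).map (QuotientGroup.mk' N))) := by
      intro N _ hne
      have hlt : Nat.card (Y ⧸ N) < n := by
        rw [← hn, Subgroup.card_eq_card_quotient_mul_card_subgroup N]
        exact lt_mul_of_one_lt_right Nat.card_pos (Subgroup.one_lt_card_iff_ne_bot N |>.2 hne)
      have h0 := ih _ hlt (Y ⧸ N) rfl (involves_surjective hY (QuotientGroup.mk' N) (QuotientGroup.mk'_surjective N))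
      exact localCtrl_of_family (indSet_conjugacy h𝓦 _) h0 le_top (S.2.map _) (by
        rw [Subgroup.relIndex_top_right]
        exact fun hd => S.not_dvd_index (hd.trans (Subgroup.index_map_dvd _ (QuotientGroup.mk'_surjective N))))
    by_cases hQ : Cfsg.pCore p Y = ⊥
    · refine strongFusion_local_global S (indSet_conjugacy h𝓦 Y) (Extr p (S : Subgroup Y)) (fun U hU => hU)
        (fun U hU => ?_) fun U hU hne => hsub _ fun htop => hne ?_
      · exact exists_extr_cj S hU
      · rw [eq_bot_iff, ← hQ]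
        exact Cfsg.Agent.Lib.Cores.le_pCore (Subgroup.normalizer_eq_top_iff.1 htop) (S.2.to_le hU.1)
    suffices LocalCtrl ⊤ (S : Subgroup Y) (stepSet (indSet Y 𝓦) ⊤ (S : Subgroup Y)) from
      family_iff.2 ⟨S, le_top, S.2, sylow_relIndex_top S, this⟩
    by_cases hO : Cfsg.pPrimeCore p Y = ⊥
    · refine localCtrl_hard h𝓦 S hQ hO hC (fun H hne hle A g hg hA hgA => ?_) (hquot _ hQ)
      have := localCtrl_of_family (indSet_conjugacy h𝓦 Y) (hsub H hne) hle S.2
        (not_dvd_relIndex_of_le S hle) A g hg hA hgA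
      refine this.mono_steps ?_
      rintro y (rfl | ⟨F, hF, hy⟩)
      · exact Or.inl rfl
      · exact Or.inr ⟨F, hF, Subgroup.mem_top y, hy.2⟩
    · exact localCtrl_lift h𝓦 S (hquot _ hO)

/-- control of transfer in constrained sections gives it in all sections -/
theorem transfer_of_sections (h𝓦 : ∀ W ∈ 𝓦, Cfsg.IsCharPFunctor.{u} p W) {G : Type u} [Group G]
    (hloc : ∀ (Y : Type u) [Group Y] [Finite Y], Cfsg.Involves Y G → CharPType p Y →
      Cfsg.FamilyControlsTransferIn p (indSet Y 𝓦) ⊤) :
    ∀ (n : ℕ) (Y : Type u) [Group Y] [Finite Y], Nat.card Y = n → Cfsg.Involves Y G →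
      Cfsg.FamilyControlsTransferIn p (indSet Y 𝓦) ⊤ := by
  intro n
  induction n using Nat.strong_induction_on with
  | _ n ih =>
    intro Y _ _ hn hY
    by_cases hC : CharPType p Y
    · exact hloc Y hY hC
    obtain ⟨S⟩ : Nonempty (Sylow p Y) := inferInstance
    have hsub : ∀ H : Subgroup Y, H ≠ ⊤ → Cfsg.FamilyControlsTransferIn p (indSet Y 𝓦) H := fun H hne =>
      family_transfer_of_subgroup h𝓦 (ih _ (hn ▸ card_lt_of_ne_top hne) H rfl (involves_subgroup hY H))
    have hquot : ∀ N : Subgroup Y, [N.Normal] → N ≠ ⊥ →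
        ((S : Subgroup Y).map (QuotientGroup.mk' N)) ⊓ ⁅(⊤ : Subgroup (Y ⧸ N)), ⊤⁆ =
          transferPart (indSet (Y ⧸ N) 𝓦) ⊤ ((S : Subgroup Y).map (QuotientGroup.mk' N)) := by
      intro N _ hne
      have hlt : Nat.card (Y ⧸ N) < n := by
        rw [← hn, Subgroup.card_eq_card_quotient_mul_card_subgroup N]
        exact lt_mul_of_one_lt_right Nat.card_pos (Subgroup.one_lt_card_iff_ne_bot N |>.2 hne)
      have h0 := ih _ hlt (Y ⧸ N) rfl (involves_surjective hY (QuotientGroup.mk' N) (QuotientGroup.mk'_surjective N))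
      exact transfer_of_family (indSet_conjugacy h𝓦 _) h0 le_top (S.2.map _) (by
        rw [Subgroup.relIndex_top_right]
        exact fun hd => S.not_dvd_index (hd.trans (Subgroup.index_map_dvd _ (QuotientGroup.mk'_surjective N))))
    by_cases hQ : Cfsg.pCore p Y = ⊥
    · refine transfer_local_global S (indSet_conjugacy h𝓦 Y) (Extr p (S : Subgroup Y)) (fun U hU => hU)
        (fun U hU => exists_extr_cj S hU) fun U hU hne => hsub _ fun htop => hne ?_
      rw [eq_bot_iff, ← hQ]
      exact Cfsg.Agent.Lib.Cores.le_pCore (Subgroup.normalizer_eq_top_iff.1 htop) (S.2.to_le hU.1)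
    refine family_transfer_iff.2 ⟨S, le_top, S.2, sylow_relIndex_top S, ?_⟩
    by_cases hO : Cfsg.pPrimeCore p Y = ⊥
    · refine transfer_hard h𝓦 S hQ hO hC (fun H hne hle => ?_) (hquot _ hQ)
      rw [transfer_of_family (indSet_conjugacy h𝓦 Y) (hsub H hne) hle S.2 (not_dvd_relIndex_of_le S hle)]
      exact iSup₂_mono fun F _ => inf_le_inf_left _
        (Subgroup.commutator_mono (inf_le_inf_right _ le_top) (inf_le_inf_right _ le_top))
    · exact transfer_lift h𝓦 S (hquot _ hO)

end Cfsg.Agent.Lib.FusionControl
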