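import Cfsg.Agent.Lib.FusionControl.OffenderTwo
import Cfsg.Agent.Lib.PLocal.Offender
import Cfsg.Agent.Lib.PLocal.Factor
import Cfsg.Agent.Lib.OddLocal.PStable
import Cfsg.Agent.Lib.Transfer.Basic
import Cfsg.Agent.S2759
import Cfsg.Agent.Lib.PLocal.QdSection
import Cfsg.Agent.Lib.FusionControl.SectionInduction
import Mathlib.GroupTheory.SemidirectProduct

/-! Sylow `2`-subgroups of class two in groups not involving the symmetric group of degree four. -/

set_option autoImplicit false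

universe u

open scoped commutatorElement

namespace Cfsg.Agent.Lib.FusionControl

variable {X : Type u} [Group X] [Finite X]

/-- an element of odd order fixing the involutions of an abelian `2`-group and moving its elements into
the group fixes all of it -/
lemma commute_of_fix_involutions {Z : Subgroup X} (hZc : ∀ a ∈ Z, ∀ b ∈ Z, a * b = b * a) {g : X}
    (hgZ : ∀ z ∈ Z, g * z * g⁻¹ ∈ Z) (hodd : Odd (orderOf g)) (hfix : ∀ z ∈ Z, z * z = 1 → g * z = z * g) :
    ∀ (k : ℕ), ∀ z ∈ Z, z ^ 2 ^ k = 1 → g * z = z * g := by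
  intro k
  induction k with
  | zero => intro z _ hz; rw [pow_zero, pow_one] at hz; simp [hz]
  | succ k ih =>
    intro z hz hzk
    have hz2 := ih (z * z) (mul_mem hz hz) (by rw [← pow_two, ← pow_mul, ← pow_succ']; exact hzk)
    obtain ⟨d, hd, hdz⟩ : ∃ d ∈ Z, g * z * g⁻¹ = d * z :=
      ⟨g * z * g⁻¹ * z⁻¹, mul_mem (hgZ z hz) (inv_mem hz), by group⟩
    have hd2 : d * d = 1 := by
      have h1 : g * (z * z) * g⁻¹ = z * z := by rw [hz2, mul_inv_cancel_right]
      have h2 : g * (z * z) * g⁻¹ = d * d * (z * z) := by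
        calc g * (z * z) * g⁻¹ = g * z * g⁻¹ * (g * z * g⁻¹) := by group
          _ = d * (z * d) * z := by rw [hdz]; group
          _ = _ := by rw [hZc z hz d hd]; group
      exact mul_eq_right.1 (h2.symm.trans h1)
    have hgd := hfix d hd hd2
    have hpow : ∀ m : ℕ, g ^ m * z * (g ^ m)⁻¹ = d ^ m * z := by
      intro m
      induction m with
      | zero => simp
      | succ m ihm =>
        calc g ^ (m + 1) * z * (g ^ (m + 1))⁻¹ = g * (g ^ m * z * (g ^ m)⁻¹) * g⁻¹ := by rw [pow_succ']; group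
          _ = g * d ^ m * z * g⁻¹ := by rw [ihm]; group
          _ = d ^ m * (g * z * g⁻¹) := by rw [((show Commute g d from hgd).pow_right m).eq]; group
          _ = _ := by rw [hdz, pow_succ]; group
    have h3 := hpow (orderOf g)
    rw [pow_orderOf_eq_one, one_mul, inv_one, mul_one, eq_comm, mul_eq_right] at h3
    have h4 : orderOf d = 1 := Nat.eq_one_of_dvd_coprimes (Nat.coprime_two_right.2 hodd)
      (orderOf_dvd_of_pow_eq_one h3) (orderOf_dvd_of_pow_eq_one (by rw [pow_two]; exact hd2))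
    rw [orderOf_eq_one_iff] at h4
    rw [h4, one_mul, mul_inv_eq_iff_eq_mul] at hdz
    exact hdz

/-- the core of a normal subgroup is normal -/
lemma normal_map_subtype_pCore {p : ℕ} (K : Subgroup X) [K.Normal] : ((Cfsg.pCore p ↥K).map K.subtype).Normal :=
  inferInstance

/-- the elements acting trivially on `Q` modulo its centre -/
def centreStab (Q : Subgroup X) : Subgroup X where
  carrier := {g | g ∈ Subgroup.normalizer (Q : Set X) ∧ ∀ q ∈ Q, g * q * g⁻¹ * q⁻¹ ∈ Q ⊓ Subgroup.centralizer (Q : Set X)}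
  one_mem' := ⟨one_mem _, fun q _ => by simp⟩
  mul_mem' := fun {g h} hg hh => ⟨mul_mem hg.1 hh.1, fun q hq => by
    have hq' := (Subgroup.mem_normalizer_iff.1 hh.1 q).1 hq
    have e : g * h * q * (g * h)⁻¹ * q⁻¹ = g * (h * q * h⁻¹) * g⁻¹ * (h * q * h⁻¹)⁻¹ * (h * q * h⁻¹ * q⁻¹) := by group
    rw [e]
    exact mul_mem (hg.2 _ hq') (hh.2 q hq)⟩
  inv_mem' := fun {g} hg => ⟨inv_mem hg.1, fun q hq => by
    have hq' := (Subgroup.mem_normalizer_iff.1 (inv_mem hg.1) q).1 hq
    rw [inv_inv] at hq'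
    have h1 := inv_mem (hg.2 _ hq')
    have e : g⁻¹ * q * g⁻¹⁻¹ * q⁻¹ = (g * (g⁻¹ * q * g) * g⁻¹ * (g⁻¹ * q * g)⁻¹)⁻¹ := by group
    rwa [e]⟩

/-- in a solvable group with trivial core of odd order and Sylow `2`-subgroups of class at most two,
`S4`-free forces the Thompson subgroup into the `2`-core -/
theorem thompson_le_pCore [Group.IsSolvable X] (hO : Cfsg.pPrimeCore 2 X = ⊥)
    (hS4 : ¬ Cfsg.Involves (Equiv.Perm (Fin 4)) X) (S : Sylow 2 X)
    (hcl : ⁅⁅(S : Subgroup X), (S : Subgroup X)⁆, (S : Subgroup X)⁆ = ⊥) :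
    Cfsg.thompsonSubgroupOf 2 (S : Subgroup X) ≤ Cfsg.pCore 2 X := by
  have : Fact (Nat.Prime 2) := ⟨Nat.prime_two⟩
  set Q := Cfsg.pCore 2 X with hQ
  have hQn : Q.Normal := by rw [hQ]; infer_instance
  have hQp : IsPGroup 2 Q := Cfsg.Agent.Lib.Cores.pCore_isPGroup 2 X
  have hC : Subgroup.centralizer (Q : Set X) ≤ Q := Cfsg.Agent.Lib.OddLocal.centralizer_pCore_le hO
  have hQS : Q ≤ (S : Subgroup X) := by
    obtain ⟨P, hP⟩ := hQp.exists_le_sylow
    obtain ⟨g, hg⟩ := MulAction.exists_smul_eq X P S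
    intro v hv
    have h1 := hP (hQn.conj_mem v hv g⁻¹)
    rw [← hg]
    exact ⟨_, h1, by show MulAut.conj g (g⁻¹ * v * g⁻¹⁻¹) = v; rw [MulAut.conj_apply]; group⟩
  set ZQ := Q ⊓ Subgroup.centralizer (Q : Set X) with hZQ
  set K := centreStab Q with hK
  have hKn : K.Normal := ⟨fun g hg x => ⟨by rw [Subgroup.normalizer_eq_top]; trivial, fun q hq => by
    have h1 := hg.2 (x⁻¹ * q * x⁻¹⁻¹) (hQn.conj_mem q hq x⁻¹)
    have h2 := (inferInstance : ZQ.Normal).conj_mem _ h1 x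
    have e : x * g * x⁻¹ * q * (x * g * x⁻¹)⁻¹ * q⁻¹ =
      x * (g * (x⁻¹ * q * x⁻¹⁻¹) * g⁻¹ * (x⁻¹ * q * x⁻¹⁻¹)⁻¹) * x⁻¹ := by group
    rw [e]; exact h2⟩⟩
  have hSK : (S : Subgroup X) ≤ K := fun s hs => ⟨by rw [Subgroup.normalizer_eq_top]; trivial, fun q hq => by
    have h1 : ⁅s, q⁆ ∈ Subgroup.centralizer ((S : Subgroup X) : Set X) :=
      Subgroup.commutator_eq_bot_iff_le_centralizer.1 hcl (Subgroup.commutator_mem_commutator hs (hQS hq))
    have h2 : ⁅s, q⁆ ∈ Subgroup.centralizer (Q : Set X) := Subgroup.centralizer_le hQS h1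
    exact Subgroup.mem_inf.2 ⟨hC h2, h2⟩⟩
  -- the involutions of the centre of the core
  let V : Subgroup X :=
    { carrier := {z | z ∈ ZQ ∧ z * z = 1}
      one_mem' := ⟨one_mem _, one_mul 1⟩
      mul_mem' := fun {a b} ha hb => ⟨mul_mem ha.1 hb.1, by
        have hc : Commute b a := Subgroup.mem_centralizer_iff.1 (Subgroup.mem_inf.1 ha.1).2 b (Subgroup.mem_inf.1 hb.1).1
        calc a * b * (a * b) = a * (b * a) * b := by group
          _ = a * a * (b * b) := by rw [hc.eq]; group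
          _ = 1 := by rw [ha.2, hb.2, one_mul]⟩
      inv_mem' := fun {a} ha => ⟨inv_mem ha.1, by rw [← mul_inv_rev, ha.2, inv_one]⟩ }
  have hZc : ∀ a ∈ ZQ, ∀ b ∈ ZQ, a * b = b * a := fun a ha b hb =>
    Subgroup.mem_centralizer_iff.1 (Subgroup.mem_inf.1 hb).2 a (Subgroup.mem_inf.1 ha).1
  have hVn : V.Normal := ⟨fun v hv x => ⟨(inferInstance : ZQ.Normal).conj_mem v hv.1 x, by
    calc x * v * x⁻¹ * (x * v * x⁻¹) = x * (v * v) * x⁻¹ := by group
      _ = 1 := by rw [hv.2]; group⟩⟩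
  -- the kernel on `V` inside `K` is the core
  have hkerV : ∀ g ∈ K, (∀ v ∈ V, g * v = v * g) → g ∈ Q := by
    intro g hgK hgV
    -- the kernel is a normal `2`-subgroup
    set C := K ⊓ Subgroup.centralizer (V : Set X)
    have hCp : IsPGroup 2 C := by
      rintro ⟨y, hy⟩
      obtain ⟨hyK, hyC⟩ := Subgroup.mem_inf.1 hy
      obtain ⟨y1, y2, hy1', -, hy1, ⟨i, hy2⟩, hy12⟩ := Cfsg.Agent.Lib.Transfer.exists_pPart_decomp (p := 2) y
      have hy1C : y1 ∈ C := (Subgroup.zpowers_le.2 hy) hy1'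
      obtain ⟨hy1K, hy1V⟩ := Subgroup.mem_inf.1 hy1C
      have hZ : ∀ z ∈ ZQ, y1 * z = z * y1 := fun z hz => by
        obtain ⟨k, hk⟩ := hQp ⟨z, (Subgroup.mem_inf.1 hz).1⟩
        exact commute_of_fix_involutions hZc (fun w hw => (inferInstance : ZQ.Normal).conj_mem w hw y1)
          (Nat.coprime_two_right.1 hy1) (fun w hw hw2 => (Subgroup.mem_centralizer_iff.1 hy1V w ⟨hw, hw2⟩).symm) k z hz
          (by simpa using congrArg Subtype.val hk)
      have hy1Q : y1 ∈ Q := hC (Subgroup.mem_centralizer_iff.2 fun q hq => by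
        obtain ⟨d, hd, hdq⟩ : ∃ d ∈ ZQ, y1 * q * y1⁻¹ = d * q := ⟨_, hy1K.2 q hq, by group⟩
        have hpow : ∀ m : ℕ, y1 ^ m * q * (y1 ^ m)⁻¹ = d ^ m * q := by
          intro m
          induction m with
          | zero => simp
          | succ m ihm =>
            calc y1 ^ (m + 1) * q * (y1 ^ (m + 1))⁻¹ = y1 * (y1 ^ m * q * (y1 ^ m)⁻¹) * y1⁻¹ := by rw [pow_succ']; group
              _ = y1 * d ^ m * q * y1⁻¹ := by rw [ihm]; group
              _ = d ^ m * (y1 * q * y1⁻¹) := by rw [((show Commute y1 d from hZ d hd).pow_right m).eq]; group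
              _ = _ := by rw [hdq, pow_succ]; group
        have h3 := hpow (orderOf y1)
        rw [pow_orderOf_eq_one, one_mul, inv_one, mul_one, eq_comm, mul_eq_right] at h3
        obtain ⟨k, hk⟩ := hQp ⟨d, (Subgroup.mem_inf.1 hd).1⟩
        have h4 : orderOf d = 1 := Nat.eq_one_of_dvd_coprimes
          (hy1.pow_right k) (orderOf_dvd_of_pow_eq_one h3)
          (orderOf_dvd_of_pow_eq_one (by simpa using congrArg Subtype.val hk))
        rw [orderOf_eq_one_iff] at h4
        rw [h4, one_mul, mul_inv_eq_iff_eq_mul] at hdq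
        exact hdq.symm)
      refine ⟨i, Subtype.ext ?_⟩
      show y ^ 2 ^ i = 1
      rw [hy12, Cfsg.Agent.Lib.Transfer.eq_one_of_isPGroup_of_coprime hQp hy1Q hy1, one_mul]
      exact orderOf_dvd_iff_pow_eq_one.1 (hy2 ▸ dvd_rfl)
    exact Cfsg.Agent.Lib.Cores.le_pCore (inferInstance : C.Normal) hCp
      (Subgroup.mem_inf.2 ⟨hgK, Subgroup.mem_centralizer_iff.2 fun v hv => (hgV v hv).symm⟩)
  -- a maximal elementary abelian subgroup outside the core
  rw [Cfsg.thompsonSubgroupOf, Cfsg.thompsonSubgroup, Subgroup.map_le_iff_le_comap, sSup_le_iff]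
  intro A hA
  by_contra hAQ
  obtain ⟨A', hA'⟩ : ∃ A', A' = A.map (S : Subgroup X).subtype := ⟨_, rfl⟩
  have hA'S : A' ≤ (S : Subgroup X) := hA' ▸ Subgroup.map_subtype_le _
  have hA'Q : ¬ A' ≤ Q := by rw [hA', Subgroup.map_le_iff_le_comap]; exact hAQ
  have hA'e : Cfsg.IsElementaryAbelian 2 A' := by
    refine ⟨⟨⟨fun x y => Subtype.ext ?_⟩⟩, fun x hx => ?_⟩
    · obtain ⟨x0, hx0, hxe⟩ := (hA' ▸ x.2 : (x : X) ∈ A.map (S : Subgroup X).subtype)
      obtain ⟨y0, hy0, hye⟩ := (hA' ▸ y.2 : (y : X) ∈ A.map (S : Subgroup X).subtype)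
      rw [Subgroup.coe_mul, Subgroup.coe_mul, ← hxe, ← hye]
      exact congrArg (fun t : A => ((t : (S : Subgroup X)) : X)) (hA.1.1.is_comm.comm ⟨x0, hx0⟩ ⟨y0, hy0⟩)
    · obtain ⟨x0, hx0, hxe⟩ := (hA' ▸ hx : x ∈ A.map (S : Subgroup X).subtype)
      rw [← hxe, ← map_pow, hA.1.2 x0 hx0, map_one]
  have hmax : ∀ B : Subgroup X, B ≤ (S : Subgroup X) → Cfsg.IsElementaryAbelian 2 B → Nat.card B ≤ Nat.card A' := by
    intro B hB hBe
    have h1 := hA.2 (B.subgroupOf (S : Subgroup X)) ⟨⟨⟨fun x y => Subtype.ext (Subtype.ext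
      (congrArg (fun t : B => (t : X)) (hBe.1.is_comm.comm ⟨((x : (S : Subgroup X)) : X), x.2⟩ ⟨((y : (S : Subgroup X)) : X), y.2⟩)))⟩⟩,
      fun x hx => Subtype.ext (hBe.2 _ hx)⟩
    rwa [Nat.card_congr (Subgroup.subgroupOfEquivOfLe hB).toEquiv, ← Subgroup.card_map_of_injective (S : Subgroup X).subtype_injective,
      ← hA'] at h1
  have hVe : Cfsg.IsElementaryAbelian 2 V :=
    ⟨⟨⟨fun a b => Subtype.ext (hZc a a.2.1 b b.2.1)⟩⟩, fun a ha => by rw [pow_two]; exact ha.2⟩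
  have hVQ : V ≤ Q := fun v hv => (Subgroup.mem_inf.1 hv.1).1
  set A0 := A' ⊓ Q with hA0
  have hsup := hmax (A0 ⊔ V) (sup_le (inf_le_left.trans hA'S) (hVQ.trans hQS))
    (PLocal.elemAb_sup (PLocal.elemAb_of_le hA'e inf_le_left) hVe fun a ha b hb =>
      Subgroup.mem_centralizer_iff.1 (Subgroup.mem_inf.1 hb.1).2 a (Subgroup.mem_inf.1 ha).2)
  have hprod := PLocal.card_mul_card_le A0 V
  have hinf : Nat.card (A0 ⊓ V : Subgroup X) ≤ Nat.card (V ⊓ Subgroup.centralizer (A' : Set X) : Subgroup X) := by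
    refine Subgroup.card_le_of_le fun x hx => Subgroup.mem_inf.2 ⟨(Subgroup.mem_inf.1 hx).2, ?_⟩
    rw [Subgroup.mem_centralizer_iff]
    intro a ha
    exact congrArg Subtype.val (hA'e.1.is_comm.comm ⟨a, ha⟩ ⟨x, (Subgroup.mem_inf.1 (Subgroup.mem_inf.1 hx).1).1⟩)
  -- the group acting on `V`
  have hQK : Q ≤ K := hQS.trans hSK
  set Qk := Q.subgroupOf K with hQk
  have : Qk.Normal := inferInstance
  set H := ↥K ⧸ Qk
  set π := QuotientGroup.mk' Qk with hπ
  let ψ : K →* MulAut V := (MulAut.conjNormal (H := V)).comp K.subtype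
  have hψQ : Qk ≤ ψ.ker := fun g hg => by
    rw [MonoidHom.mem_ker]
    refine MulEquiv.ext fun v => Subtype.ext ?_
    show ((MulAut.conjNormal ((g : K) : X) v : V) : X) = v
    rw [MulAut.conjNormal_apply, Subgroup.mem_centralizer_iff.1 (Subgroup.mem_inf.1 v.2.1).2 _
      (Subgroup.mem_subgroupOf.1 hg), mul_inv_cancel_right]
  let φ : H →* MulAut V := QuotientGroup.lift Qk ψ hψQ
  have hφ : ∀ (g : K) (v : V), ((φ (π g) v : V) : X) = g * v * (g : X)⁻¹ := fun g v => MulAut.conjNormal_apply (g : X) v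
  have hφinj : ∀ h : H, φ h = 1 → h = 1 := by
    intro h hh
    obtain ⟨g, rfl⟩ := QuotientGroup.mk'_surjective Qk h
    refine (QuotientGroup.eq_one_iff g).2 (Subgroup.mem_subgroupOf.2 (hkerV g g.2 fun v hv => ?_))
    have := hφ g ⟨v, hv⟩
    rw [hh] at this
    exact mul_inv_eq_iff_eq_mul.1 this.symm
  -- no normal `2`-subgroup
  have hH2 : Cfsg.pCore 2 H = ⊥ := by
    set M := ((Cfsg.pCore 2 H).comap π).map K.subtype with hM
    have hc : (Cfsg.pCore 2 H).comap π = Cfsg.pCore 2 ↥K :=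
      Cfsg.Agent.Lib.Cores.comap_pCore_quotient (hQp.comap_of_injective K.subtype K.subtype_injective)
    have hle : (Cfsg.pCore 2 ↥K).map K.subtype ≤ Q :=
      Cfsg.Agent.Lib.Cores.le_pCore (normal_map_subtype_pCore K) ((Cfsg.Agent.Lib.Cores.pCore_isPGroup 2 K).map _)
    rw [eq_bot_iff]
    intro h hh
    obtain ⟨g, rfl⟩ := QuotientGroup.mk'_surjective Qk h
    have h1 : g ∈ Cfsg.pCore 2 ↥K := hc ▸ Subgroup.mem_comap.2 hh
    exact Subgroup.mem_bot.2 ((QuotientGroup.eq_one_iff g).2 (Subgroup.mem_subgroupOf.2 (hle ⟨g, h1, rfl⟩)))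
  set R := Cfsg.pPrimeCore 2 H with hR
  have hRodd : Odd (Nat.card R) := Nat.coprime_two_right.1 (Cfsg.Agent.Lib.Cores.pPrimeCore_coprime 2 H)
  have hCR : Subgroup.centralizer (R : Set H) ≤ R := by
    have h1 := Cfsg.Agent.Lib.Cores.fittingSubgroup_le_pCore_sup_pPrimeCore (G := H) 2
    rw [hH2, bot_sup_eq] at h1
    exact (Subgroup.centralizer_le h1).trans
      ((Cfsg.Agent.Lib.Cores.centralizer_fittingSubgroup_le (G := H) inferInstance).trans h1)
  -- everything inside the semidirect product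
  let Y := V ⋊[φ] H
  have : Finite Y := Finite.of_equiv _ SemidirectProduct.equivProd.symm
  let iv : V →* Y := SemidirectProduct.inl
  let ih : H →* Y := SemidirectProduct.inr
  have hconj : ∀ (h : H) (v : V), ih h * iv v * (ih h)⁻¹ = iv (φ h v) := fun h v => by
    rw [← map_inv]; exact (SemidirectProduct.inl_aut h v).symm
  have hivn : ∀ h : H, ih h ∈ Subgroup.normalizer (iv.range : Set Y) := fun h => by
    rw [Subgroup.mem_normalizer_iff]
    intro y
    constructor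
    · rintro ⟨v, rfl⟩; exact ⟨φ h v, (hconj h v).symm⟩
    · rintro ⟨v, hv⟩
      refine ⟨φ h⁻¹ v, ?_⟩
      rw [← hconj, hv, map_inv, inv_inv]; group
  set A'' := (A'.subgroupOf K).map π with hA''
  have hA''c : ∀ x ∈ A'', ∀ y ∈ A'', x * y = y * x := by
    rintro _ ⟨x, hx, rfl⟩ _ ⟨y, hy, rfl⟩
    rw [← map_mul, ← map_mul]
    exact congrArg π (Subtype.ext (congrArg (fun t : A' => (t : X)) (hA'e.1.is_comm.comm ⟨(x : X), hx⟩ ⟨(y : X), hy⟩)))
  have hA''2 : ∀ x ∈ A'', x * x = 1 := by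
    rintro _ ⟨x, hx, rfl⟩
    rw [← map_mul, ← map_one π]
    exact congrArg π (Subtype.ext (by show (x : X) * x = 1; rw [← pow_two]; exact hA'e.2 _ hx))
  have hvinj : Function.Injective iv := SemidirectProduct.inl_injective
  have hhinj : Function.Injective ih := SemidirectProduct.inr_injective
  have key := sq_card_le_relIndex (Y := Y) (V := iv.range) (R := R.map ih)
    (by rintro _ ⟨x, rfl⟩ _ ⟨y, rfl⟩
        rw [← map_mul, ← map_mul]
        exact congrArg iv (Subtype.ext (hZc x x.2.1 y y.2.1)))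
    (by rintro _ ⟨x, rfl⟩
        rw [← map_mul, ← map_one iv]
        exact congrArg iv (Subtype.ext x.2.2))
    (by rwa [Subgroup.card_map_of_injective hhinj])
    (by rintro _ ⟨h, -, rfl⟩; exact hivn h)
    (by
      rw [eq_bot_iff]
      rintro _ ⟨⟨h, -, rfl⟩, hc⟩
      rw [Subgroup.mem_bot, hφinj h (MulEquiv.ext fun v => hvinj ?_), map_one]
      rw [← hconj, ← Subgroup.mem_centralizer_iff.1 hc _ ⟨v, rfl⟩, mul_inv_cancel_right]; rfl)
    _ (A''.map ih) rfl
    (by rintro _ ⟨x, hx, rfl⟩ _ ⟨y, hy, rfl⟩; rw [← map_mul, ← map_mul, hA''c x hx y hy])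
    (by rintro _ ⟨x, hx, rfl⟩; rw [← map_mul, hA''2 x hx, map_one])
    (by rintro _ ⟨h, -, rfl⟩; exact hivn h)
    (fun y hy => Subgroup.le_normalizer_map ih ⟨_, by rw [Subgroup.normalizer_eq_top]; trivial, hy.choose_spec.2⟩)
    (by
      rw [eq_bot_iff]
      rintro _ ⟨⟨h, hh, rfl⟩, hc⟩
      have h1 : h ∈ R := hCR (Subgroup.mem_centralizer_iff.2 fun r hr => hhinj (by
        rw [map_mul, map_mul]; exact Subgroup.mem_centralizer_iff.1 hc _ ⟨r, hr, rfl⟩))
      have h2 : orderOf h = 1 := Nat.eq_one_of_dvd_coprimes (Nat.coprime_two_right.2 hRodd)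
        (R.orderOf_dvd_natCard h1) (orderOf_dvd_of_pow_eq_one (by rw [pow_two]; exact hA''2 h hh))
      rw [orderOf_eq_one_iff] at h2
      rw [Subgroup.mem_bot, h2, map_one])
    (by
      rintro _ ⟨_, ⟨a, ha, rfl⟩, rfl⟩ _ ⟨u', -, rfl⟩ hu3 hinv
      obtain ⟨u, rfl⟩ := QuotientGroup.mk'_surjective Qk u'
      rw [orderOf_injective ih hhinj] at hu3
      have hinv' : π a * π u * (π a)⁻¹ = (π u)⁻¹ := hhinj (by rwa [map_mul, map_mul, map_inv, map_inv])
      -- lift to two involutions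
      obtain ⟨t, ht⟩ : ∃ t, t = (a : X) := ⟨_, rfl⟩
      have ht2 : t * t = 1 := by rw [ht, ← pow_two]; exact hA'e.2 _ ha
      obtain ⟨d, hd⟩ : ∃ d : K, d = a * (u * a * u⁻¹) := ⟨_, rfl⟩
      have hdinv : t * (d : X) * t⁻¹ = (d : X)⁻¹ := by
        rw [hd, inv_eq_of_mul_eq_one_right ht2]
        show t * ((a : X) * ((u : X) * a * (u : X)⁻¹)) * t = ((a : X) * ((u : X) * a * (u : X)⁻¹))⁻¹
        rw [← ht]
        calc t * (t * ((u : X) * t * (u : X)⁻¹)) * t = (t * t) * ((u : X) * t * (u : X)⁻¹) * t := by group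
          _ = (u : X) * t⁻¹ * (u : X)⁻¹ * t⁻¹ := by rw [ht2, inv_eq_of_mul_eq_one_right ht2]; group
          _ = _ := by group
      have hπd : π d = π u := by
        rw [hd, map_mul, map_mul, map_mul, map_inv]
        have ha2 : π a * π a = 1 := hA''2 _ ⟨a, ha, rfl⟩
        have hu : (π u)⁻¹ * (π u)⁻¹ = π u := by
          have h3 := pow_orderOf_eq_one (π u)
          rw [hu3, pow_succ, pow_two] at h3
          rw [← mul_inv_rev]; exact inv_eq_of_mul_eq_one_right h3
        calc π a * (π u * π a * (π u)⁻¹) = (π a * π u * (π a)⁻¹) * (π a * π a) * (π u)⁻¹ := by group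
          _ = _ := by rw [ha2, hinv', mul_one, hu]
      have hd3 : ((d : X)) ^ 3 ∈ Q := by
        have : π (d ^ 3) = 1 := by rw [map_pow, hπd, ← hu3, pow_orderOf_eq_one]
        exact Subgroup.mem_subgroupOf.1 ((QuotientGroup.eq_one_iff _).1 this)
      obtain ⟨k, hk⟩ := hQp ⟨_, hd3⟩
      have hk' : ((d : X) ^ 3) ^ 2 ^ k = 1 := by simpa using congrArg Subtype.val hk
      set z := (d : X) ^ 2 ^ k with hz
      have hz3 : z ^ 3 = 1 := by rw [hz, ← pow_mul, mul_comm, pow_mul]; exact hk'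
      have hzQ : z ∉ Q := by
        intro h
        have h1 : π (d ^ 2 ^ k) = 1 := (QuotientGroup.eq_one_iff _).2 (Subgroup.mem_subgroupOf.2 h)
        rw [map_pow, hπd, ← orderOf_dvd_iff_pow_eq_one, hu3] at h1
        exact absurd (Nat.prime_three.dvd_of_dvd_pow h1) (by norm_num)
      refine hS4 (Cfsg.Agent.S2759.to_four hQp (z := z) (t := t) (by rw [Subgroup.normalizer_eq_top]; trivial)
        (by rw [Subgroup.normalizer_eq_top]; trivial) ?_ ⟨1, ?_⟩ ?_ (by rw [hz3]; exact one_mem _) fun h => hzQ (hC h))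
      · rw [hz, ← conj_pow, hdinv, inv_pow]
      · rw [pow_one]
        exact orderOf_eq_prime hz3 (fun h => hzQ (h ▸ one_mem _))
      · obtain ⟨i, -, hi⟩ := (Nat.dvd_prime_pow Nat.prime_two).1
          (orderOf_dvd_of_pow_eq_one (show t ^ 2 ^ 1 = 1 by rw [pow_one, pow_two]; exact ht2))
        exact ⟨i, hi⟩)
  rw [Subgroup.card_map_of_injective hhinj] at key
  -- counting
  set CV := Subgroup.centralizer ((A''.map ih : Subgroup Y) : Set Y)
  have hcount : CV.relIndex iv.range * Nat.card (V ⊓ Subgroup.centralizer (A' : Set X) : Subgroup X) = Nat.card V := by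
    have h1 := Subgroup.relIndex_mul_relIndex (⊥ : Subgroup Y) (CV ⊓ iv.range) iv.range bot_le inf_le_right
    rw [Subgroup.relIndex_bot_left, Subgroup.relIndex_bot_left, Subgroup.inf_relIndex_right, mul_comm] at h1
    have h2 : CV ⊓ iv.range = ((V ⊓ Subgroup.centralizer (A' : Set X)).subgroupOf V).map iv := by
      ext y
      constructor
      · rintro ⟨hy, v, rfl⟩
        refine ⟨v, Subgroup.mem_subgroupOf.2 (Subgroup.mem_inf.2 ⟨v.2, Subgroup.mem_centralizer_iff.2 fun a ha => ?_⟩), rfl⟩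
        have h3 := Subgroup.mem_centralizer_iff.1 hy (ih (π ⟨a, hSK (hA'S ha)⟩))
          ⟨_, ⟨⟨a, hSK (hA'S ha)⟩, ha, rfl⟩, rfl⟩
        have h4 := hconj (π ⟨a, hSK (hA'S ha)⟩) v
        rw [h3, mul_inv_cancel_right] at h4
        have h5 := congrArg Subtype.val (hvinj h4)
        rw [hφ] at h5
        exact (mul_inv_eq_iff_eq_mul.1 h5.symm)
      · rintro ⟨v, hv, rfl⟩
        refine ⟨Subgroup.mem_centralizer_iff.2 ?_, v, rfl⟩
        rintro _ ⟨_, ⟨a, ha, rfl⟩, rfl⟩
        have h4 := hconj (π a) v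
        have h5 : φ (π a) v = v := Subtype.ext (by
          rw [hφ]
          show (a : X) * (v : X) * (a : X)⁻¹ = v
          rw [show (a : X) * (v : X) = (v : X) * a from
            Subgroup.mem_centralizer_iff.1 (Subgroup.mem_inf.1 (Subgroup.mem_subgroupOf.1 hv)).2 _ ha, mul_inv_cancel_right])
        rw [h5] at h4
        exact mul_inv_eq_iff_eq_mul.1 h4
    rw [h2, Subgroup.card_map_of_injective hvinj,
      Nat.card_congr (Subgroup.subgroupOfEquivOfLe inf_le_left).toEquiv] at h1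
    rw [h1, Nat.card_congr (MonoidHom.ofInjective hvinj).toEquiv.symm]
  have hquot : Nat.card A'' * Nat.card A0 = Nat.card A' := by
    let f : A' →* H := π.comp (Subgroup.inclusion (hA'S.trans hSK))
    have hr : f.range = A'' := by
      ext h
      constructor
      · rintro ⟨a, rfl⟩; exact ⟨_, a.2, rfl⟩
      · rintro ⟨a, ha, rfl⟩; exact ⟨⟨a, ha⟩, rfl⟩
    have hk : f.ker = A0.subgroupOf A' := by
      ext a
      rw [MonoidHom.mem_ker, Subgroup.mem_subgroupOf, hA0, Subgroup.mem_inf]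
      show (QuotientGroup.mk (Subgroup.inclusion (hA'S.trans hSK) a) : H) = 1 ↔ _
      rw [QuotientGroup.eq_one_iff, Subgroup.mem_subgroupOf]
      exact ⟨fun h => ⟨a.2, h⟩, fun h => h.2⟩
    rw [Subgroup.card_eq_card_quotient_mul_card_subgroup f.ker, Nat.card_congr (QuotientGroup.quotientKerEquivRange f).toEquiv,
      hr, hk, Nat.card_congr (Subgroup.subgroupOfEquivOfLe (inf_le_left : A0 ≤ A')).toEquiv]
  have h2 : 2 ≤ Nat.card A'' := by
    by_contra h
    apply hA'Q
    have hc : Nat.card A'' = 1 := by have := Nat.card_pos (α := A''); omega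
    intro a ha
    have : π ⟨a, hSK (hA'S ha)⟩ = 1 := Subgroup.mem_bot.1 ((Subgroup.card_eq_one.1 hc) ▸ ⟨_, ha, rfl⟩)
    exact Subgroup.mem_subgroupOf.1 ((QuotientGroup.eq_one_iff _).1 this)
  -- |A''|^2 ≤ |V : C_V A| ≤ |A''|
  set r := CV.relIndex iv.range
  set c := Nat.card (V ⊓ Subgroup.centralizer (A' : Set X) : Subgroup X)
  set a0 := Nat.card A0
  have h3 : a0 * (r * c) ≤ c * (Nat.card A'' * a0) := by
    rw [hcount, hquot]
    exact hprod.trans (Nat.mul_le_mul hinf hsup)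
  have ha0 : 0 < a0 := Nat.card_pos
  have hc0 : 0 < c := Nat.card_pos
  have h4 : r ≤ Nat.card A'' := Nat.le_of_mul_le_mul_left (show (a0 * c) * r ≤ (a0 * c) * Nat.card A'' by
    calc a0 * c * r = a0 * (r * c) := by ring
      _ ≤ c * (Nat.card A'' * a0) := h3
      _ = _ := by ring) (Nat.mul_pos ha0 hc0)
  nlinarith

end Cfsg.Agent.Lib.FusionControl

namespace Cfsg.Agent.Lib.FusionControl

variable {G : Type u} [Group G] [Finite G]

/-- solvable factorization in `S4`-free groups of class two -/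
theorem factorization_solvable [Group.IsSolvable G] (hS4 : ¬ Cfsg.Involves (Equiv.Perm (Fin 4)) G) (S : Sylow 2 G)
    (hcl : ⁅⁅(S : Subgroup G), (S : Subgroup G)⁆, (S : Subgroup G)⁆ = ⊥) :
    Subgroup.normalizer ((Cfsg.thompsonSubgroupOf 2 (S : Subgroup G) : Subgroup G) : Set G) ⊔
      Cfsg.pPrimeCore 2 G = ⊤ := by
  have : Fact (Nat.Prime 2) := ⟨Nat.prime_two⟩
  set O := Cfsg.pPrimeCore 2 G with hO
  have hOn : O.Normal := by rw [hO]; infer_instance
  set π := QuotientGroup.mk' O with hπ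
  have hπs : Function.Surjective π := QuotientGroup.mk'_surjective O
  set T := S.mapSurjective hπs with hT
  have hTc : (T : Subgroup (G ⧸ O)) = (S : Subgroup G).map π := Sylow.coe_mapSurjective hπs S
  have hX : ¬ Cfsg.Involves (Equiv.Perm (Fin 4)) (G ⧸ O) := fun h => hS4 (by
    obtain ⟨K, R, hR, ⟨e⟩⟩ := h
    exact Cfsg.Agent.Lib.PLocal.involves_of_surjective (K := K.comap π)
      ((e.toMonoidHom.comp (QuotientGroup.mk' (R.subgroupOf K))).comp (π.subgroupComap K))
      ((e.surjective.comp (QuotientGroup.mk'_surjective _)).comp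
        (MonoidHom.subgroupComap_surjective_of_surjective π K hπs)))
  have h1 := thompson_le_pCore (Cfsg.Agent.Lib.Cores.pPrimeCore_quotient_pPrimeCore 2 G) hX T (by
    rw [hTc, ← Subgroup.map_commutator, ← Subgroup.map_commutator, hcl, Subgroup.map_bot])
  set J := Cfsg.thompsonSubgroupOf 2 (S : Subgroup G) with hJ
  -- the Thompson subgroup of the image is the image
  have hJT : Cfsg.thompsonSubgroupOf 2 (T : Subgroup (G ⧸ O)) = J.map π := by
    let f : (S : Subgroup G) →* (T : Subgroup (G ⧸ O)) :=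
      (π.comp (S : Subgroup G).subtype).codRestrict _ fun x => hTc ▸ ⟨x, x.2, rfl⟩
    have hf : Function.Bijective f := by
      refine ⟨fun a b h => ?_, fun y => ?_⟩
      · have h' : π a = π b := congrArg Subtype.val h
        refine Subtype.ext (inv_mul_eq_one.1 ?_)
        exact Cfsg.Agent.Lib.Transfer.eq_one_of_isPGroup_of_coprime S.2 (mul_mem (inv_mem a.2) b.2)
          ((Cfsg.Agent.Lib.Cores.pPrimeCore_coprime 2 G).coprime_dvd_left (O.orderOf_dvd_natCard (QuotientGroup.eq.1 h')))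
      · obtain ⟨x, hx, hxe⟩ := (hTc ▸ y.2 : (y : G ⧸ O) ∈ (S : Subgroup G).map π)
        exact ⟨⟨x, hx⟩, Subtype.ext hxe⟩
    rw [Cfsg.thompsonSubgroupOf, hJ, Cfsg.thompsonSubgroupOf,
      ← Cfsg.Agent.Lib.PLocal.map_thompsonSubgroup_equiv (p := 2) (MulEquiv.ofBijective f hf),
      Subgroup.map_map, Subgroup.map_map]
    rfl
  rw [hJT] at h1
  set Q' := (Cfsg.pCore 2 (G ⧸ O)).comap π with hQ'
  have h3 := Cfsg.Agent.Lib.PLocal.sup_normalizer_thompson_eq_top S Q' (Subgroup.map_le_iff_le_comap.1 h1)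
  rw [eq_top_iff, ← h3]
  refine sup_le (fun g hg => ?_) le_sup_left
  obtain ⟨s, hs, hse⟩ : π g ∈ (S : Subgroup G).map π := hTc ▸ pCore_le_S T hg
  have h4 : s⁻¹ * g ∈ O := QuotientGroup.eq.1 hse
  have := mul_mem (Subgroup.mem_sup_left (S := Subgroup.normalizer (J : Set G)) (T := O)
    (Cfsg.Agent.Lib.PLocal.sylow_le_normalizer_thompsonSubgroupOf S hs)) (Subgroup.mem_sup_right h4)
  simpa using this

end Cfsg.Agent.Lib.FusionControl
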