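import Cfsg.Agent.Lib.FusionControl.SFour
import Cfsg.Agent.Lib.FusionControl.QuadOffender
/-!
# Factorization for `2`-constrained groups without `S₄` and with Sylow `2`-subgroups of class two
-/

set_option autoImplicit false
set_option linter.style.haveILetI false

universe u

open scoped commutatorElement

namespace Cfsg.Agent.Lib.FusionControl

/-- Lifting an inverted element of order three along a `2`-group kernel. -/
theorem exists_inverted_lift {K : Type u} [Group K] [Finite K] {H : Type u} [Group H] (π : K →* H)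
    (hπs : Function.Surjective π) (hker : IsPGroup 2 ↥π.ker) {tb zb : H} (ht : tb * tb = 1) (hz : zb ^ 3 = 1)
    (hz1 : zb ≠ 1) (hinv : tb * zb * tb⁻¹ = zb⁻¹) :
    ∃ t z : K, t * z * t⁻¹ = z⁻¹ ∧ (∃ k, orderOf t = 2 ^ k) ∧ z ^ 3 = 1 ∧ π z = zb := by
  haveI : Fact (Nat.Prime 2) := ⟨Nat.prime_two⟩
  haveI : Fact (Nat.Prime 3) := ⟨Nat.prime_three⟩
  obtain ⟨u, hu⟩ := hπs zb
  obtain ⟨k, hk⟩ := hker ⟨u ^ 3, by rw [MonoidHom.mem_ker, map_pow, hu, hz]⟩
  have hk' : (u ^ 3) ^ 2 ^ k = 1 := congrArg Subtype.val hk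
  set z := u ^ 4 ^ k with hzdef
  have hz3 : z ^ 3 = 1 := by
    rw [hzdef, ← pow_mul, mul_comm, pow_mul, show (4 : ℕ) ^ k = 2 ^ k * 2 ^ k by rw [← mul_pow]; norm_num,
      pow_mul, hk', one_pow]
  have hπz : π z = zb := by
    have h4 : (4 : ℕ) ^ k % 3 = 1 := by rw [Nat.pow_mod]; norm_num
    rw [hzdef, map_pow, hu, ← Nat.mod_add_div (4 ^ k) 3, h4, pow_add, pow_mul, hz, one_pow, mul_one, pow_one]
  have hzo : orderOf z = 3 := orderOf_eq_prime hz3 fun h => hz1 (by rw [← hπz, h, map_one])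
  set L := (Subgroup.zpowers zb).comap π with hL
  have hzL : z ∈ L := by show π z ∈ Subgroup.zpowers zb; rw [hπz]; exact Subgroup.mem_zpowers zb
  obtain ⟨t₀, ht₀⟩ := hπs tb
  have htzL : t₀ * z * t₀⁻¹ ∈ L := by
    show π _ ∈ Subgroup.zpowers zb
    rw [map_mul, map_mul, map_inv, hπz, ht₀, hinv]
    exact inv_mem (Subgroup.mem_zpowers zb)
  obtain ⟨n, hn⟩ := IsPGroup.iff_card.mp hker
  have hcardL : Nat.card ↥L = 3 * 2 ^ n := by
    rw [Cfsg.Agent.Lib.Components.card_eq_card_map_mul π L, Subgroup.map_comap_eq_self_of_surjective hπs,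
      Nat.card_zpowers, orderOf_eq_prime hz hz1, ← hn]
    congr 1
    exact Nat.card_congr (Subgroup.subgroupOfEquivOfLe (fun x hx => by show π x ∈ Subgroup.zpowers zb; rw [MonoidHom.mem_ker.mp hx]; exact one_mem _)).toEquiv
  have hmk : ∀ w : ↥L, orderOf w = 3 → ∃ S : Sylow 3 ↥L, (S : Subgroup ↥L) = Subgroup.zpowers w := by
    intro w hw
    have hp : IsPGroup 3 ↥(Subgroup.zpowers w) := IsPGroup.of_card (n := 1) (by rw [Nat.card_zpowers, hw, pow_one])
    refine ⟨hp.toSylow ?_, IsPGroup.toSylow_coe _ _⟩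
    have h1 := (Subgroup.zpowers w).card_mul_index
    rw [Nat.card_zpowers, hw, hcardL] at h1
    rw [Nat.eq_of_mul_eq_mul_left (by norm_num) h1]
    exact fun hd => absurd (Nat.prime_three.dvd_of_dvd_pow hd) (by norm_num)
  obtain ⟨S₁, hS₁⟩ := hmk ⟨z, hzL⟩ (by rw [Subgroup.orderOf_mk, hzo])
  obtain ⟨S₂, hS₂⟩ := hmk ⟨t₀ * z * t₀⁻¹, htzL⟩ (by
    rw [Subgroup.orderOf_mk]
    exact (orderOf_injective (MulAut.conj t₀).toMonoidHom (MulAut.conj t₀).injective z).trans hzo)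
  obtain ⟨l, hl⟩ := MulAction.exists_smul_eq ↥L S₂ S₁
  set t := (l : K) * t₀ with htdef
  obtain ⟨i, hi⟩ : ∃ i : ℤ, z ^ i = t * z * t⁻¹ := by
    have h1 : l * ⟨t₀ * z * t₀⁻¹, htzL⟩ * l⁻¹ ∈ (S₁ : Subgroup ↥L) := by
      rw [← hl]
      exact ⟨⟨t₀ * z * t₀⁻¹, htzL⟩, by rw [hS₂]; exact Subgroup.mem_zpowers _, rfl⟩
    rw [hS₁] at h1
    obtain ⟨i, hi⟩ := Subgroup.mem_zpowers_iff.mp h1
    refine ⟨i, ?_⟩
    have h2 := congrArg Subtype.val hi
    simp only [SubgroupClass.coe_zpow, Subgroup.coe_mul, Subgroup.coe_inv] at h2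
    rw [h2, htdef]; group
  obtain ⟨j, hj⟩ := Subgroup.mem_zpowers_iff.mp (show π (l : K) ∈ Subgroup.zpowers zb from l.2)
  have hπt : π t = zb ^ j * tb := by rw [htdef, map_mul, ht₀, hj]
  have htb : tb⁻¹ = tb := inv_eq_of_mul_eq_one_right ht
  refine ⟨t, z, ?_, ?_, hz3, hπz⟩
  · -- the power is the inverse
    have h1 : zb ^ i = zb⁻¹ := by
      have := congrArg π hi
      rw [map_zpow, map_mul, map_mul, map_inv, hπz, hπt] at this
      rw [this, mul_inv_rev, show zb ^ j * tb * zb * (tb⁻¹ * (zb ^ j)⁻¹) = zb ^ j * (tb * zb * tb⁻¹) * (zb ^ j)⁻¹ by group,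
        hinv]
      group
    have h2 : (3 : ℤ) ∣ i + 1 := by
      have : zb ^ (i + 1) = 1 := by rw [zpow_add, h1, zpow_one, inv_mul_cancel]
      have h3 := orderOf_dvd_iff_zpow_eq_one.mpr this
      rwa [orderOf_eq_prime hz hz1] at h3
    rw [← hi]
    have h3 : z ^ (i + 1) = 1 := orderOf_dvd_iff_zpow_eq_one.mp (by rw [hzo]; exact h2)
    rw [zpow_add, zpow_one] at h3
    exact eq_inv_of_mul_eq_one_left h3
  · have h1 : (π t) * (π t) = 1 := by
      rw [hπt]
      have : tb * zb ^ j * tb = (zb ^ j)⁻¹ := by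
        have h := conj_zpow (a := tb) (b := zb) (i := j)
        rw [hinv, htb] at h
        rw [← h, inv_zpow]
      calc zb ^ j * tb * (zb ^ j * tb) = zb ^ j * (tb * zb ^ j * tb) := by group
        _ = 1 := by rw [this, mul_inv_cancel]
    obtain ⟨e, he⟩ := hker ⟨t * t, by rw [MonoidHom.mem_ker, map_mul, h1]⟩
    have he' : (t * t) ^ 2 ^ e = 1 := congrArg Subtype.val he
    obtain ⟨i', -, hi'⟩ := (Nat.dvd_prime_pow Nat.prime_two).1
      (orderOf_dvd_of_pow_eq_one (show t ^ 2 ^ (e + 1) = 1 by rw [pow_succ', pow_mul, pow_two]; exact he'))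
    exact ⟨i', hi'⟩

variable {X : Type u} [Group X] [Finite X]

/-- in a group whose `2`-core contains its centralizer and with Sylow `2`-subgroups of class at most
two, `S4`-free forces the Thompson subgroup into the `2`-core -/
theorem thompson_le_pCore_of_centralizer (hC : Subgroup.centralizer (Cfsg.pCore 2 X : Set X) ≤ Cfsg.pCore 2 X)
    (hS4 : ¬ Cfsg.Involves (Equiv.Perm (Fin 4)) X) (S : Sylow 2 X)
    (hcl : ⁅⁅(S : Subgroup X), (S : Subgroup X)⁆, (S : Subgroup X)⁆ = ⊥) :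
    Cfsg.thompsonSubgroupOf 2 (S : Subgroup X) ≤ Cfsg.pCore 2 X := by
  have : Fact (Nat.Prime 2) := ⟨Nat.prime_two⟩
  set Q := Cfsg.pCore 2 X with hQ
  have hQn : Q.Normal := by rw [hQ]; infer_instance
  have hQp : IsPGroup 2 Q := Cfsg.Agent.Lib.Cores.pCore_isPGroup 2 X
  have hQS : Q ≤ (S : Subgroup X) := by
    obtain ⟨P, hP⟩ := hQp.exists_le_sylow
    obtain ⟨g, hg⟩ := MulAction.exists_smul_eq X P S
    intro v hv
    have h1 := hP (hQn.conj_mem v hv g⁻¹)
    rw [← hg]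
    exact ⟨_, h1, by show MulAut.conj g (g⁻¹ * v * g⁻¹⁻¹) = v; rw [MulAut.conj_apply]; group⟩
  set ZQ := Q ⊓ Subgroup.centralizer (Q : Set X) with hZQ
  set K := centreStab Q with hK
  have hKn : K.Normal := ⟨fun g hg x => ⟨by rw [Subgroup.normalizer_eq_top]; trivial, fun q hq => by
    have h1 := hg.2 (x⁻¹ * q * x⁻¹⁻¹) (hQn.conj_mem q hq x⁻¹)
    have h2 := (inferInstance : ZQ.Normal).conj_mem _ h1 x
    have e : x * g * x⁻¹ * q * (x * g * x⁻¹)⁻¹ * q⁻¹ =
      x * (g * (x⁻¹ * q * x⁻¹⁻¹) * g⁻¹ * (x⁻¹ * q * x⁻¹⁻¹)⁻¹) * x⁻¹ := by group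
    rw [e]; exact h2⟩⟩
  have hSK : (S : Subgroup X) ≤ K := fun s hs => ⟨by rw [Subgroup.normalizer_eq_top]; trivial, fun q hq => by
    have h1 : ⁅s, q⁆ ∈ Subgroup.centralizer ((S : Subgroup X) : Set X) :=
      Subgroup.commutator_eq_bot_iff_le_centralizer.1 hcl (Subgroup.commutator_mem_commutator hs (hQS hq))
    have h2 : ⁅s, q⁆ ∈ Subgroup.centralizer (Q : Set X) := Subgroup.centralizer_le hQS h1
    exact Subgroup.mem_inf.2 ⟨hC h2, h2⟩⟩
  -- the involutions of the centre of the core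
  let V : Subgroup X :=
    { carrier := {z | z ∈ ZQ ∧ z * z = 1}
      one_mem' := ⟨one_mem _, one_mul 1⟩
      mul_mem' := fun {a b} ha hb => ⟨mul_mem ha.1 hb.1, by
        have hc : Commute b a := Subgroup.mem_centralizer_iff.1 (Subgroup.mem_inf.1 ha.1).2 b (Subgroup.mem_inf.1 hb.1).1
        calc a * b * (a * b) = a * (b * a) * b := by group
          _ = a * a * (b * b) := by rw [hc.eq]; group
          _ = 1 := by rw [ha.2, hb.2, one_mul]⟩
      inv_mem' := fun {a} ha => ⟨inv_mem ha.1, by rw [← mul_inv_rev, ha.2, inv_one]⟩ }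
  have hZc : ∀ a ∈ ZQ, ∀ b ∈ ZQ, a * b = b * a := fun a ha b hb =>
    Subgroup.mem_centralizer_iff.1 (Subgroup.mem_inf.1 hb).2 a (Subgroup.mem_inf.1 ha).1
  have hVn : V.Normal := ⟨fun v hv x => ⟨(inferInstance : ZQ.Normal).conj_mem v hv.1 x, by
    calc x * v * x⁻¹ * (x * v * x⁻¹) = x * (v * v) * x⁻¹ := by group
      _ = 1 := by rw [hv.2]; group⟩⟩
  -- the kernel on `V` inside `K` is the core
  have hkerV : ∀ g ∈ K, (∀ v ∈ V, g * v = v * g) → g ∈ Q := by
    intro g hgK hgV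
    -- the kernel is a normal `2`-subgroup
    set C := K ⊓ Subgroup.centralizer (V : Set X)
    have hCp : IsPGroup 2 C := by
      rintro ⟨y, hy⟩
      obtain ⟨hyK, hyC⟩ := Subgroup.mem_inf.1 hy
      obtain ⟨y1, y2, hy1', -, hy1, ⟨i, hy2⟩, hy12⟩ := Cfsg.Agent.Lib.Transfer.exists_pPart_decomp (p := 2) y
      have hy1C : y1 ∈ C := (Subgroup.zpowers_le.2 hy) hy1'
      obtain ⟨hy1K, hy1V⟩ := Subgroup.mem_inf.1 hy1C
      have hZ : ∀ z ∈ ZQ, y1 * z = z * y1 := fun z hz => by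
        obtain ⟨k, hk⟩ := hQp ⟨z, (Subgroup.mem_inf.1 hz).1⟩
        exact commute_of_fix_involutions hZc (fun w hw => (inferInstance : ZQ.Normal).conj_mem w hw y1)
          (Nat.coprime_two_right.1 hy1) (fun w hw hw2 => (Subgroup.mem_centralizer_iff.1 hy1V w ⟨hw, hw2⟩).symm) k z hz
          (by simpa using congrArg Subtype.val hk)
      have hy1Q : y1 ∈ Q := hC (Subgroup.mem_centralizer_iff.2 fun q hq => by
        obtain ⟨d, hd, hdq⟩ : ∃ d ∈ ZQ, y1 * q * y1⁻¹ = d * q := ⟨_, hy1K.2 q hq, by group⟩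
        have hpow : ∀ m : ℕ, y1 ^ m * q * (y1 ^ m)⁻¹ = d ^ m * q := by
          intro m
          induction m with
          | zero => simp
          | succ m ihm =>
            calc y1 ^ (m + 1) * q * (y1 ^ (m + 1))⁻¹ = y1 * (y1 ^ m * q * (y1 ^ m)⁻¹) * y1⁻¹ := by rw [pow_succ']; group
              _ = y1 * d ^ m * q * y1⁻¹ := by rw [ihm]; group
              _ = d ^ m * (y1 * q * y1⁻¹) := by rw [((show Commute y1 d from hZ d hd).pow_right m).eq]; group
              _ = _ := by rw [hdq, pow_succ]; group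
        have h3 := hpow (orderOf y1)
        rw [pow_orderOf_eq_one, one_mul, inv_one, mul_one, eq_comm, mul_eq_right] at h3
        obtain ⟨k, hk⟩ := hQp ⟨d, (Subgroup.mem_inf.1 hd).1⟩
        have h4 : orderOf d = 1 := Nat.eq_one_of_dvd_coprimes
          (hy1.pow_right k) (orderOf_dvd_of_pow_eq_one h3)
          (orderOf_dvd_of_pow_eq_one (by simpa using congrArg Subtype.val hk))
        rw [orderOf_eq_one_iff] at h4
        rw [h4, one_mul, mul_inv_eq_iff_eq_mul] at hdq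
        exact hdq.symm)
      refine ⟨i, Subtype.ext ?_⟩
      show y ^ 2 ^ i = 1
      rw [hy12, Cfsg.Agent.Lib.Transfer.eq_one_of_isPGroup_of_coprime hQp hy1Q hy1, one_mul]
      exact orderOf_dvd_iff_pow_eq_one.1 (hy2 ▸ dvd_rfl)
    exact Cfsg.Agent.Lib.Cores.le_pCore (inferInstance : C.Normal) hCp
      (Subgroup.mem_inf.2 ⟨hgK, Subgroup.mem_centralizer_iff.2 fun v hv => (hgV v hv).symm⟩)
  -- a maximal elementary abelian subgroup outside the core
  rw [Cfsg.thompsonSubgroupOf, Cfsg.thompsonSubgroup, Subgroup.map_le_iff_le_comap, sSup_le_iff]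
  intro A hA
  by_contra hAQ
  obtain ⟨A', hA'⟩ : ∃ A', A' = A.map (S : Subgroup X).subtype := ⟨_, rfl⟩
  have hA'S : A' ≤ (S : Subgroup X) := hA' ▸ Subgroup.map_subtype_le _
  have hA'Q : ¬ A' ≤ Q := by rw [hA', Subgroup.map_le_iff_le_comap]; exact hAQ
  have hA'e : Cfsg.IsElementaryAbelian 2 A' := by
    refine ⟨⟨⟨fun x y => Subtype.ext ?_⟩⟩, fun x hx => ?_⟩
    · obtain ⟨x0, hx0, hxe⟩ := (hA' ▸ x.2 : (x : X) ∈ A.map (S : Subgroup X).subtype)
      obtain ⟨y0, hy0, hye⟩ := (hA' ▸ y.2 : (y : X) ∈ A.map (S : Subgroup X).subtype)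
      rw [Subgroup.coe_mul, Subgroup.coe_mul, ← hxe, ← hye]
      exact congrArg (fun t : A => ((t : (S : Subgroup X)) : X)) (hA.1.1.is_comm.comm ⟨x0, hx0⟩ ⟨y0, hy0⟩)
    · obtain ⟨x0, hx0, hxe⟩ := (hA' ▸ hx : x ∈ A.map (S : Subgroup X).subtype)
      rw [← hxe, ← map_pow, hA.1.2 x0 hx0, map_one]
  have hmax : ∀ B : Subgroup X, B ≤ (S : Subgroup X) → Cfsg.IsElementaryAbelian 2 B → Nat.card B ≤ Nat.card A' := by
    intro B hB hBe
    have h1 := hA.2 (B.subgroupOf (S : Subgroup X)) ⟨⟨⟨fun x y => Subtype.ext (Subtype.ext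
      (congrArg (fun t : B => (t : X)) (hBe.1.is_comm.comm ⟨((x : (S : Subgroup X)) : X), x.2⟩ ⟨((y : (S : Subgroup X)) : X), y.2⟩)))⟩⟩,
      fun x hx => Subtype.ext (hBe.2 _ hx)⟩
    rwa [Nat.card_congr (Subgroup.subgroupOfEquivOfLe hB).toEquiv, ← Subgroup.card_map_of_injective (S : Subgroup X).subtype_injective,
      ← hA'] at h1
  have hVe : Cfsg.IsElementaryAbelian 2 V :=
    ⟨⟨⟨fun a b => Subtype.ext (hZc a a.2.1 b b.2.1)⟩⟩, fun a ha => by rw [pow_two]; exact ha.2⟩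
  have hVQ : V ≤ Q := fun v hv => (Subgroup.mem_inf.1 hv.1).1
  set A0 := A' ⊓ Q with hA0
  -- the group acting on `V`
  have hQK : Q ≤ K := hQS.trans hSK
  set Qk := Q.subgroupOf K with hQk
  have : Qk.Normal := inferInstance
  set H := ↥K ⧸ Qk
  set π := QuotientGroup.mk' Qk with hπ
  let ψ : K →* MulAut V := (MulAut.conjNormal (H := V)).comp K.subtype
  have hψQ : Qk ≤ ψ.ker := fun g hg => by
    rw [MonoidHom.mem_ker]
    refine MulEquiv.ext fun v => Subtype.ext ?_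
    show ((MulAut.conjNormal ((g : K) : X) v : V) : X) = v
    rw [MulAut.conjNormal_apply, Subgroup.mem_centralizer_iff.1 (Subgroup.mem_inf.1 v.2.1).2 _
      (Subgroup.mem_subgroupOf.1 hg), mul_inv_cancel_right]
  let φ : H →* MulAut V := QuotientGroup.lift Qk ψ hψQ
  have hφ : ∀ (g : K) (v : V), ((φ (π g) v : V) : X) = g * v * (g : X)⁻¹ := fun g v => MulAut.conjNormal_apply (g : X) v
  have hφinj : ∀ h : H, φ h = 1 → h = 1 := by
    intro h hh
    obtain ⟨g, rfl⟩ := QuotientGroup.mk'_surjective Qk h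
    refine (QuotientGroup.eq_one_iff g).2 (Subgroup.mem_subgroupOf.2 (hkerV g g.2 fun v hv => ?_))
    have := hφ g ⟨v, hv⟩
    rw [hh] at this
    exact mul_inv_eq_iff_eq_mul.1 this.symm
  -- no normal `2`-subgroup
  have hH2 : Cfsg.pCore 2 H = ⊥ := by
    set M := ((Cfsg.pCore 2 H).comap π).map K.subtype with hM
    have hc : (Cfsg.pCore 2 H).comap π = Cfsg.pCore 2 ↥K :=
      Cfsg.Agent.Lib.Cores.comap_pCore_quotient (hQp.comap_of_injective K.subtype K.subtype_injective)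
    have hle : (Cfsg.pCore 2 ↥K).map K.subtype ≤ Q :=
      Cfsg.Agent.Lib.Cores.le_pCore (normal_map_subtype_pCore K) ((Cfsg.Agent.Lib.Cores.pCore_isPGroup 2 K).map _)
    rw [eq_bot_iff]
    intro h hh
    obtain ⟨g, rfl⟩ := QuotientGroup.mk'_surjective Qk h
    have h1 : g ∈ Cfsg.pCore 2 ↥K := hc ▸ Subgroup.mem_comap.2 hh
    exact Subgroup.mem_bot.2 ((QuotientGroup.eq_one_iff g).2 (Subgroup.mem_subgroupOf.2 (hle ⟨g, h1, rfl⟩)))
  -- the hypotheses of the offender lemma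
  have hconjS : ∀ P : Subgroup X, IsPGroup 2 ↥P → ∃ x : X, ∀ y ∈ P, x * y * x⁻¹ ∈ (S : Subgroup X) := by
    intro P hP
    obtain ⟨P₁, hP₁⟩ := hP.exists_le_sylow
    obtain ⟨x, hx⟩ := MulAction.exists_smul_eq X P₁ S
    exact ⟨x, fun y hy => by rw [← hx]; exact ⟨y, hP₁ hy, rfl⟩⟩
  have hQkp : IsPGroup 2 ↥Qk := hQp.comap_of_injective K.subtype K.subtype_injective
  have hkπ : π.ker = Qk := QuotientGroup.ker_mk' Qk
  letI : CommGroup ↥V :=
    { (inferInstance : Group ↥V) with mul_comm := fun a b => Subtype.ext (hZc a a.2.1 b b.2.1) }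
  have hhyp : Cfsg.Agent.Lib.QuadOffender.Hyp φ := by
    refine ⟨(injective_iff_map_eq_one φ).2 hφinj, fun v => Subtype.ext v.2.2, ?_, ?_⟩
    · intro T hT s hs t ht v
      obtain ⟨s, rfl⟩ := QuotientGroup.mk'_surjective Qk s
      obtain ⟨t, rfl⟩ := QuotientGroup.mk'_surjective Qk t
      have hP : IsPGroup 2 ↥((T.comap π).map K.subtype) :=
        (hT.comap_of_ker_isPGroup π (by rw [hkπ]; exact hQkp)).map _
      obtain ⟨x, hx⟩ := hconjS _ hP
      have hs' := hx _ ⟨s, hs, rfl⟩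
      have ht' := hx _ ⟨t, ht, rfl⟩
      refine Subtype.ext ?_
      rw [hφ]
      show (t : X) * ((φ (π s) v : V) * (v : X)) * (t : X)⁻¹ = (φ (π s) v : V) * (v : X)
      have hvv : (v : X)⁻¹ = v := inv_eq_of_mul_eq_one_right v.2.2
      rw [hφ]
      have hxv : x * (v : X) * x⁻¹ ∈ (S : Subgroup X) := hQS (hQn.conj_mem _ (hVQ v.2) x)
      have h1 := Subgroup.mem_centralizer_iff.1
        (Subgroup.commutator_eq_bot_iff_le_centralizer.1 hcl (Subgroup.commutator_mem_commutator hs' hxv)) _ ht'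
      simp only [Subgroup.coe_subtype, commutatorElement_def] at h1
      have h2 : (t : X) * ((s : X) * v * (s : X)⁻¹ * (v : X)⁻¹) = ((s : X) * v * (s : X)⁻¹ * (v : X)⁻¹) * t := by
        have h3 := congrArg (fun y => x⁻¹ * y * x) h1
        simpa [mul_assoc] using h3
      rw [hvv] at h2
      rw [h2, mul_inv_cancel_right]
    · intro tb zb ht hz hinv
      by_contra hz1
      obtain ⟨t, z, htz, ⟨i, hi⟩, hz3, hzπ⟩ := exists_inverted_lift π (QuotientGroup.mk'_surjective Qk)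
        (by rw [hkπ]; exact hQkp) ht hz hz1 hinv
      have hzQ : (z : X) ∉ Q := fun h => hz1 (by
        rw [← hzπ]; exact (QuotientGroup.eq_one_iff z).2 (Subgroup.mem_subgroupOf.2 h))
      refine hS4 (Cfsg.Agent.S2759.to_four hQp (z := (z : X)) (t := (t : X))
        (by rw [Subgroup.normalizer_eq_top]; trivial) (by rw [Subgroup.normalizer_eq_top]; trivial)
        (congrArg Subtype.val htz) ⟨1, ?_⟩ ⟨i, by rw [Subgroup.orderOf_coe, hi]⟩
        (by rw [show (z : X) ^ 3 = 1 from congrArg Subtype.val hz3]; exact one_mem _) fun h => hzQ (hC h))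
      rw [pow_one]
      exact orderOf_eq_prime (congrArg Subtype.val hz3) fun h => hzQ (h ▸ one_mem _)
  set A'' := (A'.subgroupOf K).map π with hA''
  have hA''p : IsPGroup 2 ↥A'' :=
    ((S.2.to_le hA'S).comap_of_injective K.subtype K.subtype_injective).map _
  have hA'K : A' ≤ K := hA'S.trans hSK
  have hcount : ∀ B : Subgroup H, B ≤ A'' → Nat.card ↥B * Nat.card A0 = Nat.card ↥((B.comap π).map K.subtype ⊓ A' : Subgroup X) := by
    intro B hB
    set B' := ((B.comap π).map K.subtype ⊓ A' : Subgroup X) with hB'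
    have h1 := Cfsg.Agent.Lib.Components.card_eq_card_map_mul π (B'.subgroupOf K)
    rw [Nat.card_congr (Subgroup.subgroupOfEquivOfLe (inf_le_right.trans hA'K : B' ≤ K)).toEquiv] at h1
    rw [h1]
    congr 1
    · have : (B'.subgroupOf K).map π = B := by
        refine le_antisymm ?_ fun b hb => ?_
        · rintro _ ⟨k, hk, rfl⟩
          obtain ⟨⟨k', hk', he⟩, -⟩ := Subgroup.mem_subgroupOf.1 hk
          rw [← show k' = k from Subtype.ext he]; exact hk'
        · obtain ⟨a, ha, rfl⟩ := hB hb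
          exact ⟨a, Subgroup.mem_subgroupOf.2 ⟨⟨a, hb, rfl⟩, ha⟩, rfl⟩
      rw [this]
    · rw [hkπ, ← Subgroup.card_map_of_injective (B'.subgroupOf K).subtype_injective, Subgroup.subgroupOf_map_subtype,
        ← Subgroup.card_map_of_injective K.subtype_injective]
      have : (Qk ⊓ B'.subgroupOf K).map K.subtype = A0 := by
        ext y
        constructor
        · rintro ⟨k, ⟨hkQ, hkB⟩, rfl⟩
          exact ⟨(Subgroup.mem_subgroupOf.1 hkB).2, hkQ⟩
        · rintro ⟨hyA, hyQ⟩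
          refine ⟨⟨y, hA'K hyA⟩, ⟨hyQ, Subgroup.mem_subgroupOf.2 ⟨⟨⟨y, hA'K hyA⟩, ?_, rfl⟩, hyA⟩⟩, rfl⟩
          show π ⟨y, hA'K hyA⟩ ∈ B
          rw [show π ⟨y, hA'K hyA⟩ = 1 from (QuotientGroup.eq_one_iff _).2 (Subgroup.mem_subgroupOf.2 hyQ)]
          exact one_mem _
      rw [this]
  have hfix : ∀ B : Subgroup H, B ≤ A'' → Nat.card ↥(Cfsg.Agent.Lib.QuadOffender.fixBy φ B) =
      Nat.card ↥(V ⊓ Subgroup.centralizer (((B.comap π).map K.subtype ⊓ A' : Subgroup X) : Set X) : Subgroup X) := by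
    intro B hB
    rw [← Subgroup.card_map_of_injective V.subtype_injective]
    congr 2
    ext y
    constructor
    · rintro ⟨v, hv, rfl⟩
      refine ⟨v.2, Subgroup.mem_centralizer_iff.2 ?_⟩
      rintro w ⟨⟨k, hk, rfl⟩, -⟩
      have := congrArg Subtype.val (hv (π k) hk)
      rw [hφ] at this
      exact mul_inv_eq_iff_eq_mul.1 this
    · rintro ⟨hy, hyc⟩
      refine ⟨⟨y, hy⟩, fun b hb => ?_, rfl⟩
      obtain ⟨a, ha, rfl⟩ := hB hb
      refine Subtype.ext ?_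
      rw [hφ]
      exact mul_inv_eq_iff_eq_mul.2 (Subgroup.mem_centralizer_iff.1 hyc _ ⟨⟨a, hb, rfl⟩, ha⟩)
  have hstrong : Cfsg.Agent.Lib.QuadOffender.Strong φ A'' := by
    intro B hB
    set B' := ((B.comap π).map K.subtype ⊓ A' : Subgroup X) with hB'
    have hA'' : ((A''.comap π).map K.subtype ⊓ A' : Subgroup X) = A' :=
      inf_eq_right.2 fun a ha => ⟨⟨a, hA'K ha⟩, ⟨_, ha, rfl⟩, rfl⟩
    have e1 := hcount B hB
    have e2 := hcount A'' le_rfl
    have e3 := hfix B hB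
    have e4 := hfix A'' le_rfl
    rw [hA''] at e2 e4
    rw [← hB'] at e1 e3
    set W := V ⊓ Subgroup.centralizer (B' : Set X) with hW
    have hsup := hmax (B' ⊔ W) (sup_le (inf_le_right.trans hA'S) (inf_le_left.trans (hVQ.trans hQS)))
      (PLocal.elemAb_sup (PLocal.elemAb_of_le hA'e inf_le_right) (PLocal.elemAb_of_le hVe inf_le_left) fun a ha b hb =>
        Subgroup.mem_centralizer_iff.1 (Subgroup.mem_inf.1 hb).2 a ha)
    have hprod := PLocal.card_mul_card_le B' W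
    have hinf : Nat.card (B' ⊓ W : Subgroup X) ≤ Nat.card (V ⊓ Subgroup.centralizer (A' : Set X) : Subgroup X) := by
      refine Subgroup.card_le_of_le fun x hx => Subgroup.mem_inf.2 ⟨(Subgroup.mem_inf.1 (Subgroup.mem_inf.1 hx).2).1, ?_⟩
      rw [Subgroup.mem_centralizer_iff]
      intro a ha
      exact congrArg Subtype.val (hA'e.1.is_comm.comm ⟨a, ha⟩ ⟨x, (Subgroup.mem_inf.1 (Subgroup.mem_inf.1 hx).1).2⟩)
    refine Nat.le_of_mul_le_mul_right (c := Nat.card A0) ?_ Nat.card_pos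
    unfold Cfsg.Agent.Lib.QuadOffender.val
    rw [mul_right_comm, e1, mul_right_comm (Nat.card ↥A''), e2, e3, e4, mul_comm (Nat.card A')]
    exact hprod.trans (Nat.mul_le_mul hinf hsup)
  have hle := Cfsg.Agent.Lib.QuadOffender.strong_le_pCore hhyp hA''p hstrong
  rw [hH2, le_bot_iff] at hle
  exact hA'Q fun a ha => by
    have : π ⟨a, hA'K ha⟩ = 1 := Subgroup.mem_bot.1 (hle ▸ ⟨_, ha, rfl⟩)
    exact Subgroup.mem_subgroupOf.1 ((QuotientGroup.eq_one_iff _).1 this)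

variable {G : Type u} [Group G] [Finite G]

/-- factorization in constrained `S4`-free groups of class two -/
theorem factorization_constrained
    (hC : Subgroup.centralizer (Cfsg.pCore 2 (G ⧸ Cfsg.pPrimeCore 2 G) : Set (G ⧸ Cfsg.pPrimeCore 2 G)) ≤
      Cfsg.pCore 2 (G ⧸ Cfsg.pPrimeCore 2 G))
    (hS4 : ¬ Cfsg.Involves (Equiv.Perm (Fin 4)) G) (S : Sylow 2 G)
    (hcl : ⁅⁅(S : Subgroup G), (S : Subgroup G)⁆, (S : Subgroup G)⁆ = ⊥) :
    Subgroup.normalizer ((Cfsg.thompsonSubgroupOf 2 (S : Subgroup G) : Subgroup G) : Set G) ⊔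
      Cfsg.pPrimeCore 2 G = ⊤ := by
  have : Fact (Nat.Prime 2) := ⟨Nat.prime_two⟩
  set O := Cfsg.pPrimeCore 2 G with hO
  have hOn : O.Normal := by rw [hO]; infer_instance
  set π := QuotientGroup.mk' O with hπ
  have hπs : Function.Surjective π := QuotientGroup.mk'_surjective O
  set T := S.mapSurjective hπs with hT
  have hTc : (T : Subgroup (G ⧸ O)) = (S : Subgroup G).map π := Sylow.coe_mapSurjective hπs S
  have hX : ¬ Cfsg.Involves (Equiv.Perm (Fin 4)) (G ⧸ O) := fun h => hS4 (by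
    obtain ⟨K, R, hR, ⟨e⟩⟩ := h
    exact Cfsg.Agent.Lib.PLocal.involves_of_surjective (K := K.comap π)
      ((e.toMonoidHom.comp (QuotientGroup.mk' (R.subgroupOf K))).comp (π.subgroupComap K))
      ((e.surjective.comp (QuotientGroup.mk'_surjective _)).comp
        (MonoidHom.subgroupComap_surjective_of_surjective π K hπs)))
  have h1 := thompson_le_pCore_of_centralizer hC hX T (by
    rw [hTc, ← Subgroup.map_commutator, ← Subgroup.map_commutator, hcl, Subgroup.map_bot])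
  set J := Cfsg.thompsonSubgroupOf 2 (S : Subgroup G) with hJ
  -- the Thompson subgroup of the image is the image
  have hJT : Cfsg.thompsonSubgroupOf 2 (T : Subgroup (G ⧸ O)) = J.map π := by
    let f : (S : Subgroup G) →* (T : Subgroup (G ⧸ O)) :=
      (π.comp (S : Subgroup G).subtype).codRestrict _ fun x => hTc ▸ ⟨x, x.2, rfl⟩
    have hf : Function.Bijective f := by
      refine ⟨fun a b h => ?_, fun y => ?_⟩
      · have h' : π a = π b := congrArg Subtype.val h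
        refine Subtype.ext (inv_mul_eq_one.1 ?_)
        exact Cfsg.Agent.Lib.Transfer.eq_one_of_isPGroup_of_coprime S.2 (mul_mem (inv_mem a.2) b.2)
          ((Cfsg.Agent.Lib.Cores.pPrimeCore_coprime 2 G).coprime_dvd_left (O.orderOf_dvd_natCard (QuotientGroup.eq.1 h')))
      · obtain ⟨x, hx, hxe⟩ := (hTc ▸ y.2 : (y : G ⧸ O) ∈ (S : Subgroup G).map π)
        exact ⟨⟨x, hx⟩, Subtype.ext hxe⟩
    rw [Cfsg.thompsonSubgroupOf, hJ, Cfsg.thompsonSubgroupOf,
      ← Cfsg.Agent.Lib.PLocal.map_thompsonSubgroup_equiv (p := 2) (MulEquiv.ofBijective f hf),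
      Subgroup.map_map, Subgroup.map_map]
    rfl
  rw [hJT] at h1
  set Q' := (Cfsg.pCore 2 (G ⧸ O)).comap π with hQ'
  have h3 := Cfsg.Agent.Lib.PLocal.sup_normalizer_thompson_eq_top S Q' (Subgroup.map_le_iff_le_comap.1 h1)
  rw [eq_top_iff, ← h3]
  refine sup_le (fun g hg => ?_) le_sup_left
  obtain ⟨s, hs, hse⟩ : π g ∈ (S : Subgroup G).map π := hTc ▸ pCore_le_S T hg
  have h4 : s⁻¹ * g ∈ O := QuotientGroup.eq.1 hse
  have := mul_mem (Subgroup.mem_sup_left (S := Subgroup.normalizer (J : Set G)) (T := O)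
    (Cfsg.Agent.Lib.PLocal.sylow_le_normalizer_thompsonSubgroupOf S hs)) (Subgroup.mem_sup_right h4)
  simpa using this

end Cfsg.Agent.Lib.FusionControl
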