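import Cfsg.Agent.Lib.PLocal.Dickson
import Cfsg.Agent.Lib.LocalEven.Qd

/-! Solvable groups are `p`-stable in the normalizer form for `p ≥ 5`. -/

set_option autoImplicit false

open Matrix

namespace Cfsg.Agent.Lib.FusionControl

universe u

theorem not_isSolvable_SL2 {p : ℕ} [hp : Fact p.Prime] (hp5 : 5 ≤ p) :
    ¬ Group.IsSolvable (SpecialLinearGroup (Fin 2) (ZMod p)) := by
  intro hs
  have : IsSimpleGroup (ProjectiveSpecialLinearGroup (Fin 2) (ZMod p)) :=
    Matrix.ProjectiveSpecialLinearGroup.rank_two_simple (by rw [Nat.card_zmod]; omega)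
  let π : SpecialLinearGroup (Fin 2) (ZMod p) →* ProjectiveSpecialLinearGroup (Fin 2) (ZMod p) := QuotientGroup.mk' _
  have hsP : Group.IsSolvable (ProjectiveSpecialLinearGroup (Fin 2) (ZMod p)) :=
    Group.isSolvable_of_surjective (f := π) (QuotientGroup.mk'_surjective _)
  have hcomm := IsSimpleGroup.comm_iff_isSolvable.2 hsP
  let u : SpecialLinearGroup (Fin 2) (ZMod p) := ⟨!![1, 1; 0, 1], by simp [Matrix.det_fin_two]⟩
  let l : SpecialLinearGroup (Fin 2) (ZMod p) := ⟨!![1, 0; 1, 1], by simp [Matrix.det_fin_two]⟩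
  have h1 : π (u * l) = π (l * u) := by rw [map_mul, map_mul]; exact hcomm _ _
  have h2 := QuotientGroup.eq.1 h1
  obtain ⟨r, -, hr⟩ := Matrix.SpecialLinearGroup.mem_center_iff.1 h2
  have e : ((u * l : SpecialLinearGroup (Fin 2) (ZMod p)) : Matrix (Fin 2) (Fin 2) (ZMod p)) * scalar (Fin 2) r
      = (l * u : SpecialLinearGroup (Fin 2) (ZMod p)) := by
    rw [hr, ← Matrix.SpecialLinearGroup.coe_mul, mul_inv_cancel_left]
  rw [Matrix.SpecialLinearGroup.coe_mul, Matrix.SpecialLinearGroup.coe_mul] at e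
  have e00 := congrFun (congrFun e 0) 0
  have e01 := congrFun (congrFun e 0) 1
  simp [u, l, Matrix.mul_apply, Fin.sum_univ_two, Matrix.scalar_apply] at e00 e01
  rw [e01] at e00
  norm_num at e00
  exact one_ne_zero (α := ZMod p) (by linear_combination e00)

theorem not_involves_qd_of_isSolvable {X : Type u} [Group X] (hs : Group.IsSolvable X) {p : ℕ}
    [hp : Fact p.Prime] (hp5 : 5 ≤ p) : ¬ Cfsg.Involves ↥(Cfsg.qd p) X := by
  rintro ⟨K, R, hR, ⟨e⟩⟩
  have hq : Group.IsSolvable (↥K ⧸ R.subgroupOf K) := inferInstance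
  have hqd : Group.IsSolvable ↥(Cfsg.qd p) := Group.isSolvable_of_surjective (f := e.toMonoidHom) e.surjective
  have hqd' : Group.IsSolvable ↥(Cfsg.qdOver (ZMod p)) := hqd
  exact not_isSolvable_SL2 hp5 (Group.isSolvable_of_surjective (f := LocalEven.Qd.proj) LocalEven.Qd.proj_surjective)

/-- solvable groups are stable in the normalizer form for `p ≥ 5` -/
theorem isNormalizerPStable_of_isSolvable {X : Type u} [Group X] [Finite X] (hs : Group.IsSolvable X) {p : ℕ}
    [hp : Fact p.Prime] (hp5 : 5 ≤ p) : Cfsg.IsNormalizerPStable p X :=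
  PLocal.isNormalizerPStable_of_qdFree PLocal.dicksonTwo (by omega) (not_involves_qd_of_isSolvable hs hp5)

end Cfsg.Agent.Lib.FusionControl
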