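import Mathlib
import Cfsg.Prelude.Def_Classical
import Cfsg.Agent.Lib.SpSpec.Elements
import Cfsg.Agent.Lib.SpSpec.Absorb

/-!
The element orders of `PSp₄(3)`.
-/

set_option autoImplicit false

namespace Cfsg.Agent.Lib.FusionControl.SpFourThree

open Matrix Polynomial

variable {F : Type*} [Field F] [Fintype F]

theorem three_eq_zero (hF : Fintype.card F = 3) : (3 : F) = 0 := by
  have h := FiniteField.cast_card_eq_zero F
  rw [hF] at h
  exact_mod_cast h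

theorem cases_three (hF : Fintype.card F = 3) (a : F) : a = 0 ∨ a = 1 ∨ a = -1 := by
  have h := FiniteField.pow_card a
  rw [hF] at h
  have h' : a * (a - 1) * (a + 1) = 0 := by linear_combination h
  rcases mul_eq_zero.1 h' with h | h
  · rcases mul_eq_zero.1 h with h | h
    · exact Or.inl h
    · exact Or.inr (Or.inl (sub_eq_zero.1 h))
  · exact Or.inr (Or.inr (eq_neg_of_add_eq_zero_left h))

theorem poly_key {R : Type*} [CommRing R] (h3 : (3 : R) = 0) (X a b : R)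
    (ha : a = 0 ∨ a = 1 ∨ a = -1) (hb : b = 0 ∨ b = 1 ∨ b = -1) :
    ∃ N ∈ ({5, 9, 12} : List ℕ), X ^ 4 + a * X ^ 3 + b * X ^ 2 + a * X + 1 ∣ X ^ N - 1 ∨
      X ^ 4 + a * X ^ 3 + b * X ^ 2 + a * X + 1 ∣ X ^ N + 1 := by
  rcases ha with rfl | rfl | rfl <;> rcases hb with rfl | rfl | rfl
  · exact ⟨12, by decide, Or.inr ⟨1 - X^4 + X^8, by ring⟩⟩
  · exact ⟨12, by decide, Or.inl ⟨-1 + X^2 - X^6 + X^8, by ring⟩⟩
  · exact ⟨12, by decide, Or.inl ⟨-1 - X^2 + X^6 + X^8, by ring⟩⟩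
  · exact ⟨9, by decide, Or.inr ⟨1 - X + X^2 + X^3 - X^4 + X^5,
      by linear_combination (-X^3 - X^6) * h3⟩⟩
  · exact ⟨5, by decide, Or.inl ⟨-1 + X, by ring⟩⟩
  · exact ⟨12, by decide, Or.inl ⟨-1 + X + X^2 + X^3 - X^5 - X^6 - X^7 + X^8,
      by linear_combination (-X^2 + X^10) * h3⟩⟩
  · exact ⟨9, by decide, Or.inl ⟨-1 - X - X^2 + X^3 + X^4 + X^5,
      by linear_combination (-X^3 + X^6) * h3⟩⟩
  · exact ⟨5, by decide, Or.inr ⟨1 + X, by ring⟩⟩
  · exact ⟨12, by decide, Or.inl ⟨-1 - X + X^2 - X^3 + X^5 - X^6 + X^7 + X^8,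
      by linear_combination (-X^2 + X^10) * h3⟩⟩

theorem charpoly_palindrome {A : Matrix (Fin 2 ⊕ Fin 2) (Fin 2 ⊕ Fin 2) F}
    (hA : A ∈ symplecticGroup (Fin 2) F) : ∃ a b : F,
      A.charpoly = X ^ 4 + C a * X ^ 3 + C b * X ^ 2 + C a * X + 1 := by
  classical
  have hu : IsUnit A := (Matrix.isUnit_iff_isUnit_det A).2 (SymplecticGroup.symplectic_det hA)
  have hdet : A.det = 1 := SymplecticGroup.det_eq_one hA
  have hinv : A⁻¹.charpoly = A.charpoly := by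
    rw [SymplecticGroup.inv_eq_symplectic_inv A hA, Matrix.charpoly_mul_comm, ← Matrix.mul_assoc,
      Matrix.mul_neg, Matrix.J_squared, neg_neg, Matrix.one_mul, Matrix.charpoly_transpose]
  have hrev : A.charpoly.reverse = A.charpoly := by
    rw [Matrix.reverse_charpoly]
    conv_rhs => rw [← hinv, Matrix.charpoly_inv A hu, hdet]
    norm_num
  have hdeg : A.charpoly.natDegree = 4 := by
    rw [Matrix.charpoly_natDegree_eq_dim]; rfl
  have h4 : A.charpoly.coeff 4 = 1 := hdeg ▸ (Matrix.charpoly_monic A).coeff_natDegree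
  have hc : ∀ i ≤ 4, A.charpoly.coeff i = A.charpoly.coeff (4 - i) := fun i hi => by
    conv_lhs => rw [← hrev, coeff_reverse, hdeg, revAt_le hi]
  refine ⟨A.charpoly.coeff 3, A.charpoly.coeff 2, ?_⟩
  conv_lhs => rw [A.charpoly.as_sum_range_C_mul_X_pow, hdeg]
  rw [Finset.sum_range_succ, Finset.sum_range_succ, Finset.sum_range_succ, Finset.sum_range_succ,
    Finset.sum_range_succ, Finset.sum_range_zero, hc 0 (by norm_num), hc 1 (by norm_num)]
  simp only [show 4 - 0 = 4 from rfl, show 4 - 1 = 3 from rfl, h4, map_one]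
  ring

theorem order_bound (hF : Fintype.card F = 3) (y : Cfsg.PSp 2 F) :
    orderOf y ∣ 5 ∨ orderOf y ∣ 9 ∨ orderOf y ∣ 12 := by
  obtain ⟨x, rfl⟩ := QuotientGroup.mk_surjective y
  obtain ⟨a, b, hab⟩ := charpoly_palindrome x.2
  have h3 : (3 : F[X]) = 0 := by
    rw [← map_ofNat C 3, three_eq_zero hF, map_zero]
  have hcc : ∀ c : F, C c = 0 ∨ C c = 1 ∨ C c = (-1 : F[X]) := fun c => by
    rcases cases_three hF c with rfl | rfl | rfl <;> simp
  obtain ⟨N, hN, hdvd⟩ := poly_key h3 (X : F[X]) (C a) (C b) (hcc a) (hcc b)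
  rw [← hab] at hdvd
  have hy : (QuotientGroup.mk x : Cfsg.PSp 2 F) ^ N = 1 := by
    rw [Cfsg.Agent.Lib.SpSpec.mk_pow_eq_one (by norm_num)]
    rcases hdvd with ⟨q, hq⟩ | ⟨q, hq⟩
    · left
      have h := congrArg (aeval x.1) hq
      rw [map_mul, Matrix.aeval_self_charpoly, zero_mul, map_sub, map_pow, aeval_X, map_one,
        sub_eq_zero] at h
      exact Subtype.ext (by simpa using h)
    · right
      have h := congrArg (aeval x.1) hq
      rw [map_mul, Matrix.aeval_self_charpoly, zero_mul, map_add, map_pow, aeval_X, map_one] at h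
      simpa using eq_neg_of_add_eq_zero_left h
  have hd := orderOf_dvd_of_pow_eq_one hy
  fin_cases hN <;> tauto

abbrev M4 := Matrix (Fin 2 ⊕ Fin 2) (Fin 2 ⊕ Fin 2) (ZMod 3)

/-- Reads a matrix from a nested list. -/
def toM (L : List (List (ZMod 3))) : M4 :=
  Matrix.of fun i j => ((L.getD (Sum.elim (·.val) (fun k => k.val + 2) i) [])).getD
    (Sum.elim (·.val) (fun k => k.val + 2) j) 0

def m5 : M4 := toM [[2,1,1,0],[1,0,2,0],[2,1,1,1],[2,0,2,1]]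
def m9 : M4 := toM [[2,2,0,1],[0,1,0,2],[2,2,2,1],[0,2,2,2]]
def m12 : M4 := toM [[2,2,0,1],[0,1,0,2],[1,0,2,0],[1,1,2,0]]

theorem check5 : m5 * J (Fin 2) (ZMod 3) * m5ᵀ = J (Fin 2) (ZMod 3) ∧ (m5 ^ 5 = 1 ∨ m5 ^ 5 = -1) ∧
    ¬ (m5 = 1 ∨ m5 = -1) := by
  decide +kernel

theorem check9 : m9 * J (Fin 2) (ZMod 3) * m9ᵀ = J (Fin 2) (ZMod 3) ∧ (m9 ^ 9 = 1 ∨ m9 ^ 9 = -1) ∧
    ¬ (m9 ^ 3 = 1 ∨ m9 ^ 3 = -1) := by
  decide +kernel

theorem check12 : m12 * J (Fin 2) (ZMod 3) * m12ᵀ = J (Fin 2) (ZMod 3) ∧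
    (m12 ^ 12 = 1 ∨ m12 ^ 12 = -1) ∧ ¬ (m12 ^ 4 = 1 ∨ m12 ^ 4 = -1) ∧
    ¬ (m12 ^ 6 = 1 ∨ m12 ^ 6 = -1) := by
  decide +kernel

theorem lift_elt (hF : Fintype.card F = 3) (m : M4)
    (hm : m * J (Fin 2) (ZMod 3) * mᵀ = J (Fin 2) (ZMod 3)) :
    ∃ y : Cfsg.PSp 2 F, ∀ k : ℕ, y ^ k = 1 ↔ (m ^ k = 1 ∨ m ^ k = -1) := by
  haveI : Fact (Nat.Prime 3) := ⟨Nat.prime_three⟩
  haveI : CharP F 3 := by
    obtain ⟨p, hp⟩ := CharP.exists F
    haveI := Fact.mk (CharP.char_is_prime F p)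
    have : p ∣ 3 := (CharP.cast_eq_zero_iff F p 3).1 (by exact_mod_cast three_eq_zero hF)
    rwa [(Nat.prime_dvd_prime_iff_eq (Fact.out) Nat.prime_three).1 this] at hp
  set φ := ZMod.castHom (dvd_refl 3) F
  have hinj : Function.Injective φ := φ.injective
  have hmem : m.map φ ∈ symplecticGroup (Fin 2) F := by
    rw [SymplecticGroup.mem_iff, ← Matrix.transpose_map, ← Matrix.map_J (Fin 2) φ, ← Matrix.map_mul,
      ← Matrix.map_mul, hm]
  refine ⟨QuotientGroup.mk ⟨m.map φ, hmem⟩, fun k => ?_⟩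
  rw [Cfsg.Agent.Lib.SpSpec.mk_pow_eq_one (by norm_num), ← Subtype.coe_inj]
  simp only [SubmonoidClass.coe_pow, OneMemClass.coe_one]
  have e : (φ.mapMatrix m) ^ k = φ.mapMatrix (m ^ k) := (map_pow _ _ _).symm
  have hi : Function.Injective (φ.mapMatrix : M4 →+* Matrix (Fin 2 ⊕ Fin 2) (Fin 2 ⊕ Fin 2) F) := fun A B h => Matrix.map_injective hinj h
  change (φ.mapMatrix m) ^ k = 1 ∨ (φ.mapMatrix m) ^ k = -1 ↔ _
  rw [e]
  constructor <;> rintro (h | h)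
  · exact Or.inl (hi (by rw [h, map_one]))
  · exact Or.inr (hi (by rw [h, map_neg, map_one]))
  · exact Or.inl (by rw [h, map_one])
  · exact Or.inr (by rw [h, map_neg, map_one])

theorem range_eq_of {G : Type*} [Group G] [Finite G]
    (hb : ∀ y : G, orderOf y ∣ 5 ∨ orderOf y ∣ 9 ∨ orderOf y ∣ 12)
    (h5 : ∃ y : G, orderOf y = 5) (h9 : ∃ y : G, orderOf y = 9) (h12 : ∃ y : G, orderOf y = 12) :
    Set.range (orderOf : G → ℕ) = {k | k ∣ 5 ∨ k ∣ 9 ∨ k ∣ 12} := by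
  refine Set.Subset.antisymm (by rintro _ ⟨y, rfl⟩; exact hb y) ?_
  rintro k (h | h | h)
  · obtain ⟨y, hy⟩ := h5; exact Cfsg.Agent.Lib.SpSpec.exists_orderOf_of_dvd (y := y) (by rwa [hy])
  · obtain ⟨y, hy⟩ := h9; exact Cfsg.Agent.Lib.SpSpec.exists_orderOf_of_dvd (y := y) (by rwa [hy])
  · obtain ⟨y, hy⟩ := h12; exact Cfsg.Agent.Lib.SpSpec.exists_orderOf_of_dvd (y := y) (by rwa [hy])

theorem range_orderOf (hF : Fintype.card F = 3) :
    Set.range (orderOf : Cfsg.PSp 2 F → ℕ) = {k | k ∣ 5 ∨ k ∣ 9 ∨ k ∣ 12} := by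
  have h5p : Fact (Nat.Prime 5) := ⟨by norm_num⟩
  have h3p : Fact (Nat.Prime 3) := ⟨Nat.prime_three⟩
  refine range_eq_of (order_bound hF) ?_ ?_ ?_
  · obtain ⟨y, hy⟩ := lift_elt hF m5 check5.1
    exact ⟨y, orderOf_eq_prime ((hy 5).2 check5.2.1) fun h =>
      check5.2.2 (by simpa only [pow_one] using (hy 1).1 (by rw [h, one_pow]))⟩
  · obtain ⟨y, hy⟩ := lift_elt hF m9 check9.1
    exact ⟨y, orderOf_eq_prime_pow (n := 1) (fun h => check9.2.2 ((hy 3).1 (by simpa using h)))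
      ((hy 9).2 check9.2.1)⟩
  · obtain ⟨y, hy⟩ := lift_elt hF m12 check12.1
    refine ⟨y, orderOf_eq_of_pow_and_pow_div_prime (by norm_num) ((hy 12).2 check12.2.1) ?_⟩
    intro q hq hq12 h
    have hle := Nat.le_of_dvd (by norm_num) hq12
    have : q = 2 ∨ q = 3 := by
      interval_cases q <;> first | omega | (norm_num at hq; done)
    rcases this with rfl | rfl
    · rw [show 12 / 2 = 6 from rfl] at h
      exact check12.2.2.2 ((hy 6).1 h)
    · rw [show 12 / 3 = 4 from rfl] at h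
      exact check12.2.2.1 ((hy 4).1 h)

end Cfsg.Agent.Lib.FusionControl.SpFourThree
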