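import Mathlib
import Cfsg.Agent.Lib.FusionControl.BlockDiag
import Cfsg.Agent.Lib.Classical.SympCard

/-!
A Sylow 2-subgroup of the symplectic group over a field of odd order as a wreath product.
-/

set_option autoImplicit false

namespace Cfsg.Agent.Lib.FusionControl.SpWreath

open Matrix
open Cfsg.Agent.Lib.FusionControl
open Cfsg.Agent.Lib.FusionControl.WreathSquares
open Cfsg.Agent.Lib.FusionControl.BlockDiag

variable {F : Type*} [Field F]

theorem bdM_mem {m : ℕ} (v : Fin m → Matrix.SpecialLinearGroup (Fin 2) F) :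
    bdM (fun i => (v i : Matrix (Fin 2) (Fin 2) F)) ∈ Matrix.symplecticGroup (Fin m) F := by
  have hd : ∀ i, (v i).1 0 0 * (v i).1 1 1 - (v i).1 0 1 * (v i).1 1 0 = 1 := fun i => by
    rw [← Matrix.det_fin_two]; exact (v i).2
  rw [SymplecticGroup.mem_iff, Matrix.J]
  simp only [bdM, MonoidHom.coe_mk, OneHom.coe_mk, fromBlocks_transpose, diagonal_transpose, fromBlocks_multiply,
    Matrix.mul_zero, Matrix.mul_neg, Matrix.mul_one, zero_add, add_zero, Matrix.neg_mul, diagonal_mul_diagonal,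
    fromBlocks_inj]
  refine ⟨?_, ?_, ?_, ?_⟩ <;> ext i j <;> by_cases h : i = j
  all_goals first
    | (subst h; have := hd i; simp; linear_combination -(hd i))
    | (subst h; have := hd i; simp; linear_combination hd i)
    | (subst h; simp; ring)
    | simp [h]

/-- The hom of the pieces. -/
def bdSp {m : ℕ} : (Fin m → Matrix.SpecialLinearGroup (Fin 2) F) →* Matrix.symplecticGroup (Fin m) F where
  toFun v := ⟨bdM (fun i => (v i : Matrix (Fin 2) (Fin 2) F)), bdM_mem v⟩
  map_one' := Subtype.ext (map_one bdM)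
  map_mul' v w := Subtype.ext (map_mul bdM (fun i => (v i : Matrix (Fin 2) (Fin 2) F)) (fun i => (w i : Matrix (Fin 2) (Fin 2) F)))

theorem pmM_mem {m : ℕ} (σ : Equiv.Perm (Fin m)) : pmM σ ∈ Matrix.symplecticGroup (Fin m) F := by
  rw [SymplecticGroup.mem_iff, Matrix.J]
  simp only [pmM, MonoidHom.coe_mk, OneHom.coe_mk, fromBlocks_transpose, Matrix.transpose_zero,
    fromBlocks_multiply, Matrix.mul_zero, Matrix.zero_mul, Matrix.mul_neg, Matrix.mul_one, Matrix.neg_mul,
    zero_add, add_zero, neg_zero, Matrix.transpose_permMatrix, inv_inv]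
  rw [← Matrix.permMatrix_mul, mul_inv_cancel, Matrix.permMatrix_one]

/-- The hom of the permutations. -/
def pmSp {m : ℕ} : Equiv.Perm (Fin m) →* Matrix.symplecticGroup (Fin m) F where
  toFun σ := ⟨pmM σ, pmM_mem σ⟩
  map_one' := Subtype.ext (map_one pmM)
  map_mul' σ τ := Subtype.ext (map_mul pmM σ τ)

theorem pmSp_conj {n : ℕ} (σ : Equiv.Perm (Fin n)) (v : Fin n → Matrix.SpecialLinearGroup (Fin 2) F) :
    pmSp σ * bdSp v * (pmSp σ)⁻¹ = bdSp (fun i => v (σ⁻¹ i)) := by
  rw [mul_inv_eq_iff_eq_mul]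
  refine Subtype.ext ?_
  exact congrArg Units.val (mul_inv_eq_iff_eq_mul.mp (pm_conj σ fun i => Matrix.SpecialLinearGroup.toGL (v i)))

theorem bdSp_pmSp_eq_one {n : ℕ} (v : Fin n → Matrix.SpecialLinearGroup (Fin 2) F) (σ : Equiv.Perm (Fin n))
    (h : bdSp v * pmSp σ = 1) : v = 1 ∧ σ = 1 := by
  have h' : bd (fun i => Matrix.SpecialLinearGroup.toGL (v i)) * pm σ = 1 :=
    Units.ext (by exact congrArg Subtype.val h)
  obtain ⟨h1, h2⟩ := bd_pm_eq_one _ _ h'
  exact ⟨funext fun i => Matrix.SpecialLinearGroup.toGL_injective (by simpa using congrFun h1 i), h2⟩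

theorem val_card_SL2 [Fintype F] (hF : Odd (Fintype.card F)) :
    padicValNat 2 (Nat.card (Matrix.SpecialLinearGroup (Fin 2) F)) =
      padicValNat 2 (Fintype.card F + 1) + padicValNat 2 (Fintype.card F - 1) := by
  have hq : 1 < Fintype.card F := Fintype.one_lt_card
  have : Fact (Nat.Prime 2) := ⟨Nat.prime_two⟩
  have hSL := TwoPart.val_card_SL (F := F) hF (n := 2) (by norm_num)
  have e1 := TwoPart.val_pow_even_sub_one hq hF (i := 1) one_ne_zero
  have e2 : TwoPart.valGL (Fintype.card F) 2 =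
      padicValNat 2 (Fintype.card F - 1) + padicValNat 2 (Fintype.card F ^ (2 * 1) - 1) := by
    rw [TwoPart.valGL, Finset.sum_range_succ, Finset.sum_range_succ, Finset.sum_range_zero, zero_add, zero_add,
      pow_one, mul_one]
  rw [padicValNat.one] at e1
  omega

theorem exists_sylow_Sp [Fintype F] (hF : Odd (Fintype.card F)) (n : ℕ)
    (T : Sylow 2 (Matrix.SpecialLinearGroup (Fin 2) F)) (W : Sylow 2 (Equiv.Perm (Fin n))) :
    ∃ Q : Sylow 2 (Matrix.symplecticGroup (Fin n) F), (Q : Subgroup (Matrix.symplecticGroup (Fin n) F)) =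
      wreath bdSp pmSp (T : Subgroup (Matrix.SpecialLinearGroup (Fin 2) F)) (W : Subgroup (Equiv.Perm (Fin n))) := by
  classical
  have hq : 1 < Fintype.card F := Fintype.one_lt_card
  have : Fact (Nat.Prime 2) := ⟨Nat.prime_two⟩
  have hval : padicValNat 2 (Nat.card (Matrix.symplecticGroup (Fin n) F)) =
      n * padicValNat 2 (Nat.card (Matrix.SpecialLinearGroup (Fin 2) F)) + padicValNat 2 n.factorial := by
    have hpow : ∀ k, padicValNat 2 (Fintype.card F ^ k) = 0 := fun k =>
      padicValNat.eq_zero_of_not_dvd fun h => Nat.not_even_iff_odd.mpr hF.pow (even_iff_two_dvd.mpr h)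
    have hz : ∏ i ∈ Finset.range n, (Fintype.card F ^ (2 * (i + 1)) - 1) ≠ 0 :=
      Finset.prod_ne_zero_iff.mpr fun i _ => (Nat.sub_pos_of_lt (Nat.one_lt_pow (by omega) hq)).ne'
    rw [Cfsg.Agent.Lib.Classical.card_sp, padicValNat.mul (pow_ne_zero _ (by omega)) hz, hpow, zero_add,
      TwoPart.val_prod_even hq hF, val_card_SL2 hF]
  exact exists_sylow bdSp pmSp pmSp_conj bdSp_pmSp_eq_one _ _
    (by rw [T.card_eq_multiplicity, Nat.factorization_def _ Nat.prime_two])
    (b := padicValNat 2 n.factorial)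
    (by rw [W.card_eq_multiplicity, Nat.factorization_def _ Nat.prime_two, Nat.card_perm, Nat.card_eq_fintype_card,
      Fintype.card_fin]) hval

end Cfsg.Agent.Lib.FusionControl.SpWreath
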