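import Mathlib
import Cfsg.Agent.Lib.FusionControl.BlockDiag

/-!
The determinant one part of the wreath Sylow 2-subgroup of `GL(2m)`.
-/

set_option autoImplicit false

namespace Cfsg.Agent.Lib.FusionControl.BlockDiag

open Matrix
open scoped commutatorElement
open Cfsg.Agent.Lib.FusionControl.WreathSquares

variable {F : Type*} [Field F] {m : ℕ}

/-- The pair `c` at `i`, `c⁻¹` at `i₀`. -/
def pair (i i₀ : Fin m) (c : GL (Fin 2) F) : Fin m → GL (Fin 2) F :=
  Pi.mulSingle i c * Pi.mulSingle i₀ c⁻¹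

theorem pair_self (i i₀ : Fin m) (h : i ≠ i₀) (c : GL (Fin 2) F) : pair i i₀ c i = c := by
  simp [pair, h]

theorem pair_base (i i₀ : Fin m) (h : i ≠ i₀) (c : GL (Fin 2) F) : pair i i₀ c i₀ = c⁻¹ := by
  simp [pair, h.symm]

theorem pair_other (i i₀ j : Fin m) (h : j ≠ i) (h' : j ≠ i₀) (c : GL (Fin 2) F) : pair i i₀ c j = 1 := by
  simp [pair, h, h']

theorem det_pair (i i₀ : Fin m) (c : GL (Fin 2) F) : GeneralLinearGroup.det (bd (pair i i₀ c)) = 1 := by
  rw [pair, map_mul, map_mul, det_single, det_single, map_inv, mul_inv_cancel]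

variable [Fintype F]

/-- The diagonal reflection. -/
def refl2 (F : Type*) [Field F] : GL (Fin 2) F where
  val := !![1, 0; 0, -1]
  inv := !![1, 0; 0, -1]
  val_inv := by ext i j; fin_cases i <;> fin_cases j <;> simp [Matrix.mul_apply, Fin.sum_univ_two]
  inv_val := by ext i j; fin_cases i <;> fin_cases j <;> simp [Matrix.mul_apply, Fin.sum_univ_two]

omit [Fintype F] in
theorem refl2_sq : refl2 F ^ 2 = 1 := by
  rw [pow_two]
  exact Units.ext (refl2 F).val_inv

omit [Fintype F] in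
theorem det_refl2 : GeneralLinearGroup.det (refl2 F) = -1 := by
  refine Units.ext ?_
  rw [GeneralLinearGroup.val_det_apply]
  simp [refl2, Matrix.det_fin_two]

theorem exists_sylow_refl : ∃ R : Sylow 2 (GL (Fin 2) F), refl2 F ∈ (R : Subgroup (GL (Fin 2) F)) := by
  have : Fact (Nat.Prime 2) := ⟨Nat.prime_two⟩
  have h : IsPGroup 2 (Subgroup.zpowers (refl2 F)) := by
    rintro ⟨x, k, rfl⟩
    refine ⟨1, Subtype.ext ?_⟩
    show (refl2 F ^ k) ^ 2 ^ 1 = 1
    rw [pow_one, ← zpow_natCast, ← _root_.zpow_mul, mul_comm k, _root_.zpow_mul, zpow_natCast, refl2_sq, _root_.one_zpow]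
  obtain ⟨R, hR⟩ := h.exists_le_sylow
  exact ⟨R, hR (Subgroup.mem_zpowers _)⟩

theorem det_eq_one_or_neg_one (hq : 4 ∣ Fintype.card F + 1) (R : Sylow 2 (GL (Fin 2) F)) {c : GL (Fin 2) F}
    (hc : c ∈ (R : Subgroup (GL (Fin 2) F))) :
    GeneralLinearGroup.det c = 1 ∨ GeneralLinearGroup.det c = -1 := by
  obtain ⟨k, hk⟩ := R.2 ⟨c, hc⟩
  have h1 : orderOf (GeneralLinearGroup.det c) ∣ 2 ^ k := by
    refine orderOf_dvd_of_pow_eq_one ?_
    rw [← map_pow, show c ^ 2 ^ k = 1 from congrArg Subtype.val hk, map_one]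
  have h2 : orderOf (GeneralLinearGroup.det c) ∣ Fintype.card F - 1 := by
    rw [← Classical.natCard_units]
    exact orderOf_dvd_natCard _
  obtain ⟨j, -, hj⟩ := (Nat.dvd_prime_pow Nat.prime_two).mp h1
  have hj1 : j ≤ 1 := by
    by_contra hlt
    have : 4 ∣ Fintype.card F - 1 := (pow_dvd_pow 2 (show 2 ≤ j by omega)).trans (hj ▸ h2)
    have := Fintype.one_lt_card (α := F)
    omega
  have h3 : GeneralLinearGroup.det c ^ 2 = 1 :=
    orderOf_dvd_iff_pow_eq_one.mp (hj ▸ (pow_dvd_pow 2 hj1))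
  have h4 : ((GeneralLinearGroup.det c : Fˣ) : F) * ((GeneralLinearGroup.det c : Fˣ) : F) = 1 := by
    rw [← Units.val_mul, ← pow_two, h3, Units.val_one]
  rcases mul_self_eq_one_iff.mp h4 with h | h
  · exact Or.inl (Units.ext (by rw [h, Units.val_one]))
  · exact Or.inr (Units.ext (by rw [h, Units.val_neg, Units.val_one]))

theorem det_one_mem (R : Sylow 2 (GL (Fin 2) F)) {t : GL (Fin 2) F} (ht : t ∈ (R : Subgroup (GL (Fin 2) F)))
    (hd : GeneralLinearGroup.det t = 1) :
    ∃ u ∈ (R : Subgroup (GL (Fin 2) F)).comap SpecialLinearGroup.toGL, SpecialLinearGroup.toGL u = t := by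
  have h : t ∈ (SpecialLinearGroup.toGL : SpecialLinearGroup (Fin 2) F →* GL (Fin 2) F).range := by
    rw [range_toGL_ker]; exact hd
  obtain ⟨u, rfl⟩ := h
  exact ⟨u, ht, rfl⟩

theorem sqInDerived_R_inf (ho : Odd (Fintype.card F)) (R : Sylow 2 (GL (Fin 2) F)) :
    SqInDerived ((R : Subgroup (GL (Fin 2) F)).comap
      (SpecialLinearGroup.toGL : SpecialLinearGroup (Fin 2) F →* GL (Fin 2) F)) := by
  obtain ⟨T, hT⟩ := exists_sylow_comap (SpecialLinearGroup.toGL : SpecialLinearGroup (Fin 2) F →* GL (Fin 2) F)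
    SpecialLinearGroup.toGL_injective GeneralLinearGroup.det range_toGL_ker (val_GL_SL ho (by norm_num)) R
  rw [← hT]
  exact sqInDerived_SL2 (odd_ne_two ho) T

/-- When the determinant takes only the values `±1`, the Sylow subgroup of `GL₂` has squares in its
derived subgroup. -/
theorem sqInDerived_GL2 (ho : Odd (Fintype.card F)) (hq : 4 ∣ Fintype.card F + 1) (R : Sylow 2 (GL (Fin 2) F))
    (hd : refl2 F ∈ (R : Subgroup (GL (Fin 2) F))) : SqInDerived (R : Subgroup (GL (Fin 2) F)) := by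
  have hT := sqInDerived_R_inf ho R
  set T := (R : Subgroup (GL (Fin 2) F)).comap (SpecialLinearGroup.toGL : SpecialLinearGroup (Fin 2) F →* GL (Fin 2) F)
  have hTR : T.map SpecialLinearGroup.toGL ≤ (R : Subgroup (GL (Fin 2) F)) := Subgroup.map_comap_le _ _
  refine sqInDerived_of_gen _ ((SpecialLinearGroup.toGL '' (T : Set (SpecialLinearGroup (Fin 2) F))) ∪ {refl2 F}) ?_ ?_ ?_
  · intro c hc
    rcases det_eq_one_or_neg_one hq R hc with h | h
    · obtain ⟨u, hu, rfl⟩ := det_one_mem R hc h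
      exact Subgroup.subset_closure (Or.inl ⟨u, hu, rfl⟩)
    · obtain ⟨u, hu, e⟩ := det_one_mem R (mul_mem hc hd) (by rw [map_mul, h, det_refl2]; simp)
      have e2 : c = SpecialLinearGroup.toGL u * refl2 F := by
        rw [e, mul_assoc, ← pow_two, refl2_sq, mul_one]
      rw [e2]
      exact mul_mem (Subgroup.subset_closure (Or.inl ⟨u, hu, rfl⟩)) (Subgroup.subset_closure (Or.inr rfl))
  · rintro x (⟨u, hu, rfl⟩ | rfl)
    exacts [hu, hd]
  · rintro x (⟨u, hu, rfl⟩ | rfl)
    · exact sq_mem_of_map hT SpecialLinearGroup.toGL hTR hu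
    · rw [refl2_sq]
      exact one_mem _

set_option maxHeartbeats 800000 in
/-- The determinant one part of the wreath product has squares in its derived subgroup. -/
theorem sqInDerived_det_one (ho : Odd (Fintype.card F)) (i₀ : Fin m) (R : Sylow 2 (GL (Fin 2) F))
    (W : Subgroup (Equiv.Perm (Fin m))) (S : Set (Equiv.Perm (Fin m))) (hW : W = Subgroup.closure S)
    (hS : ∀ s ∈ S, s ^ 2 = 1)
    (hpair : (4 ∣ Fintype.card F + 1 ∧ refl2 F ∈ (R : Subgroup (GL (Fin 2) F))) ∨
      ∀ i : Fin m, i ≠ i₀ → ∃ σ ∈ W, σ i = i₀ ∧ σ i₀ = i) :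
    SqInDerived ((wreath bd pm (R : Subgroup (GL (Fin 2) F)) W ⊓
      (GeneralLinearGroup.det : GL (Fin m ⊕ Fin m) F →* Fˣ).ker : Subgroup (GL (Fin m ⊕ Fin m) F))) := by
  classical
  have hT := sqInDerived_R_inf ho R
  set T := (R : Subgroup (GL (Fin 2) F)).comap (SpecialLinearGroup.toGL : SpecialLinearGroup (Fin 2) F →* GL (Fin 2) F)
  set P₁ : Subgroup (GL (Fin m ⊕ Fin m) F) := wreath bd pm (R : Subgroup (GL (Fin 2) F)) W ⊓
    (GeneralLinearGroup.det : GL (Fin m ⊕ Fin m) F →* Fˣ).ker with hP₁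
  set S' : Set (GL (Fin m ⊕ Fin m) F) := {x | x ∈ P₁ ∧ x ^ 2 ∈ ⁅P₁, P₁⁆} with hS'
  refine sqInDerived_of_gen P₁ S' ?_ (fun x hx => hx.1) (fun x hx => hx.2)
  have hbase : ∀ v : Fin m → GL (Fin 2) F, (∀ i, v i ∈ (R : Subgroup (GL (Fin 2) F))) →
      GeneralLinearGroup.det (bd v) = 1 → bd v ∈ P₁ :=
    fun v hv hd => ⟨Subgroup.mem_sup_left ⟨v, fun i _ => hv i, rfl⟩, hd⟩
  have hpm : ∀ σ ∈ W, (pm σ : GL (Fin m ⊕ Fin m) F) ∈ P₁ := fun σ hσ =>
    ⟨Subgroup.mem_sup_right ⟨σ, hσ, rfl⟩, det_pm σ⟩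
  have hsingle : ∀ i, ∀ t ∈ (R : Subgroup (GL (Fin 2) F)), GeneralLinearGroup.det t = 1 →
      bd (Pi.mulSingle i t) ∈ Subgroup.closure S' := by
    intro i t ht hd
    obtain ⟨u, hu, rfl⟩ := det_one_mem R ht hd
    let f : SpecialLinearGroup (Fin 2) F →* GL (Fin m ⊕ Fin m) F :=
      (bd.comp (MonoidHom.mulSingle (fun _ : Fin m => GL (Fin 2) F) i)).comp SpecialLinearGroup.toGL
    have hf : T.map f ≤ P₁ := by
      rintro _ ⟨w, hw, rfl⟩
      refine hbase _ (fun j => ?_) ?_
      · by_cases h : j = i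
        · subst h; rw [MonoidHom.mulSingle_apply, Pi.mulSingle_eq_same]; exact hw
        · simp [h]
      · show GeneralLinearGroup.det (bd (Pi.mulSingle i (SpecialLinearGroup.toGL w))) = 1
        rw [det_single]
        have : SpecialLinearGroup.toGL w ∈ (SpecialLinearGroup.toGL :
            SpecialLinearGroup (Fin 2) F →* GL (Fin 2) F).range := ⟨w, rfl⟩
        rw [range_toGL_ker] at this
        exact this
    exact Subgroup.subset_closure ⟨hf ⟨u, hu, rfl⟩, sq_mem_of_map hT f hf hu⟩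
  have hpmem : ∀ i, i ≠ i₀ → ∀ c ∈ (R : Subgroup (GL (Fin 2) F)), ∀ j, pair i i₀ c j ∈ (R : Subgroup (GL (Fin 2) F)) := by
    intro i hi c hc j
    by_cases h : j = i
    · subst h; rw [pair_self _ _ hi]; exact hc
    by_cases h' : j = i₀
    · subst h'; rw [pair_base _ _ hi]; exact inv_mem hc
    · rw [pair_other _ _ _ h h']; exact one_mem _
  have hpairs : ∀ i, i ≠ i₀ → ∀ c ∈ (R : Subgroup (GL (Fin 2) F)), bd (pair i i₀ c) ∈ Subgroup.closure S' := by
    intro i hi c hc
    have hmem := hbase _ (hpmem i hi c hc) (det_pair i i₀ c)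
    rcases hpair with ⟨hq, hd⟩ | hswap
    · rcases det_eq_one_or_neg_one hq R hc with h | h
      · rw [pair, map_mul]
        exact mul_mem (hsingle i c hc h) (hsingle i₀ c⁻¹ (inv_mem hc) (by rw [map_inv, h, inv_one]))
      · have ht : c * refl2 F ∈ (R : Subgroup (GL (Fin 2) F)) := mul_mem hc hd
        have htd : GeneralLinearGroup.det (c * refl2 F) = 1 := by rw [map_mul, h, det_refl2]; simp
        have e : pair i i₀ c = Pi.mulSingle i (c * refl2 F) * pair i i₀ (refl2 F) *
            Pi.mulSingle i₀ (c * refl2 F)⁻¹ := by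
          have hr : refl2 F * refl2 F = 1 := by rw [← pow_two, refl2_sq]
          funext j
          by_cases h1 : j = i
          · subst h1
            simp [pair_self _ _ hi, hi, mul_assoc, hr]
          by_cases h2 : j = i₀
          · subst h2
            simp [pair_base _ _ hi, hi.symm, _root_.mul_inv_rev, ← mul_assoc, inv_eq_of_mul_eq_one_right hr, hr]
          · simp [pair_other _ _ _ h1 h2, h1, h2]
        rw [e, map_mul, map_mul]
        refine mul_mem (mul_mem (hsingle i _ ht htd) ?_) (hsingle i₀ _ (inv_mem ht) (by rw [map_inv, htd, inv_one]))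
        refine Subgroup.subset_closure ⟨hbase _ (hpmem i hi _ hd) (det_pair i i₀ _), ?_⟩
        have h2 : pair i i₀ (refl2 F) ^ 2 = 1 := by
          funext j
          rw [Pi.pow_apply, Pi.one_apply]
          by_cases h1 : j = i
          · subst h1; rw [pair_self _ _ hi, refl2_sq]
          by_cases h2 : j = i₀
          · subst h2; rw [pair_base _ _ hi, inv_pow, refl2_sq, inv_one]
          · rw [pair_other _ _ _ h1 h2, one_pow]
        rw [← map_pow, h2, map_one]
        exact one_mem _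
    · obtain ⟨σ, hσ, hσi, hσ0⟩ := hswap i hi
      refine Subgroup.subset_closure ⟨hmem, ?_⟩
      have e : (fun j => pair i i₀ c (σ⁻¹ j)) = (pair i i₀ c)⁻¹ := by
        funext j
        rw [Pi.inv_apply]
        by_cases h1 : j = i
        · subst h1
          rw [show σ⁻¹ j = i₀ from Equiv.Perm.inv_eq_iff_eq.mpr hσ0.symm, pair_base _ _ hi, pair_self _ _ hi]
        by_cases h2 : j = i₀
        · subst h2
          rw [show σ⁻¹ j = i from Equiv.Perm.inv_eq_iff_eq.mpr hσi.symm, pair_base _ _ hi, pair_self _ _ hi,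
            inv_inv]
        · rw [pair_other _ _ _ (fun h => h2 (by rw [← hσi, ← h]; simp)) (fun h => h1 (by rw [← hσ0, ← h]; simp)),
            pair_other _ _ _ h1 h2, inv_one]
      have hc2 : pm σ * bd (pair i i₀ c) * (pm σ)⁻¹ = (bd (pair i i₀ c))⁻¹ := by rw [pm_conj, e, map_inv]
      have : bd (pair i i₀ c) ^ 2 = ⁅bd (pair i i₀ c), pm σ⁆ := by
        have h3 : pm σ * (bd (pair i i₀ c))⁻¹ * (pm σ)⁻¹ = bd (pair i i₀ c) := by
          have := congrArg (fun z => z⁻¹) hc2
          simpa [_root_.mul_inv_rev, mul_assoc] using this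
        rw [commutatorElement_def, pow_two, mul_assoc (bd _) (pm σ), mul_assoc (bd (pair i i₀ c)), h3]
      rw [this]
      exact Subgroup.commutator_mem_commutator hmem (hpm σ hσ)
  -- the base
  have key : ∀ (n : ℕ) (v : Fin m → GL (Fin 2) F), (∀ i, v i ∈ (R : Subgroup (GL (Fin 2) F))) →
      GeneralLinearGroup.det (bd v) = 1 →
      (Finset.univ.filter fun i => i ≠ i₀ ∧ v i ≠ 1).card = n → bd v ∈ Subgroup.closure S' := by
    intro n
    induction n using Nat.strong_induction_on with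
    | _ n ih =>
      intro v hv hd hn
      by_cases hex : ∃ i, i ≠ i₀ ∧ v i ≠ 1
      · obtain ⟨i, hi, hvi⟩ := hex
        set w : Fin m → GL (Fin 2) F := (pair i i₀ (v i))⁻¹ * v with hw
        have hwi : w i = 1 := by simp [hw, pair_self _ _ hi]
        have hwj : ∀ j, j ≠ i → j ≠ i₀ → w j = v j := fun j h1 h2 => by simp [hw, pair_other _ _ _ h1 h2]
        have hlt : (Finset.univ.filter fun j => j ≠ i₀ ∧ w j ≠ 1).card < n := by
          rw [← hn]
          refine Finset.card_lt_card (Finset.ssubset_iff_of_subset ?_ |>.mpr ⟨i, by simp [hi, hvi], by simp [hwi]⟩)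
          intro j hj
          simp only [Finset.mem_filter, Finset.mem_univ, true_and] at hj ⊢
          by_cases h1 : j = i
          · exact absurd (h1 ▸ hwi) hj.2
          · exact ⟨hj.1, hwj j h1 hj.1 ▸ hj.2⟩
        have hwmem := ih _ hlt w (fun j => mul_mem (inv_mem (hpmem i hi _ (hv i) j)) (hv j))
          (by rw [hw, map_mul, map_mul, map_inv, map_inv, det_pair, hd, inv_one, one_mul]) rfl
        have : v = pair i i₀ (v i) * w := by rw [hw, mul_inv_cancel_left]
        rw [this, map_mul]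
        exact mul_mem (hpairs i hi _ (hv i)) hwmem
      · push Not at hex
        have : v = Pi.mulSingle i₀ (v i₀) := by
          funext j
          by_cases h : j = i₀
          · subst h; simp
          · simp [h, hex j h]
        rw [this]
        refine hsingle i₀ _ (hv i₀) ?_
        rw [this, det_single] at hd
        exact hd
  intro g hg
  obtain ⟨hg1, hg2⟩ := hg
  obtain ⟨v, hv, σ, hσ, rfl⟩ := exists_of_mem bd pm pm_conj _ W hg1
  have hd : GeneralLinearGroup.det (bd v) = 1 := by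
    have := MonoidHom.mem_ker.mp hg2
    rwa [map_mul, det_pm, mul_one] at this
  refine mul_mem (key _ v hv hd rfl) ?_
  rw [hW] at hσ
  have h1 : Subgroup.closure S ≤ (Subgroup.closure S').comap pm := by
    rw [Subgroup.closure_le]
    intro s hs
    refine Subgroup.subset_closure ⟨hpm s (hW ▸ Subgroup.subset_closure hs), ?_⟩
    rw [← map_pow, hS s hs, map_one]
    exact one_mem _
  exact h1 hσ

end Cfsg.Agent.Lib.FusionControl.BlockDiag
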