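import Cfsg.Agent.Lib.FusionControl.Centric
import Cfsg.Agent.Lib.LocalEven2.Embedded
import Cfsg.Agent.Lib.Components.Fitting
import Cfsg.Agent.Lib.Transfer.Basic
import Cfsg.Agent.S3058

/-! Alperin's theorem with factors in `O^p` of the smallest normal subgroups of order divisible by `p`. -/

set_option autoImplicit false

namespace Cfsg.Agent.Lib.FusionControl.Strong

open Cfsg.Agent.Lib.LocalEven2 (MeetsOddly)

section Embedded

variable {Q : Type*} [Group Q] [Finite Q] {p : ℕ} [Fact p.Prime]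

/-- A subgroup containing the normalisers of the nontrivial subgroups of a Sylow subgroup meets its
other conjugates in `p'`-subgroups. -/
theorem meetsOddly_of_normalizers (S : Sylow p Q) (H : Subgroup Q) (hSH : (S : Subgroup Q) ≤ H)
    (hH : ∀ R : Subgroup Q, R ≠ ⊥ → R ≤ (S : Subgroup Q) → Subgroup.normalizer (R : Set Q) ≤ H) :
    MeetsOddly p H := by
  have hp : p.Prime := Fact.out
  have hSi : ¬ p ∣ (S : Subgroup Q).index := S.not_dvd_index
  -- Sylow subgroups meeting nontrivially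
  have key : ∀ (k : ℕ) (g : Q), Nat.card ↥(S : Subgroup Q) -
      Nat.card ↥((S : Subgroup Q) ⊓ cj g (S : Subgroup Q)) = k →
      (S : Subgroup Q) ⊓ cj g (S : Subgroup Q) ≠ ⊥ → g ∈ H := by
    intro k
    induction k using Nat.strong_induction_on with
    | _ k ih =>
    intro g hk hne
    set D := (S : Subgroup Q) ⊓ cj g (S : Subgroup Q) with hD
    by_cases hDS : D = (S : Subgroup Q)
    · refine hH _ (hDS ▸ hne) le_rfl (mem_normalizer_iff_cj.2 ?_)
      have hle : (S : Subgroup Q) ≤ cj g (S : Subgroup Q) := hDS.ge.trans inf_le_right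
      exact (Subgroup.eq_of_le_of_card_ge hle (card_cj g _).le).symm
    have hlt : D < (S : Subgroup Q) := lt_of_le_of_ne inf_le_left hDS
    have hlt' : D < cj g (S : Subgroup Q) := lt_of_le_of_ne inf_le_right fun e => by
      have := card_lt_of_lt hlt
      rw [e, card_cj] at this
      omega
    have h1 := lt_nS S.2 hlt
    have h2 := lt_nS (isPGroup_cj (g := g) S.2) hlt'
    set N := Subgroup.normalizer (D : Set Q)
    obtain ⟨T, hST, hTN, hT, hTi⟩ := exists_sylow_in p N (inf_le_right : nS (S : Subgroup Q) D ≤ N)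
      (S.2.to_le inf_le_left)
    obtain ⟨n, hn, hnT⟩ := exists_cj_le_of_not_dvd hTN hT hTi
      (inf_le_right : nS (cj g (S : Subgroup Q)) D ≤ N) ((isPGroup_cj S.2).to_le inf_le_left)
    obtain ⟨a, -, haT⟩ := exists_cj_le_of_not_dvd (le_top : (S : Subgroup Q) ≤ ⊤) S.2
      (by rw [Subgroup.relIndex_top_right]; exact hSi) (le_top : T ≤ ⊤) hT
    have hDle : Nat.card ↥D < Nat.card ↥(S : Subgroup Q) := card_lt_of_lt hlt
    have hbound : ∀ b : Q, Nat.card ↥((S : Subgroup Q) ⊓ cj b (S : Subgroup Q)) ≤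
        Nat.card ↥(S : Subgroup Q) := fun b => Subgroup.card_le_of_le inf_le_left
    have hcardD : ∀ {X : Subgroup Q}, Nat.card ↥D < Nat.card ↥X → X ≠ ⊥ := fun {X} hX e => by
      rw [e, Subgroup.card_bot] at hX
      have := Nat.card_pos (α := ↥D)
      omega
    -- the first link
    have hT1 : T ≤ cj a⁻¹ (S : Subgroup Q) := by
      have := cj_le_cj (g := a⁻¹) haT
      rwa [cj_inv_cj] at this
    have c1 : Nat.card ↥D < Nat.card ↥((S : Subgroup Q) ⊓ cj a⁻¹ (S : Subgroup Q)) :=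
      lt_of_lt_of_le (card_lt_of_lt h1) (Subgroup.card_le_of_le (le_inf inf_le_left (hST.trans hT1)))
    have ha : a⁻¹ ∈ H := ih _ (by have := hbound a⁻¹; omega) a⁻¹ rfl (hcardD c1)
    -- the second link
    have c2 : Nat.card ↥D < Nat.card ↥((S : Subgroup Q) ⊓ cj (a * n * g) (S : Subgroup Q)) := by
      refine lt_of_lt_of_le (card_lt_of_lt h2) ?_
      rw [← card_cj (a * n) (nS (cj g (S : Subgroup Q)) D)]
      refine Subgroup.card_le_of_le (le_inf ?_ ?_)
      · rw [← cj_cj]; exact (cj_le_cj hnT).trans haT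
      · rw [← cj_cj (a * n) g]; exact cj_le_cj inf_le_left
    have hang : a * n * g ∈ H := ih _ (by have := hbound (a * n * g); omega) _ rfl (hcardD c2)
    have hnH : n ∈ H := hH D hne inf_le_left hn
    have : g = n⁻¹ * a⁻¹ * (a * n * g) := by group
    rw [this]
    exact H.mul_mem (H.mul_mem (H.inv_mem hnH) ha) hang
  intro g hg hd
  obtain ⟨⟨z, hzH, hzg⟩, hz⟩ :=
    exists_prime_orderOf_dvd_card' (G := ↥(H ⊓ H.map (MulAut.conj g).toMonoidHom)) p hd
  have hzp : orderOf z = p := by rwa [← Subgroup.orderOf_coe] at hz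
  replace hzg : g⁻¹ * z * g ∈ H := Lib.LocalEven2.mem_map_conj.mp hzg
  obtain ⟨a, ha, haz⟩ := Lib.LocalEven2.exists_conj_le S hSH
    (Lib.LocalEven2.isPGroup_zpowers ⟨1, by simpa using hzp⟩) (Subgroup.zpowers_le.mpr hzH)
  obtain ⟨b, hb, hbz⟩ := Lib.LocalEven2.exists_conj_le S hSH
    (Lib.LocalEven2.isPGroup_zpowers ⟨1, by
      rw [pow_one, ← hzp]
      simpa [mul_assoc] using (MulAut.conj g⁻¹).orderOf_eq z⟩) (Subgroup.zpowers_le.mpr hzg)
  have e1 : a⁻¹ * z * a ∈ (S : Subgroup Q) :=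
    Lib.LocalEven2.mem_smul_sylow.mp (haz (Subgroup.mem_zpowers z))
  have e2 : b⁻¹ * (g⁻¹ * z * g) * b ∈ (S : Subgroup Q) :=
    Lib.LocalEven2.mem_smul_sylow.mp (hbz (Subgroup.mem_zpowers _))
  have hne : (S : Subgroup Q) ⊓ cj (a⁻¹ * g * b) (S : Subgroup Q) ≠ ⊥ := by
    intro h
    have hm : a⁻¹ * z * a ∈ (S : Subgroup Q) ⊓ cj (a⁻¹ * g * b) (S : Subgroup Q) := by
      refine ⟨e1, mem_cj.2 ?_⟩
      rwa [show (a⁻¹ * g * b)⁻¹ * (a⁻¹ * z * a) * (a⁻¹ * g * b) = b⁻¹ * (g⁻¹ * z * g) * b by group]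
    rw [h, Subgroup.mem_bot] at hm
    have : z = 1 := by
      calc z = a * (a⁻¹ * z * a) * a⁻¹ := by group
        _ = 1 := by rw [hm]; group
    rw [this, orderOf_one] at hzp
    exact hp.ne_one hzp.symm
  have hmem := key _ (a⁻¹ * g * b) rfl hne
  apply hg
  have : g = a * (a⁻¹ * g * b) * b⁻¹ := by group
  rw [this]
  exact H.mul_mem (H.mul_mem ha hmem) (H.inv_mem hb)

end Embedded

variable {G : Type*} [Group G]

/-- `H` and `x` qualify as a step of the strong form of Alperin's theorem. -/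
def Ok (p : ℕ) (S H : Subgroup G) (x : G) : Prop :=
  Extr p S H ∧ S ⊓ Subgroup.centralizer (H : Set G) ≤ H ∧
    normP'P p H = H ⊔ Subgroup.centralizer (H : Set G) ∧
    ¬ Cfsg.IsSylowChainConnected p
      (↥(Subgroup.normalizer (H : Set G)) ⧸ H.subgroupOf (Subgroup.normalizer (H : Set G))) ∧
    ∃ X : Subgroup G, (H ≤ X ∧ X ≤ Subgroup.normalizer (H : Set G) ∧
      Subgroup.normalizer (H : Set G) ≤ Subgroup.normalizer (X : Set G) ∧ p ∣ H.relIndex X ∧
      ∀ Y : Subgroup G, H ≤ Y → Y ≤ Subgroup.normalizer (H : Set G) →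
        Subgroup.normalizer (H : Set G) ≤ Subgroup.normalizer (Y : Set G) → p ∣ H.relIndex Y → X ≤ Y) ∧
      x ∈ (Cfsg.pResidual p ↥X).map X.subtype

theorem Ok.mem_normalizer {p : ℕ} {S H : Subgroup G} {x : G} (h : Ok p S H x) :
    x ∈ Subgroup.normalizer (H : Set G) := by
  obtain ⟨X, hX, hx⟩ := h.2.2.2.2
  exact hX.2.1 (Subgroup.map_subtype_le _ hx)

theorem cj_centralizer (y : G) (H : Subgroup G) :
    cj y (Subgroup.centralizer (H : Set G)) = Subgroup.centralizer (cj y H : Set G) := by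
  ext x
  rw [mem_cj, Subgroup.mem_centralizer_iff, Subgroup.mem_centralizer_iff]
  constructor
  · rintro h _ ⟨u, hu, rfl⟩
    show y * u * y⁻¹ * x = x * (y * u * y⁻¹)
    calc y * u * y⁻¹ * x = y * (u * (y⁻¹ * x * y)) * y⁻¹ := by group
      _ = y * ((y⁻¹ * x * y) * u) * y⁻¹ := by rw [h u hu]
      _ = _ := by group
  · intro h u hu
    have h' := h (y * u * y⁻¹) (conj_mem_cj hu)
    calc u * (y⁻¹ * x * y) = y⁻¹ * (y * u * y⁻¹ * x) * y := by group
      _ = y⁻¹ * (x * (y * u * y⁻¹)) * y := by rw [h']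
      _ = _ := by group

theorem cj_sup (y : G) (H K : Subgroup G) : cj y H ⊔ cj y K = cj y (H ⊔ K) :=
  (Subgroup.map_sup _ _ _).symm

theorem cj_normP'P_le [Finite G] (p : ℕ) (y : G) (H : Subgroup G) :
    cj y (normP'P p H) ≤ normP'P p (cj y H) := by
  let N := Subgroup.normalizer (H : Set G)
  let N' := Subgroup.normalizer (cj y H : Set G)
  let e : ↥N ≃* ↥N' := (N.equivMapOfInjective _ (MulAut.conj y).injective).trans
    (MulEquiv.subgroupCongr (cj_normalizer y H))
  rintro _ ⟨_, ⟨n, hn, rfl⟩, rfl⟩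
  refine ⟨e n, ?_, rfl⟩
  let π := QuotientGroup.map (Cfsg.pPrimeCore p ↥N) (Cfsg.pPrimeCore p ↥N') e.toMonoidHom
    (Subgroup.map_le_iff_le_comap.mp (Components.map_pPrimeCore_le p e))
  have hπ : Function.Surjective π := fun q => by
    obtain ⟨m, rfl⟩ := QuotientGroup.mk_surjective q
    obtain ⟨m', rfl⟩ := e.surjective m
    exact ⟨(m' : ↥N ⧸ _), rfl⟩
  exact Cores.map_pCore_le (p := p) π hπ ⟨_, hn, rfl⟩

theorem pResidual_cj (p : ℕ) (y : G) (X : Subgroup G) {x : G}
    (hx : x ∈ (Cfsg.pResidual p ↥X).map X.subtype) :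
    y * x * y⁻¹ ∈ (Cfsg.pResidual p ↥(cj y X)).map (cj y X).subtype := by
  obtain ⟨a, ha, rfl⟩ := hx
  refine ⟨X.equivMapOfInjective _ (MulAut.conj y).injective a, ?_, rfl⟩
  exact Transfer.map_pResidual_le (X.equivMapOfInjective _ (MulAut.conj y).injective).toMonoidHom
    ⟨a, ha, rfl⟩

theorem Ok.conj [Finite G] {p : ℕ} [Fact p.Prime] {S H : Subgroup G} {x : G} (h : Ok p S H x) {y : G}
    (hy : y ∈ Subgroup.normalizer (S : Set G)) : Ok p S (cj y H) (y * x * y⁻¹) := by
  obtain ⟨⟨hHS, hext⟩, hcen, heq, hdis, X, ⟨hX1, hX2, hX3, hX4, hX5⟩, hx⟩ := h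
  have hS : cj y S = S := mem_normalizer_iff_cj.1 hy
  refine ⟨⟨hS ▸ cj_le_cj hHS, ?_⟩, ?_, ?_, ?_, cj y X, ⟨cj_le_cj hX1, ?_, ?_, ?_, ?_⟩, pResidual_cj p y X hx⟩
  · rw [nS, ← cj_normalizer]
    conv in (S ⊓ _) => rw [← hS]
    rw [← cj_inf, relIndex_cj]
    exact hext
  · rw [← cj_centralizer]
    conv in (S ⊓ _) => rw [← hS]
    rw [← cj_inf]
    exact cj_le_cj hcen
  · refine le_antisymm ?_ ?_
    · have h1 := cj_le_cj (g := y) (cj_normP'P_le p y⁻¹ (cj y H))
      rw [cj_inv_cj, cj_cj, mul_inv_cancel, heq] at h1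
      rw [← cj_centralizer, cj_sup]
      refine le_trans ?_ h1
      intro z hz
      rw [mem_cj]
      simpa using hz
    · rw [← cj_centralizer, cj_sup, ← heq]
      exact cj_normP'P_le p y H
  · let e : ↥(Subgroup.normalizer (H : Set G)) ≃* ↥(Subgroup.normalizer (cj y H : Set G)) :=
      ((Subgroup.normalizer (H : Set G)).equivMapOfInjective _ (MulAut.conj y).injective).trans
        (MulEquiv.subgroupCongr (cj_normalizer y H))
    haveI : (H.subgroupOf (Subgroup.normalizer (H : Set G))).Normal := Subgroup.normal_in_normalizer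
    haveI : ((cj y H).subgroupOf (Subgroup.normalizer (cj y H : Set G))).Normal :=
      Subgroup.normal_in_normalizer
    obtain ⟨q⟩ : Nonempty ((↥(Subgroup.normalizer (H : Set G)) ⧸ H.subgroupOf (Subgroup.normalizer (H : Set G))) ≃*
        (↥(Subgroup.normalizer (cj y H : Set G)) ⧸ (cj y H).subgroupOf (Subgroup.normalizer (cj y H : Set G)))) := ⟨QuotientGroup.congr (H.subgroupOf (Subgroup.normalizer (H : Set G)))
      ((cj y H).subgroupOf (Subgroup.normalizer (cj y H : Set G))) e (by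
        ext z
        constructor
        · rintro ⟨a, ha, rfl⟩
          exact conj_mem_cj (g := y) ha
        · intro hz
          refine ⟨e.symm z, ?_, e.apply_symm_apply z⟩
          obtain ⟨a, ha, hae⟩ := Subgroup.mem_subgroupOf.mp hz
          have h2 : ((MulAut.conj y).toMonoidHom ((e.symm z : ↥(Subgroup.normalizer (H : Set G))) : G)) = (z : G) :=
            congrArg Subtype.val (e.apply_symm_apply z)
          rw [SetLike.mem_coe, Subgroup.mem_subgroupOf]
          rw [← hae] at h2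
          rw [(MulAut.conj y).injective h2]
          exact ha)⟩
    obtain ⟨M, hM1, hM2, hM3⟩ := Lib.LocalEven2.exists_meetsOddly hdis
    refine Lib.LocalEven2.not_connected_of_meetsOddly (H := M.map q.toMonoidHom) ?_ ?_ ?_
    · intro g hg hd
      obtain ⟨g', rfl⟩ := q.surjective g
      refine hM3 g' (fun h => hg ⟨g', h, rfl⟩) (hd.trans ?_)
      rw [← Subgroup.card_map_of_injective (f := q.toMonoidHom) q.injective,
        Subgroup.map_inf _ _ _ q.injective]
      refine Subgroup.card_dvd_of_le (inf_le_inf le_rfl ?_)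
      rintro _ ⟨_, ⟨m, hm, rfl⟩, rfl⟩
      exact ⟨g' * m * g'⁻¹, ⟨m, hm, rfl⟩, by simp only [map_mul, map_inv]; rfl⟩
    · rwa [Subgroup.card_map_of_injective (f := q.toMonoidHom) q.injective]
    · intro h
      apply hM1
      have h' := congrArg (Subgroup.comap q.toMonoidHom) h
      rwa [Subgroup.comap_map_eq_self_of_injective q.injective, Subgroup.comap_top] at h'
  · rw [← cj_normalizer]; exact cj_le_cj hX2
  · rw [← cj_normalizer, ← cj_normalizer]; exact cj_le_cj hX3
  · rw [relIndex_cj]; exact hX4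
  · intro Y hY1 hY2 hY3 hY4
    have h1 := hX5 (cj y⁻¹ Y) (by simpa [cj_inv_cj] using cj_le_cj (g := y⁻¹) hY1)
      (by
        have h := cj_le_cj (g := y⁻¹) hY2
        rwa [cj_normalizer, cj_inv_cj] at h)
      (by
        have h := cj_le_cj (g := y⁻¹) hY3
        rwa [cj_normalizer, cj_normalizer, cj_inv_cj] at h)
      (by rwa [← relIndex_cj y, cj_cj, mul_inv_cancel, show cj (1 : G) Y = Y by
        ext z; simp [mem_cj]])
    have h2 := cj_le_cj (g := y) h1
    rw [cj_cj, mul_inv_cancel] at h2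
    refine h2.trans (le_of_eq ?_)
    ext z; simp [mem_cj]

/-- conjugation by `h` on `A` is a product of qualifying steps and an element of `N(S)` -/
def SW (p : ℕ) (S : Subgroup G) (A : Set G) (h : G) : Prop :=
  ∃ L : List (Subgroup G × G), ∃ y ∈ Subgroup.normalizer (S : Set G),
    (∀ q ∈ L, Ok p S q.1 q.2) ∧ RPath A L ∧
      ∀ a ∈ A, ((L.map Prod.snd).prod * y)⁻¹ * a * ((L.map Prod.snd).prod * y) = h * a * h⁻¹

theorem rpath_conj (y : G) {L : List (Subgroup G × G)} : ∀ {A : Set G},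
    RPath A (L.map fun q => (cj y q.1, y * q.2 * y⁻¹)) ↔ RPath (cs y⁻¹ A) L := by
  induction L with
  | nil => intro A; simp [RPath]
  | cons q L ih =>
    intro A
    simp only [List.map_cons, RPath]
    refine and_congr ?_ ?_
    · constructor
      · rintro h _ ⟨a, ha, rfl⟩
        have := mem_cj.1 (h ha)
        simpa using this
      · intro h a ha
        refine mem_cj.2 ?_
        have := h ⟨a, ha, rfl⟩
        simpa using this
    · rw [ih, cs_cs, cs_cs, show y⁻¹ * (y * q.2 * y⁻¹)⁻¹ = q.2⁻¹ * y⁻¹ by group]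

theorem rpath_mono {L : List (Subgroup G × G)} : ∀ {A B : Set G}, A ⊆ B → RPath B L → RPath A L := by
  induction L with
  | nil => intro A B _ _; trivial
  | cons q L ih => exact fun hAB h => ⟨hAB.trans h.1, ih (cs_subset hAB) h.2⟩

theorem SW.mono {p : ℕ} {S : Subgroup G} {A B : Set G} {h : G} (hAB : A ⊆ B) (hB : SW p S B h) :
    SW p S A h := by
  obtain ⟨L, y, hy, h1, h2, h3⟩ := hB
  exact ⟨L, y, hy, h1, rpath_mono hAB h2, fun a ha => h3 a (hAB ha)⟩

theorem SW.congr {p : ℕ} {S : Subgroup G} {A : Set G} {h h' : G} (hA : SW p S A h)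
    (he : ∀ a ∈ A, h * a * h⁻¹ = h' * a * h'⁻¹) : SW p S A h' := by
  obtain ⟨L, y, hy, h1, h2, h3⟩ := hA
  exact ⟨L, y, hy, h1, h2, fun a ha => (h3 a ha).trans (he a ha)⟩

theorem SW.of_normalizer {p : ℕ} {S : Subgroup G} {A : Set G} {h : G}
    (hh : h ∈ Subgroup.normalizer (S : Set G)) : SW p S A h :=
  ⟨[], h⁻¹, inv_mem hh, by simp, trivial, fun a _ => by simp⟩

theorem SW.comp [Finite G] {p : ℕ} [Fact p.Prime] {S : Subgroup G} {A : Set G} {x z : G}
    (h1 : SW p S A x) (h2 : SW p S (cs x A) z) : SW p S A (z * x) := by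
  obtain ⟨L, y, hy, hL, hLp, hLe⟩ := h1
  obtain ⟨M, y', hy', hM, hMp, hMe⟩ := h2
  refine ⟨L ++ M.map (fun q => (cj y q.1, y * q.2 * y⁻¹)), y * y', mul_mem hy hy', ?_, ?_, ?_⟩
  · intro q hq
    rcases List.mem_append.1 hq with hq | hq
    · exact hL q hq
    · obtain ⟨r, hr, rfl⟩ := List.mem_map.1 hq
      exact (hM r hr).conj hy
  · rw [rpath_append, rpath_conj]
    refine ⟨hLp, ?_⟩
    rw [cs_cs, show cs (y⁻¹ * ((L.map Prod.snd).prod)⁻¹) A = cs x A from
      Set.image_congr fun a ha => by rw [← hLe a ha]; group]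
    exact hMp
  · intro a ha
    have e : ((M.map fun q => (cj y q.1, y * q.2 * y⁻¹)).map Prod.snd).prod =
        y * (M.map Prod.snd).prod * y⁻¹ := by
      clear hMe hMp hM
      induction M with
      | nil => simp
      | cons q M ih => simp only [List.map_cons, List.prod_cons, ih]; group
    rw [List.map_append, List.prod_append, e]
    have h4 := hMe _ ⟨a, ha, rfl⟩
    calc _ = ((M.map Prod.snd).prod * y')⁻¹ *
          (((L.map Prod.snd).prod * y)⁻¹ * a * ((L.map Prod.snd).prod * y)) *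
          ((M.map Prod.snd).prod * y') := by group
      _ = _ := by rw [hLe a ha, h4]; group

variable [Finite G] {p : ℕ} [Fact p.Prime]

/-- the elements of `N(U)` realised by steps -/
def reach (S : Sylow p G) (U : Subgroup G) : Subgroup G :=
  let M : Submonoid G :=
    { carrier := {x | x ∈ Subgroup.normalizer (U : Set G) ∧ SW p (S : Subgroup G) (U : Set G) x}
      one_mem' := ⟨one_mem _, SW.of_normalizer (one_mem _)⟩
      mul_mem' := fun {x y} hx hy => ⟨mul_mem hx.1 hy.1, hy.2.comp (by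
        rw [cs_subgroup, mem_normalizer_iff_cj.1 hy.1]; exact hx.2)⟩ }
  { M with
    inv_mem' := fun {x} hx => by
      have hox := (isOfFinOrder_of_finite x).orderOf_pos
      have e : x⁻¹ = x ^ (orderOf x - 1) := by
        apply inv_eq_of_mul_eq_one_right
        rw [← pow_succ', Nat.sub_add_cancel hox, pow_orderOf_eq_one]
      rw [e]
      exact pow_mem (show x ∈ M from hx) _ }

/-- a subgroup that is not centric radical reduces to a larger one -/
theorem exists_bigger (S : Sylow p G) {U : Subgroup G} (hU : Extr p (S : Subgroup G) U)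
    (hag : ¬ AG p (S : Subgroup G) U) {x : G} (hx : x ∈ Subgroup.normalizer (U : Set G)) :
    ∃ R : Subgroup G, U < R ∧ R ≤ (S : Subgroup G) ∧
      ∃ n ∈ Subgroup.normalizer (R : Set G), ∀ a ∈ U, n * a * n⁻¹ = x * a * x⁻¹ := by
  set C := Subgroup.centralizer (U : Set G) with hC
  have hUp : IsPGroup p U := S.2.to_le hU.1
  by_cases hcent : (S : Subgroup G) ⊓ C ≤ U
  · -- not radical
    have hnr : ¬ nS (S : Subgroup G) U ⊓ normP'P p U ≤ U := fun h => hag ⟨hU, hcent, h⟩
    set R := nS (S : Subgroup G) U ⊓ normP'P p U with hR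
    have hUR : U ≤ R := le_inf (le_nS hU.1) (le_normP'P hUp)
    have hRn : R ≤ Subgroup.normalizer (normP' p U : Set G) :=
      (inf_le_right.trans (normP'P_le_normalizer U)).trans (le_normalizer_map_subtype _)
    obtain ⟨k, hk, hkx⟩ := exists_frattini (inf_le_right : R ≤ normP'P p U) ((S.2.to_le inf_le_left).to_le inf_le_left)
      (not_dvd_relIndex_normP'P S.2 hU) (le_normalizer_map_subtype _ hx)
    obtain ⟨o, ho, r, hr, rfl⟩ := Cfsg.Agent.Lib.Coprime.exists_mul_of_mem_sup hRn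
      (normP'P_le_sup S.2 hU hk)
    have hmem : r⁻¹ * o * r * x ∈ Subgroup.normalizer (R : Set G) := by
      rw [show r⁻¹ * o * r * x = r⁻¹ * (o * r * x) by group]
      exact mul_mem (Subgroup.le_normalizer (inv_mem hr)) hkx
    have hrO : r⁻¹ * o * r ∈ normP' p U := by
      have := (Subgroup.mem_normalizer_iff.1 (hRn (inv_mem hr)) o).1 ho
      simpa using this
    refine ⟨R, lt_of_le_not_ge hUR hnr, inf_le_left.trans inf_le_left, _, hmem, fun a ha => ?_⟩
    have hc := Subgroup.mem_centralizer_iff.1 (normP'_le_centralizer hUp hrO) _ ((Subgroup.mem_normalizer_iff.1 hx a).1 ha)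
    calc r⁻¹ * o * r * x * a * (r⁻¹ * o * r * x)⁻¹
        = (r⁻¹ * o * r) * (x * a * x⁻¹) * (r⁻¹ * o * r)⁻¹ := by group
      _ = _ := by rw [← hc]; group
  · -- not centric
    have hNC : Subgroup.normalizer (U : Set G) ≤ Subgroup.normalizer (C : Set G) :=
      normalizer_le_normalizer_centralizer U
    have hCN : C ≤ Subgroup.normalizer (U : Set G) := Subgroup.centralizer_le_normalizer _
    set Z := nS (S : Subgroup G) U ⊓ C with hZ
    have hZeq : (S : Subgroup G) ⊓ C ≤ Z := le_inf (le_inf inf_le_left (inf_le_right.trans hCN)) inf_le_right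
    obtain ⟨c, hc, hcx⟩ := exists_frattini (inf_le_right : Z ≤ C) ((S.2.to_le inf_le_left).to_le inf_le_left)
      (not_dvd_relIndex_inf inf_le_right (S.2.to_le inf_le_left) hU.2 hCN hNC) (hNC hx)
    have hlt : U < U ⊔ Z := lt_of_le_not_ge le_sup_left (fun h => hcent (hZeq.trans (le_sup_right.trans h)))
    refine ⟨U ⊔ Z, hlt, sup_le hU.1 (inf_le_left.trans inf_le_left), c * x, ?_, fun a ha => ?_⟩
    · have h1 : Subgroup.normalizer (U : Set G) ⊓ Subgroup.normalizer (Z : Set G) ≤
          Subgroup.normalizer ((U ⊔ Z : Subgroup G) : Set G) :=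
        Cfsg.Agent.Lib.Coprime.le_normalizer_sup inf_le_left inf_le_right
      exact h1 ⟨mul_mem (hCN hc) hx, hcx⟩
    · have hc' := Subgroup.mem_centralizer_iff.1 hc _ ((Subgroup.mem_normalizer_iff.1 hx a).1 ha)
      calc c * x * a * (c * x)⁻¹ = c * (x * a * x⁻¹) * c⁻¹ := by group
        _ = _ := by rw [← hc']; group

/-- the step at an extremal subgroup -/
theorem sw_extr (S : Sylow p G) {U : Subgroup G} (hU : Extr p (S : Subgroup G) U)
    (ih : ∀ (R : Subgroup G) (g : G), Nat.card U < Nat.card R → R ≤ (S : Subgroup G) →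
      cj g R ≤ (S : Subgroup G) → SW p (S : Subgroup G) (R : Set G) g)
    {x : G} (hx : x ∈ Subgroup.normalizer (U : Set G)) : SW p (S : Subgroup G) (U : Set G) x := by
  rcases eq_or_lt_of_le hU.1 with hUS | hUS
  · subst hUS; exact SW.of_normalizer hx
  have hbig : ∀ (R : Subgroup G), U < R → R ≤ (S : Subgroup G) → ∀ n ∈ Subgroup.normalizer (R : Set G),
      SW p (S : Subgroup G) (U : Set G) n := fun R hUR hR n hn =>
    (ih R n (card_lt_of_lt hUR) hR (by rw [mem_normalizer_iff_cj.1 hn]; exact hR)).mono hUR.le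
  by_cases hag : AG p (S : Subgroup G) U
  swap
  · obtain ⟨R, hUR, hR, n, hn, hne⟩ := exists_bigger S hU hag hx
    exact (hbig R hUR hR n hn).congr hne
  set N := Subgroup.normalizer (U : Set G) with hN
  set T := nS (S : Subgroup G) U
  have hUp : IsPGroup p U := S.2.to_le hU.1
  set K := reach S U with hK
  have hKn : ∀ R : Subgroup G, U < R → R ≤ (S : Subgroup G) → N ⊓ Subgroup.normalizer (R : Set G) ≤ K :=
    fun R hUR hR n hn => ⟨hn.1, hbig R hUR hR n hn.2⟩
  have hTU : U < T := lt_nS S.2 hUS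
  haveI hUn : (U.subgroupOf N).Normal := Subgroup.normal_in_normalizer
  set π := QuotientGroup.mk' (U.subgroupOf N) with hπ
  by_cases hconn : Cfsg.IsSylowChainConnected p (↥N ⧸ U.subgroupOf N)
  · -- generated by the normalisers of larger subgroups
    suffices h : N ≤ K from (h hx).2
    by_contra hNK
    -- the image of `K` would be strongly embedded
    have hTN : T ≤ N := inf_le_right
    have hTK : T ≤ K := fun t ht => hKn T hTU inf_le_left ⟨hTN ht, Subgroup.le_normalizer ht⟩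
    have hSyl : ¬ p ∣ ((T.subgroupOf N).map π).index := by
      intro h
      apply hU.2
      have h2 := h.trans (Subgroup.index_map_dvd _ (QuotientGroup.mk'_surjective (U.subgroupOf N)))
      exact h2
    let S' : Sylow p (↥N ⧸ U.subgroupOf N) :=
      (((S.2.to_le inf_le_left : IsPGroup p ↥T).comap_of_injective N.subtype
        N.subtype_injective).map π).toSylow hSyl
    have hker : U.subgroupOf N ≤ K.subgroupOf N := fun u hu => hTK (hTU.le hu)
    refine absurd hconn (Lib.LocalEven2.not_connected_of_meetsOddly (H := (K.subgroupOf N).map π)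
      (meetsOddly_of_normalizers S' _ ?_ ?_) ?_ ?_)
    · exact Subgroup.map_mono fun t ht => hTK ht
    · intro R' hR' hR'S q hq
      obtain ⟨n, rfl⟩ := QuotientGroup.mk'_surjective _ q
      refine ⟨n, ?_, rfl⟩
      set R := (R'.comap π).map N.subtype with hR
      have hUR : U ≤ R := fun u hu => ⟨⟨u, Subgroup.le_normalizer hu⟩, by
        rw [SetLike.mem_coe, Subgroup.mem_comap, hπ, QuotientGroup.mk'_apply,
          (QuotientGroup.eq_one_iff _).2 (show (⟨u, _⟩ : ↥N) ∈ U.subgroupOf N from hu)]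
        exact one_mem _, rfl⟩
      have hRT : R ≤ T := by
        rintro _ ⟨r, hr, rfl⟩
        obtain ⟨t, ht, hte⟩ := hR'S hr
        obtain ⟨z, hz, rfl⟩ := (QuotientGroup.mk'_eq_mk' _).1 hte
        exact mul_mem ht (hTU.le hz)
      have hne : U ≠ R := fun e => hR' (by
        rw [eq_bot_iff]
        intro r hr
        obtain ⟨r', rfl⟩ := QuotientGroup.mk'_surjective _ r
        have : (r' : G) ∈ U := e ▸ ⟨r', hr, rfl⟩
        rw [Subgroup.mem_bot, QuotientGroup.mk'_apply]
        exact (QuotientGroup.eq_one_iff r').2 this)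
      refine hKn R (lt_of_le_of_ne hUR hne) (hRT.trans inf_le_left) ⟨n.2, mem_normalizer_of_cj_le ?_⟩
      rintro _ ⟨_, ⟨r, hr, rfl⟩, rfl⟩
      refine ⟨n * r * n⁻¹, ?_, rfl⟩
      rw [SetLike.mem_coe, Subgroup.mem_comap, map_mul, map_mul, map_inv]
      exact (Subgroup.mem_normalizer_iff.1 hq (π r)).1 hr
    · refine (Lib.LocalEven2.dvd_card_of_pgroup_ne_bot S'.2 fun e => ?_).trans
        (Subgroup.card_dvd_of_le (Subgroup.map_mono fun t ht => hTK ht))
      obtain ⟨t, ht, htU⟩ := SetLike.exists_of_lt hTU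
      have h2 : π ⟨t, hTN ht⟩ ∈ (S' : Subgroup (↥N ⧸ U.subgroupOf N)) := ⟨⟨t, hTN ht⟩, ht, rfl⟩
      rw [e, Subgroup.mem_bot, hπ, QuotientGroup.mk'_apply, QuotientGroup.eq_one_iff] at h2
      exact htU h2
    · intro htop
      apply hNK
      intro n hn
      obtain ⟨m, hm, hme⟩ := (htop ▸ Subgroup.mem_top (π ⟨n, hn⟩) :
        π ⟨n, hn⟩ ∈ (K.subgroupOf N).map π)
      obtain ⟨z, hz, hzn⟩ := (QuotientGroup.mk'_eq_mk' _).1 hme
      have : m * z ∈ K.subgroupOf N := mul_mem hm (hker hz)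
      rw [hzn] at this
      exact this
  -- a disconnected quotient
  have hpN : p ∣ Nat.card (↥N ⧸ U.subgroupOf N) :=
    by_contra fun h => hconn (Lib.LocalEven2.connected_of_not_dvd_card h)
  let 𝒳 : Set (Subgroup G) := {Y | U ≤ Y ∧ Y ≤ N ∧ N ≤ Subgroup.normalizer (Y : Set G) ∧ p ∣ U.relIndex Y}
  obtain ⟨X, hX, hXmin⟩ := (Set.toFinite 𝒳).exists_minimal
    ⟨N, Subgroup.le_normalizer, le_rfl, Subgroup.le_normalizer, hpN⟩
  obtain ⟨hX1, hX2, hX3, hX4⟩ := hX
  have himg : ∀ Y : Subgroup G, Y ≤ N → N ≤ Subgroup.normalizer (Y : Set G) →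
      ((Y.subgroupOf N).map π).Normal ∧ Nat.card ↥((Y.subgroupOf N).map π) = U.relIndex Y := by
    intro Y hY hYn
    haveI := Subgroup.normal_subgroupOf_of_le_normalizer hYn
    refine ⟨Subgroup.Normal.map inferInstance π (QuotientGroup.mk'_surjective _), ?_⟩
    rw [← Subgroup.relIndex_ker, hπ, QuotientGroup.ker_mk', Subgroup.relIndex_subgroupOf hY]
  have hsmall : ∀ Y : Subgroup G, U ≤ Y → Y ≤ N → N ≤ Subgroup.normalizer (Y : Set G) →
      p ∣ U.relIndex Y → X ≤ Y := by
    intro Y hY1 hY2 hY3 hY4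
    obtain ⟨hXn, hXc⟩ := himg X hX2 hX3
    obtain ⟨hYn, hYc⟩ := himg Y hY2 hY3
    haveI := hXn
    haveI := hYn
    have h := S3058.result p hconn _ _ (hXc ▸ hX4) (hYc ▸ hY4)
    have hn : N ≤ Subgroup.normalizer ((X ⊓ Y : Subgroup G) : Set G) := fun n hn => by
      rw [mem_normalizer_iff_cj, cj_inf, mem_normalizer_iff_cj.1 (hX3 hn), mem_normalizer_iff_cj.1 (hY3 hn)]
    obtain ⟨-, hc⟩ := himg (X ⊓ Y) (inf_le_left.trans hX2) hn
    have hd : p ∣ U.relIndex (X ⊓ Y) := by
      refine hc ▸ h.trans (Subgroup.card_dvd_of_le ?_)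
      rintro q ⟨⟨a, ha, rfl⟩, ⟨b, hb, hbe⟩⟩
      obtain ⟨z, hz, hzab⟩ := (QuotientGroup.mk'_eq_mk' _).1 hbe
      refine ⟨a, ⟨ha, ?_⟩, rfl⟩
      have : b * z ∈ Y.subgroupOf N := mul_mem hb (hY1 hz)
      rw [hzab] at this
      exact this
    exact (hXmin ⟨le_inf hX1 hY1, inf_le_left.trans hX2, hn, hd⟩ inf_le_left).trans inf_le_right
  have hOk : ∀ a ∈ (Cfsg.pResidual p ↥X).map X.subtype, Ok p (S : Subgroup G) U a := by
    intro a ha
    refine ⟨hU, hag.2.1, ?_, hconn, X, ⟨hX1, hX2, hX3, hX4, hsmall⟩, ha⟩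
    refine le_antisymm ?_ (sup_le (le_normP'P hUp) (AG.centralizer_le hag))
    rw [← (AG.directProduct hag).2.2.2.2]
    exact sup_le ((normP'_le_centralizer hUp).trans le_sup_right) le_sup_left
  -- Frattini
  set R := T ⊓ X
  have hRi : ¬ p ∣ R.relIndex X :=
    not_dvd_relIndex_inf inf_le_right (S.2.to_le inf_le_left) hU.2 hX2 hX3
  have hRp : IsPGroup p ↥R := (S.2.to_le inf_le_left).to_le inf_le_left
  have hUR : U < R := lt_of_le_of_ne (le_inf hTU.le hX1) fun e => hRi (e ▸ hX4)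
  obtain ⟨k, hk, hkx⟩ := exists_frattini (inf_le_right : R ≤ X) hRp hRi (hX3 hx)
  have hXK : X ≤ K := by
    let P' : Sylow p ↥X := (hRp.comap_of_injective X.subtype X.subtype_injective).toSylow hRi
    have htop := Transfer.sylow_sup_pResidual (p := p) P'
    intro z hz
    haveI : (Cfsg.pResidual p ↥X).Normal := Transfer.pResidual_normal
    obtain ⟨r, hr, m, hm, hrm⟩ := Subgroup.mem_sup_of_normal_right.1
      (htop ▸ Subgroup.mem_top (⟨z, hz⟩ : ↥X))
    rw [show z = (r : G) * m from (congrArg Subtype.val hrm).symm]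
    refine mul_mem (hKn R hUR (inf_le_left.trans inf_le_left)
      ⟨hX2 r.2, Subgroup.le_normalizer (show (r : G) ∈ R from hr)⟩) ⟨hX2 m.2, ?_⟩
    refine ⟨[(U, (m : G)⁻¹)], 1, one_mem _, ?_, ⟨subset_rfl, trivial⟩, fun a _ => by simp⟩
    intro q hq
    rw [List.mem_singleton] at hq
    subst hq
    exact hOk _ ⟨m⁻¹, inv_mem hm, rfl⟩
  have hkN : k * x ∈ N := mul_mem (hX2 hk) hx
  have h1 : k * x ∈ K := hKn R hUR (inf_le_left.trans inf_le_left) ⟨hkN, hkx⟩
  have h2 := mul_mem (inv_mem (hXK hk)) h1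
  rw [inv_mul_cancel_left] at h2
  exact h2.2

/-- every conjugation inside `S` is realised by steps -/
theorem sw_all (S : Sylow p G) :
    ∀ (T : Subgroup G) (g : G), T ≤ (S : Subgroup G) → cj g T ≤ (S : Subgroup G) →
      SW p (S : Subgroup G) (T : Set G) g := by
  suffices H : ∀ (k : ℕ) (T : Subgroup G) (g : G), Nat.card (S : Subgroup G) - Nat.card T = k →
      T ≤ (S : Subgroup G) → cj g T ≤ (S : Subgroup G) → SW p (S : Subgroup G) (T : Set G) g from
    fun T g => H _ T g rfl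
  intro k
  induction k using Nat.strong_induction_on with
  | _ k ih =>
    intro T g hk hT hgT
    by_cases hTS : T = (S : Subgroup G)
    · subst hTS
      exact SW.of_normalizer (mem_normalizer_of_cj_le hgT)
    have hTle : Nat.card T ≤ Nat.card (S : Subgroup G) := Subgroup.card_le_of_le hT
    have ih' : ∀ (R : Subgroup G) (g : G), Nat.card T < Nat.card R → R ≤ (S : Subgroup G) →
        cj g R ≤ (S : Subgroup G) → SW p (S : Subgroup G) (R : Set G) g := fun R g' hR hRS hgR => by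
      have := Subgroup.card_le_of_le hRS
      exact ih _ (by omega) R g' rfl hRS hgR
    have hlt : T < (S : Subgroup G) := lt_of_le_of_ne hT hTS
    obtain ⟨k0, -, hext⟩ := exists_extr_cj S hT
    obtain ⟨U, hk0⟩ : ∃ U, cj k0 T = U := ⟨_, rfl⟩
    rw [hk0] at hext
    obtain ⟨n, hn, hle, heq⟩ := exists_adjust S.2 hext hk0
    have hk1 : cj (k0 * g⁻¹) (cj g T) = U := by rw [cj_cj, inv_mul_cancel_right, hk0]
    obtain ⟨m, hm, hle', heq'⟩ := exists_adjust S.2 hext hk1
    set a := n * k0 with ha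
    set b := m * (k0 * g⁻¹) with hb
    have hlt' : cj g T < (S : Subgroup G) := lt_of_le_of_ne hgT (fun e => by
      have := card_cj g T
      rw [e] at this
      exact hTS (Subgroup.eq_of_le_of_card_ge hT this.le))
    have hgrow := card_lt_nS S.2 hlt
    have hgrow' := card_lt_nS S.2 hlt'
    rw [card_cj] at hgrow'
    have hx : b * g * a⁻¹ ∈ Subgroup.normalizer (U : Set G) := by
      rw [mem_normalizer_iff_cj]
      conv_lhs => rw [← heq]
      rw [cj_cj, inv_mul_cancel_right, ← cj_cj, heq']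
    have c1 : SW p (S : Subgroup G) (T : Set G) a :=
      (ih' _ a hgrow inf_le_left (hle.trans inf_le_left)).mono (le_nS hT)
    have c3 : SW p (S : Subgroup G) (U : Set G) b⁻¹ := by
      have hR : cj b (nS (S : Subgroup G) (cj g T)) ≤ (S : Subgroup G) := hle'.trans inf_le_left
      refine (ih' _ b⁻¹ (by rw [card_cj]; exact hgrow') hR ?_).mono ?_
      · rw [cj_inv_cj]; exact inf_le_left
      · have : U ≤ cj b (nS (S : Subgroup G) (cj g T)) := by
          rw [← heq']; exact cj_le_cj (le_nS hgT)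
        exact this
    have e1 : cs a (T : Set G) = (U : Set G) := by rw [cs_subgroup, heq]
    have hUT : Nat.card U = Nat.card T := by rw [← hk0, card_cj]
    have c2 : SW p (S : Subgroup G) (U : Set G) (b * g * a⁻¹) :=
      sw_extr S hext (fun R g' hR => ih' R g' (by omega)) hx
    have e2 : cs (b * g * a⁻¹ * a) (T : Set G) = (U : Set G) := by
      rw [← cs_cs, e1, cs_subgroup, mem_normalizer_iff_cj.1 hx]
    have c12 := SW.comp c1 (by rw [e1]; exact c2)
    have : g = b⁻¹ * (b * g * a⁻¹ * a) := by group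
    rw [this]
    exact .comp c12 (by rw [e2]; exact c3)

end Cfsg.Agent.Lib.FusionControl.Strong
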