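import Cfsg.Agent.Lib.FusionControl.CoprimeOffender

/-!
The transvection geometry of offenders of prime order in a group `H` acting faithfully on `V`
with `C_H(O_{p'}(H)) ≤ O_{p'}(H)`: two of them either commute or generate a copy of `SL₂(p)`.
-/

set_option autoImplicit false

open scoped IsMulCommutative commutatorElement

namespace Cfsg.Agent.Lib.FusionControl.CoprimeOffender

universe u

variable {G : Type u} [Group G] {p : ℕ} {V H X Y : Subgroup G}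

/-- `O_{p'}(H)` as a subgroup of `G` -/
def K0 (p : ℕ) (H : Subgroup G) : Subgroup G := (Cfsg.pPrimeCore p ↥H).map H.subtype

/-- offenders of prime order -/
structure IsTv (p : ℕ) (V H X : Subgroup G) : Prop where
  le : X ≤ H
  card : Nat.card X = p
  fv_eq : fv V X = Nat.card V

/-- the axis -/
def Ax (V X : Subgroup G) : Subgroup G := V ⊓ Subgroup.centralizer (X : Set G)

/-- the centre -/
def Ce (V X : Subgroup G) : Subgroup G := ⁅V, X⁆

/-- elementwise commuting subgroups -/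
def Comm (X Y : Subgroup G) : Prop := ∀ a ∈ X, ∀ b ∈ Y, a * b = b * a

/-- conjugate subgroup -/
def cj (g : G) (X : Subgroup G) : Subgroup G := X.map (MulAut.conj g).toMonoidHom

theorem Comm.symm (h : Comm X Y) : Comm Y X := fun a ha b hb => (h b hb a ha).symm

theorem mem_cj {g x : G} : x ∈ cj g X ↔ ∃ a ∈ X, g * a * g⁻¹ = x := Iff.rfl

theorem cj_mul (g g' : G) : cj (g * g') X = cj g (cj g' X) := by
  unfold cj
  rw [Subgroup.map_map]
  congr 1
  ext x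
  simp [mul_assoc]

theorem cj_one : cj 1 X = X := by
  unfold cj
  convert Subgroup.map_id X using 2
  ext x
  simp

theorem cj_inv_cj (g : G) : cj g⁻¹ (cj g X) = X := by rw [← cj_mul, inv_mul_cancel, cj_one]

theorem cj_of_mem {g : G} (hg : g ∈ X) : cj g X = X := by
  refine le_antisymm ?_ fun x hx => ⟨g⁻¹ * x * g, mul_mem (mul_mem (inv_mem hg) hx) hg, by
    simp [mul_assoc]⟩
  rintro _ ⟨a, ha, rfl⟩
  exact mul_mem (mul_mem hg ha) (inv_mem hg)

theorem card_cj (g : G) : Nat.card ↥(cj g X) = Nat.card X :=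
  (Nat.card_congr (X.equivMapOfInjective (MulAut.conj g).toMonoidHom (MulAut.conj g).injective).toEquiv).symm

theorem cj_inf_centralizer (g : G) (hg : g ∈ Subgroup.normalizer (V : Set G)) :
    cj g (Ax V X) = Ax V (cj g X) := by
  ext x
  constructor
  · rintro ⟨v, hv, rfl⟩
    refine ⟨(Subgroup.mem_normalizer_iff.mp hg v).mp hv.1, Subgroup.mem_centralizer_iff.mpr ?_⟩
    rintro _ ⟨a, ha, rfl⟩
    have := Subgroup.mem_centralizer_iff.mp hv.2 a ha
    show (g * a * g⁻¹) * (g * v * g⁻¹) = (g * v * g⁻¹) * (g * a * g⁻¹)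
    calc (g * a * g⁻¹) * (g * v * g⁻¹) = g * (a * v) * g⁻¹ := by group
      _ = g * (v * a) * g⁻¹ := by rw [this]
      _ = _ := by group
  · rintro ⟨hxV, hxC⟩
    refine ⟨g⁻¹ * x * g, ⟨(Subgroup.mem_normalizer_iff''.mp hg x).mp hxV, ?_⟩, by simp [mul_assoc]⟩
    refine Subgroup.mem_centralizer_iff.mpr fun a ha => ?_
    have := Subgroup.mem_centralizer_iff.mp hxC _ ⟨a, ha, rfl⟩
    change (g * a * g⁻¹) * x = x * (g * a * g⁻¹) at this
    calc a * (g⁻¹ * x * g) = g⁻¹ * ((g * a * g⁻¹) * x) * g := by group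
      _ = g⁻¹ * (x * (g * a * g⁻¹)) * g := by rw [this]
      _ = _ := by group

variable [Finite G] [hp : Fact p.Prime]

theorem Ctx.K0_le (_hc : Ctx p V H) : K0 p H ≤ H := Subgroup.map_subtype_le _

theorem Ctx.K0_conj (_hc : Ctx p V H) {h k : G} (hh : h ∈ H) (hk : k ∈ K0 p H) :
    h * k * h⁻¹ ∈ K0 p H := by
  obtain ⟨k', hk', rfl⟩ := hk
  exact ⟨⟨h, hh⟩ * k' * ⟨h, hh⟩⁻¹, (inferInstance : (Cfsg.pPrimeCore p ↥H).Normal).conj_mem _ hk' _, rfl⟩

theorem Ctx.eq_one_of_K0 (_hc : Ctx p V H) {x : G} (hx : x ∈ K0 p H) (hxp : x ^ p = 1) : x = 1 := by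
  have hK : (Nat.card ↥(K0 p H)).Coprime p :=
    Nat.Coprime.coprime_dvd_left (Subgroup.card_map_dvd _ _) (Cores.pPrimeCore_coprime p ↥H)
  exact orderOf_eq_one_iff.mp (Nat.eq_one_of_dvd_coprimes hK (Subgroup.orderOf_dvd_natCard _ hx)
    (orderOf_dvd_of_pow_eq_one hxp))

theorem Ctx.comm_V (hc : Ctx p V H) {v w : G} (hv : v ∈ V) (hw : w ∈ V) : v * w = w * v :=
  mul_comm_of_elem hc.elem hv hw

theorem Ctx.conj_mem_V (hc : Ctx p V H) {g v : G} (hg : g ∈ H) (hv : v ∈ V) : g * v * g⁻¹ ∈ V :=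
  (Subgroup.mem_normalizer_iff.mp (hc.norm hg) v).mp hv

theorem Ctx.bracket_mem_V (hc : Ctx p V H) {g v : G} (hg : g ∈ H) (hv : v ∈ V) : ⁅g, v⁆ ∈ V :=
  mul_mem (hc.conj_mem_V hg hv) (inv_mem hv)

theorem Ctx.bracket_mul (hc : Ctx p V H) {g v w : G} (hg : g ∈ H) (hv : v ∈ V) (hw : w ∈ V) :
    ⁅g, v * w⁆ = ⁅g, v⁆ * ⁅g, w⁆ := by
  have e := hc.comm_V (hc.bracket_mem_V hg hw) (inv_mem hv)
  calc ⁅g, v * w⁆ = g * v * g⁻¹ * (⁅g, w⁆ * v⁻¹) := by simp [commutatorElement_def, mul_assoc]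
    _ = g * v * g⁻¹ * (v⁻¹ * ⁅g, w⁆) := by rw [e]
    _ = ⁅g, v⁆ * ⁅g, w⁆ := by simp [commutatorElement_def, mul_assoc]

/-- an element moving `V` into a subgroup which it centralises has order dividing `p` -/
theorem Ctx.pow_eq_one_of_unip (hc : Ctx p V H) {g : G} (hg : g ∈ H) (U : Subgroup G) (hUV : U ≤ V)
    (hfix : ∀ u ∈ U, g * u = u * g) (hmove : ∀ v ∈ V, ⁅g, v⁆ ∈ U) : g ^ p = 1 := by
  refine hc.eq_one (pow_mem hg p) (Subgroup.mem_centralizer_iff.mpr fun v hv => ?_)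
  have key : ∀ n : ℕ, g ^ n * v * (g ^ n)⁻¹ = ⁅g, v⁆ ^ n * v := by
    intro n
    induction n with
    | zero => simp
    | succ n ih =>
      have e : Commute g (⁅g, v⁆ ^ n) := Commute.pow_right (hfix _ (hmove v hv)) n
      calc g ^ (n + 1) * v * (g ^ (n + 1))⁻¹ = g * (g ^ n * v * (g ^ n)⁻¹) * g⁻¹ := by
            rw [pow_succ' g n]; group
        _ = (g * ⁅g, v⁆ ^ n) * v * g⁻¹ := by rw [ih]; group
        _ = ⁅g, v⁆ ^ n * (g * v * g⁻¹ * v⁻¹) * v := by rw [e.eq]; group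
        _ = ⁅g, v⁆ ^ (n + 1) * v := by rw [pow_succ, commutatorElement_def]
  have := key p
  rw [hc.elem.2 _ (hUV (hmove v hv)), one_mul, mul_inv_eq_iff_eq_mul] at this
  exact this.symm

namespace IsTv

theorem elem (h : IsTv p V H X) : Cfsg.IsElementaryAbelian p X := by
  have : IsCyclic X := isCyclic_of_prime_card h.card
  refine ⟨inferInstance, fun a ha => orderOf_dvd_iff_pow_eq_one.mp ?_⟩
  have := Subgroup.orderOf_dvd_natCard _ ha
  rwa [h.card] at this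

theorem ne_bot (h : IsTv p V H X) : X ≠ ⊥ := fun e => hp.out.ne_one (by
  rw [← h.card, e, Subgroup.card_bot])

theorem exists_gen (h : IsTv p V H X) : ∃ a ∈ X, a ≠ 1 :=
  (X.bot_or_exists_ne_one).resolve_left h.ne_bot

theorem zpowers_eq (h : IsTv p V H X) {a : G} (ha : a ∈ X) (ha1 : a ≠ 1) :
    Subgroup.zpowers a = X := by
  refine Subgroup.eq_of_le_of_card_ge (Subgroup.zpowers_le.mpr ha) ?_
  rw [Nat.card_zpowers, h.card, orderOf_eq_prime (h.elem.2 a ha) ha1]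

theorem commute_all (h : IsTv p V H X) {a x : G} (ha : a ∈ X) (ha1 : a ≠ 1) (hax : a * x = x * a) :
    ∀ b ∈ X, b * x = x * b := by
  intro b hb
  rw [← h.zpowers_eq ha ha1] at hb
  obtain ⟨i, rfl⟩ := hb
  exact (Commute.zpow_left hax i).eq

theorem conj (h : IsTv p V H X) (hc : Ctx p V H) {g : G} (hg : g ∈ H) : IsTv p V H (cj g X) := by
  refine ⟨?_, (card_cj g).trans h.card, ?_⟩
  · rintro _ ⟨a, ha, rfl⟩
    exact mul_mem (mul_mem hg (h.le ha)) (inv_mem hg)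
  · have e : V ⊓ Subgroup.centralizer ((cj g X : Subgroup G) : Set G) = cj g (Ax V X) :=
      (cj_inf_centralizer g (hc.norm hg)).symm
    rw [fv, e, card_cj, card_cj]
    exact h.fv_eq

theorem relIndex_ax (h : IsTv p V H X) : (Ax V X).relIndex V = p := by
  have h1 : Nat.card ↥(Ax V X) * (Ax V X).relIndex V = Nat.card V := by
    rw [← Subgroup.relIndex_bot_left (Ax V X), ← Subgroup.relIndex_bot_left V]
    exact Subgroup.relIndex_mul_relIndex ⊥ _ V bot_le inf_le_left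
  have h2 : p * Nat.card ↥(Ax V X) = Nat.card V := by
    have := h.fv_eq
    rw [fv, h.card] at this
    exact this
  rw [mul_comm] at h1
  exact Nat.eq_of_mul_eq_mul_right Nat.card_pos (h1.trans h2.symm)

theorem card_ax_mul (h : IsTv p V H X) : p * Nat.card ↥(Ax V X) = Nat.card V := by
  have := h.fv_eq
  rw [fv, h.card] at this
  exact this

theorem exists_not_mem_ax (h : IsTv p V H X) : ∃ v ∈ V, v ∉ Ax V X := by
  by_contra hno
  push_neg at hno
  have := h.relIndex_ax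
  rw [Subgroup.relIndex_eq_one.mpr hno] at this
  exact hp.out.ne_one this.symm

theorem bracket_eq_one_iff (h : IsTv p V H X) {a v : G} (ha : a ∈ X) (ha1 : a ≠ 1) (hv : v ∈ V) :
    ⁅a, v⁆ = 1 ↔ v ∈ Ax V X := by
  rw [commutatorElement_eq_one_iff_mul_comm]
  refine ⟨fun e => ⟨hv, Subgroup.mem_centralizer_iff.mpr (h.commute_all ha ha1 e)⟩, fun hx => ?_⟩
  exact Subgroup.mem_centralizer_iff.mp hx.2 a ha

theorem bracket_mem_ce {a v : G} (ha : a ∈ X) (hv : v ∈ V) : ⁅a, v⁆ ∈ Ce V X := by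
  rw [← commutatorElement_inv v a]
  exact inv_mem (Subgroup.commutator_mem_commutator hv ha)

theorem ce_le_V (h : IsTv p V H X) (hc : Ctx p V H) : Ce V X ≤ V :=
  Subgroup.le_normalizer_iff_commutator_le_left.mp (h.le.trans hc.norm)

theorem bracket_le_ax (h : IsTv p V H X) (hc : Ctx p V H) {a : G} (ha : a ∈ X) {v : G} (hv : v ∈ V) :
    ⁅a, v⁆ ∈ Ax V X := by
  rcases eq_or_ne a 1 with rfl | ha1
  · rw [commutatorElement_one_left]; exact one_mem _
  by_contra hno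
  set u := ⁅a, v⁆ with hu
  have huV : u ∈ V := hc.bracket_mem_V (h.le ha) hv
  -- `u` lies in the iterated commutator, which gets strictly smaller
  have hne : Ce V X ≠ ⊥ := fun e => hno (by
    have := bracket_mem_ce (V := V) ha hv
    rw [e, Subgroup.mem_bot] at this
    rw [hu, this]; exact one_mem _)
  have hVp := isPGroup_of_elem hc.elem
  have hlt := Cfsg.Agent.Lib.Coprime.commutator_lt_of_isPGroup (hVp.to_le (h.ce_le_V hc))
    (isPGroup_of_elem h.elem) (Subgroup.normalizer_commutator_ge_right V X) hne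
  refine hlt.not_ge ?_
  have hd : (Ce V X ⊔ Ax V X).relIndex V ∣ p :=
    h.relIndex_ax ▸ Subgroup.relIndex_dvd_of_le_left V le_sup_right
  rcases (Nat.dvd_prime hp.out).mp hd with e | e
  · have hVle : V ≤ Ce V X ⊔ Ax V X := Subgroup.relIndex_eq_one.mp e
    refine Subgroup.commutator_le.mpr fun x hx b hb => ?_
    have hx' : x ∈ (↑(Ce V X ⊔ Ax V X) : Set G) := hVle hx
    rw [Subgroup.coe_mul_of_left_le_normalizer_right (Ce V X) (Ax V X) (fun w hw => by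
      rw [Subgroup.mem_normalizer_iff]
      intro y
      have hwV := h.ce_le_V hc hw
      constructor
      · intro hy
        rwa [hc.comm_V hwV hy.1, mul_inv_cancel_right]
      · intro hy
        have e1 : w * y * w⁻¹ = y := by
          calc w * y * w⁻¹ = w⁻¹ * (w * (w * y * w⁻¹)) := by group
            _ = w⁻¹ * ((w * y * w⁻¹) * w) := by rw [hc.comm_V hwV hy.1]
            _ = y := by group
        rwa [e1] at hy)] at hx'
    obtain ⟨w, hw, c, hc', rfl⟩ := hx'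
    have e2 : Commute b c := Subgroup.mem_centralizer_iff.mp hc'.2 b hb
    have e3 : ⁅w * c, b⁆ = ⁅w, b⁆ := by
      calc ⁅w * c, b⁆ = w * (c * b) * c⁻¹ * w⁻¹ * b⁻¹ := by rw [commutatorElement_def]; group
        _ = w * (b * c) * c⁻¹ * w⁻¹ * b⁻¹ := by rw [e2.eq]
        _ = ⁅w, b⁆ := by rw [commutatorElement_def]; group
    simp only [e3]
    exact Subgroup.commutator_mem_commutator hw hb
  · have h1 := Subgroup.relIndex_mul_relIndex (Ax V X) (Ce V X ⊔ Ax V X) V le_sup_right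
      (sup_le (h.ce_le_V hc) inf_le_left)
    rw [e, h.relIndex_ax] at h1
    exact absurd ((Subgroup.relIndex_eq_one.mp (Nat.eq_of_mul_eq_mul_right hp.out.pos
      (h1.trans (one_mul p).symm))) (Subgroup.mem_sup_left (bracket_mem_ce ha hv))) hno

theorem commute_bracket (h : IsTv p V H X) (hc : Ctx p V H) {a b v : G} (ha : a ∈ X) (hb : b ∈ X)
    (hv : v ∈ V) : b * ⁅a, v⁆ = ⁅a, v⁆ * b :=
  Subgroup.mem_centralizer_iff.mp (h.bracket_le_ax hc ha hv).2 b hb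

/-- the centre is generated by any nontrivial bracket -/
theorem ce_eq (h : IsTv p V H X) (hc : Ctx p V H) {a v : G} (ha : a ∈ X) (ha1 : a ≠ 1)
    (hv : v ∈ V) (hvA : v ∉ Ax V X) : Ce V X = Subgroup.zpowers ⁅a, v⁆ := by
  refine le_antisymm (Subgroup.commutator_le.mpr fun x hx b hb => ?_)
    (Subgroup.zpowers_le.mpr (bracket_mem_ce ha hv))
  rw [← commutatorElement_inv b x]
  refine inv_mem ?_
  obtain ⟨j, rfl⟩ : ∃ j : ℕ, a ^ j = b := by
    rw [← h.zpowers_eq ha ha1] at hb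
    exact mem_powers_iff_mem_zpowers.mpr hb
  have hax : (Ax V X).subgroupOf V ≠ ⊤ := fun e => hvA (by
    have : (⟨v, hv⟩ : ↥V) ∈ (Ax V X).subgroupOf V := e ▸ Subgroup.mem_top _
    exact this)
  have : ((Ax V X).subgroupOf V).Normal := by
    have := hc.elem.1
    infer_instance
  have hne0 : (QuotientGroup.mk' ((Ax V X).subgroupOf V) ⟨v, hv⟩) ≠ 1 := fun e =>
    hvA (Subgroup.mem_subgroupOf.mp ((QuotientGroup.eq_one_iff _).mp e))
  obtain ⟨i, hi⟩ := mem_powers_of_prime_card (g' := QuotientGroup.mk' ((Ax V X).subgroupOf V) ⟨x, hx⟩)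
    (p := p) h.relIndex_ax hne0
  simp only at hi
  rw [← map_pow] at hi
  have hu := Subgroup.mem_subgroupOf.mp ((QuotientGroup.eq).mp hi)
  simp only [Subgroup.coe_mul, InvMemClass.coe_inv, SubmonoidClass.coe_pow] at hu
  have key : ∀ n : ℕ, ∀ y ∈ V, ⁅a ^ n, y⁆ = ⁅a, y⁆ ^ n := by
    intro n y hy
    induction n with
    | zero => simp
    | succ n ih =>
      have e : Commute a (⁅a, y⁆ ^ n) := Commute.pow_right (h.commute_bracket hc ha ha hy) n
      calc ⁅a ^ (n + 1), y⁆ = a * ⁅a ^ n, y⁆ * (y * a⁻¹ * y⁻¹) := by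
            rw [pow_succ' a n, commutatorElement_def, commutatorElement_def]; group
        _ = (a * ⁅a, y⁆ ^ n) * (y * a⁻¹ * y⁻¹) := by rw [ih]
        _ = ⁅a, y⁆ ^ n * ⁅a, y⁆ := by rw [e.eq, commutatorElement_def]; group
        _ = ⁅a, y⁆ ^ (n + 1) := (pow_succ _ _).symm
  have hmul : ∀ n : ℕ, ⁅a, v ^ n⁆ = ⁅a, v⁆ ^ n := by
    intro n
    induction n with
    | zero => simp
    | succ n ih => rw [pow_succ, hc.bracket_mul (h.le ha) (pow_mem hv n) hv, ih, pow_succ]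
  have hxe : x = v ^ i * ((v ^ i)⁻¹ * x) := by group
  rw [key j x hx, hxe, hc.bracket_mul (h.le ha) (pow_mem hv i) (mul_mem (inv_mem (pow_mem hv i)) hx),
    (h.bracket_eq_one_iff ha ha1 (mul_mem (inv_mem (pow_mem hv i)) hx)).mpr hu, mul_one, hmul]
  exact pow_mem (pow_mem (Subgroup.mem_zpowers _) i) j

theorem card_ce (h : IsTv p V H X) (hc : Ctx p V H) : Nat.card ↥(Ce V X) = p := by
  obtain ⟨a, ha, ha1⟩ := h.exists_gen
  obtain ⟨v, hv, hvA⟩ := h.exists_not_mem_ax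
  rw [h.ce_eq hc ha ha1 hv hvA, Nat.card_zpowers]
  exact orderOf_eq_prime (hc.elem.2 _ (hc.bracket_mem_V (h.le ha) hv))
    fun e => hvA ((h.bracket_eq_one_iff ha ha1 hv).mp e)

theorem ce_le_ax (h : IsTv p V H X) (hc : Ctx p V H) : Ce V X ≤ Ax V X := by
  obtain ⟨a, ha, ha1⟩ := h.exists_gen
  obtain ⟨v, hv, hvA⟩ := h.exists_not_mem_ax
  rw [h.ce_eq hc ha ha1 hv hvA]
  exact Subgroup.zpowers_le.mpr (h.bracket_le_ax hc ha hv)

theorem zpowers_ce (h : IsTv p V H X) (hc : Ctx p V H) {w : G} (hw : w ∈ Ce V X) (hw1 : w ≠ 1) :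
    Subgroup.zpowers w = Ce V X := by
  refine Subgroup.eq_of_le_of_card_ge (Subgroup.zpowers_le.mpr hw) ?_
  rw [Nat.card_zpowers, h.card_ce hc, orderOf_eq_prime (hc.elem.2 w (h.ce_le_V hc hw)) hw1]

theorem ce_inf_eq_bot_of_not_le (h : IsTv p V H X) (hc : Ctx p V H) {U : Subgroup G}
    (hU : ¬ Ce V X ≤ U) : Ce V X ⊓ U = ⊥ :=
  le_bot_iff.mp fun x hx => Subgroup.mem_bot.mpr (by
    by_contra hx1
    exact hU (h.zpowers_ce hc hx.1 hx1 ▸ Subgroup.zpowers_le.mpr hx.2))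

theorem le_of_mem (h : IsTv p V H X) (hc : Ctx p V H) {U : Subgroup G} {w : G} (hw : w ∈ Ce V X)
    (hw1 : w ≠ 1) (hwU : w ∈ U) : Ce V X ≤ U :=
  h.zpowers_ce hc hw hw1 ▸ Subgroup.zpowers_le.mpr hwU

end IsTv

theorem bracket_conj_eq {a b v : G} (hab : a * b = b * a) :
    b * ⁅a, v⁆ * b⁻¹ = ⁅a, b * v * b⁻¹⁆ := by
  have e : b * a⁻¹ = a⁻¹ * b := (Commute.inv_left (hab : Commute a b)).eq.symm
  calc b * ⁅a, v⁆ * b⁻¹ = (b * a) * v * (a⁻¹ * v⁻¹ * b⁻¹) := by rw [commutatorElement_def]; group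
    _ = a * (b * v * b⁻¹) * ((b * a⁻¹) * v⁻¹ * b⁻¹) := by rw [← hab]; group
    _ = a * (b * v * b⁻¹) * ((a⁻¹ * b) * v⁻¹ * b⁻¹) := by rw [e]
    _ = ⁅a, b * v * b⁻¹⁆ := by rw [commutatorElement_def]; group

theorem Ctx.ce_le_ax_of_comm (hc : Ctx p V H) (hX : IsTv p V H X) (hY : IsTv p V H Y)
    (h : Comm X Y) : Ce V X ≤ Ax V Y := by
  by_cases he : Ce V X = Ce V Y
  · rw [he]; exact hY.ce_le_ax hc
  obtain ⟨a, ha, ha1⟩ := hX.exists_gen
  obtain ⟨b, hb, hb1⟩ := hY.exists_gen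
  obtain ⟨v, hv, hvA⟩ := hX.exists_not_mem_ax
  have hav := IsTv.bracket_mem_ce (V := V) ha hv
  have key : ⁅b, ⁅a, v⁆⁆ = ⁅a, ⁅b, v⁆⁆ := by
    have e1 : b * v * b⁻¹ = ⁅b, v⁆ * v := by rw [commutatorElement_def]; group
    have e2 := bracket_conj_eq (v := v) (h a ha b hb)
    rw [e1, hc.bracket_mul (hX.le ha) (hc.bracket_mem_V (hY.le hb) hv) hv] at e2
    calc ⁅b, ⁅a, v⁆⁆ = (b * ⁅a, v⁆ * b⁻¹) * ⁅a, v⁆⁻¹ := by rw [commutatorElement_def b]
      _ = ⁅a, ⁅b, v⁆⁆ := by rw [e2, mul_inv_cancel_right]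
  have h1 : ⁅b, ⁅a, v⁆⁆ ∈ Ce V X ⊓ Ce V Y := ⟨key ▸ IsTv.bracket_mem_ce ha (hc.bracket_mem_V (hY.le hb) hv),
    IsTv.bracket_mem_ce hb (hc.bracket_mem_V (hX.le ha) hv)⟩
  have h2 : Ce V X ⊓ Ce V Y = ⊥ := hX.ce_inf_eq_bot_of_not_le hc fun hle => he
    (Subgroup.eq_of_le_of_card_ge hle (by rw [hX.card_ce hc, hY.card_ce hc]))
  rw [h2, Subgroup.mem_bot] at h1
  refine hX.le_of_mem hc hav (fun e => hvA ((hX.bracket_eq_one_iff ha ha1 hv).mp e)) ?_
  exact (hY.bracket_eq_one_iff hb hb1 (hc.bracket_mem_V (hX.le ha) hv)).mp h1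

theorem Ctx.conj_conj_eq (_hc : Ctx p V H) {a b v : G} (_ha : a ∈ H) (_hb : b ∈ H) (_hv : v ∈ V) :
    a * b * v * (a * b)⁻¹ = ⁅a, ⁅b, v⁆⁆ * ⁅b, v⁆ * (⁅a, v⁆ * v) := by
  simp [commutatorElement_def, mul_assoc]

theorem Ctx.comm_of_both (hc : Ctx p V H) (hX : IsTv p V H X) (hY : IsTv p V H Y)
    (h1 : Ce V X ≤ Ax V Y) (h2 : Ce V Y ≤ Ax V X) : Comm X Y := by
  intro a ha b hb
  have haH := hX.le ha
  have hbH := hY.le hb
  refine (eq_of_mul_inv_eq_one (hc.eq_one (mul_mem (mul_mem haH hbH) (inv_mem (mul_mem hbH haH))) ?_))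
  refine Subgroup.mem_centralizer_iff.mpr fun x hx => ?_
  set v := (b * a)⁻¹ * x * (b * a) with hv'
  have hv : v ∈ V := (Subgroup.mem_normalizer_iff''.mp (hc.norm (mul_mem hbH haH)) x).mp hx
  have e1 : ⁅a, ⁅b, v⁆⁆ = 1 := commutatorElement_eq_one_iff_mul_comm.mpr
    (Subgroup.mem_centralizer_iff.mp (h2 (IsTv.bracket_mem_ce hb hv)).2 a ha)
  have e2 : ⁅b, ⁅a, v⁆⁆ = 1 := commutatorElement_eq_one_iff_mul_comm.mpr
    (Subgroup.mem_centralizer_iff.mp (h1 (IsTv.bracket_mem_ce ha hv)).2 b hb)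
  have e : a * b * v * (a * b)⁻¹ = b * a * v * (b * a)⁻¹ := by
    rw [hc.conj_conj_eq haH hbH hv, hc.conj_conj_eq hbH haH hv, e1, e2, one_mul, one_mul,
      ← mul_assoc ⁅b, v⁆, ← mul_assoc ⁅a, v⁆, hc.comm_V (hc.bracket_mem_V hbH hv) (hc.bracket_mem_V haH hv)]
  have e' : a * b * (b * a)⁻¹ * x * (a * b * (b * a)⁻¹)⁻¹ = x := by
    calc a * b * (b * a)⁻¹ * x * (a * b * (b * a)⁻¹)⁻¹ = a * b * v * (a * b)⁻¹ := by
          rw [hv']; group
      _ = b * a * v * (b * a)⁻¹ := e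
      _ = x := by rw [hv']; group
  exact (mul_inv_eq_iff_eq_mul.mp e').symm

/-- The commutator of `a` and `b` when the centre of `Y` lies in the axis of `X`. -/
theorem Ctx.commutator_of_le (hc : Ctx p V H) (hX : IsTv p V H X) (hY : IsTv p V H Y)
    (h2 : Ce V Y ≤ Ax V X) {a b : G} (ha : a ∈ X) (hb : b ∈ Y) :
    (∀ u ∈ Ce V Y, (a * b * (b * a)⁻¹) * u = u * (a * b * (b * a)⁻¹)) ∧
    (∀ x ∈ V, ⁅a * b * (b * a)⁻¹, x⁆ = ⁅b, ⁅a, (b * a)⁻¹ * x * (b * a)⁆⁆⁻¹) ∧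
    (a * b * (b * a)⁻¹) ^ p = 1 := by
  have haH := hX.le ha
  have hbH := hY.le hb
  have hfix : ∀ u ∈ Ce V Y, (a * b * (b * a)⁻¹) * u = u * (a * b * (b * a)⁻¹) := by
    intro u hu
    have c1 : Commute u a := (Subgroup.mem_centralizer_iff.mp (h2 hu).2 a ha).symm
    have c2 : Commute u b := (Subgroup.mem_centralizer_iff.mp (hY.ce_le_ax hc hu).2 b hb).symm
    exact (((c1.mul_right c2).mul_right (c2.mul_right c1).inv_right)).eq.symm
  have hmove : ∀ x ∈ V, ⁅a * b * (b * a)⁻¹, x⁆ = ⁅b, ⁅a, (b * a)⁻¹ * x * (b * a)⁆⁆⁻¹ := by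
    intro x hx
    set v := (b * a)⁻¹ * x * (b * a) with hv'
    have hv : v ∈ V := (Subgroup.mem_normalizer_iff''.mp (hc.norm (mul_mem hbH haH)) x).mp hx
    have e1 : ⁅a, ⁅b, v⁆⁆ = 1 := commutatorElement_eq_one_iff_mul_comm.mpr
      (Subgroup.mem_centralizer_iff.mp (h2 (IsTv.bracket_mem_ce hb hv)).2 a ha)
    have E := hc.bracket_mem_V hbH (hc.bracket_mem_V haH hv)
    have hP : ⁅b, v⁆ * (⁅a, v⁆ * v) ∈ V :=
      mul_mem (hc.bracket_mem_V hbH hv) (mul_mem (hc.bracket_mem_V haH hv) hv)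
    have ex : x = ⁅b, ⁅a, v⁆⁆ * (⁅b, v⁆ * (⁅a, v⁆ * v)) := by
      calc x = b * a * v * (b * a)⁻¹ := by rw [hv']; group
        _ = ⁅b, ⁅a, v⁆⁆ * (⁅a, v⁆ * ⁅b, v⁆) * v := by
          rw [hc.conj_conj_eq hbH haH hv]; simp only [mul_assoc]
        _ = ⁅b, ⁅a, v⁆⁆ * (⁅b, v⁆ * (⁅a, v⁆ * v)) := by
          rw [hc.comm_V (hc.bracket_mem_V haH hv) (hc.bracket_mem_V hbH hv)]; simp only [mul_assoc]
    calc ⁅a * b * (b * a)⁻¹, x⁆ = a * b * v * (a * b)⁻¹ * x⁻¹ := by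
          rw [commutatorElement_def, hv']; group
      _ = ⁅b, v⁆ * (⁅a, v⁆ * v) * x⁻¹ := by rw [hc.conj_conj_eq haH hbH hv, e1, one_mul]
      _ = ⁅b, ⁅a, v⁆⁆⁻¹ := by
        rw [show x⁻¹ = (⁅b, v⁆ * (⁅a, v⁆ * v))⁻¹ * ⁅b, ⁅a, v⁆⁆⁻¹ from
          (congrArg (fun y : G => y⁻¹) ex).trans (mul_inv_rev _ _), mul_inv_cancel_left]
  refine ⟨hfix, hmove, hc.pow_eq_one_of_unip
    (mul_mem (mul_mem haH hbH) (inv_mem (mul_mem hbH haH))) (Ce V Y) (hY.ce_le_V hc) hfix fun x hx => ?_⟩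
  rw [hmove x hx]
  exact inv_mem (IsTv.bracket_mem_ce hb (hc.bracket_mem_V haH
    ((Subgroup.mem_normalizer_iff''.mp (hc.norm (mul_mem hbH haH)) x).mp hx)))

theorem Ctx.not_comm_conj (hc : Ctx p V H) (hX : IsTv p V H X) {a k : G} (ha : a ∈ X)
    (hk : k ∈ K0 p H) (hne : a * k ≠ k * a) : ¬ Comm X (cj k X) := by
  intro h
  set b := k * a * k⁻¹ with hb
  have hab : Commute a b := h a ha b ⟨a, ha, rfl⟩
  have hK : a * b⁻¹ ∈ K0 p H := by
    rw [show a * b⁻¹ = a * k * a⁻¹ * k⁻¹ by rw [hb]; group]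
    exact mul_mem (hc.K0_conj (hX.le ha) hk) (inv_mem hk)
  have hpow : (a * b⁻¹) ^ p = 1 := by
    rw [hab.inv_right.mul_pow, hX.elem.2 a ha, one_mul, inv_pow, hb, conj_pow, hX.elem.2 a ha]
    group
  have := hc.eq_one_of_K0 hK hpow
  rw [mul_inv_eq_one, hb] at this
  exact hne (mul_inv_eq_iff_eq_mul.mp this.symm).symm

theorem Ctx.not_le_conj (hc : Ctx p V H) (hX : IsTv p V H X) {a k : G} (ha : a ∈ X)
    (hk : k ∈ K0 p H) (hne : a * k ≠ k * a) :
    ¬ Ce V X ≤ Ax V (cj k X) ∧ ¬ Ce V (cj k X) ≤ Ax V X := by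
  have hY := hX.conj hc (hc.K0_le hk)
  have hzK : ∀ x ∈ X, ∀ y ∈ cj k X, x * y * (y * x)⁻¹ ∈ K0 p H := by
    rintro x hx _ ⟨c, hcX, rfl⟩
    have hcomm : x * c = c * x := mul_comm_of_elem hX.elem hx hcX
    show x * (k * c * k⁻¹) * (k * c * k⁻¹ * x)⁻¹ ∈ K0 p H
    have e : x * (k * c * k⁻¹) * (k * c * k⁻¹ * x)⁻¹ =
        (x * k * x⁻¹) * ((c * x) * k⁻¹ * (c * x)⁻¹) * (c * k * c⁻¹) * k⁻¹ := by
      calc x * (k * c * k⁻¹) * (k * c * k⁻¹ * x)⁻¹
          = x * k * x⁻¹ * ((x * c) * k⁻¹ * x⁻¹) * k * c⁻¹ * k⁻¹ := by group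
        _ = x * k * x⁻¹ * ((c * x) * k⁻¹ * x⁻¹) * k * c⁻¹ * k⁻¹ := by rw [hcomm]
        _ = (x * k * x⁻¹) * ((c * x) * k⁻¹ * (c * x)⁻¹) * (c * k * c⁻¹) * k⁻¹ := by group
    rw [e]
    exact mul_mem (mul_mem (mul_mem (hc.K0_conj (hX.le hx) hk)
      (hc.K0_conj (mul_mem (hX.le hcX) (hX.le hx)) (inv_mem hk))) (hc.K0_conj (hX.le hcX) hk)) (inv_mem hk)
  constructor
  · intro h
    refine hc.not_comm_conj hX ha hk hne fun x hx y hy => ?_
    have h1 := hc.eq_one_of_K0 (x := y * x * (x * y)⁻¹) (by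
      rw [show y * x * (x * y)⁻¹ = (x * y * (y * x)⁻¹)⁻¹ by group]
      exact inv_mem (hzK x hx y hy)) (hc.commutator_of_le hY hX h hy hx).2.2
    exact (eq_of_mul_inv_eq_one h1).symm
  · intro h
    refine hc.not_comm_conj hX ha hk hne fun x hx y hy => ?_
    exact eq_of_mul_inv_eq_one
      (hc.eq_one_of_K0 (hzK x hx y hy) (hc.commutator_of_le hX hY h hx hy).2.2)

/-- Distinct commuting offenders: distinct centres and a separating element. -/
theorem Ctx.comm_k (hc : Ctx p V H) (hX : IsTv p V H X) (hY : IsTv p V H Y) (h : Comm X Y)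
    (hne : X ≠ Y) : Ce V X ≠ Ce V Y ∧
      ∃ k ∈ K0 p H, (∀ b ∈ Y, b * k = k * b) ∧ ∃ a ∈ X, a * k ≠ k * a := by
  classical
  set A := X ⊔ Y with hA
  have hXY : X ≤ Subgroup.normalizer (Y : Set G) := fun a ha => by
    rw [Subgroup.mem_normalizer_iff]
    intro y
    constructor
    · intro hy; rwa [h a ha y hy, mul_inv_cancel_right]
    · intro hy
      have := h a ha _ hy
      have e : a * y * a⁻¹ = y := by
        calc a * y * a⁻¹ = a⁻¹ * (a * (a * y * a⁻¹)) := by group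
          _ = a⁻¹ * ((a * y * a⁻¹) * a) := by rw [this]
          _ = y := by group
      rwa [e] at hy
  have hmem : ∀ x ∈ A, ∃ a ∈ X, ∃ b ∈ Y, x = a * b := by
    intro x hx
    have hx' : x ∈ (↑(X ⊔ Y) : Set G) := hx
    rw [Subgroup.coe_mul_of_left_le_normalizer_right X Y hXY] at hx'
    obtain ⟨a, ha, b, hb, rfl⟩ := hx'
    exact ⟨a, ha, b, hb, rfl⟩
  have hAH : A ≤ H := sup_le hX.le hY.le
  have hAe : Cfsg.IsElementaryAbelian p A := by
    refine ⟨⟨⟨fun x y => Subtype.ext ?_⟩⟩, fun x hx => ?_⟩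
    · obtain ⟨a, ha, b, hb, e⟩ := hmem x x.2
      obtain ⟨a', ha', b', hb', e'⟩ := hmem y y.2
      show (x : G) * y = y * x
      rw [e, e']
      have c1 : Commute a a' := mul_comm_of_elem hX.elem ha ha'
      have c2 : Commute b b' := mul_comm_of_elem hY.elem hb hb'
      have c3 : Commute a b' := h a ha b' hb'
      have c4 : Commute b a' := (h a' ha' b hb).symm
      exact ((c1.mul_right c3).mul_left (c4.mul_right c2)).eq
    · obtain ⟨a, ha, b, hb, rfl⟩ := hmem x hx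
      rw [Commute.mul_pow (show Commute a b from h a ha b hb), hX.elem.2 a ha, hY.elem.2 b hb, one_mul]
  have hinf : X ⊓ Y = ⊥ := by
    rw [← Subgroup.card_eq_one]
    have hd := Subgroup.card_dvd_of_le (inf_le_left : X ⊓ Y ≤ X)
    rw [hX.card] at hd
    refine ((Nat.dvd_prime hp.out).mp hd).resolve_right fun e => hne ?_
    have e1 : X ⊓ Y = X := Subgroup.eq_of_le_of_card_ge inf_le_left (by rw [e, hX.card])
    have e2 : X ⊓ Y = Y := Subgroup.eq_of_le_of_card_ge inf_le_right (by rw [e, hY.card])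
    exact e1.symm.trans e2
  have hcard : Nat.card A = p * p := by
    rw [show p * p = Nat.card (X × Y) by rw [Nat.card_prod, hX.card, hY.card]]
    refine (Nat.card_congr (Equiv.ofBijective
      (fun q : X × Y => (⟨q.1 * q.2, Subgroup.mul_mem_sup q.1.2 q.2.2⟩ : ↥A)) ⟨?_, ?_⟩)).symm
    · intro q q' e
      exact Subgroup.mul_injective_of_disjoint (disjoint_iff.mpr hinf) (congrArg Subtype.val e)
    · intro x
      obtain ⟨a, ha, b, hb, e⟩ := hmem x x.2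
      exact ⟨(⟨a, ha⟩, ⟨b, hb⟩), Subtype.ext e.symm⟩
  set C := V ⊓ Subgroup.centralizer (A : Set G) with hC
  have hCle : Ax V X ⊓ Ax V Y ≤ C := fun v hv => ⟨hv.1.1, Subgroup.mem_centralizer_iff.mpr fun x hx => by
    obtain ⟨a, ha, b, hb, rfl⟩ := hmem x hx
    exact (Commute.mul_left (show Commute a v from Subgroup.mem_centralizer_iff.mp hv.1.2 a ha)
      (show Commute b v from Subgroup.mem_centralizer_iff.mp hv.2.2 b hb)).eq⟩
  have hfle := hc.fv_le_card hAH hAe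
  have hfge : Nat.card V ≤ fv V A := by
    have h1 := Subgroup.relIndex_inf_le (H := Ax V X) (K := Ax V Y) (L := V)
    rw [hX.relIndex_ax, hY.relIndex_ax] at h1
    have h2 : Nat.card ↥(Ax V X ⊓ Ax V Y) * (Ax V X ⊓ Ax V Y).relIndex V = Nat.card V := by
      rw [← Subgroup.relIndex_bot_left (Ax V X ⊓ Ax V Y), ← Subgroup.relIndex_bot_left V]
      exact Subgroup.relIndex_mul_relIndex ⊥ _ V bot_le (inf_le_left.trans inf_le_left)
    rw [fv, hcard, ← h2, mul_comm]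
    exact Nat.mul_le_mul h1 (Subgroup.card_le_of_le hCle)
  have hfA : fv V A = Nat.card V := le_antisymm hfle hfge
  have hax : Ax V X ≠ Ax V Y := by
    intro e
    rw [← e, inf_idem] at hCle
    have h1 := Nat.mul_le_mul_left (p * p) (Subgroup.card_le_of_le hCle)
    have h2 : p * p * Nat.card ↥C = Nat.card V := by rw [← hcard]; exact hfA
    rw [h2, mul_assoc, hX.card_ax_mul] at h1
    have := lt_mul_of_one_lt_left (Nat.card_pos (α := V)) hp.out.one_lt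
    omega
  -- good hyperplanes
  have hgoodTv : ∀ B, GoodIn p V (K0 p H) A B → IsTv p V H B := fun B hB => by
    refine ⟨hB.1.1.trans hAH, ?_, hc.good_fv hAH hAe hfA hB.1⟩
    have := card_eq_of_good hB.1
    rw [hcard] at this
    exact (Nat.eq_of_mul_eq_mul_left hp.out.pos this).symm
  obtain ⟨B₁, hB₁⟩ : ∃ B, GoodIn p V (K0 p H) A B := by
    by_contra hno
    push_neg at hno
    obtain ⟨a, ha, ha1⟩ := hX.exists_gen
    exact ha1 (hc.inf_goodIn hAH hAe (Subgroup.mem_sup_left ha) fun B hB => absurd hB (hno B))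
  obtain ⟨B₂, hB₂, hne₁₂⟩ : ∃ B, GoodIn p V (K0 p H) A B ∧ B ≠ B₁ := by
    by_contra hno
    push_neg at hno
    obtain ⟨b, hb, hb1⟩ := (hgoodTv B₁ hB₁).exists_gen
    exact hb1 (hc.inf_goodIn hAH hAe (hB₁.1.1 hb) fun B hB => (hno B hB).symm ▸ hb)
  have hAsup : A = B₁ ⊔ B₂ := by
    refine (Subgroup.eq_of_le_of_card_ge (sup_le hB₁.1.1 hB₂.1.1) ?_).symm
    have hd := Subgroup.card_dvd_of_le (sup_le hB₁.1.1 hB₂.1.1)
    rw [hcard, ← pow_two] at hd
    obtain ⟨m, hm, hme⟩ := (Nat.dvd_prime_pow hp.out).mp hd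
    have h1 := (hgoodTv B₁ hB₁).card
    have h2 : B₁ < B₁ ⊔ B₂ := left_lt_sup.mpr fun e => hne₁₂
      (Subgroup.eq_of_le_of_card_ge e (by rw [h1, (hgoodTv B₂ hB₂).card]))
    have h3 : Nat.card B₁ < Nat.card ↥(B₁ ⊔ B₂) :=
      lt_of_le_of_ne (Subgroup.card_le_of_le h2.le)
        fun e => h2.ne (Subgroup.eq_of_le_of_card_ge h2.le e.ge)
    rw [hcard, hme, ← pow_two]
    rw [h1, hme] at h3
    refine Nat.pow_le_pow_right hp.out.pos ?_
    by_contra hm2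
    have : m ≤ 1 := by omega
    interval_cases m <;> simp at h3 <;> have := hp.out.one_lt <;> omega
  have hcen : Ce V X ≠ Ce V Y := by
    intro e
    have hsub : ∀ B, B ≤ A → Ce V B ≤ Ce V X := by
      intro B hB
      refine Subgroup.commutator_le.mpr fun v hv x hx => ?_
      rw [← commutatorElement_inv x v]
      refine inv_mem ?_
      obtain ⟨a, ha, b, hb, rfl⟩ := hmem x (hB hx)
      have h1 : ⁅b, v⁆ ∈ Ce V X := e ▸ IsTv.bracket_mem_ce hb hv
      have h2 : a * ⁅b, v⁆ = ⁅b, v⁆ * a :=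
        Subgroup.mem_centralizer_iff.mp (hX.ce_le_ax hc h1).2 a ha
      have : ⁅a * b, v⁆ = ⁅b, v⁆ * ⁅a, v⁆ := by
        calc ⁅a * b, v⁆ = (a * ⁅b, v⁆) * v * a⁻¹ * v⁻¹ := by simp [commutatorElement_def, mul_assoc]
          _ = ⁅b, v⁆ * ⁅a, v⁆ := by rw [h2, commutatorElement_def a]; group
      rw [this]
      exact mul_mem h1 (IsTv.bracket_mem_ce ha hv)
    have hB1 := hgoodTv B₁ hB₁
    have hB2 := hgoodTv B₂ hB₂
    have hce : Ce V B₁ = Ce V B₂ := by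
      rw [Subgroup.eq_of_le_of_card_ge (hsub B₁ hB₁.1.1) (by rw [hX.card_ce hc, hB1.card_ce hc]),
        Subgroup.eq_of_le_of_card_ge (hsub B₂ hB₂.1.1) (by rw [hX.card_ce hc, hB2.card_ce hc])]
    obtain ⟨k, hk, hkB, a, ha, hka⟩ := hB₁.2
    obtain ⟨b₂, hb₂, hkb⟩ : ∃ b ∈ B₂, b * k ≠ k * b := by
      by_contra hno
      push_neg at hno
      refine hka ?_
      have : B₁ ⊔ B₂ ≤ Subgroup.centralizer ({k} : Set G) :=
        sup_le (fun x hx => Subgroup.mem_centralizer_singleton_iff.mpr (hkB x hx))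
          (fun x hx => Subgroup.mem_centralizer_singleton_iff.mpr (hno x hx))
      rw [← hAsup] at this
      exact Subgroup.mem_centralizer_singleton_iff.mp (this ha)
    have hcomm : Comm B₁ (cj k B₂) := by
      rintro x hx _ ⟨y, hy, rfl⟩
      have c1 : Commute x k := hkB x hx
      have c2 : Commute x y := mul_comm_of_elem hAe (hB₁.1.1 hx) (hB₂.1.1 hy)
      exact ((c1.mul_right c2).mul_right c1.inv_right).eq
    refine (hc.not_le_conj hB2 hb₂ hk hkb).1 ?_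
    rw [← hce]
    exact hc.ce_le_ax_of_comm hB1 (hB2.conj hc (hc.K0_le hk)) hcomm
  refine ⟨hcen, ?_⟩
  have h1 := hc.ce_le_ax_of_comm hX hY h
  have h2 := hc.ce_le_ax_of_comm hY hX h.symm
  have honly : ∀ B, GoodIn p V (K0 p H) A B → B = X ∨ B = Y := by
    intro B hB
    have hBt := hgoodTv B hB
    by_contra hno
    push_neg at hno
    obtain ⟨x, hx, hx1⟩ := hBt.exists_gen
    obtain ⟨a, ha, b, hb, rfl⟩ := hmem x (hB.1.1 hx)
    have ha1 : a ≠ 1 := by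
      rintro rfl
      rw [one_mul] at hx hx1
      exact hno.2 ((hBt.zpowers_eq hx hx1).symm.trans (hY.zpowers_eq hb hx1))
    have hb1 : b ≠ 1 := by
      rintro rfl
      rw [mul_one] at hx hx1
      exact hno.1 ((hBt.zpowers_eq hx hx1).symm.trans (hX.zpowers_eq ha hx1))
    have hnle : ∀ {S T : Subgroup G}, IsTv p V H S → IsTv p V H T → Ax V S ≠ Ax V T →
        ∃ v ∈ Ax V S, v ∉ Ax V T := by
      intro S T hS hT hST
      by_contra hn
      push_neg at hn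
      refine hST (Subgroup.eq_of_le_of_card_ge hn ?_)
      exact le_of_eq (Nat.eq_of_mul_eq_mul_left hp.out.pos (hT.card_ax_mul.trans hS.card_ax_mul.symm))
    obtain ⟨v, hvX, hvY⟩ := hnle hX hY hax
    obtain ⟨w, hwY, hwX⟩ := hnle hY hX hax.symm
    have ev : ⁅a * b, v⁆ = ⁅b, v⁆ := by
      have c1 : a * v = v * a := Subgroup.mem_centralizer_iff.mp hvX.2 a ha
      have c2 : a * ⁅b, v⁆ = ⁅b, v⁆ * a :=
        Subgroup.mem_centralizer_iff.mp (h2 (IsTv.bracket_mem_ce hb hvX.1)).2 a ha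
      calc ⁅a * b, v⁆ = (a * ⁅b, v⁆) * v * a⁻¹ * v⁻¹ := by simp [commutatorElement_def, mul_assoc]
        _ = ⁅b, v⁆ * (a * v) * a⁻¹ * v⁻¹ := by rw [c2]; group
        _ = ⁅b, v⁆ := by rw [c1]; group
    have ew : ⁅a * b, w⁆ = ⁅a, w⁆ := by
      have c1 : b * w = w * b := Subgroup.mem_centralizer_iff.mp hwY.2 b hb
      calc ⁅a * b, w⁆ = a * (b * w) * b⁻¹ * a⁻¹ * w⁻¹ := by rw [commutatorElement_def]; group
        _ = ⁅a, w⁆ := by rw [c1, commutatorElement_def]; group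
    have hv' : ⁅b, v⁆ ∈ Ce V B := ev ▸ IsTv.bracket_mem_ce hx hvX.1
    have hw' : ⁅a, w⁆ ∈ Ce V B := ew ▸ IsTv.bracket_mem_ce hx hwY.1
    have e1 := hBt.zpowers_ce hc hv' fun e => hvY ((hY.bracket_eq_one_iff hb hb1 hvX.1).mp e)
    have e2 := hBt.zpowers_ce hc hw' fun e => hwX ((hX.bracket_eq_one_iff ha ha1 hwY.1).mp e)
    rw [hY.zpowers_ce hc (IsTv.bracket_mem_ce hb hvX.1)
      fun e => hvY ((hY.bracket_eq_one_iff hb hb1 hvX.1).mp e)] at e1
    rw [hX.zpowers_ce hc (IsTv.bracket_mem_ce ha hwY.1)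
      fun e => hwX ((hX.bracket_eq_one_iff ha ha1 hwY.1).mp e)] at e2
    exact hcen (e2.trans e1.symm)
  have hYgood : GoodIn p V (K0 p H) A Y := by
    rcases honly B₁ hB₁ with e | e
    · rcases honly B₂ hB₂ with e' | e'
      · exact absurd (e'.trans e.symm) hne₁₂
      · exact e' ▸ hB₂
    · exact e ▸ hB₁
  obtain ⟨k, hk, hkY, x, hx, hkx⟩ := hYgood.2
  refine ⟨k, hk, hkY, ?_⟩
  by_contra hno
  push_neg at hno
  obtain ⟨a, ha, b, hb, rfl⟩ := hmem x hx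
  exact hkx (Commute.mul_left (show Commute a k from hno a ha) (show Commute b k from hkY b hb)).eq

/-- No one-sided pairs. -/
theorem Ctx.le_symm (hc : Ctx p V H) (hX : IsTv p V H X) (hY : IsTv p V H Y)
    (h : Ce V Y ≤ Ax V X) : Ce V X ≤ Ax V Y := by
  by_contra hno
  obtain ⟨a, ha, ha1⟩ := hX.exists_gen
  obtain ⟨b, hb, hb1⟩ := hY.exists_gen
  obtain ⟨v, hv, hvA⟩ := hX.exists_not_mem_ax
  obtain ⟨hfix, hmove, hzp⟩ := hc.commutator_of_le hX hY h ha hb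
  set z := a * b * (b * a)⁻¹ with hz
  have hzH : z ∈ H := mul_mem (mul_mem (hX.le ha) (hY.le hb)) (inv_mem (mul_mem (hY.le hb) (hX.le ha)))
  have hbaH : b * a ∈ H := mul_mem (hY.le hb) (hX.le ha)
  set x := b * a * v * (b * a)⁻¹ with hx'
  have hx : x ∈ V := hc.conj_mem_V hbaH hv
  have hzx : ⁅z, x⁆ = ⁅b, ⁅a, v⁆⁆⁻¹ := by
    rw [hmove x hx, show (b * a)⁻¹ * x * (b * a) = v by rw [hx']; group]
  have hzx1 : ⁅z, x⁆ ≠ 1 := by
    rw [hzx, ne_eq, inv_eq_one]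
    intro e
    refine hno (hX.le_of_mem hc (IsTv.bracket_mem_ce ha hv)
      (fun e' => hvA ((hX.bracket_eq_one_iff ha ha1 hv).mp e')) ?_)
    exact (hY.bracket_eq_one_iff hb hb1 (hc.bracket_mem_V (hX.le ha) hv)).mp e
  have hz1 : z ≠ 1 := fun e => hzx1 (by rw [e, commutatorElement_one_left])
  have haxle : Ax V X ≤ Ax V (Subgroup.zpowers z) := by
    intro u hu
    refine ⟨hu.1, Subgroup.mem_centralizer_iff.mpr fun y hy => ?_⟩
    obtain ⟨i, rfl⟩ := hy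
    refine (Commute.zpow_left ?_ i).eq
    refine (commutatorElement_eq_one_iff_mul_comm.mp (?_ : ⁅z, u⁆ = 1))
    rw [hmove u hu.1, inv_eq_one]
    have hu' : (b * a)⁻¹ * u * (b * a) ∈ Ax V X := by
      have hbi : ⁅b⁻¹, u⁆ ∈ Ax V X := h (IsTv.bracket_mem_ce (inv_mem hb) hu.1)
      have e : b⁻¹ * u * b ∈ Ax V X := by
        rw [show b⁻¹ * u * b = ⁅b⁻¹, u⁆ * u by rw [commutatorElement_def]; group]
        exact mul_mem hbi hu
      have c : a * (b⁻¹ * u * b) = (b⁻¹ * u * b) * a :=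
        Subgroup.mem_centralizer_iff.mp e.2 a ha
      rw [show (b * a)⁻¹ * u * (b * a) = a⁻¹ * ((b⁻¹ * u * b) * a) by group, ← c,
        inv_mul_cancel_left]
      exact e
    rw [(hX.bracket_eq_one_iff ha ha1 hu'.1).mpr hu', commutatorElement_one_right]
  have hZcard : Nat.card (Subgroup.zpowers z) = p := by
    rw [Nat.card_zpowers, orderOf_eq_prime hzp hz1]
  have hZe : Cfsg.IsElementaryAbelian p (Subgroup.zpowers z) := ⟨inferInstance, fun y hy => by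
    obtain ⟨i, rfl⟩ := hy
    show (z ^ i) ^ p = 1
    rw [← zpow_natCast, ← zpow_mul, mul_comm, zpow_mul, zpow_natCast, hzp, one_zpow]⟩
  have hZ : IsTv p V H (Subgroup.zpowers z) := by
    refine ⟨Subgroup.zpowers_le.mpr hzH, hZcard,
      le_antisymm (hc.fv_le_card (Subgroup.zpowers_le.mpr hzH) hZe) ?_⟩
    rw [fv, hZcard, ← hX.card_ax_mul]
    exact Nat.mul_le_mul_left _ (Subgroup.card_le_of_le haxle)
  have hZax : Ax V X = Ax V (Subgroup.zpowers z) := Subgroup.eq_of_le_of_card_ge haxle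
    (le_of_eq (Nat.eq_of_mul_eq_mul_left hp.out.pos (hZ.card_ax_mul.trans hX.card_ax_mul.symm)))
  have hmem : ⁅z, x⁆ ∈ Ce V Y := by
    rw [hzx]
    exact inv_mem (IsTv.bracket_mem_ce hb (hc.bracket_mem_V (hX.le ha) hv))
  have hce : Ce V (Subgroup.zpowers z) = Ce V Y := by
    rw [← hZ.zpowers_ce hc (IsTv.bracket_mem_ce (Subgroup.mem_zpowers z) hx) hzx1,
      ← hY.zpowers_ce hc hmem hzx1]
  have hcm : Comm (Subgroup.zpowers z) Y := hc.comm_of_both hZ hY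
    (hce.trans_le (hY.ce_le_ax hc)) (hZax ▸ h)
  rcases eq_or_ne (Subgroup.zpowers z) Y with e | e
  · exact hno (by rw [← e, ← hZax]; exact hX.ce_le_ax hc)
  · exact (hc.comm_k hZ hY hcm e).1 hce

theorem Ctx.comm_of_le (hc : Ctx p V H) (hX : IsTv p V H X) (hY : IsTv p V H Y)
    (h : Ce V Y ≤ Ax V X) : Comm X Y :=
  hc.comm_of_both hX hY (hc.le_symm hX hY h) h

end Cfsg.Agent.Lib.FusionControl.CoprimeOffender
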