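import Cfsg.Agent.Lib.FusionControl.SectionHyp
import Cfsg.Agent.Lib.Cores.Basic
import Cfsg.Prelude.Def_PLocal

/-! Glauberman's factorization triple. -/

set_option autoImplicit false

universe u

namespace Cfsg.Agent.Lib.FusionControl

variable {p : ℕ} [Fact p.Prime] {G : Type u} [Group G] [Finite G]

/-- local factorization `X = C(Ω₁Z(T)) N(W T)` in the constrained sections -/
def CentralFactor (p : ℕ) (G : Type u) [Group G] (W : ∀ (Q : Type u) [Group Q], Subgroup Q) : Prop :=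
  ∀ (X : Type u) [Group X] [Finite X], Cfsg.Involves X G → CharPType p X → ∀ T : Sylow p X, ∀ x : X,
    ∃ b ∈ Subgroup.normalizer ((Cfsg.inducedFunctor W (T : Subgroup X) : Subgroup X) : Set X), ∃ a : X,
      x = b * a ∧ ∀ z ∈ (T : Subgroup X), z ^ p = 1 → (∀ t ∈ (T : Subgroup X), t * z = z * t) → a * z = z * a

omit [Finite G] in
/-- a section-wise hypothesis gives `CentralFactor` -/
lemma centralFactor_of_sections {W : ∀ (Q : Type u) [Group Q], Subgroup Q} (hW : Cfsg.IsCharPFunctor.{u} p W)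
    (h : ∀ (K R : Subgroup G) [_hR : (R.subgroupOf K).Normal], CharPType p (↥K ⧸ R.subgroupOf K) →
      ∀ T : Sylow p (↥K ⧸ R.subgroupOf K), ∀ x : ↥K ⧸ R.subgroupOf K,
      ∃ a ∈ Subgroup.centralizer ((Cfsg.omegaOne p ((T : Subgroup (↥K ⧸ R.subgroupOf K)) ⊓
        Subgroup.centralizer (((T : Subgroup (↥K ⧸ R.subgroupOf K)) : Subgroup (↥K ⧸ R.subgroupOf K)) : Set (↥K ⧸ R.subgroupOf K))) :
          Subgroup (↥K ⧸ R.subgroupOf K)) : Set (↥K ⧸ R.subgroupOf K)),
      ∃ b ∈ Subgroup.normalizer ((Cfsg.inducedFunctor W (T : Subgroup (↥K ⧸ R.subgroupOf K)) : Subgroup (↥K ⧸ R.subgroupOf K)) : Set (↥K ⧸ R.subgroupOf K)),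
        x = a * b) : CentralFactor p G W := by
  intro X _ _ hX hC T x
  obtain ⟨K, R, hR, ⟨e⟩⟩ := hX
  have hfin : Finite (↥K ⧸ R.subgroupOf K) := Finite.of_equiv X e.symm.toEquiv
  have hsur : Function.Surjective e.symm.toMonoidHom := e.symm.surjective
  set T' := T.mapSurjective hsur with hT'
  have hcoe : (T' : Subgroup (↥K ⧸ R.subgroupOf K)) = (T : Subgroup X).map e.symm.toMonoidHom :=
    Sylow.coe_mapSurjective hsur T
  obtain ⟨a, ha, b, hb, hab⟩ := h K R (charPType_equiv e.symm hC) T' (e.symm x⁻¹)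
  refine ⟨e b⁻¹, ?_, e a⁻¹, ?_, fun z hz hzp hzc => ?_⟩
  · have h2 := mem_normalizer_functor_map (𝓦 := {W}) (by rintro _ rfl; exact hW) e.toMonoidHom e.injective T'.2 rfl (inv_mem hb)
    rwa [hcoe, Subgroup.map_map, show e.toMonoidHom.comp e.symm.toMonoidHom = MonoidHom.id X from
      MonoidHom.ext e.apply_symm_apply, Subgroup.map_id] at h2
  · rw [← map_mul, ← mul_inv_rev, ← hab, map_inv, e.apply_symm_apply, inv_inv]
  · have hmem : e.symm z ∈ Cfsg.omegaOne p ((T' : Subgroup (↥K ⧸ R.subgroupOf K)) ⊓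
        Subgroup.centralizer ((T' : Subgroup (↥K ⧸ R.subgroupOf K)) : Set (↥K ⧸ R.subgroupOf K))) := by
      refine Subgroup.subset_closure ⟨Subgroup.mem_inf.2 ⟨hcoe ▸ ⟨z, hz, rfl⟩, ?_⟩, by rw [← map_pow, hzp, map_one]⟩
      rw [Subgroup.mem_centralizer_iff, hcoe]
      rintro _ ⟨t, ht, rfl⟩
      show e.symm t * e.symm z = e.symm z * e.symm t
      rw [← map_mul, hzc t ht, map_mul]
    have h3 := Subgroup.mem_centralizer_iff.1 (inv_mem ha) _ hmem
    have h4 := congrArg e h3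
    simp only [map_mul, e.apply_symm_apply] at h4
    exact h4.symm

/-- on central elements of order `p` inside the core, every element acts as an element of `N(W S)` -/
theorem exists_functor_agree {W : ∀ (Q : Type u) [Group Q], Subgroup Q} (hW : Cfsg.IsCharPFunctor.{u} p W)
    {X : Type u} [Group X] [Finite X] (hX : Cfsg.Involves X G) (hfac : CentralFactor p G W) (S : Sylow p X) (x : X) :
    ∃ n ∈ Subgroup.normalizer ((Cfsg.inducedFunctor W (S : Subgroup X) : Subgroup X) : Set X),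
      ∀ z ∈ Cfsg.pCore p X, z ^ p = 1 → (∀ t ∈ (S : Subgroup X), t * z = z * t) → x * z * x⁻¹ = n * z * n⁻¹ := by
  set Q := Cfsg.pCore p X with hQdef
  have hQn : Q.Normal := by rw [hQdef]; infer_instance
  have hQS : Q ≤ (S : Subgroup X) := pCore_le_S S
  set C := Subgroup.centralizer (Q : Set X) with hCdef
  set CS := (S : Subgroup X) ⊓ C with hCS
  set P1 := CS ⊔ Q with hP1
  have hCn : C.Normal := by rw [hCdef]; infer_instance
  have hiC : ¬ p ∣ CS.relIndex C :=
    not_dvd_relIndex_inf le_top S.2 (sylow_relIndex_top S) le_top (by rw [Subgroup.normalizer_eq_top])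
  obtain ⟨c, hc, hy⟩ := exists_frattini (inf_le_right : CS ≤ C) (S.2.to_le inf_le_left) hiC
    (show x ∈ Subgroup.normalizer (C : Set X) by rw [Subgroup.normalizer_eq_top]; trivial)
  set K := Subgroup.normalizer (P1 : Set X) with hK
  have hy' : c * x ∈ K := Cfsg.Agent.Lib.Coprime.le_normalizer_sup inf_le_left inf_le_right
    (show c * x ∈ Subgroup.normalizer (CS : Set X) ⊓ Subgroup.normalizer (Q : Set X) from
      Subgroup.mem_inf.2 ⟨hy, by rw [Subgroup.normalizer_eq_top]; trivial⟩)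
  have hSK : (S : Subgroup X) ≤ K := fun s hs => Cfsg.Agent.Lib.Coprime.le_normalizer_sup inf_le_left inf_le_right
    (show s ∈ Subgroup.normalizer (CS : Set X) ⊓ Subgroup.normalizer (Q : Set X) from
      Subgroup.mem_inf.2 ⟨by rw [mem_normalizer_iff_cj, hCS, cj_inf, mem_normalizer_iff_cj.1 (Subgroup.le_normalizer hs),
        mem_normalizer_iff_cj.1 (show s ∈ Subgroup.normalizer (C : Set X) by rw [Subgroup.normalizer_eq_top]; trivial)],
       by rw [Subgroup.normalizer_eq_top]; trivial⟩)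
  have hP1S : P1 ≤ (S : Subgroup X) := sup_le inf_le_left hQS
  have hP1K : P1 ≤ K := Subgroup.le_normalizer
  -- the quotient of `K`
  set O := Cfsg.pPrimeCore p K with hO
  set f := QuotientGroup.mk' O with hf
  set SK := S.subtype hSK with hSKdef
  have hPn : (P1.subgroupOf K).Normal := Subgroup.normal_in_normalizer
  have hPp : IsPGroup p (P1.subgroupOf K) :=
    (S.2.to_le hP1S).of_equiv (Subgroup.subgroupOfEquivOfLe hP1K).symm
  have hC' : CharPType p (↥K ⧸ O) := by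
    intro y hy2
    obtain ⟨y, rfl⟩ := QuotientGroup.mk'_surjective O y
    set CK := Subgroup.centralizer ((P1.subgroupOf K : Subgroup K) : Set K) with hCK
    have hyC : y ∈ CK := by
      rw [Subgroup.mem_centralizer_iff]
      intro u hu
      have h1 : f u ∈ Cfsg.pCore p (↥K ⧸ O) := Cfsg.Agent.Lib.Cores.map_pCore_le f (QuotientGroup.mk'_surjective O)
        ⟨u, Cfsg.Agent.Lib.Cores.le_pCore hPn hPp hu, rfl⟩
      have h2 := Subgroup.mem_centralizer_iff.1 hy2 _ h1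
      rw [← map_mul, ← map_mul, hf, mk'_eq_iff] at h2
      have h3 : (u * y)⁻¹ * (y * u) ∈ P1.subgroupOf K := by
        rw [mul_inv_rev, show y⁻¹ * u⁻¹ * (y * u) = y⁻¹ * u⁻¹ * y * u by group]
        exact mul_mem (by simpa using hPn.conj_mem _ (inv_mem hu) y⁻¹) hu
      exact inv_mul_eq_one.1 (eq_one_of_mem_pPrimeCore hPp h3 h2)
    have hi : ¬ p ∣ ((SK : Subgroup K) ⊓ CK).relIndex CK :=
      not_dvd_relIndex_inf le_top SK.2 (sylow_relIndex_top SK) le_top (by rw [Subgroup.normalizer_eq_top])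
    let P : Sylow p CK := ((SK.2.to_le inf_le_left).comap_of_injective CK.subtype CK.subtype_injective :
      IsPGroup p (((SK : Subgroup K) ⊓ CK).subgroupOf CK)).toSylow hi
    have hPle : ∀ w : CK, w ∈ (P : Subgroup CK) → ((w : K) : X) ∈ P1 := by
      intro w hw
      obtain ⟨hw1, hw2⟩ := Subgroup.mem_inf.1 (Subgroup.mem_subgroupOf.1 hw)
      rw [hSKdef, Sylow.coe_subtype, Subgroup.mem_subgroupOf] at hw1
      refine Subgroup.mem_sup_left (Subgroup.mem_inf.2 ⟨hw1, ?_⟩)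
      rw [hCdef, Subgroup.mem_centralizer_iff]
      intro q hq
      exact congrArg Subtype.val (Subgroup.mem_centralizer_iff.1 hw2 ⟨q, hP1K (Subgroup.mem_sup_right hq)⟩
        (Subgroup.mem_subgroupOf.2 (Subgroup.mem_sup_right hq)))
    have hcent : Subgroup.normalizer ((P : Subgroup CK) : Set CK) ≤ Subgroup.centralizer ((P : Subgroup CK) : Set CK) := by
      intro d _
      rw [Subgroup.mem_centralizer_iff]
      intro w hw
      exact Subtype.ext (Subgroup.mem_centralizer_iff.1 d.2 _ (Subgroup.mem_subgroupOf.2 (hPle w hw)))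
    have hnpc := Cfsg.Agent.Lib.Transfer.hasNormalPComplement_of_normalizer_le_centralizer P hcent
    rw [Cfsg.Agent.Lib.Transfer.hasNormalPComplement_iff_coprime] at hnpc
    have hres : (Cfsg.pResidual p CK).map CK.subtype ≤ O := by
      refine Cfsg.Agent.Lib.Cores.le_pPrimeCore inferInstance ?_
      rwa [Subgroup.card_map_of_injective CK.subtype_injective]
    have hmem : (⟨y, hyC⟩ : CK) ∈ (P : Subgroup CK) ⊔ Cfsg.pResidual p CK :=
      (Cfsg.Agent.Lib.Transfer.sylow_sup_pResidual P) ▸ Subgroup.mem_top _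
    obtain ⟨w, hw, m, hm, hwm⟩ := Subgroup.mem_sup_of_normal_right.1 hmem
    have h4 : f y = f (w : K) := by
      rw [show y = (w : K) * (m : K) from congrArg Subtype.val hwm.symm, map_mul,
        show f (m : K) = 1 from (QuotientGroup.eq_one_iff _).2 (hres ⟨m, hm, rfl⟩), mul_one]
    rw [← hf, h4]
    exact Cfsg.Agent.Lib.Cores.map_pCore_le f (QuotientGroup.mk'_surjective O)
      ⟨_, Cfsg.Agent.Lib.Cores.le_pCore hPn hPp (Subgroup.mem_subgroupOf.2 (hPle w hw)), rfl⟩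
  obtain ⟨b, hb, a, hba, haz⟩ := hfac (↥K ⧸ O) (involves_surjective (involves_subgroup hX K) f (QuotientGroup.mk'_surjective O))
    hC' (SK.mapSurjective (QuotientGroup.mk'_surjective O)) (f ⟨c * x, hy'⟩)
  rw [Sylow.coe_mapSurjective] at hb haz
  obtain ⟨n, hn, rfl⟩ := exists_lift_step hW SK hb
  have hSKmap : (SK : Subgroup K).map K.subtype = (S : Subgroup X) := by
    rw [hSKdef, Sylow.coe_subtype, Subgroup.subgroupOf_map_subtype, inf_eq_left.2 hSK]
  refine ⟨n, ?_, fun z hz hzp hzc => ?_⟩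
  · rw [← hSKmap]
    exact mem_normalizer_functor_map (𝓦 := {W}) (by rintro _ rfl; exact hW) _ K.subtype_injective SK.2 rfl hn
  · have hzK : z ∈ K := hP1K (Subgroup.mem_sup_right hz)
    set zK : K := ⟨z, hzK⟩ with hzKdef
    have hz1 : a * f zK = f zK * a := by
      refine haz _ ⟨zK, ?_, rfl⟩ ?_ ?_
      · rw [hSKdef, Sylow.coe_subtype]; exact hQS hz
      · rw [← map_pow]
        have : zK ^ p = 1 := Subtype.ext hzp
        rw [this, map_one]
      · rintro _ ⟨t, ht, rfl⟩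
        have ht' : (t : X) ∈ (S : Subgroup X) := by
          rw [hSKdef, Sylow.coe_subtype] at ht; exact ht
        have : t * zK = zK * t := Subtype.ext (hzc t ht')
        rw [← map_mul, ← map_mul, this]
    set yK : K := ⟨c * x, hy'⟩ with hyK
    have h5 : f (yK * zK * yK⁻¹) = f (n * zK * n⁻¹) := by
      simp only [map_mul, map_inv]
      rw [hba]
      calc f n * a * f zK * (f n * a)⁻¹ = f n * (a * f zK) * a⁻¹ * (f n)⁻¹ := by group
        _ = f n * (f zK * a) * a⁻¹ * (f n)⁻¹ := by rw [hz1]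
        _ = _ := by group
    rw [hf, mk'_eq_iff] at h5
    have h6 : ((yK * zK * yK⁻¹)⁻¹ * (n * zK * n⁻¹) : K) ∈ P1.subgroupOf K :=
      mul_mem (inv_mem (hPn.conj_mem _ (Subgroup.mem_subgroupOf.2 (Subgroup.mem_sup_right hz)) yK))
        (hPn.conj_mem _ (Subgroup.mem_subgroupOf.2 (Subgroup.mem_sup_right hz)) n)
    have h7 : c * x * z * (c * x)⁻¹ = n * z * (n : X)⁻¹ :=
      congrArg Subtype.val (inv_mul_eq_one.1 (eq_one_of_mem_pPrimeCore hPp h6 h5))
    have h8 := Subgroup.mem_centralizer_iff.1 (inv_mem hc) _ (hQn.conj_mem z hz n)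
    calc x * z * x⁻¹ = c⁻¹ * (c * x * z * (c * x)⁻¹) * c⁻¹⁻¹ := by group
      _ = c⁻¹ * (n * z * (n : X)⁻¹) * c⁻¹⁻¹ := by rw [h7]
      _ = n * z * (n : X)⁻¹ := by rw [← h8]; group

/-- inside `N(Wa S)` the action on `Ω₁Z(S) ≤ Wa S` comes from `N(Wa S) ∩ N(Wb S)` -/
theorem exists_inter_agree {Wa Wb : ∀ (Q : Type u) [Group Q], Subgroup Q} (hWa : Cfsg.IsCharPFunctor.{u} p Wa)
    (hWb : Cfsg.IsCharPFunctor.{u} p Wb) (hfac : CentralFactor p G Wb) (S : Sylow p G) {n : G}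
    (hn : n ∈ Subgroup.normalizer ((Cfsg.inducedFunctor Wa (S : Subgroup G) : Subgroup G) : Set G)) :
    ∃ n' ∈ Subgroup.normalizer ((Cfsg.inducedFunctor Wa (S : Subgroup G) : Subgroup G) : Set G),
      n' ∈ Subgroup.normalizer ((Cfsg.inducedFunctor Wb (S : Subgroup G) : Subgroup G) : Set G) ∧
      ∀ z ∈ Cfsg.inducedFunctor Wa (S : Subgroup G), z ^ p = 1 → (∀ t ∈ (S : Subgroup G), t * z = z * t) →
        n * z * n⁻¹ = n' * z * n'⁻¹ := by
  set Z := Cfsg.inducedFunctor Wa (S : Subgroup G) with hZ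
  set N := Subgroup.normalizer (Z : Set G) with hN
  have hSN : (S : Subgroup G) ≤ N := le_normalizer_inducedFunctor hWa S.2
  obtain ⟨m, hm, hme⟩ := exists_functor_agree hWb (involves_subgroup involves_self N) hfac (S.subtype hSN) ⟨n, hn⟩
  have hSmap : ((S.subtype hSN : Sylow p N) : Subgroup N).map N.subtype = (S : Subgroup G) := by
    rw [Sylow.coe_subtype, Subgroup.subgroupOf_map_subtype, inf_eq_left.2 hSN]
  refine ⟨m, m.2, ?_, fun z hz hzp hzc => ?_⟩
  · rw [← hSmap]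
    exact mem_normalizer_functor_map (𝓦 := {Wb}) (by rintro _ rfl; exact hWb) _ N.subtype_injective (S.subtype hSN).2 rfl hm
  · have hZS : Z ≤ (S : Subgroup G) := Subgroup.map_subtype_le _
    have hzN : z ∈ N := Subgroup.le_normalizer hz
    have hcore : (⟨z, hzN⟩ : N) ∈ Cfsg.pCore p N := Cfsg.Agent.Lib.Cores.le_pCore Subgroup.normal_in_normalizer
      ((S.2.to_le hZS).of_equiv (Subgroup.subgroupOfEquivOfLe Subgroup.le_normalizer).symm)
      (Subgroup.mem_subgroupOf.2 hz)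
    exact congrArg Subtype.val (hme _ hcore (Subtype.ext hzp) (fun t ht => Subtype.ext (hzc t (by
      rw [Sylow.coe_subtype] at ht; exact ht))))

/-- two functors whose normalizers factorise the constrained sections control fusion -/
theorem strongFusion_pair (W₁ W₂ : ∀ (Q : Type u) [Group Q], Subgroup Q) (hW₁ : Cfsg.IsCharPFunctor.{u} p W₁)
    (hW₂ : Cfsg.IsCharPFunctor.{u} p W₂)
    (hfac : ∀ (K R : Subgroup G) [_hR : (R.subgroupOf K).Normal], CharPType p (↥K ⧸ R.subgroupOf K) →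
      ∀ T : Sylow p (↥K ⧸ R.subgroupOf K), ∀ x : ↥K ⧸ R.subgroupOf K,
      ∃ a ∈ Subgroup.normalizer ((Cfsg.inducedFunctor W₁ (T : Subgroup (↥K ⧸ R.subgroupOf K)) : Subgroup (↥K ⧸ R.subgroupOf K)) : Set (↥K ⧸ R.subgroupOf K)),
      ∃ b ∈ Subgroup.normalizer ((Cfsg.inducedFunctor W₂ (T : Subgroup (↥K ⧸ R.subgroupOf K)) : Subgroup (↥K ⧸ R.subgroupOf K)) : Set (↥K ⧸ R.subgroupOf K)),
        x = a * b) :
    Cfsg.FamilyControlsStrongFusionIn p (indSet G ({W₁, W₂} : Set (∀ (Q : Type u) [Group Q], Subgroup Q))) ⊤ := by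
  let 𝓦 : Set (∀ (Q : Type u) [Group Q], Subgroup Q) := {W₁, W₂}
  have h𝓦 : ∀ W ∈ 𝓦, Cfsg.IsCharPFunctor.{u} p W := by
    rintro W (rfl | rfl)
    · exact hW₁
    · exact hW₂
  refine strongFusion_of_hloc (G := G) (𝓦 := 𝓦) h𝓦 (fun K R _ h => ?_) G involves_self
  obtain ⟨T⟩ : Nonempty (Sylow p (↥K ⧸ R.subgroupOf K)) := inferInstance
  set Y := ↥K ⧸ R.subgroupOf K
  set N1 := Subgroup.normalizer ((Cfsg.inducedFunctor W₁ (T : Subgroup Y) : Subgroup Y) : Set Y) with hN1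
  set N2 := Subgroup.normalizer ((Cfsg.inducedFunctor W₂ (T : Subgroup Y) : Subgroup Y) : Set Y) with hN2
  have hT : (T : Subgroup Y) ≤ N1 ⊓ N2 :=
    le_inf (le_normalizer_inducedFunctor hW₁ T.2) (le_normalizer_inducedFunctor hW₂ T.2)
  rw [family_iff]
  refine ⟨T, le_top, T.2, sylow_relIndex_top T, fun A g _ hA hgA => ?_⟩
  obtain ⟨a, ha, b, hb, rfl⟩ := hfac K R h T g
  have hR : cj b (Subgroup.closure A) ≤ N1 ⊓ N2 := by
    rw [cj, MonoidHom.map_closure, Subgroup.closure_le]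
    rintro _ ⟨x, hx, rfl⟩
    show b * x * b⁻¹ ∈ N1 ⊓ N2
    refine Subgroup.mem_inf.2 ⟨?_, mul_mem (mul_mem hb ((hT (hA hx)).2)) (inv_mem hb)⟩
    have hy : a * b * x * (a * b)⁻¹ ∈ N1 := (hT (hgA ⟨x, hx, rfl⟩)).1
    rw [show b * x * b⁻¹ = a⁻¹ * (a * b * x * (a * b)⁻¹) * a by group]
    exact mul_mem (mul_mem (inv_mem ha) hy) ha
  obtain ⟨d, hd, hle⟩ := exists_cj_le_of_not_dvd hT T.2 (not_dvd_relIndex_of_le T hT) hR
    (isPGroup_cj (T.2.to_le ((Subgroup.closure_le _).2 hA)))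
  have hmid : cs (d * b) A ⊆ ((T : Subgroup Y) : Set Y) := by
    rintro _ ⟨x, hx, rfl⟩
    rw [cj_cj] at hle
    exact hle (conj_mem_cj (Subgroup.subset_closure hx))
  have hd1 : d ∈ N1 := (Subgroup.mem_inf.1 hd).1
  have hd2 : d ∈ N2 := (Subgroup.mem_inf.1 hd).2
  have hdb : d * b ∈ N2 := mul_mem hd2 hb
  have had : a * d⁻¹ ∈ N1 := mul_mem ha (inv_mem hd1)
  have h1 : Reach (T : Subgroup Y) (stepSet (indSet Y 𝓦) ⊤ (T : Subgroup Y)) A (d * b) :=
    .step (Or.inr ⟨_, ⟨W₂, Or.inr rfl, rfl⟩, Subgroup.mem_top _, hdb⟩) hA hmid (fun a _ => rfl)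
  have h2 : Reach (T : Subgroup Y) (stepSet (indSet Y 𝓦) ⊤ (T : Subgroup Y)) (cs (d * b) A) (a * d⁻¹) :=
    .step (Or.inr ⟨_, ⟨W₁, Or.inl rfl, rfl⟩, Subgroup.mem_top _, had⟩) hmid (by
      rw [cs_cs, show a * d⁻¹ * (d * b) = a * b by group]; exact hgA) (fun a _ => rfl)
  have := Reach.comp h1 h2
  rwa [show a * d⁻¹ * (d * b) = a * b by group] at this

end Cfsg.Agent.Lib.FusionControl
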